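import Cfsg.Prelude.Def_KGroupFacts
import Mathlib

/-!
# From central extensions to stem extensions
-/

set_option autoImplicit false

namespace CfsgLib.StructB

open scoped commutatorElement

/-- If all elements of `E` are products with central elements of elements in the range of `f`, the derived
subgroup lies in the image of the derived subgroup. -/
theorem commutator_le_map_of_central {F E : Type*} [Group F] [Group E] (f : F →* E)
    (h : ∀ g : E, ∃ w : F, ∃ z ∈ Subgroup.center E, g = f w * z) : commutator E ≤ (commutator F).map f := by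
  rw [commutator_def, Subgroup.commutator_le]
  intro g _ g' _
  obtain ⟨v, a, ha, rfl⟩ := h g
  obtain ⟨w, b, hb, rfl⟩ := h g'
  refine ⟨⁅v, w⁆, Subgroup.commutator_mem_commutator (Subgroup.mem_top _) (Subgroup.mem_top _), ?_⟩
  have ha' : ∀ x, Commute a x := fun x => (Subgroup.mem_center_iff.1 ha x).symm
  have hb' : ∀ x, Commute b x := fun x => (Subgroup.mem_center_iff.1 hb x).symm
  rw [map_commutatorElement, commutatorElement_def, commutatorElement_def]
  calc f v * f w * (f v)⁻¹ * (f w)⁻¹ = f v * f w * (b * (f v)⁻¹ * b⁻¹) * (f w)⁻¹ := by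
        rw [(hb' _).eq, mul_inv_cancel_right]
    _ = f v * (a * (f w * b) * a⁻¹) * (f v)⁻¹ * (f w * b)⁻¹ := by
        rw [(ha' _).eq, mul_inv_cancel_right]; group
    _ = _ := by group

/-- A finite central extension `E` of a finite group `Q` gives a finite stem extension of `Q` whose kernel maps
onto a subgroup containing `ker ⊓ E'`. -/
theorem exists_stem_of_central.{u, v} {E : Type v} {Q : Type u} [Group E] [Finite E] [Group Q] [Finite Q]
    (σ : E →* Q) (hsurj : Function.Surjective σ) (hcen : σ.ker ≤ Subgroup.center E) :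
    ∃ (Γ : Type u) (_ : Group Γ) (_ : Finite Γ) (τ : Γ →* Q), Cfsg.IsStemExtension τ ∧
      ∃ π : τ.ker →* σ.ker, ∀ z : σ.ker, (z : E) ∈ commutator E → z ∈ π.range := by
  classical
  have := Fintype.ofFinite Q
  let f : FreeGroup Q →* E := FreeGroup.lift fun q => Function.surjInv hsurj q
  let p : FreeGroup Q →* Q := FreeGroup.lift id
  have hσf : ∀ w, σ (f w) = p w := fun w => by
    have : σ.comp f = p := FreeGroup.ext_hom _ _ fun q => by
      simp [f, p, Function.surjInv_eq hsurj]
    exact DFunLike.congr_fun this w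
  let ab : FreeGroup Q →* Multiplicative (Q → ℤ) :=
    FreeGroup.lift fun q => Multiplicative.ofAdd (Pi.single q 1)
  have habker : ∀ w, ab w = 1 → w ∈ commutator (FreeGroup Q) := by
    intro w hw
    let G : Multiplicative (Q → ℤ) →* Abelianization (FreeGroup Q) :=
      { toFun := fun v => ∏ q, Abelianization.of (FreeGroup.of q) ^ (Multiplicative.toAdd v q)
        map_one' := by simp
        map_mul' := fun v v' => by simp [zpow_add, Finset.prod_mul_distrib] }
    have hG : G.comp ab = Abelianization.of := FreeGroup.ext_hom _ _ fun q => by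
      simp only [MonoidHom.comp_apply, ab, FreeGroup.lift_apply_of, G, MonoidHom.coe_mk, OneHom.coe_mk,
        toAdd_ofAdd]
      rw [Finset.prod_eq_single q (fun b _ hb => by simp [Pi.single_eq_of_ne hb])
        (fun h => absurd (Finset.mem_univ q) h), Pi.single_eq_same, zpow_one]
    have h1 := DFunLike.congr_fun hG w
    rw [MonoidHom.comp_apply, hw, map_one] at h1
    rw [← Abelianization.ker_of, MonoidHom.mem_ker]
    exact h1.symm
  let g : FreeGroup Q →* E × Multiplicative (Q → ℤ) := f.prod ab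
  have hpsurj : Function.Surjective p := fun q => ⟨FreeGroup.of q, by simp [p]⟩
  let τ0 : g.range →* Q := (σ.comp (MonoidHom.fst _ _)).comp g.range.subtype
  have hτ0 : Function.Surjective τ0 := fun q => by
    obtain ⟨w, hw⟩ := hpsurj q
    exact ⟨⟨g w, w, rfl⟩, (hσf w).trans hw⟩
  have hKcen : τ0.ker ≤ Subgroup.center g.range := fun k hk => Subgroup.mem_center_iff.2 fun x =>
    Subtype.ext (Prod.ext (Subgroup.mem_center_iff.1 (hcen (hk : (k : E × Multiplicative (Q → ℤ)).1 ∈ σ.ker)) _)
      (mul_comm _ _))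
  letI : CommGroup τ0.ker := { (inferInstance : Group τ0.ker) with
    mul_comm := fun a b => Subtype.ext (Subgroup.mem_center_iff.1 (hKcen b.2) a) }
  let pr : Additive τ0.ker →ₗ[ℤ] (Q → ℤ) := AddMonoidHom.toIntLinearMap
    (AddMonoidHom.mk' (fun k => Multiplicative.toAdd ((Additive.toMul k : τ0.ker) : g.range).1.2) (fun a b => rfl))
  obtain ⟨s, hs⟩ := Module.projective_lifting_property pr.rangeRestrict LinearMap.id pr.surjective_rangeRestrict
  have hs' : ∀ l : LinearMap.range pr, pr (s l) = (l : Q → ℤ) := fun l =>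
    congrArg Subtype.val (DFunLike.congr_fun hs l)
  let S : Subgroup g.range := (AddSubgroup.toSubgroup' (LinearMap.range s).toAddSubgroup).map τ0.ker.subtype
  have hSK : S ≤ τ0.ker := by
    rintro x ⟨k, -, rfl⟩
    exact k.2
  haveI : S.Normal := ⟨fun x hx y => by
    rw [Subgroup.mem_center_iff.1 (hKcen (hSK hx)) y, mul_inv_cancel_right]; exact hx⟩
  let τ : g.range ⧸ S →* Q := QuotientGroup.lift S τ0 hSK
  -- the part of the kernel with trivial second component
  let K0 : Subgroup g.range := τ0.ker ⊓ ((MonoidHom.snd _ _).comp g.range.subtype).ker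
  let ι : K0 →* τ.ker := ((QuotientGroup.mk' S).comp K0.subtype).codRestrict τ.ker
    (fun k => (k.2.1 : τ0 (k : g.range) = 1))
  have hιinj : Function.Injective ι := by
    rw [injective_iff_map_eq_one]
    intro k hk
    have h1 : (k : g.range) ∈ S := (QuotientGroup.eq_one_iff _).1 (congrArg Subtype.val hk)
    obtain ⟨k', ⟨l, hl⟩, hkk⟩ := h1
    have h2 : pr (Additive.ofMul k') = 0 := by
      show Multiplicative.toAdd ((k' : g.range) : E × Multiplicative (Q → ℤ)).2 = 0
      have : ((k : g.range) : E × Multiplicative (Q → ℤ)).2 = 1 := k.2.2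
      rw [show (k' : g.range) = (k : g.range) from hkk, this]; rfl
    have hl0 : l = 0 := Subtype.ext (by rw [← hs' l, hl]; exact h2)
    have hk1 : k' = 1 := by
      have := hl.symm
      rw [hl0, map_zero] at this
      exact this
    exact Subtype.ext (hkk.symm.trans (by rw [hk1]; rfl))
  have hιsurj : Function.Surjective ι := by
    rintro ⟨x, hx⟩
    obtain ⟨k, rfl⟩ := QuotientGroup.mk_surjective x
    let k' : τ0.ker := ⟨k, hx⟩
    let l : LinearMap.range pr := ⟨pr (Additive.ofMul k'), _, rfl⟩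
    let c : τ0.ker := Additive.toMul (s l)
    have hc : pr (Additive.ofMul (k' * c⁻¹)) = 0 := by
      rw [ofMul_mul, ofMul_inv, map_add, map_neg, show Additive.ofMul c = s l from rfl, hs', add_neg_cancel]
    refine ⟨⟨k * (c : g.range)⁻¹, ⟨(k' * c⁻¹).2, MonoidHom.mem_ker.2 (Multiplicative.toAdd.injective hc)⟩⟩, Subtype.ext ?_⟩
    refine QuotientGroup.eq.2 ?_
    have hcS : (c : g.range) ∈ S := ⟨c, ⟨l, rfl⟩, rfl⟩
    show (k * (c : g.range)⁻¹)⁻¹ * k ∈ S
    rw [mul_inv_rev, inv_inv, mul_assoc, inv_mul_cancel, mul_one]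
    exact hcS
  let e : K0 ≃* τ.ker := MulEquiv.ofBijective ι ⟨hιinj, hιsurj⟩
  let π0 : K0 →* σ.ker := (((MonoidHom.fst _ _).comp g.range.subtype).comp K0.subtype).codRestrict σ.ker
    (fun k => (k.2.1 : τ0 (k : g.range) = 1))
  have hπ0 : Function.Injective π0 := fun a b hab =>
    Subtype.ext (Subtype.ext (Prod.ext (congrArg Subtype.val hab) ((MonoidHom.mem_ker.1 a.2.2).trans (MonoidHom.mem_ker.1 b.2.2).symm)))
  haveI : Finite K0 := Finite.of_injective π0 hπ0
  haveI : Finite τ.ker := Finite.of_equiv K0 e.toEquiv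
  have hτsurj : Function.Surjective τ := fun q => by
    obtain ⟨x, hx⟩ := hτ0 q
    exact ⟨QuotientGroup.mk x, hx⟩
  haveI : Finite ((g.range ⧸ S) ⧸ τ.ker) :=
    Finite.of_equiv Q (QuotientGroup.quotientKerEquivOfSurjective τ hτsurj).symm.toEquiv
  haveI : Finite (g.range ⧸ S) :=
    Finite.of_equiv _ (Subgroup.groupEquivQuotientProdSubgroup (s := τ.ker)).symm
  have hcentral : τ.ker ≤ Subgroup.center (g.range ⧸ S) := by
    intro x hx
    obtain ⟨k, rfl⟩ := QuotientGroup.mk_surjective x
    refine Subgroup.mem_center_iff.2 fun y => ?_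
    obtain ⟨y, rfl⟩ := QuotientGroup.mk_surjective y
    rw [← QuotientGroup.mk_mul, ← QuotientGroup.mk_mul, Subgroup.mem_center_iff.1 (hKcen hx) y]
  have hcomm : τ.ker ≤ commutator (g.range ⧸ S) := by
    intro x hx
    obtain ⟨⟨⟨v, w, hw⟩, hk⟩, hkx⟩ := hιsurj ⟨x, hx⟩
    have hab : ab w = 1 := (congrArg Prod.snd hw).trans hk.2
    have h1 : g.rangeRestrict w ∈ (commutator (FreeGroup Q)).map g.rangeRestrict := ⟨w, habker w hab, rfl⟩
    have h2 : (QuotientGroup.mk' S) (g.rangeRestrict w) = x := by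
      rw [show g.rangeRestrict w = ⟨v, w, hw⟩ from Subtype.ext hw]
      exact congrArg Subtype.val hkx
    rw [← h2, commutator_def]
    refine (Subgroup.commutator_mono le_top le_top : ⁅(⊤ : Subgroup g.range).map (QuotientGroup.mk' S),
      (⊤ : Subgroup g.range).map (QuotientGroup.mk' S)⁆ ≤ ⁅⊤, ⊤⁆) ?_
    rw [← Subgroup.map_commutator]
    refine Subgroup.mem_map_of_mem _ ?_
    refine (Subgroup.commutator_mono le_top le_top : ⁅(⊤ : Subgroup (FreeGroup Q)).map g.rangeRestrict,
      (⊤ : Subgroup (FreeGroup Q)).map g.rangeRestrict⁆ ≤ ⁅⊤, ⊤⁆) ?_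
    rw [← Subgroup.map_commutator]
    exact h1
  let em : Shrink.{u} (g.range ⧸ S) ≃* (g.range ⧸ S) := Shrink.mulEquiv
  let τ' := τ.comp em.toMonoidHom
  have hmem : ∀ y, y ∈ τ'.ker ↔ em y ∈ τ.ker := fun y => Iff.rfl
  refine ⟨Shrink.{u} (g.range ⧸ S), inferInstance, inferInstance, τ',
    ⟨hτsurj.comp em.surjective, fun y hy => ?_, fun y hy => ?_⟩, ?_⟩
  · refine Subgroup.mem_center_iff.2 fun z => em.injective ?_
    rw [map_mul, map_mul]
    exact Subgroup.mem_center_iff.1 (hcentral hy) (em z)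
  · rw [← em.symm_apply_apply y, commutator_def]
    refine (Subgroup.commutator_mono le_top le_top : ⁅(⊤ : Subgroup (g.range ⧸ S)).map em.symm.toMonoidHom,
      (⊤ : Subgroup (g.range ⧸ S)).map em.symm.toMonoidHom⁆ ≤ ⁅⊤, ⊤⁆) ?_
    rw [← Subgroup.map_commutator]
    exact Subgroup.mem_map_of_mem em.symm.toMonoidHom (hcomm hy)
  · refine ⟨π0.comp (e.symm.toMonoidHom.comp ((em.toMonoidHom.comp τ'.ker.subtype).codRestrict τ.ker fun y => y.2)),
      fun z hz => ?_⟩
    have hdec : ∀ x : E, ∃ w : FreeGroup Q, ∃ c ∈ Subgroup.center E, x = f w * c := by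
      intro x
      obtain ⟨w, hw⟩ := hpsurj (σ x)
      refine ⟨w, (f w)⁻¹ * x, hcen ?_, by group⟩
      rw [MonoidHom.mem_ker, map_mul, map_inv, hσf, hw, inv_mul_cancel]
    obtain ⟨w, hw, hwz⟩ := commutator_le_map_of_central f hdec hz
    have hab : ab w = 1 := MonoidHom.mem_ker.1 (Abelianization.commutator_subset_ker ab hw)
    have hk : (⟨g w, w, rfl⟩ : g.range) ∈ K0 := ⟨(by show σ (f w) = 1; rw [hwz]; exact z.2), hab⟩
    let y : Shrink.{u} (g.range ⧸ S) := em.symm (ι ⟨_, hk⟩ : g.range ⧸ S)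
    have hy : em y = (ι ⟨_, hk⟩ : g.range ⧸ S) := em.apply_symm_apply _
    have hyk : y ∈ τ'.ker := (hmem y).2 (by rw [hy]; exact (ι ⟨_, hk⟩).2)
    refine ⟨⟨y, hyk⟩, Subtype.ext ?_⟩
    show ((π0 (e.symm ⟨em y, _⟩)) : E) = z
    rw [show (⟨em y, (hmem y).1 hyk⟩ : τ.ker) = e ⟨_, hk⟩ from Subtype.ext hy, e.symm_apply_apply]
    exact hwz

end CfsgLib.StructB
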