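import Cfsg.Agent.Lib.Block.Orthogonality
import Cfsg.Agent.Lib.BlockB.PModular
import Cfsg.Agent.Lib.Char.Burnside
import Cfsg.Agent.Lib.Char.Linear
import Cfsg.Agent.Lib.Char.Diag
import Cfsg.Agent.Lib.Solvable.MinNormal
import Cfsg.Agent.Lib.Comp.Subnormal
import Cfsg.Agent.Lib.Coprime.Basic

/-!
Kazarin's theorem: an element whose class has prime power size generates a solvable normal
subgroup. The base case is a congruence in the principal block for a third prime.
-/

set_option autoImplicit false

namespace CfsgLib.StructB.Kazarin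

open Subgroup Cfsg
open scoped ComplexConjugate

universe u

variable {G : Type u} [Group G]

/-- Lagrange for nested subgroups. -/
theorem card_mul_relIndex_of_le {H K : Subgroup G} (h : H ≤ K) :
    Nat.card H * H.relIndex K = Nat.card K := by
  rw [← relIndex_bot_left, ← relIndex_bot_left, relIndex_mul_relIndex _ _ _ bot_le h]

/-- For `N` normal, `|N : N ∩ C| = |NC : C|`. -/
theorem relIndex_sup_normal_eq [Finite G] (N C : Subgroup G) [N.Normal] :
    C.relIndex (N ⊔ C) = C.relIndex N := by
  have e1 := card_mul_relIndex_of_le (H := C) (K := N ⊔ C) le_sup_right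
  have e2 := card_mul_relIndex_of_le (H := N) (K := N ⊔ C) le_sup_left
  rw [relIndex_sup_left] at e2
  have e3 := card_mul_relIndex_of_le (H := N ⊓ C) (K := C) inf_le_right
  rw [inf_relIndex_right] at e3
  have e4 := card_mul_relIndex_of_le (H := C ⊓ N) (K := N) inf_le_right
  rw [inf_relIndex_right, inf_comm] at e4
  have hpos : 0 < Nat.card C := Nat.card_pos
  apply Nat.eq_of_mul_eq_mul_left hpos
  rw [e1, ← e2, ← e3, ← e4]
  ring

theorem relIndex_dvd_index_normal [Finite G] (N C : Subgroup G) [N.Normal] :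
    C.relIndex N ∣ C.index := by
  rw [← relIndex_sup_normal_eq N C]
  exact ⟨_, (relIndex_mul_index (le_sup_right : C ≤ N ⊔ C)).symm⟩

/-- The same, relative to a subgroup normalising `T`. -/
theorem relIndex_dvd_relIndex_of_le_normalizer [Finite G] {T T' : Subgroup G} (C : Subgroup G)
    (hle : T ≤ T') (hn : T' ≤ normalizer (T : Set G)) : C.relIndex T ∣ C.relIndex T' := by
  have : (T.subgroupOf T').Normal := normal_subgroupOf_of_le_normalizer hn
  have h := relIndex_dvd_index_normal (T.subgroupOf T') (C.subgroupOf T')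
  rwa [relIndex_subgroupOf hle] at h

/-- A root of unity congruent to `1` modulo a prime not dividing its order is `1`. -/
theorem eq_one_of_pow_eq_one {r : ℕ} {M : Ideal AlgInt} (hM : IsPModular r M) {z : ℂ} {n : ℕ}
    (hzn : z ^ n = 1) (hrn : ¬ r ∣ n) (hz : MemLocalIdeal M (z - 1)) : z = 1 := by
  by_contra hne
  have := CfsgLib.Block.isPrime_of_pmodular hM
  have hn0 : 0 < n := Nat.pos_of_ne_zero fun h0 => hrn (h0 ▸ dvd_zero r)
  have hgeo : (∑ i ∈ Finset.range n, z ^ i) * (z - 1) = 0 := by
    rw [geom_sum_mul, hzn, sub_self]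
  have hsum : ∑ i ∈ Finset.range n, z ^ i = 0 :=
    (mul_eq_zero.mp hgeo).resolve_right (sub_ne_zero.mpr hne)
  refine hrn ((CfsgLib.Block.memLocalIdeal_natCast_iff hM n).1 ?_)
  have hzint : IsIntegral ℤ z := IsIntegral.of_pow hn0 (by rw [hzn]; exact isIntegral_one)
  have e : (n : ℂ) = ∑ i ∈ Finset.range n, (1 - z ^ i) := by
    rw [Finset.sum_sub_distrib, hsum, sub_zero]; simp
  rw [e]
  refine CfsgLib.Block.memLocalIdeal_sum _ _ fun i _ => ?_
  have e2 : 1 - z ^ i = (-(∑ j ∈ Finset.range i, z ^ j)) * (z - 1) := by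
    rw [neg_mul, geom_sum_mul]; ring
  rw [e2]
  exact CfsgLib.Block.memLocalIdeal_mul_left
    (CfsgLib.Block.memLocalRing_of_isIntegral (IsIntegral.sum _ fun j _ => hzint.pow j).neg) hz

/-- A group whose order involves only two primes is solvable. -/
theorem isSolvable_of_forall_prime_dvd [Finite G] {a b : ℕ} (ha : a.Prime) (hb : b.Prime)
    (h : ∀ r : ℕ, r.Prime → r ∣ Nat.card G → r = a ∨ r = b) : Group.IsSolvable G := by
  obtain ⟨c, hc⟩ : ∃ c, c = Nat.card G := ⟨_, rfl⟩
  refine CfsgLib.Char.burnside_pq a b ha hb (c.factorization a)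
    (if a = b then 0 else c.factorization b) G ?_
  rw [← hc] at h ⊢
  have hc0 : c ≠ 0 := hc ▸ Nat.card_pos.ne'
  apply Nat.eq_of_factorization_eq hc0 (by positivity [ha.pos, hb.pos])
  intro r
  rw [Nat.factorization_mul (pow_ne_zero _ ha.ne_zero) (pow_ne_zero _ hb.ne_zero),
    ha.factorization_pow, hb.factorization_pow, Finsupp.add_apply]
  by_cases hra : r = a
  · subst hra
    by_cases hrb : r = b
    · subst hrb; simp
    · rw [Finsupp.single_eq_same, Finsupp.single_eq_of_ne hrb, add_zero]
  · rw [Finsupp.single_eq_of_ne hra, zero_add]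
    by_cases hrb : r = b
    · subst hrb; rw [Finsupp.single_eq_same, if_neg (Ne.symm hra)]
    · rw [Finsupp.single_eq_of_ne hrb, ← Finsupp.notMem_support_iff, Nat.support_factorization]
      intro hr
      rcases h r (Nat.prime_of_mem_primeFactors hr) (Nat.dvd_of_mem_primeFactors hr) with e | e
      · exact hra e
      · exact hrb e

/-- The base case: `N` minimal normal, not solvable, `G = N⟨y⟩`. -/
theorem base [Finite G] {p q k m : ℕ} (hp : p.Prime) (hq : q.Prime) (N : Subgroup G) [N.Normal]
    (hns : ¬ Group.IsSolvable N) (y : G) (htop : N ⊔ zpowers y = ⊤) (hy : orderOf y = q ^ m)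
    (hmin : ∀ K : Subgroup G, K.Normal → K ≤ N → K = ⊥ ∨ K = N)
    (hnc : ∃ n ∈ N, ¬ Commute y n)
    (hcl : (centralizer ({y} : Set G)).index ∣ p ^ k) : False := by
  classical
  obtain ⟨r, hr, hrN, hrp, hrq⟩ : ∃ r : ℕ, r.Prime ∧ r ∣ Nat.card N ∧ r ≠ p ∧ r ≠ q := by
    by_contra hh
    push Not at hh
    refine hns (isSolvable_of_forall_prime_dvd hp hq fun r hr hd => ?_)
    rcases eq_or_ne r p with e | e
    · exact Or.inl e
    · exact Or.inr (hh r hr hd e)
  have : Fact r.Prime := ⟨hr⟩
  obtain ⟨h, hh⟩ := exists_prime_orderOf_dvd_card' r hrN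
  obtain ⟨M, hM⟩ := CfsgLib.BlockB.exists_isPModular hr
  have := CfsgLib.Block.isPrime_of_pmodular hM
  obtain ⟨k', -, hidx⟩ := (Nat.dvd_prime_pow hp).mp hcl
  have hidx' : ¬ MemLocalIdeal M ((p ^ k' : ℕ) : ℂ) := by
    rw [CfsgLib.Block.memLocalIdeal_natCast_iff hM]
    exact fun hd => hrp ((Nat.prime_dvd_prime_iff_eq hr hp).mp (hr.dvd_of_dvd_pow hd))
  let one' : IrrCharacter G := ⟨fun _ => 1, CfsgLib.Char.isIrrCharacter_one⟩
  set B := principalBlock M G with hBdef
  have hdeg : ∀ χ ∈ B, χ ≠ one' → ∃ d : ℕ, (χ : G → ℂ) 1 = ((p * d : ℕ) : ℂ) := by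
    rintro ⟨χ, hχ⟩ hmem hne
    have hcong : MemLocalIdeal M
        ((p ^ k' : ℕ) - ((p ^ k' : ℕ) : ℂ) * χ y / χ 1) := by
      have h1 := (show SameBlock M (fun _ : G => (1 : ℂ)) χ from hmem) y
      simpa [centralChar, hidx] using h1
    have hy0 : χ y ≠ 0 := fun h0 => hidx' (by simpa [h0] using hcong)
    by_cases hker : ∀ n ∈ N, χ n = χ 1
    · exfalso
      obtain ⟨ψ, hψ, rfl⟩ := CfsgLib.Char.isIrr_quotient_lift N hχ hker
      have hgen : ∀ a : G ⧸ N, ∃ i : ℤ, a = ((y : G) : G ⧸ N) ^ i := by
        intro a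
        obtain ⟨g, rfl⟩ := QuotientGroup.mk'_surjective N a
        obtain ⟨n, hn, w, hw, rfl⟩ :=
          mem_sup_of_normal_left.1 (by rw [htop]; exact mem_top g : g ∈ N ⊔ zpowers y)
        obtain ⟨i, rfl⟩ := mem_zpowers_iff.1 hw
        refine ⟨i, ?_⟩
        rw [QuotientGroup.mk'_apply, QuotientGroup.mk_mul, (QuotientGroup.eq_one_iff n).2 hn,
          one_mul, QuotientGroup.mk_zpow]
      have hcomm : ∀ a b : G ⧸ N, a * b = b * a := by
        intro a b
        obtain ⟨i, rfl⟩ := hgen a
        obtain ⟨j, rfl⟩ := hgen b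
        exact zpow_mul_comm _ i j
      have h1 := CfsgLib.Char.irr_degree_one_of_comm hcomm hψ
      obtain ⟨lam, rfl⟩ :=
        CfsgLib.Char.exists_hom_of_degree_one (CfsgLib.Char.irr_isCharacter hψ) h1
      obtain ⟨z, hz⟩ : ∃ z : ℂ, z = (lam ((y : G) : G ⧸ N) : ℂ) := ⟨_, rfl⟩
      have hzn : z ^ (q ^ m) = 1 := by
        rw [hz, ← Units.val_pow_eq_pow_val, ← map_pow, ← QuotientGroup.mk_pow, ← hy,
          pow_orderOf_eq_one, QuotientGroup.mk_one, map_one, Units.val_one]
      have hrqm : ¬ r ∣ q ^ m :=
        fun hd => hrq ((Nat.prime_dvd_prime_iff_eq hr hq).mp (hr.dvd_of_dvd_pow hd))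
      have hz1 : MemLocalIdeal M (z - 1) := by
        by_contra hc
        apply hidx'
        have h2 : MemLocalIdeal M (((p ^ k' : ℕ) : ℂ) * (1 - z)) := by
          have := hcong
          simp only [Function.comp_apply, QuotientGroup.mk'_apply, QuotientGroup.mk_one, map_one,
            Units.val_one, div_one, ← hz] at this
          rwa [mul_sub, mul_one]
        have hzR : MemLocalRing M (z - 1) :=
          CfsgLib.Block.memLocalRing_of_isIntegral
            ((IsIntegral.of_pow (Nat.pos_of_ne_zero (pow_ne_zero m hq.ne_zero))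
              (by rw [hzn]; exact isIntegral_one)).sub isIntegral_one)
        have hne1 : z - 1 ≠ 0 := fun h0 => hc (h0 ▸ CfsgLib.Block.memLocalIdeal_zero)
        have h3 := CfsgLib.Block.memLocalIdeal_mul_left
          (CfsgLib.Block.inv_memLocalRing hzR hc) h2
        have h4 := CfsgLib.Block.memLocalIdeal_neg h3
        convert h4 using 1
        field_simp
        ring
      have hz' := eq_one_of_pow_eq_one hM hzn hrqm hz1
      refine hne (Subtype.ext (funext fun g => ?_))
      obtain ⟨i, hi⟩ := hgen ((g : G) : G ⧸ N)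
      have hu : lam ((y : G) : G ⧸ N) = 1 := Units.ext (by rw [← hz, hz', Units.val_one])
      simp [one', hi, map_zpow, hu]
    · obtain ⟨n, ρ, hρ, rfl⟩ := hχ
      rw [Representation.char_one] at *
      by_cases hpd : p ∣ Module.finrank ℂ (Fin n → ℂ)
      · obtain ⟨d, hd⟩ := hpd
        exact ⟨d, by simp only [Representation.char_one]; rw [hd]⟩
      exfalso
      have hcop : Nat.Coprime (Module.finrank ℂ (Fin n → ℂ))
          (centralizer ({y} : Set G)).index := by
        rw [hidx]
        exact (Nat.Coprime.pow_left k' (hp.coprime_iff_not_dvd.mpr hpd)).symm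
      rcases CfsgLib.Char.char_eq_zero_or_norm_of_coprime ρ y hcop with h0 | hnorm
      · exact hy0 h0
      obtain ⟨ω, hω⟩ := (CfsgLib.Char.norm_char_eq_iff ρ y).mp hnorm
      have hN' : MonoidHom.ker ρ ⊓ N = ⊥ := by
        refine (hmin _ (normal_inf_normal _ _) inf_le_right).resolve_right fun he => hker fun g hg => ?_
        have hg' : g ∈ MonoidHom.ker ρ := (inf_le_left : MonoidHom.ker ρ ⊓ N ≤ _) (he.symm ▸ hg)
        rw [(CfsgLib.Char.mem_ker_iff_char ρ g).mp hg', Representation.char_one]
      obtain ⟨a, ha, hac⟩ := hnc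
      apply hac
      have hkerm : (a * y)⁻¹ * (y * a) ∈ MonoidHom.ker ρ := by
        have h1 : ρ (a * y) = ρ (y * a) := by ext v; simp [map_mul, hω]
        rw [MonoidHom.mem_ker, map_mul, ← h1, ← map_mul, inv_mul_cancel, map_one]
      have hmemN : (a * y)⁻¹ * (y * a) ∈ N := by
        have e : (a * y)⁻¹ * (y * a) = (y⁻¹ * a⁻¹ * (y⁻¹)⁻¹) * a := by group
        rw [e]
        exact mul_mem ((inferInstance : N.Normal).conj_mem _ (inv_mem ha) y⁻¹) ha
      have h1 : (a * y)⁻¹ * (y * a) ∈ (⊥ : Subgroup G) := hN' ▸ ⟨hkerm, hmemN⟩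
      exact ((inv_mul_eq_one.mp (mem_bot.mp h1)).symm)
  -- the orthogonality relation between `1` and an element of order `r`
  have hg1 : ¬ r ∣ orderOf (1 : G) := by rw [orderOf_one]; exact hr.not_dvd_one
  have hh' : r ∣ orderOf (h : G) := by rw [Subgroup.orderOf_coe, hh]
  have hsum := CfsgLib.Block.sum_block_eq_zero_of_regular_singular hM
    (CfsgLib.Block.isPBlock_principalBlock (M := M) (G := G)) hg1 hh'
  have := Fintype.ofFinite (IrrCharacter G)
  rw [finsum_mem_eq_finite_toFinset_sum _ (Set.toFinite _),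
    ← Finset.add_sum_erase _ _ (a := one')
      ((Set.Finite.mem_toFinset _).2 CfsgLib.Block.one_mem_principalBlock)] at hsum
  have h2 : IsIntegral ℤ (((1 : ℕ) : ℂ) / (p : ℂ)) := by
    simp only [one', map_one, mul_one] at hsum
    rw [Nat.cast_one, eq_neg_of_add_eq_zero_left hsum, neg_div, Finset.sum_div]
    refine (IsIntegral.sum _ fun χ hχ => ?_).neg
    rw [Finset.mem_erase, Set.Finite.mem_toFinset] at hχ
    obtain ⟨d, hd⟩ := hdeg χ hχ.2 hχ.1
    rw [hd, Nat.cast_mul, mul_assoc, mul_div_cancel_left₀ _ (by exact_mod_cast hp.ne_zero)]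
    refine ((isIntegral_algebraMap (R := ℤ) (A := ℂ) (x := (d : ℤ))) |> fun h => ?_)
    refine IsIntegral.mul (by simpa using h) ?_
    exact (CfsgLib.Block.irr_apply_isIntegral (CfsgLib.Char.irr_isCharacter χ.2) _).map
      ((starRingEnd ℂ).toIntAlgHom)
  exact hp.one_lt.ne' (Nat.dvd_one.mp (CfsgLib.Char.dvd_of_isIntegral_div hp.pos h2))

/-- The recursion: no subgroup with trivial solvable subnormal part is moved by `y`. -/
theorem step [Finite G] {p q k m : ℕ} (hp : p.Prime) (hq : q.Prime) (y : G)
    (hy : orderOf y = q ^ m) :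
    ∀ (n : ℕ) (T : Subgroup G), Nat.card T = n → T.IsSubnormal →
      y ∈ normalizer (T : Set G) →
      (∀ S : Subgroup G, S.IsSubnormal → S ≤ T → Group.IsSolvable S → S = ⊥) →
      ¬ T ≤ centralizer ({y} : Set G) →
      (centralizer ({y} : Set G)).relIndex T ∣ p ^ k → False := by
  intro n
  induction n using Nat.strong_induction_on with
  | _ n ih =>
    intro T hcard hsub hyn hsolv hnc hidx
    have hns : ¬ Group.IsSolvable T := fun hs =>
      hnc (by rw [hsolv T hsub le_rfl hs]; exact bot_le)
    by_cases hT1 : ∃ T1 : Subgroup G, T1 ≤ T ∧ T1 ≠ ⊥ ∧ T1 ≠ T ∧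
        T ≤ normalizer (T1 : Set G) ∧ y ∈ normalizer (T1 : Set G)
    · obtain ⟨T1, hle, hne, hneT, hTn, hyT1⟩ := hT1
      have recur : ∀ S : Subgroup G, S ≤ T → S ≠ T → T ≤ normalizer (S : Set G) →
          y ∈ normalizer (S : Set G) → S ≤ centralizer ({y} : Set G) := by
        intro S hS hST hSn hyS
        by_contra hnot
        exact ih _ (hcard ▸ lt_of_le_of_ne (card_le_of_le hS) fun e =>
            hST (eq_of_le_of_card_ge hS e.ge)) S rfl
          (CfsgLib.Comp.isSubnormal_of_le_normalizer hS hsub hSn) hyS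
          (fun R hR hRS => hsolv R hR (hRS.trans hS)) hnot
          ((relIndex_dvd_relIndex_of_le_normalizer _ hS hSn).trans hidx)
      have h1 := recur T1 hle hneT hTn hyT1
      set W := T ⊓ centralizer (T1 : Set G) with hW
      have hnT1 : ∀ g ∈ T ⊔ zpowers y, g ∈ normalizer (W : Set G) := by
        intro g hg
        have hgT : g ∈ normalizer (T : Set G) :=
          sup_le le_normalizer (by rwa [zpowers_le]) hg
        have hgT1 : g ∈ normalizer (T1 : Set G) :=
          sup_le hTn (by rwa [zpowers_le]) hg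
        rw [mem_normalizer_iff]
        intro w
        rw [mem_inf, mem_inf, ← (mem_normalizer_iff.1 hgT w)]
        refine and_congr_right fun _ => ?_
        simp only [mem_centralizer_iff, SetLike.mem_coe]
        constructor
        · intro hw t ht
          have := hw (g⁻¹ * t * g) ((mem_normalizer_iff''.1 hgT1 t).1 ht)
          calc t * (g * w * g⁻¹) = g * ((g⁻¹ * t * g) * w) * g⁻¹ := by group
            _ = g * (w * (g⁻¹ * t * g)) * g⁻¹ := by rw [this]
            _ = (g * w * g⁻¹) * t := by group
        · intro hw t ht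
          have := hw (g * t * g⁻¹) ((mem_normalizer_iff.1 hgT1 t).1 ht)
          calc t * w = g⁻¹ * ((g * t * g⁻¹) * (g * w * g⁻¹)) * g := by group
            _ = g⁻¹ * ((g * w * g⁻¹) * (g * t * g⁻¹)) * g := by rw [this]
            _ = w * t := by group
      have hWT : W ≠ T := by
        intro e
        apply hne
        refine hsolv T1 (CfsgLib.Comp.isSubnormal_of_le_normalizer hle hsub hTn) hle
          (Group.isSolvable_of_comm fun a b => ?_)
        have hb : (b : G) ∈ W := e.symm ▸ hle b.2
        exact Subtype.ext (mem_centralizer_iff.1 hb.2 a a.2)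
      have h2 := recur W inf_le_left hWT (fun g hg => hnT1 g (mem_sup_left hg))
        (hnT1 y (mem_sup_right (mem_zpowers y)))
      set Z := W ⊓ centralizer (W : Set G) with hZ
      have hZbot : Z = ⊥ := by
        refine hsolv Z ?_ (inf_le_left.trans inf_le_left)
          (Group.isSolvable_of_comm fun a b => Subtype.ext (mem_centralizer_iff.1 b.2.2 a a.2.1))
        refine CfsgLib.Comp.isSubnormal_of_le_normalizer (inf_le_left.trans inf_le_left) hsub ?_
        intro g hg
        have hgW := hnT1 g (mem_sup_left hg)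
        rw [mem_normalizer_iff]
        intro w
        refine and_congr (mem_normalizer_iff.1 hgW w) ?_
        simp only [mem_centralizer_iff, SetLike.mem_coe]
        constructor
        · intro hw t ht
          have := hw (g⁻¹ * t * g) ((mem_normalizer_iff''.1 hgW t).1 ht)
          calc t * (g * w * g⁻¹) = g * ((g⁻¹ * t * g) * w) * g⁻¹ := by group
            _ = g * (w * (g⁻¹ * t * g)) * g⁻¹ := by rw [this]
            _ = (g * w * g⁻¹) * t := by group
        · intro hw t ht
          have := hw (g * t * g⁻¹) ((mem_normalizer_iff.1 hgW t).1 ht)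
          calc t * w = g⁻¹ * ((g * t * g⁻¹) * (g * w * g⁻¹)) * g := by group
            _ = g⁻¹ * ((g * w * g⁻¹) * (g * t * g⁻¹)) * g := by rw [this]
            _ = w * t := by group
      apply hnc
      intro a ha
      rw [mem_centralizer_singleton_iff]
      -- the commutator centralises `T1` and `W`
      have hcT : y * a * y⁻¹ * a⁻¹ ∈ T :=
        mul_mem ((mem_normalizer_iff.1 hyn a).1 ha) (inv_mem ha)
      have hcc : ∀ S : Subgroup G, S ≤ centralizer ({y} : Set G) → a ∈ normalizer (S : Set G) →
          y * a * y⁻¹ * a⁻¹ ∈ centralizer (S : Set G) := by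
        intro S hS han
        rw [mem_centralizer_iff]
        intro s hs
        have e1 : s * y = y * s := mem_centralizer_singleton_iff.1 (hS hs)
        have hs' : a⁻¹ * s * a ∈ S := (mem_normalizer_iff''.1 han s).1 hs
        have e2 : a⁻¹ * s * a * y = y * (a⁻¹ * s * a) := mem_centralizer_singleton_iff.1 (hS hs')
        have e2' : y⁻¹ * (a⁻¹ * s * a) = a⁻¹ * s * a * y⁻¹ := by
          calc y⁻¹ * (a⁻¹ * s * a) = y⁻¹ * (a⁻¹ * s * a * y) * y⁻¹ := by group
            _ = y⁻¹ * (y * (a⁻¹ * s * a)) * y⁻¹ := by rw [e2]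
            _ = a⁻¹ * s * a * y⁻¹ := by group
        calc s * (y * a * y⁻¹ * a⁻¹) = (s * y) * a * y⁻¹ * a⁻¹ := by group
          _ = (y * s) * a * y⁻¹ * a⁻¹ := by rw [e1]
          _ = y * a * (a⁻¹ * s * a * y⁻¹) * a⁻¹ := by group
          _ = y * a * (y⁻¹ * (a⁻¹ * s * a)) * a⁻¹ := by rw [e2']
          _ = (y * a * y⁻¹ * a⁻¹) * s := by group
      have hmem : y * a * y⁻¹ * a⁻¹ ∈ Z :=
        ⟨⟨hcT, hcc T1 h1 (hTn ha)⟩, hcc W h2 (hnT1 a (mem_sup_left ha))⟩
      rw [hZbot, mem_bot] at hmem
      calc a * y = (y * a * y⁻¹ * a⁻¹) * a * y := by rw [hmem, one_mul]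
        _ = y * a := by group
    · set H := T ⊔ zpowers y with hH
      set y' : H := ⟨y, mem_sup_right (mem_zpowers y)⟩ with hy'
      have hHn : H ≤ normalizer (T : Set G) := sup_le le_normalizer (by rwa [zpowers_le])
      have hTn : (T.subgroupOf H).Normal := normal_subgroupOf_of_le_normalizer hHn
      have htop : T.subgroupOf H ⊔ zpowers y' = ⊤ := by
        have e : zpowers y' = (zpowers y).subgroupOf H := by
          apply map_injective H.subtype_injective
          rw [MonoidHom.map_zpowers, map_subgroupOf_eq_of_le le_sup_right]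
          rfl
        rw [e, ← subgroupOf_sup le_sup_left le_sup_right, subgroupOf_self]
      refine base (p := p) (q := q) (k := k) (m := m) hp hq (T.subgroupOf H) ?_ y' htop
        (by rw [← hy, ← Subgroup.orderOf_coe]) ?_ ?_ ?_
      · exact fun hs => hns (Group.isSolvable_of_surjective (subgroupOfEquivOfLe le_sup_left).surjective
          (f := (subgroupOfEquivOfLe (le_sup_left : T ≤ H)).toMonoidHom))
      · intro K hK hKle
        by_contra hcon
        push Not at hcon
        apply hT1
        have hle : K.map H.subtype ≤ T := by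
          have := map_mono (f := H.subtype) hKle
          rwa [map_subgroupOf_eq_of_le le_sup_left] at this
        have hn : H ≤ normalizer (K.map H.subtype : Set G) := by
          have := le_normalizer_map (f := H.subtype) (H := K)
          rwa [normalizer_eq_top, ← MonoidHom.range_eq_map, range_subtype] at this
        refine ⟨K.map H.subtype, hle, fun e => hcon.1 ?_, fun e => hcon.2 ?_,
          le_sup_left.trans hn, hn (mem_sup_right (mem_zpowers y))⟩
        · exact map_injective H.subtype_injective (by rw [e, Subgroup.map_bot])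
        · exact map_injective H.subtype_injective
            (by rw [e, map_subgroupOf_eq_of_le le_sup_left])
      · obtain ⟨a, ha, hac⟩ := SetLike.not_le_iff_exists.1 hnc
        refine ⟨⟨a, mem_sup_left ha⟩, ha, fun hc => hac ?_⟩
        rw [mem_centralizer_singleton_iff]
        exact (congrArg Subtype.val hc.eq).symm
      · have e : centralizer ({y'} : Set H) = (centralizer ({y} : Set G)).subgroupOf H := by
          ext z
          simp only [mem_centralizer_singleton_iff, mem_subgroupOf, Subtype.ext_iff, coe_mul, hy']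
        have htop' : T.subgroupOf H ⊔ centralizer ({y'} : Set H) = ⊤ := by
          rw [eq_top_iff, ← htop]
          exact sup_le_sup_left (by rw [zpowers_le, mem_centralizer_singleton_iff]) _
        have h3 := relIndex_sup_normal_eq (T.subgroupOf H) (centralizer ({y'} : Set H))
        rw [htop', relIndex_top_right, e, relIndex_subgroupOf (le_sup_left : T ≤ H)] at h3
        rw [e, h3]
        exact hidx

/-- If every prime power order power of `x` lies in `K` then so does `x`. -/
theorem mem_of_prime_pow_powers [Finite G] {K : Subgroup G} (x : G)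
    (h : ∀ (z : G) (q m : ℕ), z ∈ zpowers x → q.Prime → orderOf z = q ^ m → z ∈ K) : x ∈ K := by
  have hd : orderOf x ∣ Nat.card ↥(zpowers x ⊓ K) := by
    refine (Nat.dvd_iff_prime_pow_dvd_dvd _ _).2 fun q m hq hqm => ?_
    rcases Nat.eq_zero_or_pos m with rfl | _
    · simp
    have ho : orderOf (x ^ (orderOf x / q ^ m)) = q ^ m := by
      rw [orderOf_pow' _ (Nat.div_pos (Nat.le_of_dvd (orderOf_pos x) hqm) (pow_pos hq.pos m)).ne',
        Nat.gcd_eq_right (Nat.div_dvd_of_dvd hqm), Nat.div_div_self hqm (orderOf_pos x).ne']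
    have hmem : x ^ (orderOf x / q ^ m) ∈ zpowers x ⊓ K :=
      ⟨pow_mem (mem_zpowers x) _, h _ q m (pow_mem (mem_zpowers x) _) hq ho⟩
    rw [← ho]
    exact orderOf_dvd_natCard _ hmem
  have he : zpowers x ⊓ K = zpowers x := eq_of_le_of_card_ge inf_le_left (by
    rw [Nat.card_zpowers]; exact Nat.le_of_dvd Nat.card_pos hd)
  exact (he.symm ▸ mem_zpowers x : x ∈ zpowers x ⊓ K).2

/-- Kazarin's theorem. -/
theorem isSolvable_normalClosure {p : ℕ} (hp : p.Prime) (k : ℕ) :
    ∀ (n : ℕ) (G : Type u) [Group G] [Finite G], Nat.card G = n → ∀ x : G,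
      (centralizer ({x} : Set G)).index ∣ p ^ k →
      Group.IsSolvable ↥(normalClosure ({x} : Set G)) := by
  intro n
  induction n using Nat.strong_induction_on with
  | _ n ih =>
    intro G _ _ hcard x hx
    rcases subsingleton_or_nontrivial G with hs | hs
    · exact Group.isSolvable_of_comm fun a b => Subsingleton.elim _ _
    obtain ⟨N, hNn, hNne, hNmin⟩ := CfsgLib.Solvable.exists_minimal_normal (G := G)
    set K := normalClosure ({x} : Set G) with hK
    suffices hKN : Group.IsSolvable ↥(K ⊓ N) by
      have hlt : Nat.card (G ⧸ N) < n := by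
        rw [← hcard, ← N.index_eq_card]
        have h1 := N.index_mul_card
        have h2 : 1 < Nat.card N := (one_lt_card_iff_ne_bot N).mpr hNne
        have h3 : 0 < N.index := Nat.pos_of_ne_zero index_ne_zero_of_finite
        nlinarith
      have hquot := ih _ hlt (G ⧸ N) rfl (x : G ⧸ N) (by
        refine (index_dvd_of_le ?_).trans ((index_map_dvd (H := centralizer ({x} : Set G))
          (QuotientGroup.mk'_surjective N)).trans hx)
        rintro _ ⟨c, hc, rfl⟩
        rw [mem_centralizer_singleton_iff]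
        rw [SetLike.mem_coe, mem_centralizer_singleton_iff] at hc
        simp only [QuotientGroup.mk'_apply, ← QuotientGroup.mk_mul, hc])
      have hmap : K.map (QuotientGroup.mk' N) ≤ normalClosure ({(x : G ⧸ N)} : Set (G ⧸ N)) := by
        rw [map_le_iff_le_comap]
        exact normalClosure_le_normal (Set.singleton_subset_iff.2
          (subset_normalClosure (Set.mem_singleton _)))
      let f : K →* normalClosure ({(x : G ⧸ N)} : Set (G ⧸ N)) :=
        ((QuotientGroup.mk' N).domRestrict K).codRestrict _ fun a =>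
          hmap (mem_map_of_mem _ a.2)
      refine Group.isSolvable_of_ker_le_range (inclusion (inf_le_left : K ⊓ N ≤ K)) f ?_
      intro a ha
      have ha' : ((a : G) : G ⧸ N) = 1 := congrArg Subtype.val (MonoidHom.mem_ker.1 ha)
      exact ⟨⟨a, a.2, (QuotientGroup.eq_one_iff _).1 ha'⟩, rfl⟩
    by_cases hNs : Group.IsSolvable N
    · exact CfsgLib.Coprime.isSolvable_of_le hNs inf_le_right
    have hfit : ∀ S : Subgroup G, S.IsSubnormal → S ≤ N → Group.IsSolvable S → S = ⊥ := by
      intro S hS hSN hSs
      obtain ⟨R, hRn, hSR, hRs⟩ := CfsgLib.Comp.exists_normal_of_isSubnormal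
        (fun A => Group.IsSolvable A) (Group.isSolvable_of_comm fun a b => Subsingleton.elim _ _)
        (fun A g hA => Group.isSolvable_of_surjective
          (A.equivMapOfInjective _ (MulAut.conj g).injective).surjective
          (f := (A.equivMapOfInjective (MulAut.conj g).toMonoidHom
            (MulAut.conj g).injective).toMonoidHom))
        (fun A B _ hB hA hBs => CfsgLib.Comp.isSolvable_sup hB hA hBs) hS hSs
      rcases hNmin (R ⊓ N) (normal_inf_normal R N) inf_le_right with e | e
      · exact le_bot_iff.1 ((le_inf hSR hSN).trans e.le)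
      · exact absurd (CfsgLib.Coprime.isSolvable_of_le hRs (inf_eq_right.1 e)) hNs
    have hxN : x ∈ centralizer (N : Set G) := by
      refine mem_of_prime_pow_powers x fun z q m hz hq hzo => ?_
      by_contra hzc
      have hle : centralizer ({x} : Set G) ≤ centralizer ({z} : Set G) := by
        intro g hg
        rw [mem_centralizer_singleton_iff] at hg ⊢
        obtain ⟨i, rfl⟩ := mem_zpowers_iff.1 hz
        exact (Commute.zpow_right (show Commute g x from hg) i).eq
      refine step (p := p) (k := k) hp hq z hzo _ N rfl (hNn.isSubnormal)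
        (by rw [normalizer_eq_top]; exact mem_top z) hfit (fun hcon => hzc ?_) ?_
      · rw [mem_centralizer_iff]
        intro g hg
        exact mem_centralizer_singleton_iff.1 (hcon hg)
      · exact (relIndex_dvd_index_normal N _).trans ((index_dvd_of_le hle).trans hx)
    have hKc : K ≤ centralizer (N : Set G) :=
      normalClosure_le_normal (Set.singleton_subset_iff.2 hxN)
    refine Group.isSolvable_of_comm fun a b => Subtype.ext ?_
    exact mem_centralizer_iff.1 (hKc b.2.1) a a.2.2

end CfsgLib.StructB.Kazarin
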