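import Mathlib.GroupTheory.Sylow
import Mathlib.GroupTheory.QuotientGroup.Finite
import Mathlib.Tactic

set_option autoImplicit false

namespace CfsgLib.StructB

variable {G : Type*} [Group G] {H : Type*} [Group H]

/-- Two finite groups with the same order type have a bijection preserving orders. -/
theorem exists_equiv_orderOf [Finite G] [Finite H]
    (hT : ∀ m : ℕ, Nat.card {g : G // orderOf g = m} = Nat.card {h : H // orderOf h = m}) :
    ∃ e : G ≃ H, ∀ g, orderOf (e g) = orderOf g := by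
  have f : ∀ m : ℕ, {g : G // orderOf g = m} ≃ {h : H // orderOf h = m} :=
    fun m => Classical.choice (Finite.card_eq.1 (hT m))
  exact ⟨Equiv.ofFiberEquiv f, fun g => Equiv.ofFiberEquiv_map f g⟩

theorem card_orderOf_subtype_eq [Finite G] [Finite H] {e : G ≃ H} (he : ∀ g, orderOf (e g) = orderOf g)
    (Q : ℕ → Prop) : Nat.card {g : G // Q (orderOf g)} = Nat.card {h : H // Q (orderOf h)} :=
  Nat.card_congr (e.subtypeEquiv fun g => by rw [he])

/-- A preimage under the quotient map has `|N|` times as many elements. -/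
theorem card_subtype_mk [Finite G] (N : Subgroup G) (Q : G ⧸ N → Prop) :
    Nat.card {g : G // Q (g : G ⧸ N)} = Nat.card N * Nat.card {x : G ⧸ N // Q x} := by
  have hE : Nat.card (QuotientGroup.mk ⁻¹' {x : G ⧸ N | Q x} : Set G) =
      Nat.card (N × ({x : G ⧸ N | Q x} : Set (G ⧸ N))) :=
    Nat.card_congr (QuotientGroup.preimageMkEquivSubgroupProdSet N {x | Q x})
  rw [Nat.card_prod] at hE
  exact hE

/-- In a finite group, a Sylow `p`-subgroup is exactly the set of `p`-elements as soon as there are only as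
many of them as its order; it is then normal. -/
theorem sylow_of_card_pElements [Finite G] {p : ℕ} [Fact p.Prime] (P : Sylow p G)
    (h : Nat.card {g : G // ∃ k : ℕ, orderOf g = p ^ k} ≤ Nat.card (P : Subgroup G)) :
    (P : Subgroup G).Normal ∧ ∀ g : G, g ∈ (P : Subgroup G) ↔ ∃ k : ℕ, orderOf g = p ^ k := by
  classical
  have hsub : ∀ g : G, g ∈ (P : Subgroup G) → ∃ k : ℕ, orderOf g = p ^ k := by
    intro g hg
    obtain ⟨k, hk⟩ := IsPGroup.iff_orderOf.1 P.isPGroup' ⟨g, hg⟩
    exact ⟨k, by rw [← hk, Subgroup.orderOf_mk]⟩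
  have hiff : ∀ g : G, g ∈ (P : Subgroup G) ↔ ∃ k : ℕ, orderOf g = p ^ k := by
    intro g
    refine ⟨hsub g, fun hg => ?_⟩
    let f : ↥(P : Subgroup G) → {g : G // ∃ k : ℕ, orderOf g = p ^ k} := fun x => ⟨x, hsub x x.2⟩
    have hf : Function.Injective f := fun a b hab => Subtype.ext (congrArg (fun z : {g : G // ∃ k : ℕ, orderOf g = p ^ k} => (z : G)) hab)
    have hbij := hf.bijective_of_nat_card_le h
    obtain ⟨x, hx⟩ := hbij.2 ⟨g, hg⟩
    have : (x : G) = g := congrArg Subtype.val hx
    rw [← this]; exact x.2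
  refine ⟨⟨fun n hn g => ?_⟩, hiff⟩
  rw [hiff] at hn ⊢
  obtain ⟨k, hk⟩ := hn
  exact ⟨k, by rw [← hk]; exact (MulAut.conj g).orderOf_eq n⟩

end CfsgLib.StructB
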