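import Cfsg.Prelude.Def_SolvableStructure
import Cfsg.Agent.Lib.StructB.OrderType
import Mathlib.GroupTheory.SchurZassenhaus
import Mathlib.GroupTheory.SpecificGroups.Cyclic

set_option autoImplicit false

universe u

namespace CfsgLib.StructB

/-- All prime divisors of `n` are at least `m`. -/
def AllGE (m n : ℕ) : Prop := ∀ r : ℕ, r.Prime → r ∣ n → m ≤ r

theorem AllGE.of_dvd {m a b : ℕ} (h : AllGE m b) (hab : a ∣ b) : AllGE m a :=
  fun r hr hra => h r hr (hra.trans hab)

theorem AllGE.mul {m a b : ℕ} (ha : AllGE m a) (hb : AllGE m b) : AllGE m (a * b) := fun r hr h =>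
  (hr.dvd_mul.1 h).elim (ha r hr) (hb r hr)

theorem coprime_of_allGE {m a b : ℕ} (ha : AllGE m a) (hb : ∀ r : ℕ, r.Prime → r ∣ b → r < m) :
    a.Coprime b :=
  Nat.coprime_of_dvd fun r hr h1 h2 => absurd (ha r hr h1) (not_le.2 (hb r hr h2))

/-- A normal subgroup with `≥ m` order and `< m` index consists of the elements of `≥ m` order. -/
theorem mem_iff_allGE {G : Type*} [Group G] [Finite G] {N : Subgroup G} [N.Normal] {m : ℕ}
    (hN : AllGE m (Nat.card N)) (hi : ∀ r : ℕ, r.Prime → r ∣ N.index → r < m) (g : G) :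
    g ∈ N ↔ AllGE m (orderOf g) := by
  refine ⟨fun hg => hN.of_dvd (Subgroup.orderOf_dvd_natCard N hg), fun hg => ?_⟩
  have h1 : orderOf (g : G ⧸ N) ∣ orderOf g := orderOf_map_dvd (QuotientGroup.mk' N) g
  have h2 : orderOf (g : G ⧸ N) ∣ N.index := by
    rw [Subgroup.index_eq_card]; exact orderOf_dvd_natCard _
  have h3 : orderOf (g : G ⧸ N) = 1 :=
    Nat.eq_one_of_dvd_coprimes (coprime_of_allGE hg hi) h1 h2
  rw [orderOf_eq_one_iff, QuotientGroup.eq_one_iff] at h3
  exact h3

theorem isSupersolvable_map {G : Type u} [Group G] {G' : Type u} [Group G'] (f : G →* G')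
    (hf : Function.Surjective f) (h : Cfsg.IsSupersolvable G) : Cfsg.IsSupersolvable G' := by
  obtain ⟨n, H, h0, hn, hnor, hs⟩ := h
  refine ⟨n, fun i => (H i).map f, by simp [h0], ?_, fun i => (hnor i).map f hf, fun i => ?_⟩
  · show (H (Fin.last n)).map f = ⊤
    rw [hn, Subgroup.map_top_of_surjective f hf]
  · obtain ⟨g, hg⟩ := hs i
    exact ⟨f g, by simp only [hg, Subgroup.map_sup, MonoidHom.map_zpowers]⟩

theorem exists_normal_prime_of_supersolvable {G : Type u} [Group G] [Finite G] [Nontrivial G]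
    (h : Cfsg.IsSupersolvable G) :
    ∃ Q : Subgroup G, Q.Normal ∧ (Nat.card Q).Prime := by
  obtain ⟨n, H, h0, hn, hnor, hs⟩ := h
  by_contra hne
  have key : ∀ i, H i = ⊥ := by
    intro i
    induction i using Fin.induction with
    | zero => exact h0
    | succ i ih =>
      obtain ⟨g, hg⟩ := hs i
      rw [ih, bot_sup_eq] at hg
      by_contra hb
      have hg1 : g ≠ 1 := fun e => hb (by rw [hg, e, Subgroup.zpowers_one_eq_bot])
      obtain ⟨q, hq, hqd⟩ := Nat.exists_prime_and_dvd (n := orderOf g) (by rwa [Ne, orderOf_eq_one_iff])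
      refine hne ⟨Subgroup.zpowers (g ^ (orderOf g / q)), ⟨fun x hx c => ?_⟩, ?_⟩
      · obtain ⟨k, rfl⟩ := hx
        have hc : c * g * c⁻¹ ∈ Subgroup.zpowers g := by
          rw [← hg]; exact (hnor i.succ).conj_mem g (by rw [hg]; exact Subgroup.mem_zpowers g) c
        obtain ⟨j, hj⟩ := Subgroup.mem_zpowers_iff.1 hc
        refine Subgroup.mem_zpowers_iff.2 ⟨j * k, ?_⟩
        show _ = c * (g ^ (orderOf g / q)) ^ k * c⁻¹
        rw [← conj_zpow, ← conj_pow, ← hj, ← zpow_natCast, ← zpow_natCast, ← zpow_mul, ← zpow_mul, ← zpow_mul]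
        congr 1; ring
      · rw [Nat.card_zpowers, orderOf_pow_orderOf_div (orderOf_pos g).ne' hqd]
        exact hq
  exact top_ne_bot (hn.symm.trans (key (Fin.last n)))

/-- Supersolvable groups have Sylow towers: for every `m` a normal Hall subgroup for the primes `≥ m`. -/
theorem exists_tower_of_supersolvable {G : Type u} [Group G] [Finite G] (h : Cfsg.IsSupersolvable G)
    (m : ℕ) : ∃ N : Subgroup G, N.Normal ∧ AllGE m (Nat.card N) ∧
      ∀ r : ℕ, r.Prime → r ∣ N.index → r < m := by
  obtain ⟨k, hk⟩ : ∃ k, Nat.card G = k := ⟨_, rfl⟩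
  induction k using Nat.strong_induction_on generalizing G with
  | _ k ih =>
    rcases subsingleton_or_nontrivial G with hG | hG
    · refine ⟨⊥, inferInstance, fun r hr hd => ?_, fun r hr hd => ?_⟩
      · rw [Subgroup.card_bot, Nat.dvd_one] at hd
        exact absurd hd hr.one_lt.ne'
      · rw [Subgroup.index_eq_one.2 (Subsingleton.elim _ _), Nat.dvd_one] at hd
        exact absurd hd hr.one_lt.ne'
    obtain ⟨Q, hQn, hQp⟩ := exists_normal_prime_of_supersolvable h
    have hlt : Nat.card (G ⧸ Q) < k := by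
      have h1 := Subgroup.card_eq_card_quotient_mul_card_subgroup Q
      have h2 := hQp.two_le
      have h3 : 0 < Nat.card (G ⧸ Q) := Nat.card_pos
      nlinarith
    obtain ⟨Nb, hNn, hNc, hNi⟩ := ih _ hlt
      (isSupersolvable_map (QuotientGroup.mk' Q) (QuotientGroup.mk'_surjective Q) h) rfl
    set Y := Nb.comap (QuotientGroup.mk' Q) with hY
    have hYn : Y.Normal := hNn.comap _
    have hYi : Y.index = Nb.index :=
      Nb.index_comap_of_surjective (QuotientGroup.mk'_surjective Q)
    have hQY : Q ≤ Y := fun x hx => by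
      show (x : G ⧸ Q) ∈ Nb
      rw [(QuotientGroup.eq_one_iff x).2 hx]; exact one_mem _
    have hYc : Nat.card Y = Nat.card Nb * Nat.card Q := by
      have h1 := Subgroup.card_mul_index Y
      have h2 := Subgroup.card_mul_index Nb
      have h3 := Subgroup.card_eq_card_quotient_mul_card_subgroup Q
      rw [hYi] at h1
      have h4 : 0 < Nb.index := Nat.pos_of_ne_zero Subgroup.index_ne_zero_of_finite
      apply Nat.eq_of_mul_eq_mul_right h4
      rw [h1, h3, ← h2]; ring
    by_cases hqm : m ≤ Nat.card Q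
    · refine ⟨Y, hYn, ?_, hYi ▸ hNi⟩
      rw [hYc]
      refine hNc.mul fun r hr hd => ?_
      rwa [(Nat.prime_dvd_prime_iff_eq hr hQp).1 hd]
    push Not at hqm
    have hQi : (Q.subgroupOf Y).index = Nat.card Nb := by
      have h1 := Subgroup.card_mul_index (Q.subgroupOf Y)
      rw [Nat.card_congr (Subgroup.subgroupOfEquivOfLe hQY).toEquiv, hYc, mul_comm (Nat.card Nb)] at h1
      exact Nat.eq_of_mul_eq_mul_left hQp.pos h1
    have hQc : Nat.card (Q.subgroupOf Y) = Nat.card Q :=
      Nat.card_congr (Subgroup.subgroupOfEquivOfLe hQY).toEquiv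
    have hcop : (Nat.card Nb).Coprime (Nat.card Q) :=
      coprime_of_allGE hNc fun r hr hd => by rw [(Nat.prime_dvd_prime_iff_eq hr hQp).1 hd]; exact hqm
    haveI : (Q.subgroupOf Y).Normal := hQn.subgroupOf Y
    obtain ⟨C, hC⟩ := Subgroup.exists_right_complement'_of_coprime (N := Q.subgroupOf Y)
      (by rw [hQc, hQi]; exact hcop.symm)
    have hCc : Nat.card C = Nat.card Nb := by rw [← hC.symm.index_eq_card, hQi]
    -- the complement centralises `Q`
    haveI hcyc : IsCyclic Q := @isCyclic_of_prime_card _ _ _ ⟨hQp⟩ rfl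
    have hcent : ∀ c : Y, c ∈ C → ∀ x ∈ Q, (c : G) * x * (c : G)⁻¹ = x := by
      intro c hc x hx
      let φ : G →* MulAut Q := MulAut.conjNormal
      have hd1 : orderOf (φ c) ∣ Nat.card Nb := by
        refine (orderOf_map_dvd φ (c : G)).trans ?_
        rw [Subgroup.orderOf_coe, ← hCc]
        exact Subgroup.orderOf_dvd_natCard C hc
      have hd2 : orderOf (φ c) ∣ Nat.card (MulAut Q) := orderOf_dvd_natCard _
      rw [IsCyclic.card_mulAut, Nat.totient_prime hQp] at hd2
      have : orderOf (φ c) = 1 := by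
        refine Nat.eq_one_of_dvd_coprimes (coprime_of_allGE hNc fun r hr hd => ?_) hd1 hd2
        have := Nat.le_of_dvd (Nat.sub_pos_of_lt hQp.one_lt) hd
        omega
      rw [orderOf_eq_one_iff] at this
      exact congrArg (Subtype.val) (DFunLike.congr_fun this ⟨x, hx⟩)
    refine ⟨C.map Y.subtype, ⟨fun x hx g => ?_⟩, ?_, fun r hr hd => ?_⟩
    · obtain ⟨c, hc, rfl⟩ := hx
      let y : Y := ⟨g * c * g⁻¹, hYn.conj_mem c c.2 g⟩
      obtain ⟨⟨⟨a, ha⟩, ⟨b, hb⟩⟩, hab⟩ := hC.2 y
      simp only at hab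
      have haQ : (a : G) ∈ Q := ha
      have hcomm : Commute a b := by
        apply Subtype.ext
        have := hcent b hb a haQ
        show (a : G) * b = b * a
        conv_lhs => rw [← this]
        group
      have hyc : y ^ Nat.card Nb = 1 := by
        apply Subtype.ext
        have hcp : (c : G) ^ Nat.card Nb = 1 := by
          rw [← hCc, ← orderOf_dvd_iff_pow_eq_one, Subgroup.orderOf_coe]
          exact Subgroup.orderOf_dvd_natCard C hc
        show (g * c * g⁻¹) ^ Nat.card Nb = 1
        rw [conj_pow, hcp]; group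
      have hbc : b ^ Nat.card Nb = 1 := by
        rw [← hCc, ← orderOf_dvd_iff_pow_eq_one]
        exact Subgroup.orderOf_dvd_natCard C hb
      rw [← hab, hcomm.mul_pow, hbc, mul_one] at hyc
      have ha1 : a = 1 := orderOf_eq_one_iff.1
        (Nat.eq_one_of_dvd_coprimes hcop (orderOf_dvd_of_pow_eq_one hyc)
          (hQc ▸ Subgroup.orderOf_dvd_natCard (Q.subgroupOf Y) ha))
      refine ⟨b, hb, ?_⟩
      have : y = b := by rw [← hab, ha1, one_mul]
      exact (congrArg Subtype.val this).symm
    · rw [Nat.card_congr (Subgroup.equivMapOfInjective C _ Y.subtype_injective).toEquiv.symm, hCc]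
      exact hNc
    · rw [Subgroup.index_map_subtype, hC.index_eq_card, hQc, hYi] at hd
      rcases hr.dvd_mul.1 hd with h1 | h1
      · rw [(Nat.prime_dvd_prime_iff_eq hr hQp).1 h1]; exact hqm
      · exact hNi r hr h1

end CfsgLib.StructB
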