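import Cfsg.Agent.Lib.Char.Orthogonality
import Cfsg.Agent.Lib.Char.Inner
import Mathlib.LinearAlgebra.Trace
import Mathlib.LinearAlgebra.Matrix.StdBasis
import Mathlib.Tactic

/-!
# The Frobenius–Schur coefficient is an integer
-/

set_option autoImplicit false

namespace CfsgLib.StructB

open scoped ComplexConjugate
open Finset

universe u

variable {G : Type u} [Group G] [Fintype G]

/-- The number of square roots, as a complex valued function. -/
noncomputable def sqrtCount (G : Type u) [Group G] (g : G) : ℂ :=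
  (Nat.card {x : G // x ^ 2 = g} : ℂ)

theorem sqrtCount_isClassFunction : Cfsg.IsClassFunction G (sqrtCount G) := by
  intro g h
  refine congrArg (Nat.cast : ℕ → ℂ) (Nat.card_congr ?_)
  refine ((MulAut.conj h).toEquiv.subtypeEquiv fun x => ?_).symm
  show x ^ 2 = g ↔ (h * x * h⁻¹) ^ 2 = h * g * h⁻¹
  rw [conj_pow]
  simp

theorem sum_sqrtCount_mul (φ : G → ℂ) :
    ∑ g : G, sqrtCount G g * φ g = ∑ x : G, φ (x ^ 2) := by
  classical
  rw [← Finset.sum_fiberwise (Finset.univ : Finset G) (fun x => x ^ 2) (fun x => φ (x ^ 2))]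
  refine Finset.sum_congr rfl fun g _ => ?_
  rw [Finset.sum_congr rfl (fun x hx => by rw [(Finset.mem_filter.1 hx).2]), Finset.sum_const,
    nsmul_eq_mul, sqrtCount, Nat.card_eq_fintype_card, Fintype.card_subtype]

variable {n : Type*} [Fintype n] [DecidableEq n]

/-- Conjugation `X ↦ A X Aᵀ` on matrices. -/
noncomputable def congrMap (A : Matrix n n ℂ) : Matrix n n ℂ →ₗ[ℂ] Matrix n n ℂ :=
  (LinearMap.mulRight ℂ A.transpose).comp (LinearMap.mulLeft ℂ A)

theorem congrMap_apply (A X : Matrix n n ℂ) : congrMap A X = A * X * A.transpose := rfl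

theorem congrMap_mul (A B : Matrix n n ℂ) : congrMap (A * B) = congrMap A ∘ₗ congrMap B :=
  LinearMap.ext fun X => by simp [congrMap_apply, Matrix.transpose_mul, Matrix.mul_assoc]

theorem trace_transpose_congrMap (A : Matrix n n ℂ) :
    LinearMap.trace ℂ _ ((Matrix.transposeLinearEquiv n n ℂ ℂ).toLinearMap ∘ₗ congrMap A) =
      Matrix.trace (A * A) := by
  classical
  rw [LinearMap.trace_eq_matrix_trace ℂ (Matrix.stdBasis ℂ n n), Matrix.trace, Matrix.trace,
    Fintype.sum_prod_type]
  refine Finset.sum_congr rfl fun i _ => ?_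
  rw [Matrix.diag_apply, Matrix.mul_apply]
  refine Finset.sum_congr rfl fun j _ => ?_
  rw [Matrix.diag_apply, LinearMap.toMatrix_apply, Matrix.stdBasis_eq_single]
  simp only [LinearMap.comp_apply, congrMap_apply, LinearEquiv.coe_coe]
  have : ∀ (M : Matrix n n ℂ), (Matrix.stdBasis ℂ n n).repr M (i, j) = M i j := fun M => by
    simp [Matrix.stdBasis]
  rw [this]
  show (A * Matrix.single i j 1 * A.transpose).transpose i j = A i j * A j i
  rw [Matrix.transpose_apply, Matrix.mul_apply]
  simp [Matrix.mul_apply, Matrix.single_apply, mul_comm, ite_and]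

theorem exists_nat_trace_of_isIdempotent {V : Type*} [AddCommGroup V] [Module ℂ V]
    [FiniteDimensional ℂ V] (E : V →ₗ[ℂ] V) (hE : E ∘ₗ E = E) :
    ∃ m : ℕ, LinearMap.trace ℂ V E = m := by
  have hp : LinearMap.IsProj (LinearMap.range E) E :=
    ⟨fun x => LinearMap.mem_range_self E x, by
      rintro x ⟨y, rfl⟩; exact LinearMap.congr_fun hE y⟩
  exact ⟨_, hp.trace⟩

/-- `|G|⁻¹ ∑ χ(g²)` is an integer for every character. -/
theorem exists_int_avg_char_sq {χ : G → ℂ} (hχ : Cfsg.IsCharacter G χ) :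
    ∃ z : ℤ, (Nat.card G : ℂ)⁻¹ * ∑ g : G, χ (g ^ 2) = z := by
  obtain ⟨d, ρ, rfl⟩ := hχ
  let A : G → Matrix (Fin d) (Fin d) ℂ := fun g => LinearMap.toMatrix' (ρ g)
  have hA : ∀ a b, A (a * b) = A a * A b := fun a b => by
    simp [A, map_mul, Module.End.mul_eq_comp, LinearMap.toMatrix'_comp]
  have hchar : ∀ g, ρ.character (g ^ 2) = Matrix.trace (A g * A g) := fun g => by
    rw [← hA, ← pow_two]
    simp [A, Representation.character, LinearMap.trace_eq_matrix_trace ℂ (Pi.basisFun ℂ (Fin d)),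
      LinearMap.toMatrix_eq_toMatrix']
  set T := (Matrix.transposeLinearEquiv (Fin d) (Fin d) ℂ ℂ).toLinearMap with hT
  set P := (Nat.card G : ℂ)⁻¹ • ∑ g : G, congrMap (A g) with hP
  have hN : (Nat.card G : ℂ) ≠ 0 := CfsgLib.Char.natCard_ne_zero
  have hcomp : ∀ h : G, congrMap (A h) ∘ₗ P = P := by
    intro h
    rw [hP, LinearMap.comp_smul]
    congr 1
    refine LinearMap.ext fun X => ?_
    simp only [LinearMap.comp_apply, LinearMap.sum_apply, map_sum]
    calc ∑ g : G, congrMap (A h) (congrMap (A g) X) = ∑ g : G, congrMap (A (h * g)) X := by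
          simp [hA, congrMap_mul]
      _ = ∑ g : G, congrMap (A g) X :=
          Fintype.sum_equiv (Equiv.mulLeft h) _ _ (fun g => rfl)
  have hPP : P ∘ₗ P = P := by
    refine LinearMap.ext fun X => ?_
    have : ∀ h : G, congrMap (A h) (P X) = P X := fun h => LinearMap.congr_fun (hcomp h) X
    show P (P X) = P X
    generalize P X = Y at this ⊢
    simp only [hP, LinearMap.smul_apply, LinearMap.sum_apply, this, Finset.sum_const, Finset.card_univ,
      ← Nat.card_eq_fintype_card]
    rw [← Nat.cast_smul_eq_nsmul ℂ, smul_smul, inv_mul_cancel₀ hN, one_smul]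
  have hTT : ∀ X, T (T X) = X := fun X => by simp [hT, Matrix.transpose_transpose]
  have hTP : ∀ X, T (P X) = P (T X) := fun X => by
    simp [hT, hP, congrMap_apply, Matrix.transpose_mul, Matrix.mul_assoc, Matrix.transpose_sum]
  have hPP' : ∀ X, P (P X) = P X := fun X => LinearMap.congr_fun hPP X
  set F := T ∘ₗ P with hF
  have hFP : ∀ X, F (P X) = F X := fun X => by simp [hF, hPP']
  have hPF : ∀ X, P (F X) = F X := fun X => by simp [hF, ← hTP, hPP']
  have hFF : ∀ X, F (F X) = P X := fun X => by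
    show T (P (T (P X))) = P X
    rw [← hTP, hTT, hPP']
  obtain ⟨a, ha⟩ := exists_nat_trace_of_isIdempotent ((2 : ℂ)⁻¹ • (P + F)) (LinearMap.ext fun X => by
    simp only [LinearMap.comp_apply, LinearMap.smul_apply, LinearMap.add_apply, map_smul, map_add,
      hPP', hFP, hPF, hFF]
    module)
  obtain ⟨b, hb⟩ := exists_nat_trace_of_isIdempotent ((2 : ℂ)⁻¹ • (P - F)) (LinearMap.ext fun X => by
    simp only [LinearMap.comp_apply, LinearMap.smul_apply, LinearMap.sub_apply, map_smul, map_sub,
      hPP', hFP, hPF, hFF]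
    module)
  refine ⟨(a : ℤ) - b, ?_⟩
  have htr : LinearMap.trace ℂ _ F = (Nat.card G : ℂ)⁻¹ * ∑ g : G, ρ.character (g ^ 2) := by
    rw [hF, hP, LinearMap.comp_smul, map_smul, smul_eq_mul]
    congr 1
    have : T ∘ₗ ∑ g : G, congrMap (A g) = ∑ g : G, T ∘ₗ congrMap (A g) :=
      LinearMap.ext fun X => by simp
    rw [this, map_sum]
    exact Finset.sum_congr rfl fun g _ => by rw [hT, trace_transpose_congrMap, hchar]
  rw [← htr]
  simp only [map_smul, map_add, map_sub, smul_eq_mul] at ha hb
  push_cast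
  rw [← ha, ← hb]
  ring

/-- The coefficient of an irreducible character in the square-root counting function is integral. -/
theorem exists_int_classInner_sqrtCount {χ : G → ℂ} (hχ : Cfsg.IsCharacter G χ) :
    ∃ z : ℤ, Cfsg.classInner (sqrtCount G) χ = z := by
  obtain ⟨z, hz⟩ := exists_int_avg_char_sq hχ
  refine ⟨z, ?_⟩
  rw [Cfsg.classInner, sum_sqrtCount_mul (fun g => conj (χ g)), ← map_sum,
    ← Complex.conj_natCast (Nat.card G), ← map_inv₀, ← map_mul, hz, map_intCast]

end CfsgLib.StructB
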