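import Mathlib

/-!
# Small lemmas: conjugates covering a group, fixed points of permutations of prime power order
-/

set_option autoImplicit false

namespace CfsgLib.StructB

/-- A subgroup whose conjugates cover a finite group is the whole group. -/
theorem eq_top_of_conj_cover {G : Type*} [Group G] [Finite G] (H : Subgroup G)
    (h : ∀ g : G, ∃ x : G, x * g * x⁻¹ ∈ H) : H = ⊤ := by
  classical
  let F : (G ⧸ H) × {h : H // h ≠ 1} → {g : G // g ≠ 1} := fun v =>
    ⟨v.1.out * (v.2.1 : G) * v.1.out⁻¹, fun e => v.2.2 (Subtype.ext (conj_eq_one_iff.1 e))⟩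
  have hF : Function.Surjective F := by
    rintro ⟨g, hg⟩
    obtain ⟨x, hx⟩ := h g
    have hq : ((QuotientGroup.mk x⁻¹ : G ⧸ H).out)⁻¹ * x⁻¹ ∈ H :=
      QuotientGroup.eq.1 (QuotientGroup.out_eq' (QuotientGroup.mk x⁻¹ : G ⧸ H))
    set q := (QuotientGroup.mk x⁻¹ : G ⧸ H).out with hqd
    have hmem : q⁻¹ * g * q ∈ H := by
      have := H.mul_mem (H.mul_mem hq hx) (H.inv_mem hq)
      rwa [show q⁻¹ * x⁻¹ * (x * g * x⁻¹) * (q⁻¹ * x⁻¹)⁻¹ = q⁻¹ * g * q by group] at this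
    refine ⟨(QuotientGroup.mk x⁻¹, ⟨⟨_, hmem⟩, fun e => hg ?_⟩), Subtype.ext ?_⟩
    · have e' : q⁻¹ * g * q = 1 := congrArg Subtype.val e
      rw [show g = q * (q⁻¹ * g * q) * q⁻¹ by group, e', mul_one, mul_inv_cancel]
    · show q * (q⁻¹ * g * q) * q⁻¹ = g
      group
  have h1 := Nat.card_le_card_of_surjective F hF
  have := Fintype.ofFinite G
  have := Fintype.ofFinite H
  rw [Nat.card_prod, ← H.index_eq_card, Nat.card_eq_fintype_card, Nat.card_eq_fintype_card,
    Fintype.card_subtype_compl, Fintype.card_subtype_compl, Fintype.card_subtype_eq, Fintype.card_subtype_eq,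
    ← Nat.card_eq_fintype_card, ← Nat.card_eq_fintype_card] at h1
  have h2 := H.index_mul_card
  have h3 : 1 ≤ Nat.card H := Nat.card_pos
  obtain ⟨k, hk⟩ : ∃ k, Nat.card H = k + 1 := ⟨Nat.card H - 1, by omega⟩
  rw [hk, Nat.mul_succ] at h2
  rw [hk, Nat.add_sub_cancel] at h1
  rw [← Subgroup.index_eq_one]
  have := Subgroup.index_ne_zero_of_finite (H := H)
  omega

/-- Fixed points of a permutation of `q`-power order. -/
theorem card_fixed_modEq {α : Type*} [Finite α] {q : ℕ} [Fact q.Prime] (σ : Equiv.Perm α) {k : ℕ}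
    (hσ : σ ^ (q ^ k) = 1) : Nat.card {a // σ a = a} ≡ Nat.card α [MOD q] := by
  classical
  have := Fintype.ofFinite α
  rw [Nat.card_eq_fintype_card, Nat.card_eq_fintype_card, Fintype.card_subtype]
  convert Equiv.Perm.card_compl_support_modEq hσ using 2
  ext a
  simp

/-- If `r ≡ 1 mod p` then `r ^ (p ^ s) ≡ 1 mod p ^ (s + 1)`. -/
theorem pow_prime_pow_modEq {p r : ℕ} (h : r ≡ 1 [MOD p]) (s : ℕ) : r ^ (p ^ s) ≡ 1 [MOD p ^ (s + 1)] := by
  induction s with
  | zero => simpa using h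
  | succ s ih =>
    rw [← Int.natCast_modEq_iff, Int.modEq_comm, Int.modEq_iff_dvd] at ih ⊢
    push_cast at ih ⊢
    obtain ⟨w, hw⟩ := ih
    rw [pow_succ p s, pow_mul, pow_succ (p : ℤ) (s + 1)]
    have h2 : (p : ℤ) ∣ (∑ i ∈ Finset.range p, ((r : ℤ) ^ p ^ s) ^ i) := by
      have h3 : ∀ i ∈ Finset.range p, (p : ℤ) ∣ ((r : ℤ) ^ p ^ s) ^ i - 1 := fun i _ =>
        ((dvd_pow_self (p : ℤ) (Nat.succ_ne_zero s)).trans ⟨w, hw⟩).trans (sub_one_dvd_pow_sub_one _ _)
      have h4 := Finset.dvd_sum h3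
      rw [Finset.sum_sub_distrib, Finset.sum_const, Finset.card_range, nsmul_one] at h4
      simpa using dvd_add h4 (dvd_refl (p : ℤ))
    rw [← geom_sum_mul, mul_comm ((p : ℤ) ^ (s + 1)) (p : ℤ)]
    exact mul_dvd_mul h2 ⟨w, hw⟩

/-- A subgroup contains `g` if it contains all elements of prime power order of `⟨g⟩`. -/
theorem mem_of_forall_primePow {G : Type*} [Group G] [Finite G] (C : Subgroup G) (g : G)
    (h : ∀ x ∈ Subgroup.zpowers g, ∀ q k : ℕ, q.Prime → 1 ≤ k → orderOf x = q ^ k → q ^ k ∣ orderOf g → x ∈ C) :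
    g ∈ C := by
  have hd : orderOf g ∣ Nat.card (C ⊓ Subgroup.zpowers g : Subgroup G) := by
    refine (Nat.dvd_iff_prime_pow_dvd_dvd _ _).2 fun q k hq hqk => ?_
    rcases Nat.eq_zero_or_pos k with rfl | hk
    · simp
    obtain ⟨r, hr⟩ := hqk
    have hr0 : r ≠ 0 := fun e => (orderOf_pos g).ne' (by rw [hr, e, mul_zero])
    have ho : orderOf (g ^ r) = q ^ k := by
      rw [orderOf_pow_of_dvd hr0 (Dvd.intro_left _ hr.symm), hr, Nat.mul_div_cancel _ (Nat.pos_of_ne_zero hr0)]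
    rw [← ho]
    refine Subgroup.orderOf_dvd_natCard _ (Subgroup.mem_inf.2 ⟨?_, pow_mem (Subgroup.mem_zpowers g) r⟩)
    exact h _ (pow_mem (Subgroup.mem_zpowers g) r) q k hq hk ho ⟨r, hr⟩
  have heq : C ⊓ Subgroup.zpowers g = Subgroup.zpowers g := Subgroup.eq_of_le_of_card_ge inf_le_right
    (by rw [Nat.card_zpowers]; exact Nat.le_of_dvd Nat.card_pos hd)
  exact (Subgroup.mem_inf.1 (heq.ge (Subgroup.mem_zpowers g))).1

/-- A finite subgroup mapped into itself by a conjugation is normalised. -/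
theorem mem_normalizer_of_conj_le {G : Type*} [Group G] [Finite G] {H : Subgroup G} {g : G}
    (h : ∀ x ∈ H, g * x * g⁻¹ ∈ H) : g ∈ Subgroup.normalizer (H : Set G) := by
  have heq : H.map (MulAut.conj g).toMonoidHom = H :=
    Subgroup.eq_of_le_of_card_ge (fun c ⟨d, hd, hdc⟩ => hdc ▸ h d hd)
      (le_of_eq (Subgroup.card_map_of_injective (MulAut.conj g).injective).symm)
  rw [Subgroup.mem_normalizer_iff]
  intro c
  refine ⟨h c, fun hc => ?_⟩
  rw [← heq] at hc
  obtain ⟨d, hd, hdc⟩ := hc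
  have hdc' : g * d * g⁻¹ = g * c * g⁻¹ := hdc
  rwa [← mul_left_cancel (mul_right_cancel hdc')]

end CfsgLib.StructB
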