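import Mathlib

/-!
# The derived length of a linear `p`-group

If a finite `p`-group is represented on a space of dimension `n` over an algebraically closed field
then the `(log₂ n + 1)`-st derived subgroup acts trivially.
-/

set_option autoImplicit false

namespace CfsgLib.StructB.PLinear

open Subgroup Module
open scoped commutatorElement

variable {P : Type*} [Group P]

/-- The derived series from a subgroup. -/
def dser (S : Subgroup P) : ℕ → Subgroup P
  | 0 => S
  | k + 1 => ⁅dser S k, dser S k⁆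

theorem dser_top (k : ℕ) : dser (⊤ : Subgroup P) k = derivedSeries P k := by
  induction k with
  | zero => rfl
  | succ k ih => rw [dser, derivedSeries_succ, ih]

theorem dser_succ' (S : Subgroup P) (k : ℕ) : dser S (k + 1) = dser ⁅S, S⁆ k := by
  induction k with
  | zero => rfl
  | succ k ih => rw [dser, ih]; rfl

theorem dser_succ_le (S : Subgroup P) (k : ℕ) : dser S (k + 1) ≤ dser S k := by
  induction k with
  | zero => exact commutator_le_self S
  | succ k ih => exact commutator_mono ih ih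

theorem dser_anti (S : Subgroup P) {a b : ℕ} (h : a ≤ b) : dser S b ≤ dser S a := by
  induction h with
  | refl => exact le_rfl
  | step _ ih => exact (dser_succ_le S _).trans ih

variable {K : Type*} [Field K] {V : Type*} [AddCommGroup V] [Module K V] (ρ : P →* Module.End K V)

theorem rho_inv_apply (g : P) (v : V) : ρ g⁻¹ (ρ g v) = v := by
  rw [← Module.End.mul_apply, ← map_mul, inv_mul_cancel, map_one, Module.End.one_apply]

theorem rho_apply_inv (g : P) (v : V) : ρ g (ρ g⁻¹ v) = v := by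
  rw [← Module.End.mul_apply, ← map_mul, mul_inv_cancel, map_one, Module.End.one_apply]

theorem rho_mul (g h : P) (v : V) : ρ (g * h) v = ρ g (ρ h v) := by
  rw [map_mul, Module.End.mul_apply]

/-- Elements commuting with `a` up to a scalar. -/
def Twist (a : P) (W : Submodule K V) (g : P) (c : K) : Prop :=
  c ≠ 0 ∧ ∀ w ∈ W, ρ g (ρ a w) = c • ρ a (ρ g w)

theorem twist_mul {a : P} {W : Submodule K V} {g h : P} {c d : K}
    (hW : ∀ w ∈ W, ρ h w ∈ W) (hg : Twist ρ a W g c) (hh : Twist ρ a W h d) :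
    Twist ρ a W (g * h) (c * d) := by
  refine ⟨mul_ne_zero hg.1 hh.1, fun w hw => ?_⟩
  rw [rho_mul, hh.2 w hw, map_smul, hg.2 _ (hW w hw), smul_smul, mul_comm d c, rho_mul]

theorem twist_inv {a : P} {W : Submodule K V} {g : P} {c : K} (hW : ∀ w ∈ W, ρ g⁻¹ w ∈ W)
    (hg : Twist ρ a W g c) : Twist ρ a W g⁻¹ c⁻¹ := by
  refine ⟨inv_ne_zero hg.1, fun w hw => ?_⟩
  have h1 := hg.2 _ (hW w hw)
  rw [rho_apply_inv] at h1
  have h2 := congrArg (ρ g⁻¹) h1
  rw [rho_inv_apply, map_smul] at h2
  rw [h2, smul_smul, inv_mul_cancel₀ hg.1, one_smul]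

/-- An eigenspace inside `W`. -/
def eig (a : P) (W : Submodule K V) (μ : K) : Submodule K V :=
  W ⊓ LinearMap.ker (ρ a - μ • LinearMap.id)

theorem mem_eig {a : P} {W : Submodule K V} {μ : K} {v : V} :
    v ∈ eig ρ a W μ ↔ v ∈ W ∧ ρ a v = μ • v := by
  rw [eig, Submodule.mem_inf, LinearMap.mem_ker, LinearMap.sub_apply, LinearMap.smul_apply,
    LinearMap.id_apply, sub_eq_zero]

/-- An element of finite order prime to the characteristic is diagonalizable. -/
theorem mem_of_eigenspaces {a : P} {W : Submodule K V} (hW : ∀ w ∈ W, ρ a w ∈ W) {N : ℕ}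
    (hN : a ^ N = 1) (hK : (N : K) ≠ 0) {ζ : K} (hζ : IsPrimitiveRoot ζ N) {f : Module.End K V}
    (hf : ∀ (μ : K), ∀ v ∈ eig ρ a W μ, f v = v) {w : V} (hw : w ∈ W) : f w = w := by
  classical
  have hN0 : 0 < N := Nat.pos_of_ne_zero fun h => hK (by rw [h, Nat.cast_zero])
  have hWi : ∀ (i : ℕ) (u : V), u ∈ W → ρ (a ^ i) u ∈ W := by
    intro i
    induction i with
    | zero => intro u hu; rwa [pow_zero, map_one, Module.End.one_apply]
    | succ i ih => intro u hu; rw [pow_succ, rho_mul]; exact ih _ (hW u hu)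
  let pr : ℕ → V := fun j => ∑ i ∈ Finset.range N, (ζ⁻¹ ^ j) ^ i • ρ (a ^ i) w
  have hz0 : ζ ≠ 0 := hζ.ne_zero hN0.ne'
  have heig : ∀ j, pr j ∈ eig ρ a W (ζ ^ j) := fun j => by
    rw [mem_eig]
    refine ⟨Submodule.sum_mem _ fun i _ => W.smul_mem _ (hWi i w hw), ?_⟩
    have hshift : ∀ g : ℕ → V, g N = g 0 → ∑ i ∈ Finset.range N, g (i + 1) = ∑ i ∈ Finset.range N, g i := by
      intro g hg
      have h1 := Finset.sum_range_succ' g N
      rw [Finset.sum_range_succ, hg] at h1
      exact (add_right_cancel h1).symm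
    have h1 := hshift (fun i => (ζ ^ j) • ((ζ⁻¹ ^ j) ^ i • ρ (a ^ i) w)) (by
      rw [hN, pow_zero, pow_zero, ← pow_mul, mul_comm, pow_mul, inv_pow, hζ.pow_eq_one, inv_one,
        one_pow])
    show ρ a (∑ i ∈ Finset.range N, (ζ⁻¹ ^ j) ^ i • ρ (a ^ i) w) = _
    rw [map_sum, Finset.smul_sum, ← h1]
    refine Finset.sum_congr rfl fun i _ => ?_
    rw [map_smul, ← rho_mul, ← pow_succ', smul_smul]
    congr 1
    rw [pow_succ', ← mul_assoc, ← mul_pow, mul_inv_cancel₀ hz0, one_pow, one_mul]
  have hsum : ∑ j ∈ Finset.range N, pr j = (N : K) • w := by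
    simp only [pr]
    rw [Finset.sum_comm]
    simp only [← Finset.sum_smul]
    rw [Finset.sum_eq_single 0]
    · simp
    · intro i hi hi0
      have h2 : ∑ j ∈ Finset.range N, (ζ⁻¹ ^ j) ^ i = 0 := by
        simp only [← pow_mul, mul_comm _ i]
        simp only [pow_mul]
        have hne : ζ⁻¹ ^ i ≠ 1 := by
          rw [inv_pow, inv_ne_one]
          exact hζ.pow_ne_one_of_pos_of_lt hi0 (Finset.mem_range.1 hi)
        rw [geom_sum_eq hne, ← pow_mul, mul_comm, pow_mul, inv_pow, hζ.pow_eq_one, inv_one, one_pow,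
          sub_self, zero_div]
      rw [h2, zero_smul]
    · intro h; exact absurd (Finset.mem_range.2 hN0) h
  have h3 : f ((N : K) • w) = (N : K) • w := by
    rw [← hsum, map_sum]
    exact Finset.sum_congr rfl fun j _ => hf _ _ (heig j)
  rw [map_smul] at h3
  exact smul_right_injective V hK h3

/-- The coprime case. -/
theorem dser_fixes_of_coprime [Finite P] [Group.IsNilpotent P] [IsAlgClosed K] [FiniteDimensional K V]
    (hK : (Nat.card P : K) ≠ 0) : ∀ (n : ℕ) (W : Submodule K V), finrank K W = n →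
      ∀ S : Subgroup P, (∀ g ∈ S, ∀ w ∈ W, ρ g w ∈ W) →
      ∀ x ∈ dser S (Nat.log 2 n + 1), ∀ w ∈ W, ρ x w = w := by
  classical
  intro n
  induction n using Nat.strong_induction_on with
  | _ n ih =>
    intro W hn S hS x hx w hw
    rcases Nat.eq_zero_or_pos n with rfl | hn0
    · rw [Submodule.finrank_eq_zero] at hn
      rw [hn, Submodule.mem_bot] at hw
      rw [hw, map_zero]
    have : NeZero ((Nat.card P : ℕ) : K) := ⟨hK⟩
    obtain ⟨ζ, hζ⟩ := HasEnoughRootsOfUnity.exists_primitiveRoot K (Nat.card P)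
    by_cases hA : ∀ a ∈ S, (∀ g ∈ S, ∀ u ∈ W, ρ g (ρ a u) = ρ a (ρ g u)) →
        ∃ c : K, ∀ u ∈ W, ρ a u = c • u
    swap
    · -- a central element which is not scalar
      push Not at hA
      obtain ⟨a, haS, hac, hns⟩ := hA
      refine mem_of_eigenspaces ρ (hS a haS) (pow_card_eq_one' (x := a)) hK hζ (fun μ v hv => ?_) hw
      have hlt : eig ρ a W μ < W := by
        refine lt_of_le_of_ne inf_le_left fun e => ?_
        obtain ⟨u, hu, hne⟩ := hns μ
        exact hne ((mem_eig ρ).1 (e.symm ▸ hu)).2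
      have hm := Submodule.finrank_lt_finrank_of_lt hlt
      rw [hn] at hm
      refine ih _ hm _ rfl S (fun g hg u hu => ?_) x ?_ v hv
      · rw [mem_eig] at hu ⊢
        exact ⟨hS g hg u hu.1, by rw [← hac g hg u hu.1, hu.2, map_smul]⟩
      · exact dser_anti S (Nat.add_le_add_right (Nat.log_mono_right hm.le) 1) hx
    by_cases hcomm : ∀ a ∈ S, ∀ g ∈ S, ∀ u ∈ W, ρ g (ρ a u) = ρ a (ρ g u)
    · -- commutative action
      have hx1 : x ∈ ⁅S, S⁆ := by
        have := dser_anti S (Nat.le_add_left 1 (Nat.log 2 n)) hx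
        exact this
      let T : Subgroup P :=
        { carrier := {g | g ∈ S ∧ ∀ u ∈ W, ρ g u = u}
          one_mem' := ⟨one_mem S, fun u _ => by rw [map_one, Module.End.one_apply]⟩
          mul_mem' := fun {g h} hg hh => ⟨mul_mem hg.1 hh.1, fun u hu => by
            rw [rho_mul, hh.2 u hu, hg.2 u hu]⟩
          inv_mem' := fun {g} hg => ⟨inv_mem hg.1, fun u hu => by
            conv_lhs => rw [← hg.2 u hu]
            exact rho_inv_apply ρ g u⟩ }
      have hle : ⁅S, S⁆ ≤ T := commutator_le.2 fun g hg h hh =>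
        ⟨commutator_le_self S (commutator_mem_commutator hg hh), fun u hu => by
          have h1 : ρ h⁻¹ u ∈ W := hS _ (inv_mem hh) u hu
          have h2 : ρ g⁻¹ (ρ h⁻¹ u) ∈ W := hS _ (inv_mem hg) _ h1
          rw [commutatorElement_def, rho_mul, rho_mul, rho_mul, hcomm h hh g hg _ h2, rho_apply_inv,
            rho_apply_inv]⟩
      exact (hle hx1).2 w hw
    push Not at hcomm
    -- an element central modulo scalars
    obtain ⟨a, haS, ⟨g₁, hg₁, u₁, hu₁, hne₁⟩, htw⟩ : ∃ a ∈ S,
        (∃ g ∈ S, ∃ u ∈ W, ρ g (ρ a u) ≠ ρ a (ρ g u)) ∧ ∀ g ∈ S, ∃ c, Twist ρ a W g c := by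
      let L : ℕ → Subgroup P := fun i => Nat.rec S (fun _ T => ⁅S, T⁆) i
      have hLS : ∀ i, L i ≤ S := fun i => by
        induction i with
        | zero => exact le_rfl
        | succ i ih => exact (commutator_mono le_rfl ih).trans (commutator_le_self S)
      have hLlow : ∀ i, L i ≤ Subgroup.lowerCentralSeries (⊤ : Subgroup P) i := fun i => by
        induction i with
        | zero => exact le_top
        | succ i ih =>
          show ⁅S, L i⁆ ≤ _
          rw [Subgroup.lowerCentralSeries_succ, commutator_comm S]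
          exact commutator_mono ih le_top
      obtain ⟨c, hc⟩ := Subgroup.nilpotent_iff_lowerCentralSeries.1 (inferInstance : Group.IsNilpotent P)
      let bad : ℕ → Prop := fun i => ∃ a ∈ L i, ∃ g ∈ S, ∃ u ∈ W, ρ g (ρ a u) ≠ ρ a (ρ g u)
      have hb0 : bad 0 := hcomm
      have hbc : ¬ bad c := by
        rintro ⟨a, ha, g, hg, u, hu, hne⟩
        have := hLlow c ha
        rw [hc, mem_bot] at this
        rw [this, map_one] at hne
        exact hne rfl
      have hex : ∃ i, bad i ∧ ¬ bad (i + 1) := by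
        by_contra hh
        push Not at hh
        exact hbc (Nat.rec hb0 hh c)
      obtain ⟨i, ⟨a, ha, g₁, hg₁, u₁, hu₁, hne₁⟩, hi⟩ := hex
      refine ⟨a, hLS i ha, ⟨g₁, hg₁, u₁, hu₁, hne₁⟩, fun g hg => ?_⟩
      have hd : ⁅g, a⁆ ∈ L (i + 1) := commutator_mem_commutator hg ha
      obtain ⟨c, hcs⟩ := hA _ (hLS (i + 1) hd) fun g' hg' u hu => by
        by_contra hne
        exact hi ⟨_, hd, g', hg', u, hu, hne⟩
      refine ⟨c, fun hc0 => ?_, fun u hu => ?_⟩
      · have h1 := hcs u₁ hu₁
        rw [hc0, zero_smul] at h1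
        have h2 := congrArg (ρ ⁅g, a⁆⁻¹) h1
        rw [rho_inv_apply, map_zero] at h2
        exact hne₁ (by rw [h2, map_zero, map_zero, map_zero])
      · rw [← rho_mul, ← rho_mul, ← hcs _ (hS _ (mul_mem (hLS i ha) hg) u hu), ← rho_mul,
          commutatorElement_def]
        congr 2
        group
    obtain ⟨c₁, hc₁⟩ := htw g₁ hg₁
    have hc₁1 : c₁ ≠ 1 := fun e => hne₁ (by rw [hc₁.2 u₁ hu₁, e, one_smul])
    refine mem_of_eigenspaces ρ (hS a haS) (pow_card_eq_one' (x := a)) hK hζ (fun μ v hv => ?_) hw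
    by_cases hEbot : eig ρ a W μ = ⊥
    · rw [hEbot, Submodule.mem_bot] at hv
      rw [hv, map_zero]
    -- the eigenspace is at most half of `W`
    have hμ : μ ≠ 0 := by
      rintro rfl
      refine hEbot (eq_bot_iff.2 fun u hu => ?_)
      rw [mem_eig, zero_smul] at hu
      have h2 := congrArg (ρ a⁻¹) hu.2
      rwa [rho_inv_apply, map_zero] at h2
    have hinj : Function.Injective (ρ g₁) := fun u u' h => by
      rw [← rho_inv_apply ρ g₁ u, h, rho_inv_apply]
    set E' := (eig ρ a W μ).map (ρ g₁) with hE'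
    have hdisj : eig ρ a W μ ⊓ E' = ⊥ := by
      refine eq_bot_iff.2 fun u hu => ?_
      obtain ⟨hu1, u', hu', rfl⟩ := hu
      rw [SetLike.mem_coe, mem_eig] at hu1
      rw [SetLike.mem_coe, mem_eig] at hu'
      have h1 := hc₁.2 u' hu'.1
      rw [hu'.2, map_smul, hu1.2, smul_smul] at h1
      rw [Submodule.mem_bot]
      by_contra hne
      have h3 : (1 : K) * μ = c₁ * μ := smul_left_injective K hne (by simpa using h1)
      exact hc₁1 (mul_right_cancel₀ hμ h3).symm
    have h2dim : 2 * finrank K (eig ρ a W μ) ≤ n := by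
      have h1 := Submodule.finrank_sup_add_finrank_inf_eq (eig ρ a W μ) E'
      rw [hdisj, finrank_bot, add_zero, ← (Submodule.equivMapOfInjective _ hinj _).finrank_eq] at h1
      have h2 : eig ρ a W μ ⊔ E' ≤ W := sup_le inf_le_left (by
        rintro _ ⟨u', hu', rfl⟩
        exact hS g₁ hg₁ u' ((mem_eig ρ).1 hu').1)
      have h3 := Submodule.finrank_mono h2
      rw [h1, hn] at h3
      omega
    set m := finrank K (eig ρ a W μ) with hm
    have hm0 : m ≠ 0 := fun h => hEbot (Submodule.finrank_eq_zero.1 (hm ▸ h))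
    have hcomT : ⁅S, S⁆ ≤ S := commutator_le_self S
    have hpres : ∀ g ∈ ⁅S, S⁆, Twist ρ a W g 1 := by
      let T : Subgroup P :=
        { carrier := {g | g ∈ S ∧ Twist ρ a W g 1}
          one_mem' := ⟨one_mem S, one_ne_zero, fun u _ => by simp⟩
          mul_mem' := fun {g h} hg hh => ⟨mul_mem hg.1 hh.1, by
            simpa using twist_mul ρ (hS h hh.1) hg.2 hh.2⟩
          inv_mem' := fun {g} hg => ⟨inv_mem hg.1, by
            simpa using twist_inv ρ (hS _ (inv_mem hg.1)) hg.2⟩ }
      have hle : ⁅S, S⁆ ≤ T := commutator_le.2 fun g hg h hh => by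
        refine ⟨hcomT (commutator_mem_commutator hg hh), ?_⟩
        obtain ⟨c, hc⟩ := htw g hg
        obtain ⟨d, hd⟩ := htw h hh
        have hgi := twist_inv ρ (hS _ (inv_mem hg)) hc
        have hhi := twist_inv ρ (hS _ (inv_mem hh)) hd
        have := twist_mul ρ (hS _ (inv_mem hh)) (twist_mul ρ (hS _ (inv_mem hg))
          (twist_mul ρ (hS h hh) hc hd) hgi) hhi
        rw [commutatorElement_def]
        rwa [show c * d * c⁻¹ * d⁻¹ = 1 by
          rw [mul_comm c d, mul_inv_cancel_right₀ hc.1, mul_inv_cancel₀ hd.1]] at this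
      exact fun g hg => (hle hg).2
    refine ih m (by omega) _ hm.symm ⁅S, S⁆ (fun g hg u hu => ?_) x ?_ v hv
    · rw [mem_eig] at hu ⊢
      refine ⟨hS g (hcomT hg) u hu.1, ?_⟩
      have := (hpres g hg).2 u hu.1
      rw [one_smul, hu.2, map_smul] at this
      exact this.symm
    · rw [← dser_succ']
      refine dser_anti S ?_ hx
      have h1 : Nat.log 2 (m * 2) ≤ Nat.log 2 n := Nat.log_mono_right (by omega)
      rw [Nat.log_mul_base one_lt_two hm0] at h1
      omega

/-- A `p`-group in characteristic `p` fixes a vector modulo a proper invariant subspace. -/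
theorem exists_fixed_mod [Finite P] {p : ℕ} [Fact p.Prime] [CharP K p] (hP : IsPGroup p P)
    (U : Submodule K V) (hU : U ≠ ⊤) (hinv : ∀ g : P, ∀ u ∈ U, ρ g u ∈ U) :
    ∃ v, v ∉ U ∧ ∀ g : P, ρ g v - v ∈ U := by
  classical
  suffices h : ∀ S : Subgroup P, ∃ v, v ∉ U ∧ ∀ g ∈ S, ρ g v - v ∈ U by
    obtain ⟨v, hv, hv'⟩ := h ⊤
    exact ⟨v, hv, fun g => hv' g (mem_top g)⟩
  intro S
  induction h : Nat.card S using Nat.strong_induction_on generalizing S with
  | _ k ih =>
    by_cases hS : S = ⊥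
    · obtain ⟨v, -, hv⟩ := SetLike.exists_of_lt (lt_top_iff_ne_top.2 hU)
      refine ⟨v, hv, fun g hg => ?_⟩
      rw [hS, mem_bot] at hg
      rw [hg, map_one, Module.End.one_apply, sub_self]
      exact zero_mem U
    have : Nontrivial S := (nontrivial_iff_ne_bot S).2 hS
    have := (hP.to_subgroup S).isNilpotent
    obtain ⟨M₀, hM₀, -⟩ := (eq_top_or_exists_le_coatom (⊥ : Subgroup S)).resolve_left bot_ne_top
    have hM₀n : M₀.Normal :=
      NormalizerCondition.normal_of_coatom M₀ Group.normalizerCondition_of_isNilpotent hM₀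
    obtain ⟨v, hvU, hv⟩ := ih _ (h ▸ card_lt_card_group_aux M₀ hM₀.1) (M₀.map S.subtype) rfl
    obtain ⟨g, hg⟩ : ∃ g, g ∉ M₀ := by
      by_contra hh
      push Not at hh
      exact hM₀.1 (eq_top_iff.2 fun x _ => hh x)
    set D : Module.End K V := ρ (g : P) - 1 with hD
    let vs : ℕ → V := fun j => (D ^ j) v
    have hvs : ∀ j, ∀ m ∈ M₀, ρ (m : P) (vs j) - vs j ∈ U := by
      intro j
      induction j with
      | zero => intro m hm; exact hv _ (mem_map_of_mem _ hm)
      | succ j ihj =>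
        intro m hm
        have e : vs (j + 1) = ρ (g : P) (vs j) - vs j := by
          show (D ^ (j + 1)) v = _
          rw [pow_succ', Module.End.mul_apply, hD, LinearMap.sub_apply, Module.End.one_apply]
        rw [e, map_sub, sub_sub_sub_comm]
        refine U.sub_mem ?_ (ihj m hm)
        have h1 := hinv (g : P) _ (ihj (g⁻¹ * m * g) (by simpa using hM₀n.conj_mem m hm g⁻¹))
        rw [map_sub, ← rho_mul] at h1
        rwa [show (g : P) * ((g⁻¹ * m * g : S) : P) = (m : P) * g by push_cast; group, rho_mul] at h1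
    obtain ⟨e, he⟩ := hP (g : P)
    have hnil : vs (p ^ e) ∈ U := by
      show (D ^ p ^ e) v ∈ U
      have : Nontrivial V := ⟨⟨v, 0, fun h => hvU (by rw [h]; exact zero_mem U)⟩⟩
      have : CharP (Module.End K V) p :=
        charP_of_injective_algebraMap (algebraMap K (Module.End K V)).injective p
      rw [hD, sub_pow_char_pow_of_commute (p := p) e (Commute.one_right _), ← map_pow, he, map_one, one_pow,
        sub_self, LinearMap.zero_apply]
      exact zero_mem U
    obtain ⟨j, hjU, hjU'⟩ : ∃ j, vs j ∉ U ∧ vs (j + 1) ∈ U := by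
      by_contra hh
      push Not at hh
      exact (Nat.rec (motive := fun j => vs j ∉ U) (by simpa [vs] using hvU) hh (p ^ e)) hnil
    refine ⟨vs j, hjU, fun x hx => ?_⟩
    let T : Subgroup S :=
      { carrier := {y : S | ρ (y : P) (vs j) - vs j ∈ U}
        one_mem' := by simp
        mul_mem' := fun {a b} ha hb => by
          have h1 := U.add_mem (hinv (a : P) _ hb) ha
          rw [map_sub, sub_add_sub_cancel, ← rho_mul] at h1
          exact h1
        inv_mem' := fun {a} ha => by
          have h1 := U.neg_mem (hinv ((a : P)⁻¹) _ ha)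
          rw [map_sub, rho_inv_apply, neg_sub] at h1
          exact h1 }
    have hT : T = ⊤ := hM₀.2 T (lt_of_le_of_ne (fun m hm => hvs j m hm) fun e => hg (e.symm ▸ (by
      show ρ (g : P) (vs j) - vs j ∈ U
      have : vs (j + 1) = ρ (g : P) (vs j) - vs j := by
        show (D ^ (j + 1)) v = _
        rw [pow_succ', Module.End.mul_apply, hD, LinearMap.sub_apply, Module.End.one_apply]
      rwa [← this])))
    exact (hT.symm ▸ mem_top (⟨x, hx⟩ : S) : (⟨x, hx⟩ : S) ∈ T)
where
  card_lt_card_group_aux {S : Subgroup P} (M : Subgroup S) (h : M ≠ ⊤) :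
      Nat.card ↥(M.map S.subtype) < Nat.card S := by
    rw [card_map_of_injective S.subtype_injective]
    exact lt_of_le_of_ne (card_le_card_group M) fun e => h (eq_top_of_card_eq M e)

/-- The fixed point filtration. -/
def fil : ℕ → Submodule K V
  | 0 => ⊥
  | i + 1 => ⨅ g : P, (fil i).comap (ρ g - 1)

theorem mem_fil_succ {i : ℕ} {v : V} : v ∈ fil ρ (i + 1) ↔ ∀ g : P, ρ g v - v ∈ fil ρ i := by
  simp [fil]

theorem fil_inv : ∀ (i : ℕ) (g : P), ∀ v ∈ fil ρ i, ρ g v ∈ fil ρ i := by
  intro i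
  induction i with
  | zero => intro g v hv; rw [fil, Submodule.mem_bot] at hv ⊢; rw [hv, map_zero]
  | succ i ih =>
    intro g v hv
    rw [mem_fil_succ] at hv ⊢
    intro h
    have h1 := Submodule.sub_mem _ (hv (h * g)) (hv g)
    rwa [sub_sub_sub_cancel_right, rho_mul] at h1

theorem fil_le_succ (i : ℕ) : fil ρ i ≤ fil ρ (i + 1) := fun v hv =>
  (mem_fil_succ ρ).2 fun g => Submodule.sub_mem _ (fil_inv ρ i g v hv) hv

/-- Elements lowering the filtration by `k`. -/
def deep (k : ℕ) : Subgroup P where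
  carrier := {g | ∀ i, ∀ v ∈ fil ρ (i + k), ρ g v - v ∈ fil ρ i}
  one_mem' := fun i v _ => by simp
  mul_mem' := fun {g h} hg hh i v hv => by
    have h1 := Submodule.add_mem _ (fil_inv ρ i g _ (hh i v hv)) (hg i v hv)
    rwa [map_sub, sub_add_sub_cancel, ← rho_mul] at h1
  inv_mem' := fun {g} hg i v hv => by
    have h1 := Submodule.neg_mem _ (fil_inv ρ i g⁻¹ _ (hg i v hv))
    rwa [map_sub, rho_inv_apply, neg_sub] at h1

theorem commutator_deep_le (a b : ℕ) : ⁅deep ρ a, deep ρ b⁆ ≤ deep ρ (a + b) := by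
  refine commutator_le.2 fun g hg h hh i v hv => ?_
  set u := ρ g⁻¹ (ρ h⁻¹ v) with hu
  have hu' : u ∈ fil ρ (i + (a + b)) := fil_inv ρ _ _ _ (fil_inv ρ _ _ _ hv)
  have e : ρ ⁅g, h⁆ v - v = ρ g (ρ h u) - ρ h (ρ g u) := by
    rw [hu, commutatorElement_def, rho_mul, rho_mul, rho_mul, rho_apply_inv, rho_apply_inv]
  rw [e]
  have h1 := hh (i + a) u (by rwa [add_assoc])
  have h2 := hg i _ h1
  have h3 := hg (i + b) u (by rwa [add_assoc, add_comm b a])
  have h4 := hh i _ h3
  rw [map_sub] at h2 h4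
  have h5 := Submodule.sub_mem _ h2 h4
  convert h5 using 1
  abel

/-- The characteristic case. -/
theorem dser_fixes_of_charP [Finite P] [FiniteDimensional K V] {p : ℕ} [Fact p.Prime] [CharP K p]
    (hP : IsPGroup p P) : ∀ x ∈ dser (⊤ : Subgroup P) (Nat.log 2 (finrank K V) + 1), ∀ v : V,
      ρ x v = v := by
  have hgrow : ∀ i, fil ρ i = ⊤ ∨ i ≤ finrank K (fil ρ i) := by
    intro i
    induction i with
    | zero => exact Or.inr (Nat.zero_le _)
    | succ i ih =>
      by_cases h : fil ρ i = ⊤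
      · exact Or.inl (top_le_iff.1 (h ▸ fil_le_succ ρ i))
      obtain ⟨v, hv, hv'⟩ := exists_fixed_mod ρ hP (fil ρ i) h (fil_inv ρ i)
      have hlt : fil ρ i < fil ρ (i + 1) := lt_of_le_of_ne (fil_le_succ ρ i) fun e => hv (by
        rw [e]; exact (mem_fil_succ ρ).2 hv')
      have := Submodule.finrank_lt_finrank_of_lt hlt
      exact Or.inr (by have := ih.resolve_left h; omega)
  have htop : ∀ i, finrank K V ≤ i → fil ρ i = ⊤ := fun i hi => by
    rcases hgrow i with h | h
    · exact h
    · exact Submodule.eq_top_of_finrank_eq (le_antisymm (Submodule.finrank_le _) (hi.trans h))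
  have hdeep : ∀ k, dser (⊤ : Subgroup P) k ≤ deep ρ (2 ^ k) := by
    intro k
    induction k with
    | zero => intro g _ i v hv; exact (mem_fil_succ ρ).1 hv g
    | succ k ih =>
      rw [pow_succ, Nat.mul_two]
      exact (commutator_mono ih ih).trans (commutator_deep_le ρ _ _)
  intro x hx v
  have h1 := hdeep _ hx 0 v (by
    rw [zero_add, htop _ (Nat.lt_pow_succ_log_self one_lt_two _).le]; trivial)
  rwa [fil, Submodule.mem_bot, sub_eq_zero] at h1

end CfsgLib.StructB.PLinear
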