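import Cfsg.Agent.Lib.StructC.FrobCount
import Cfsg.Agent.Lib.Char.Burnside
import Cfsg.Agent.S4085
import Mathlib.Data.ZMod.Basic
import Mathlib.NumberTheory.Divisors

/-!
# Groups with few values of the numbers of elements of each order

`cnt G m` is the number of elements of order `m`. Frobenius' theorem gives congruences that
bound the number of primes when `cnt` takes only two values on `m ≥ 3`.
-/

set_option autoImplicit false

namespace CfsgLib.StructB.OrderCount

open Finset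

variable (G : Type*) [Group G] [Finite G]

/-- The number of elements of order `m`. -/
noncomputable def cnt (m : ℕ) : ℕ := Nat.card {g : G // orderOf g = m}

variable {G}

theorem dvd_card_of_cnt {m : ℕ} (h : cnt G m ≠ 0) : m ∣ Nat.card G := by
  obtain ⟨⟨g, rfl⟩⟩ := (Nat.card_ne_zero.1 h).1
  exact orderOf_dvd_natCard g

theorem cnt_ne_zero_of_prime {p : ℕ} (hp : p.Prime) (hd : p ∣ Nat.card G) : cnt G p ≠ 0 := by
  have : Fact p.Prime := ⟨hp⟩
  obtain ⟨g, hg⟩ := exists_prime_orderOf_dvd_card' p hd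
  exact Nat.card_ne_zero.2 ⟨⟨⟨g, hg⟩⟩, inferInstance⟩

theorem cnt_zero_of_dvd {m k : ℕ} (hd : m ∣ k) (h : cnt G m = 0) : cnt G k = 0 := by
  by_contra hk
  obtain ⟨⟨g, hg⟩⟩ := (Nat.card_ne_zero.1 hk).1
  have h1 : orderOf (g ^ (orderOf g / m)) = m := orderOf_pow_orderOf_div (orderOf_pos g).ne' (hg ▸ hd)
  exact Nat.card_ne_zero.2 ⟨⟨⟨_, h1⟩⟩, inferInstance⟩ h

theorem cnt_one : cnt G 1 = 1 := by
  rw [cnt, Nat.card_eq_one_iff_exists]
  exact ⟨⟨1, orderOf_one⟩, fun y => Subtype.ext (orderOf_eq_one_iff.1 y.2)⟩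

theorem totient_dvd_cnt (m : ℕ) : Nat.totient m ∣ cnt G m := by
  rw [cnt, show Nat.card {g : G // orderOf g = m} = {g : G | orderOf g = m}.ncard from
    Nat.card_coe_set_eq {g : G | orderOf g = m}]
  refine Cfsg.Agent.S4085.dvd_ncard_of_closed _ (fun u hu v hv => ?_) fun u hu => by rw [hu]
  show orderOf v = m
  rw [← Nat.card_zpowers, hv, Nat.card_zpowers]
  exact hu

theorem even_cnt {m : ℕ} (hm : 3 ≤ m) : Even (cnt G m) :=
  (Nat.totient_even (by omega)).trans_dvd (totient_dvd_cnt m)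

theorem dvd_cnt_of_sq_dvd {p m : ℕ} (hp : p.Prime) (h : p * p ∣ m) : p ∣ cnt G m := by
  refine dvd_trans ?_ ((Nat.totient_dvd_of_dvd h).trans (totient_dvd_cnt m))
  rw [← pow_two, Nat.totient_prime_pow_succ hp 1, pow_one]
  exact dvd_mul_right p _

theorem card_root_eq {n : ℕ} (hn : n ≠ 0) :
    Nat.card {x : G // x ^ n = 1} = ∑ d ∈ n.divisors, cnt G d := by
  classical
  have := Fintype.ofFinite G
  rw [Nat.card_eq_fintype_card, Fintype.card_subtype,
    Finset.card_eq_sum_card_fiberwise (f := orderOf) (t := n.divisors) fun x hx => ?_]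
  · refine Finset.sum_congr rfl fun d hd => ?_
    rw [cnt, Nat.card_eq_fintype_card, Fintype.card_subtype]
    refine congrArg Finset.card (Finset.ext fun x => ?_)
    simp only [Finset.mem_filter, Finset.mem_univ, true_and]
    exact ⟨fun h => h.2, fun h => ⟨orderOf_dvd_iff_pow_eq_one.1 (h ▸ Nat.dvd_of_mem_divisors hd), h⟩⟩
  · rw [Finset.mem_coe, Nat.mem_divisors]
    simp only [Finset.coe_filter, Finset.mem_univ, true_and, Set.mem_ofPred_eq] at hx
    exact ⟨orderOf_dvd_of_pow_eq_one hx, hn⟩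

theorem dvd_sum_cnt {n : ℕ} (hn : n ∣ Nat.card G) : n ∣ ∑ d ∈ n.divisors, cnt G d := by
  rw [← card_root_eq (ne_zero_of_dvd_ne_zero Nat.card_pos.ne' hn)]
  have h := CfsgLib.StructC.gcd_dvd_card_root_central G n 1 (one_mem _)
  rwa [Nat.gcd_eq_left hn] at h

theorem sum_divisors_prime_mul {M : Type*} [AddCommMonoid M] {p n : ℕ} (hp : p.Prime) (hn : n ≠ 0)
    (hpn : ¬ p ∣ n) (f : ℕ → M) :
    ∑ d ∈ (p * n).divisors, f d = ∑ d ∈ n.divisors, f d + ∑ d ∈ n.divisors, f (p * d) := by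
  classical
  have hu : (p * n).divisors = n.divisors ∪ n.divisors.image (p * ·) := by
    ext d
    simp only [Nat.mem_divisors, Finset.mem_union, Finset.mem_image]
    constructor
    · rintro ⟨hd, -⟩
      by_cases hpd : p ∣ d
      · obtain ⟨e, rfl⟩ := hpd
        exact Or.inr ⟨e, ⟨(Nat.mul_dvd_mul_iff_left hp.pos).1 hd, hn⟩, rfl⟩
      · exact Or.inl ⟨((hp.coprime_iff_not_dvd.2 hpd).symm).dvd_of_dvd_mul_left hd, hn⟩
    · rintro (⟨hd, -⟩ | ⟨e, ⟨he, -⟩, rfl⟩)
      · exact ⟨hd.mul_left p, mul_ne_zero hp.ne_zero hn⟩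
      · exact ⟨Nat.mul_dvd_mul_left p he, mul_ne_zero hp.ne_zero hn⟩
  rw [hu, Finset.sum_union, Finset.sum_image fun x _ y _ h => Nat.eq_of_mul_eq_mul_left hp.pos h]
  rw [Finset.disjoint_left]
  intro d hd hd'
  obtain ⟨e, -, rfl⟩ := Finset.mem_image.1 hd'
  exact hpn ((dvd_mul_right p e).trans (Nat.dvd_of_mem_divisors hd))

theorem divisors_four : (4 : ℕ).divisors = {1, 2, 4} := by decide

theorem cast_cnt_prime {p : ℕ} (hp : p.Prime) (hd : p ∣ Nat.card G) : (cnt G p : ZMod p) = -1 := by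
  have h := dvd_sum_cnt hd
  rw [hp.divisors, Finset.sum_pair (Ne.symm hp.ne_one), cnt_one, ← ZMod.natCast_eq_zero_iff _ p] at h
  push_cast at h
  linear_combination h

theorem ne_one_neg_one {p : ℕ} (hp : p.Prime) (h2 : p ≠ 2) : (1 : ZMod p) ≠ -1 := by
  intro h
  have h1 : ((2 : ℕ) : ZMod p) = 0 := by push_cast; linear_combination h
  rw [ZMod.natCast_eq_zero_iff] at h1
  exact h2 ((Nat.prime_dvd_prime_iff_eq hp Nat.prime_two).1 h1)

section Values

variable {a b : ℕ} (hv : ∀ m, 3 ≤ m → cnt G m = 0 ∨ cnt G m = a ∨ cnt G m = b)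

include hv

theorem swap : ∀ m, 3 ≤ m → cnt G m = 0 ∨ cnt G m = b ∨ cnt G m = a := fun m hm =>
  (hv m hm).imp_right Or.symm

theorem prime_value {p : ℕ} (hp : p.Prime) (h2 : p ≠ 2) (hd : p ∣ Nat.card G) :
    cnt G p = a ∨ cnt G p = b :=
  (hv p (by have := hp.two_le; omega)).resolve_left (cnt_ne_zero_of_prime hp hd)

/-- Two odd primes with the same count force elements of order `p * q`. -/
theorem pair {p q : ℕ} (hp : p.Prime) (hq : q.Prime) (hp2 : p ≠ 2) (hq2 : q ≠ 2) (hne : p ≠ q)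
    (hpd : p ∣ Nat.card G) (hqd : q ∣ Nat.card G) (hpb : cnt G p = b) (hqb : cnt G q = b) :
    cnt G (p * q) = a ∧ (a : ZMod p) = 1 := by
  have : Fact p.Prime := ⟨hp⟩
  have h := dvd_sum_cnt (((Nat.coprime_primes hp hq).2 hne).mul_dvd_of_dvd_of_dvd hpd hqd)
  rw [sum_divisors_prime_mul hp hq.ne_zero (fun h => hne ((Nat.prime_dvd_prime_iff_eq hp hq).1 h)),
    hq.divisors, Finset.sum_pair (Ne.symm hq.ne_one), Finset.sum_pair (Ne.symm hq.ne_one), mul_one,
    cnt_one, hpb, hqb] at h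
  have hz := (ZMod.natCast_eq_zero_iff _ p).2 ((dvd_mul_right p q).trans h)
  have hb := cast_cnt_prime (G := G) hp hpd
  rw [hpb] at hb
  push_cast at hz
  rcases hv (p * q) (by have := Nat.mul_le_mul hp.two_le hq.two_le; omega) with hx | hx | hx <;> rw [hx] at hz
  · refine absurd ?_ (one_ne_zero (α := ZMod p))
    push_cast at hz
    linear_combination -hz + 2 * hb
  · exact ⟨hx, by linear_combination hz - 2 * hb⟩
  · exact absurd (by linear_combination -hz + 3 * hb) (ne_one_neg_one hp hp2)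

/-- ... and no elements of order `p ^ 2`. -/
theorem dvd_one_add {p q : ℕ} (hp : p.Prime) (hq : q.Prime) (hp2 : p ≠ 2) (hq2 : q ≠ 2) (hne : p ≠ q)
    (hpd : p ∣ Nat.card G) (hqd : q ∣ Nat.card G) (hpb : cnt G p = b) (hqb : cnt G q = b) :
    p ^ (Nat.card G).factorization p ∣ 1 + b := by
  have : Fact p.Prime := ⟨hp⟩
  obtain ⟨-, ha⟩ := pair hv hp hq hp2 hq2 hne hpd hqd hpb hqb
  have hb := cast_cnt_prime (G := G) hp hpd
  rw [hpb] at hb
  have h0 : cnt G (p * p) = 0 := by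
    rcases hv (p * p) (by have := Nat.mul_le_mul hp.two_le hp.two_le; omega) with hx | hx | hx
    · exact hx
    all_goals
      have hz := (ZMod.natCast_eq_zero_iff (cnt G (p * p)) p).2 (dvd_cnt_of_sq_dvd hp dvd_rfl)
      rw [hx] at hz
    · exact absurd (ha.symm.trans hz) one_ne_zero
    · exact absurd (hb.symm.trans hz) (neg_ne_zero.2 one_ne_zero)
  set k := (Nat.card G).factorization p with hk
  have hk1 : 1 ≤ k := hp.factorization_pos_of_dvd Nat.card_pos.ne' hpd
  have h := dvd_sum_cnt (Nat.ordProj_dvd (Nat.card G) p)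
  rw [← hk, Nat.divisors_prime_pow hp, Finset.sum_map] at h
  have hsum : ∑ j ∈ Finset.range (k + 1), cnt G (p ^ j) = 1 + b := by
    rw [← Finset.sum_range_add_sum_Ico _ (show 2 ≤ k + 1 by omega), Finset.sum_range_succ,
      Finset.sum_range_one, pow_zero, pow_one, cnt_one, hpb]
    refine Nat.add_eq_left.2 (Finset.sum_eq_zero fun j hj => cnt_zero_of_dvd ?_ h0)
    rw [← pow_two]
    exact pow_dvd_pow p (Finset.mem_Ico.1 hj).1
  simp only [Function.Embedding.coeFn_mk] at h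
  rwa [hsum] at h

/-- A third odd prime has the same count. -/
theorem third {p q r : ℕ} (hp : p.Prime) (hq : q.Prime) (hr : r.Prime) (hp2 : p ≠ 2) (hq2 : q ≠ 2)
    (hr2 : r ≠ 2) (hne : p ≠ q) (hpr : p ≠ r) (hqr : q ≠ r)
    (hpd : p ∣ Nat.card G) (hqd : q ∣ Nat.card G) (hrd : r ∣ Nat.card G) (hpb : cnt G p = b)
    (hqb : cnt G q = b) : cnt G r = b := by
  rcases prime_value hv hr hr2 hrd with hra | hrb
  swap
  · exact hrb
  exfalso
  have : Fact r.Prime := ⟨hr⟩
  obtain ⟨hpq, hap⟩ := pair hv hp hq hp2 hq2 hne hpd hqd hpb hqb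
  obtain ⟨-, haq⟩ := pair hv hq hp hq2 hp2 (Ne.symm hne) hqd hpd hqb hpb
  have har := cast_cnt_prime (G := G) hr hrd
  rw [hra] at har
  have key : ∀ s : ℕ, s.Prime → s ≠ 2 → s ≠ r → s ∣ Nat.card G → cnt G s = b → (a : ZMod s) = 1 →
      cnt G (s * r) = b ∧ (b : ZMod r) = 0 := by
    intro s hs hs2 hsr hsd hsb has
    have : Fact s.Prime := ⟨hs⟩
    have h := dvd_sum_cnt (((Nat.coprime_primes hs hr).2 hsr).mul_dvd_of_dvd_of_dvd hsd hrd)
    rw [sum_divisors_prime_mul hs hr.ne_zero (fun h => hsr ((Nat.prime_dvd_prime_iff_eq hs hr).1 h)),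
      hr.divisors, Finset.sum_pair (Ne.symm hr.ne_one), Finset.sum_pair (Ne.symm hr.ne_one), mul_one,
      cnt_one, hsb, hra] at h
    have h1 := (ZMod.natCast_eq_zero_iff _ s).2 ((dvd_mul_right s r).trans h)
    have h2 := (ZMod.natCast_eq_zero_iff _ r).2 ((dvd_mul_left r s).trans h)
    have hbs := cast_cnt_prime (G := G) hs hsd
    rw [hsb] at hbs
    push_cast at h1 h2
    rcases hv (s * r) (by have := Nat.mul_le_mul hs.two_le hr.two_le; omega) with hx | hx | hx <;>
      rw [hx] at h1 h2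
    · refine absurd ?_ (one_ne_zero (α := ZMod s))
      push_cast at h1
      linear_combination h1 - hbs - has
    · exact absurd (by linear_combination -hbs + h1 - 2 * has - 2 * hbs + 2 * hbs) (ne_one_neg_one hs hs2)
    · refine ⟨hx, ?_⟩
      by_contra hb0
      have h3 : ((2 : ℕ) : ZMod r) * (b : ZMod r) = 0 := by push_cast; linear_combination h2 - har
      refine hb0 ((mul_eq_zero.1 h3).resolve_left fun h4 => hr2 ?_)
      rw [ZMod.natCast_eq_zero_iff] at h4
      exact (Nat.prime_dvd_prime_iff_eq hr Nat.prime_two).1 h4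
  obtain ⟨hprb, hbr⟩ := key p hp hp2 hpr hpd hpb hap
  obtain ⟨hqrb, -⟩ := key q hq hq2 hqr hqd hqb haq
  have hqr' : ¬ q ∣ r := fun h => hqr ((Nat.prime_dvd_prime_iff_eq hq hr).1 h)
  have hp' : ¬ p ∣ q * r := fun h => by
    rcases hp.dvd_mul.1 h with h | h
    · exact hne ((Nat.prime_dvd_prime_iff_eq hp hq).1 h)
    · exact hpr ((Nat.prime_dvd_prime_iff_eq hp hr).1 h)
  have hdd : p * (q * r) ∣ Nat.card G :=
    ((hp.coprime_iff_not_dvd).2 hp').mul_dvd_of_dvd_of_dvd hpd
      (((Nat.coprime_primes hq hr).2 hqr).mul_dvd_of_dvd_of_dvd hqd hrd)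
  have h := dvd_sum_cnt hdd
  rw [sum_divisors_prime_mul hp (mul_ne_zero hq.ne_zero hr.ne_zero) hp',
    sum_divisors_prime_mul hq hr.ne_zero hqr', sum_divisors_prime_mul hq hr.ne_zero hqr'] at h
  simp only [hr.divisors, Finset.sum_pair (Ne.symm hr.ne_one), mul_one] at h
  rw [cnt_one, hra, hpb, hqb, hpq, hprb, hqrb] at h
  have hz := (ZMod.natCast_eq_zero_iff _ r).2 (((dvd_mul_left r q).mul_left p).trans h)
  push_cast at hz
  have h3 : 3 ≤ p * (q * r) := le_trans (by have := hr.two_le; have := Nat.mul_le_mul hq.two_le hr.two_le; omega)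
    (Nat.le_mul_of_pos_left _ hp.pos)
  rcases hv (p * (q * r)) h3 with hx | hx | hx <;> rw [hx] at hz
  · refine absurd ?_ (one_ne_zero (α := ZMod r))
    push_cast at hz
    linear_combination -hz + 2 * har + 4 * hbr
  · exact absurd (by linear_combination -hz + 3 * har + 4 * hbr) (ne_one_neg_one hr hr2)
  · refine absurd ?_ (one_ne_zero (α := ZMod r))
    linear_combination -hz + 2 * har + 5 * hbr

/-- All odd primes share their count once two do; so the odd part divides `1 + b`. -/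
theorem oddPart_dvd {p q : ℕ} (hp : p.Prime) (hq : q.Prime) (hp2 : p ≠ 2) (hq2 : q ≠ 2) (hne : p ≠ q)
    (hpd : p ∣ Nat.card G) (hqd : q ∣ Nat.card G) (hpb : cnt G p = b) (hqb : cnt G q = b) {M : ℕ}
    (hM : M ∣ Nat.card G) (hModd : ¬ 2 ∣ M) : M ∣ 1 + b := by
  have hM0 : M ≠ 0 := fun h => hModd (h ▸ dvd_zero 2)
  rw [Nat.dvd_iff_prime_pow_dvd_dvd]
  intro r k hr hk
  rcases Nat.eq_zero_or_pos k with rfl | hk0
  · rw [pow_zero]; exact one_dvd _
  have hrM : r ∣ M := (dvd_pow_self r hk0.ne').trans hk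
  have hr2 : r ≠ 2 := fun h => hModd (h ▸ hrM)
  have hrd := hrM.trans hM
  have hkle : k ≤ (Nat.card G).factorization r := (hr.pow_dvd_iff_le_factorization Nat.card_pos.ne').1 (hk.trans hM)
  refine (pow_dvd_pow r hkle).trans ?_
  rcases eq_or_ne p r with rfl | hpr
  · exact dvd_one_add hv hp hq hp2 hq2 hne hpd hqd hpb hqb
  rcases eq_or_ne q r with rfl | hqr
  · exact dvd_one_add hv hq hp hq2 hp2 (Ne.symm hne) hqd hpd hqb hpb
  exact dvd_one_add hv hr hp hr2 hp2 (Ne.symm hpr) hrd hpd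
    (third hv hp hq hr hp2 hq2 hr2 hne hpr hqr hpd hqd hrd hpb hqb) hpb

/-- Two odd primes with one count are impossible in a group of odd order. -/
theorem odd_false {p q : ℕ} (hp : p.Prime) (hq : q.Prime) (hne : p ≠ q) (hodd : ¬ 2 ∣ Nat.card G)
    (hpd : p ∣ Nat.card G) (hqd : q ∣ Nat.card G) (hpb : cnt G p = b) (hqb : cnt G q = b) : False := by
  have h1 := Nat.le_of_dvd (by omega) (oddPart_dvd hv hp hq (fun h => hodd (h ▸ hpd)) (fun h => hodd (h ▸ hqd))
    hne hpd hqd hpb hqb dvd_rfl hodd)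
  have hb0 : b ≠ 0 := hpb ▸ cnt_ne_zero_of_prime hp hpd
  classical
  have h2 : ∑ d ∈ ({1, p, q} : Finset ℕ), cnt G d ≤ Nat.card G := by
    refine le_trans (Finset.sum_le_sum_of_subset ?_)
      (le_of_eq (((card_root_eq (G := G) Nat.card_pos.ne').symm).trans
        (Nat.card_congr (Equiv.subtypeUnivEquiv fun x => pow_card_eq_one'))))
    intro d hd
    simp only [Finset.mem_insert, Finset.mem_singleton] at hd
    rw [Nat.mem_divisors]
    rcases hd with rfl | rfl | rfl
    · exact ⟨one_dvd _, Nat.card_pos.ne'⟩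
    · exact ⟨hpd, Nat.card_pos.ne'⟩
    · exact ⟨hqd, Nat.card_pos.ne'⟩
  rw [Finset.sum_insert (by simp [Ne.symm hp.ne_one, Ne.symm hq.ne_one]), Finset.sum_pair hne,
    cnt_one, hpb, hqb] at h2
  omega

/-- For odd order there are at most two primes. -/
theorem card_primeFactors_le (hodd : ¬ 2 ∣ Nat.card G) : (Nat.card G).primeFactors.card ≤ 2 := by
  by_contra hk
  obtain ⟨p, q, r, hp, hq, hr, hpq, hpr, hqr⟩ := Finset.two_lt_card_iff.1 (not_le.1 hk)
  rw [Nat.mem_primeFactors] at hp hq hr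
  have h2 : ∀ {s : ℕ}, s ∣ Nat.card G → s ≠ 2 := fun {s} hs h => hodd (h ▸ hs)
  have hv' := swap hv
  rcases prime_value hv hp.1 (h2 hp.2.1) hp.2.1 with h | h <;>
    rcases prime_value hv hq.1 (h2 hq.2.1) hq.2.1 with h' | h' <;>
    rcases prime_value hv hr.1 (h2 hr.2.1) hr.2.1 with h'' | h''
  all_goals first
    | exact odd_false hv' hp.1 hq.1 hpq hodd hp.2.1 hq.2.1 h h'
    | exact odd_false hv hp.1 hq.1 hpq hodd hp.2.1 hq.2.1 h h'
    | exact odd_false hv' hp.1 hr.1 hpr hodd hp.2.1 hr.2.1 h h''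
    | exact odd_false hv hp.1 hr.1 hpr hodd hp.2.1 hr.2.1 h h''
    | exact odd_false hv' hq.1 hr.1 hqr hodd hq.2.1 hr.2.1 h' h''
    | exact odd_false hv hq.1 hr.1 hqr hodd hq.2.1 hr.2.1 h' h''

section UniqueInvolution

variable (h2 : cnt G 2 = 1)

include h2

omit hv in
theorem cnt_two_mul {m : ℕ} (hm : Odd m) : cnt G (2 * m) = cnt G m := by
  obtain ⟨⟨z, hz⟩, hzu⟩ := Nat.card_eq_one_iff_exists.1 h2
  have hu : ∀ y, orderOf y = 2 → y = z := fun y hy => congrArg Subtype.val (hzu ⟨y, hy⟩)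
  have hcz : ∀ x : G, Commute x z := fun x =>
    mul_inv_eq_iff_eq_mul.1 (hu (x * z * x⁻¹) ((orderOf_injective (MulAut.conj x).toMonoidHom
      (MulAut.conj x).injective z).trans hz))
  have hzz : z * z = 1 := by rw [← pow_two, ← hz, pow_orderOf_eq_one]
  have hfwd : ∀ x : G, orderOf x = m → orderOf (x * z) = 2 * m := fun x hx => by
    rw [(hcz x).orderOf_mul_eq_mul_orderOf_of_coprime (by
      rw [hx, hz]; exact (Nat.coprime_two_left.2 hm).symm), hx, hz, mul_comm]
  refine (Nat.card_congr (Equiv.ofBijective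
    (fun x : {g : G // orderOf g = m} => (⟨x.1 * z, hfwd x.1 x.2⟩ : {g : G // orderOf g = 2 * m}))
    ⟨fun x y h => Subtype.ext (mul_right_cancel (congrArg Subtype.val h)), fun y => ?_⟩)).symm
  have hy : orderOf (y.1 ^ m) = 2 := by
    have hdiv := orderOf_pow_orderOf_div (x := y.1) (n := 2) (orderOf_pos y.1).ne' (by rw [y.2]; exact dvd_mul_right 2 m)
    rwa [y.2, Nat.mul_div_cancel_left _ two_pos] at hdiv
  have h1 : (y.1 * z) ^ m = 1 := by
    obtain ⟨k, hk⟩ := hm
    rw [(hcz y.1).mul_pow, hu _ hy, hk, pow_succ, pow_mul, pow_two, hzz, one_pow, one_mul, hzz]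
  obtain ⟨e, he⟩ : ∃ e, orderOf (y.1 * z) = e := ⟨_, rfl⟩
  have hem : e ∣ m := he ▸ orderOf_dvd_of_pow_eq_one h1
  have hback : (y.1 * z) * z = y.1 := by rw [mul_assoc, hzz, mul_one]
  have hcop : e.Coprime 2 := (Nat.coprime_two_left.2 hm).symm.coprime_dvd_left hem
  have h3 : orderOf y.1 = 2 * e := by
    rw [← hback, (hcz _).orderOf_mul_eq_mul_orderOf_of_coprime (by rw [he, hz]; exact hcop), he, hz, mul_comm]
  have h4 : e = m := by
    have := y.2.symm.trans h3
    omega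
  exact ⟨⟨y.1 * z, he.trans h4⟩, Subtype.ext hback⟩

/-- No elements of order four when two odd primes share their count. -/
theorem four_shared {p q : ℕ} (hp : p.Prime) (hq : q.Prime) (hp2 : p ≠ 2) (hq2 : q ≠ 2) (hne : p ≠ q)
    (hpd : p ∣ Nat.card G) (hqd : q ∣ Nat.card G) (hpb : cnt G p = b) (hqb : cnt G q = b) :
    cnt G 4 = 0 := by
  by_contra h40
  obtain ⟨hpq, hap⟩ := pair hv hp hq hp2 hq2 hne hpd hqd hpb hqb
  obtain ⟨-, haq⟩ := pair hv hq hp hq2 hp2 (Ne.symm hne) hqd hpd hqb hpb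
  have hpo := hp.odd_of_ne_two hp2
  have hqo := hq.odd_of_ne_two hq2
  have h4d := dvd_card_of_cnt h40
  have hf := dvd_sum_cnt h4d
  rw [divisors_four] at hf
  simp only [Finset.sum_insert, Finset.sum_singleton, Finset.mem_insert, Finset.mem_singleton,
    show (1 : ℕ) ≠ 2 from by norm_num, show (1 : ℕ) ≠ 4 from by norm_num, show (2 : ℕ) ≠ 4 from by norm_num,
    or_self, not_false_eq_true, cnt_one, h2] at hf
  have ha4 : 4 ∣ a := by
    rw [← hpq]
    refine dvd_trans ?_ (totient_dvd_cnt _)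
    rw [Nat.totient_mul ((Nat.coprime_primes hp hq).2 hne), Nat.totient_prime hp, Nat.totient_prime hq]
    obtain ⟨i, hi⟩ := hpo; obtain ⟨j, hj⟩ := hqo
    exact ⟨i * j, by rw [hi, hj, Nat.add_sub_cancel, Nat.add_sub_cancel]; ring⟩
  have h4b : cnt G 4 = b := by
    rcases hv 4 (by norm_num) with h | h | h
    · exact absurd h h40
    · omega
    · exact h
  have h4p : ∀ s : ℕ, s.Prime → s ≠ 2 → s ∣ Nat.card G → cnt G s = b → (a : ZMod s) = 1 →
      cnt G (s * 4) = a := by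
    intro s hs hs2 hsd hsb has
    have : Fact s.Prime := ⟨hs⟩
    have hs4 : ¬ s ∣ 4 := fun h => hs2 ((Nat.prime_dvd_prime_iff_eq hs Nat.prime_two).1
      (hs.dvd_of_dvd_pow (show s ∣ 2 ^ 2 from h)))
    have h := dvd_sum_cnt (((hs.coprime_iff_not_dvd).2 hs4).mul_dvd_of_dvd_of_dvd hsd h4d)
    rw [sum_divisors_prime_mul hs (by norm_num) hs4, divisors_four] at h
    simp only [Finset.sum_insert, Finset.sum_singleton, Finset.mem_insert, Finset.mem_singleton,
      show (1 : ℕ) ≠ 2 from by norm_num, show (1 : ℕ) ≠ 4 from by norm_num, show (2 : ℕ) ≠ 4 from by norm_num,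
      or_self, not_false_eq_true, mul_one, cnt_one, h2, h4b, hsb] at h
    rw [mul_comm s 2, cnt_two_mul h2 (hs.odd_of_ne_two hs2), hsb] at h
    have hz := (ZMod.natCast_eq_zero_iff _ s).2 ((dvd_mul_right s 4).trans h)
    have hbs := cast_cnt_prime (G := G) hs hsd
    rw [hsb] at hbs
    push_cast at hz
    rcases hv (s * 4) (by have := hs.two_le; omega) with hx | hx | hx <;> rw [hx] at hz
    · refine absurd ?_ (one_ne_zero (α := ZMod s))
      push_cast at hz
      linear_combination -hz + 3 * hbs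
    · exact hx
    · exact absurd (by linear_combination -hz + 4 * hbs) (ne_one_neg_one hs hs2)
  have hp4 := h4p p hp hp2 hpd hpb hap
  have hq4 := h4p q hq hq2 hqd hqb haq
  have : Fact p.Prime := ⟨hp⟩
  have hq4' : ¬ q ∣ 4 := fun h => hq2 ((Nat.prime_dvd_prime_iff_eq hq Nat.prime_two).1
    (hq.dvd_of_dvd_pow (show q ∣ 2 ^ 2 from h)))
  have hp4' : ¬ p ∣ q * 4 := fun h => by
    rcases hp.dvd_mul.1 h with h | h
    · exact hne ((Nat.prime_dvd_prime_iff_eq hp hq).1 h)
    · exact hp2 ((Nat.prime_dvd_prime_iff_eq hp Nat.prime_two).1 (hp.dvd_of_dvd_pow (show p ∣ 2 ^ 2 from h)))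
  have hdd : p * (q * 4) ∣ Nat.card G := ((hp.coprime_iff_not_dvd).2 hp4').mul_dvd_of_dvd_of_dvd hpd
    (((hq.coprime_iff_not_dvd).2 hq4').mul_dvd_of_dvd_of_dvd hqd h4d)
  have h := dvd_sum_cnt hdd
  rw [sum_divisors_prime_mul hp (mul_ne_zero hq.ne_zero (by norm_num)) hp4',
    sum_divisors_prime_mul hq (by norm_num) hq4', sum_divisors_prime_mul hq (by norm_num) hq4',
    divisors_four] at h
  simp only [Finset.sum_insert, Finset.sum_singleton, Finset.mem_insert, Finset.mem_singleton,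
    show (1 : ℕ) ≠ 2 from by norm_num, show (1 : ℕ) ≠ 4 from by norm_num, show (2 : ℕ) ≠ 4 from by norm_num,
    or_self, not_false_eq_true, mul_one, cnt_one, h2, h4b, hpb, hqb, hp4, hq4, hpq] at h
  rw [mul_comm p 2, cnt_two_mul h2 hpo, hpb, mul_comm q 2, cnt_two_mul h2 hqo, hqb,
    show p * (2 * q) = 2 * (p * q) by ring, cnt_two_mul h2 (hpo.mul hqo), hpq] at h
  have hz := (ZMod.natCast_eq_zero_iff _ p).2 ((dvd_mul_right p _).trans h)
  have hbp := cast_cnt_prime (G := G) hp hpd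
  rw [hpb] at hbp
  push_cast at hz
  rcases hv (p * (q * 4)) (le_trans (by have := hq.two_le; omega) (Nat.le_mul_of_pos_left _ hp.pos)) with
    hx | hx | hx
  · rw [hx] at hz
    refine absurd ?_ (one_ne_zero (α := ZMod p))
    push_cast at hz
    linear_combination hz - 4 * hap - 5 * hbp
  · rw [hx] at hz
    exact absurd (by linear_combination hz - 5 * hap - 5 * hbp) (ne_one_neg_one hp hp2)
  · have h4 : 4 ∣ b := by
      rw [← hx]
      refine dvd_trans ?_ ((Nat.totient_dvd_of_dvd (dvd_mul_right (p * q) 4 |>.trans (by rw [mul_assoc]))).trans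
        (totient_dvd_cnt _))
      rw [Nat.totient_mul ((Nat.coprime_primes hp hq).2 hne), Nat.totient_prime hp, Nat.totient_prime hq]
      obtain ⟨i, hi⟩ := hpo; obtain ⟨j, hj⟩ := hqo
      exact ⟨i * j, by rw [hi, hj, Nat.add_sub_cancel, Nat.add_sub_cancel]; ring⟩
    omega

/-- No elements of order four when two odd primes have the two counts. -/
theorem four_split_aux {p q : ℕ} (hp : p.Prime) (hq : q.Prime) (hp2 : p ≠ 2) (hq2 : q ≠ 2) (hne : p ≠ q)
    (hpd : p ∣ Nat.card G) (hqd : q ∣ Nat.card G) (hpa : cnt G p = a) (hqb : cnt G q = b) :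
    cnt G 4 ≠ a := by
  intro h4a
  have : Fact p.Prime := ⟨hp⟩
  have : Fact q.Prime := ⟨hq⟩
  have hpo := hp.odd_of_ne_two hp2
  have hqo := hq.odd_of_ne_two hq2
  have h4d : 4 ∣ Nat.card G := dvd_card_of_cnt (h4a ▸ hpa ▸ cnt_ne_zero_of_prime hp hpd)
  have hap := cast_cnt_prime (G := G) hp hpd
  rw [hpa] at hap
  have hbq := cast_cnt_prime (G := G) hq hqd
  rw [hqb] at hbq
  have hs4 : ∀ s : ℕ, s.Prime → s ≠ 2 → ¬ s ∣ 4 := fun s hs hs2 h =>
    hs2 ((Nat.prime_dvd_prime_iff_eq hs Nat.prime_two).1 (hs.dvd_of_dvd_pow (show s ∣ 2 ^ 2 from h)))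
  -- order `4 p`
  have hA := dvd_sum_cnt (((hp.coprime_iff_not_dvd).2 (hs4 p hp hp2)).mul_dvd_of_dvd_of_dvd hpd h4d)
  rw [sum_divisors_prime_mul hp (by norm_num) (hs4 p hp hp2), divisors_four] at hA
  simp only [Finset.sum_insert, Finset.sum_singleton, Finset.mem_insert, Finset.mem_singleton,
    show (1 : ℕ) ≠ 2 from by norm_num, show (1 : ℕ) ≠ 4 from by norm_num, show (2 : ℕ) ≠ 4 from by norm_num,
    or_self, not_false_eq_true, mul_one, cnt_one, h2, h4a, hpa] at hA
  rw [mul_comm p 2, cnt_two_mul h2 hpo, hpa] at hA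
  have hAz := (ZMod.natCast_eq_zero_iff _ p).2 ((dvd_mul_right p 4).trans hA)
  push_cast at hAz
  obtain ⟨hp4, hbp⟩ : cnt G (p * 4) = b ∧ (b : ZMod p) = 1 := by
    rcases hv (p * 4) (by have := hp.two_le; omega) with hx | hx | hx <;> rw [hx] at hAz
    · refine absurd ?_ (one_ne_zero (α := ZMod p))
      push_cast at hAz
      linear_combination -hAz + 3 * hap
    · exact absurd (by linear_combination -hAz + 4 * hap) (ne_one_neg_one hp hp2)
    · exact ⟨hx, by linear_combination hAz - 3 * hap⟩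
  -- order `p q`
  have hB := dvd_sum_cnt (((Nat.coprime_primes hp hq).2 hne).mul_dvd_of_dvd_of_dvd hpd hqd)
  rw [sum_divisors_prime_mul hp hq.ne_zero (fun h => hne ((Nat.prime_dvd_prime_iff_eq hp hq).1 h)),
    hq.divisors, Finset.sum_pair (Ne.symm hq.ne_one), Finset.sum_pair (Ne.symm hq.ne_one), mul_one,
    cnt_one, hpa, hqb] at hB
  have hBp := (ZMod.natCast_eq_zero_iff _ p).2 ((dvd_mul_right p q).trans hB)
  have hBq := (ZMod.natCast_eq_zero_iff _ q).2 ((dvd_mul_left q p).trans hB)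
  push_cast at hBp hBq
  have hpq : cnt G (p * q) = a := by
    rcases hv (p * q) (by have := Nat.mul_le_mul hp.two_le hq.two_le; omega) with hx | hx | hx
    · rw [hx] at hBp
      refine absurd ?_ (one_ne_zero (α := ZMod p))
      push_cast at hBp
      linear_combination hBp - hap - hbp
    · exact hx
    · rw [hx] at hBp
      exact absurd (by linear_combination hBp - hap - 2 * hbp - 2 * 0) (ne_one_neg_one hp hp2) 
  rw [hpq] at hBq
  have haq : (a : ZMod q) = 0 := by
    have h3 : ((2 : ℕ) : ZMod q) * (a : ZMod q) = 0 := by push_cast; linear_combination hBq - hbq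
    refine (mul_eq_zero.1 h3).resolve_left fun h4 => hq2 ?_
    rw [ZMod.natCast_eq_zero_iff] at h4
    exact (Nat.prime_dvd_prime_iff_eq hq Nat.prime_two).1 h4
  -- order `4 q`
  have hC := dvd_sum_cnt (((hq.coprime_iff_not_dvd).2 (hs4 q hq hq2)).mul_dvd_of_dvd_of_dvd hqd h4d)
  rw [sum_divisors_prime_mul hq (by norm_num) (hs4 q hq hq2), divisors_four] at hC
  simp only [Finset.sum_insert, Finset.sum_singleton, Finset.mem_insert, Finset.mem_singleton,
    show (1 : ℕ) ≠ 2 from by norm_num, show (1 : ℕ) ≠ 4 from by norm_num, show (2 : ℕ) ≠ 4 from by norm_num,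
    or_self, not_false_eq_true, mul_one, cnt_one, h2, h4a, hqb] at hC
  rw [mul_comm q 2, cnt_two_mul h2 hqo, hqb] at hC
  have hCz := (ZMod.natCast_eq_zero_iff _ q).2 ((dvd_mul_right q 4).trans hC)
  push_cast at hCz
  have hq4 : (cnt G (q * 4) : ZMod q) = 0 := by linear_combination hCz - haq - 2 * hbq
  -- order `4 p q`
  have hp4' : ¬ p ∣ q * 4 := fun h => by
    rcases hp.dvd_mul.1 h with h | h
    · exact hne ((Nat.prime_dvd_prime_iff_eq hp hq).1 h)
    · exact hs4 p hp hp2 h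
  have hdd : p * (q * 4) ∣ Nat.card G := ((hp.coprime_iff_not_dvd).2 hp4').mul_dvd_of_dvd_of_dvd hpd
    (((hq.coprime_iff_not_dvd).2 (hs4 q hq hq2)).mul_dvd_of_dvd_of_dvd hqd h4d)
  have h := dvd_sum_cnt hdd
  rw [sum_divisors_prime_mul hp (mul_ne_zero hq.ne_zero (by norm_num)) hp4',
    sum_divisors_prime_mul hq (by norm_num) (hs4 q hq hq2),
    sum_divisors_prime_mul hq (by norm_num) (hs4 q hq hq2), divisors_four] at h
  simp only [Finset.sum_insert, Finset.sum_singleton, Finset.mem_insert, Finset.mem_singleton,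
    show (1 : ℕ) ≠ 2 from by norm_num, show (1 : ℕ) ≠ 4 from by norm_num, show (2 : ℕ) ≠ 4 from by norm_num,
    or_self, not_false_eq_true, mul_one, cnt_one, h2, h4a, hpa, hqb, hp4, hpq] at h
  rw [mul_comm p 2, cnt_two_mul h2 hpo, hpa, mul_comm q 2, cnt_two_mul h2 hqo, hqb,
    show p * (2 * q) = 2 * (p * q) by ring, cnt_two_mul h2 (hpo.mul hqo), hpq] at h
  have hz := (ZMod.natCast_eq_zero_iff _ q).2 (((dvd_mul_right q 4).mul_left p).trans h)
  push_cast at hz
  rw [hq4] at hz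
  rcases hv (p * (q * 4)) (le_trans (by have := hq.two_le; omega) (Nat.le_mul_of_pos_left _ hp.pos)) with
    hx | hx | hx <;> rw [hx] at hz
  · refine absurd ?_ (one_ne_zero (α := ZMod q))
    push_cast at hz
    linear_combination -hz + 5 * haq + 3 * hbq
  · refine absurd ?_ (one_ne_zero (α := ZMod q))
    linear_combination -hz + 6 * haq + 3 * hbq
  · exact absurd (by linear_combination -hz + 5 * haq + 4 * hbq) (ne_one_neg_one hq hq2)

omit hv in
/-- With a unique involution and no element of order four the Sylow 2-subgroups have order two. -/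
theorem not_four_dvd (h4 : cnt G 4 = 0) : ¬ 4 ∣ Nat.card G := by
  intro hd
  obtain ⟨H, hH⟩ := Sylow.exists_subgroup_card_pow_prime (G := G) 2 (n := 2) (by simpa using hd)
  have hle : ∀ x : H, orderOf (x : G) ∣ 2 := by
    intro x
    have h := (orderOf_dvd_natCard x)
    rw [hH, ← Subgroup.orderOf_coe] at h
    obtain ⟨i, hi, he⟩ := (Nat.dvd_prime_pow Nat.prime_two).1 h
    rw [he]
    interval_cases i
    · simp
    · simp
    · exact absurd h4 (Nat.card_ne_zero.2 ⟨⟨⟨(x : G), he⟩⟩, inferInstance⟩)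
  classical
  have := Fintype.ofFinite H
  obtain ⟨⟨z, hz⟩, hzu⟩ := Nat.card_eq_one_iff_exists.1 h2
  have hle2 : Nat.card H ≤ 2 := by
    rw [← Nat.card_fin 2]
    refine Nat.card_le_card_of_injective (fun x : H => if x = 1 then (0 : Fin 2) else 1) fun x y hxy => ?_
    have key : ∀ w : H, w ≠ 1 → (w : G) = z := fun w hw => congrArg Subtype.val (hzu ⟨w, by
      rcases (Nat.dvd_prime Nat.prime_two).1 (hle w) with h | h
      · exact absurd (Subtype.ext (orderOf_eq_one_iff.1 h)) hw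
      · exact h⟩)
    simp only at hxy
    split_ifs at hxy with h₁ h₂ h₂
    · rw [h₁, h₂]
    · exact absurd hxy (by decide)
    · exact absurd hxy (by decide)
    · exact Subtype.ext ((key x h₁).trans (key y h₂).symm)
  rw [hH] at hle2
  norm_num at hle2

/-- Two odd primes with one count are impossible with a unique involution. -/
theorem shared_false {p q : ℕ} (hp : p.Prime) (hq : q.Prime) (hp2 : p ≠ 2) (hq2 : q ≠ 2) (hne : p ≠ q)
    (hpd : p ∣ Nat.card G) (hqd : q ∣ Nat.card G) (hpb : cnt G p = b) (hqb : cnt G q = b) : False := by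
  have h4 := not_four_dvd h2 (four_shared hv h2 hp hq hp2 hq2 hne hpd hqd hpb hqb)
  obtain ⟨M, hM⟩ : 2 ∣ Nat.card G := dvd_card_of_cnt (by rw [h2]; exact one_ne_zero)
  have hModd : ¬ 2 ∣ M := fun h => h4 (hM ▸ Nat.mul_dvd_mul_left 2 h)
  have h1 := Nat.le_of_dvd (by omega) (oddPart_dvd hv hp hq hp2 hq2 hne hpd hqd hpb hqb
    (hM ▸ dvd_mul_left M 2) hModd)
  have hb0 : b ≠ 0 := hpb ▸ cnt_ne_zero_of_prime hp hpd
  classical
  have hpo := hp.odd_of_ne_two hp2
  have hqo := hq.odd_of_ne_two hq2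
  have hsum : ∑ d ∈ ({1, 2, p, q, 2 * p, 2 * q} : Finset ℕ), cnt G d ≤ Nat.card G := by
    refine le_trans (Finset.sum_le_sum_of_subset ?_)
      (le_of_eq (((card_root_eq (G := G) Nat.card_pos.ne').symm).trans
        (Nat.card_congr (Equiv.subtypeUnivEquiv fun x => pow_card_eq_one'))))
    intro d hd
    simp only [Finset.mem_insert, Finset.mem_singleton] at hd
    rw [Nat.mem_divisors]
    refine ⟨?_, Nat.card_pos.ne'⟩
    have h2d : 2 ∣ Nat.card G := hM ▸ dvd_mul_right 2 M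
    rcases hd with rfl | rfl | rfl | rfl | rfl | rfl
    · exact one_dvd _
    · exact h2d
    · exact hpd
    · exact hqd
    · exact (Nat.coprime_two_left.2 hpo).mul_dvd_of_dvd_of_dvd h2d hpd
    · exact (Nat.coprime_two_left.2 hqo).mul_dvd_of_dvd_of_dvd h2d hqd
  have := hp.two_le; have := hq.two_le
  obtain ⟨i, hi⟩ := hpo; obtain ⟨j, hj⟩ := hqo
  have e : ∑ d ∈ ({1, 2, p, q, 2 * p, 2 * q} : Finset ℕ), cnt G d = 1 + 1 + b + b + b + b := by
    rw [Finset.sum_insert (by simp; omega), Finset.sum_insert (by simp; omega),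
      Finset.sum_insert (by simp; omega), Finset.sum_insert (by simp; omega), Finset.sum_pair (by omega),
      cnt_one, h2, cnt_two_mul h2 ⟨i, hi⟩, cnt_two_mul h2 ⟨j, hj⟩, hpb, hqb]
    ring
  rw [e] at hsum
  omega

end UniqueInvolution

end Values

end CfsgLib.StructB.OrderCount

namespace CfsgLib.StructB.OrderCount

theorem exists_two_prime_pows {n p q : ℕ} (hn : n ≠ 0) (hp : p.Prime)
    (h : ∀ d : ℕ, d.Prime → d ∣ n → d = p ∨ d = q) : ∃ i j, n = p ^ i * q ^ j := by
  refine ⟨n.factorization p, ?_⟩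
  have hm0 : n / p ^ n.factorization p ≠ 0 := (Nat.ordCompl_pos p hn).ne'
  refine ⟨(n / p ^ n.factorization p).primeFactorsList.length, ?_⟩
  conv_lhs => rw [← Nat.ordProj_mul_ordCompl_eq_self n p]
  congr 1
  refine Nat.eq_prime_pow_of_unique_prime_dvd hm0 fun {d} hd hdm => ?_
  exact (h d hd (hdm.trans (Nat.ordCompl_dvd n p))).resolve_left fun e =>
    Nat.not_dvd_ordCompl hp hn (e ▸ hdm)

theorem isSolvable_of_two_primes {G : Type*} [Group G] [Finite G] {p q : ℕ} (hp : p.Prime) (hq : q.Prime)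
    (h : ∀ d : ℕ, d.Prime → d ∣ Nat.card G → d = p ∨ d = q) : Group.IsSolvable G := by
  obtain ⟨i, j, e⟩ := exists_two_prime_pows Nat.card_pos.ne' hp h
  exact CfsgLib.Char.burnside_pq p q hp hq i j G e

end CfsgLib.StructB.OrderCount
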