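import Mathlib

/-!
# Frobenius: the number of subgroups of order `p ^ β` is `1` modulo `p`
-/

set_option autoImplicit false

namespace CfsgLib.StructB

open MulAction
open scoped Pointwise

variable {G : Type*} [Group G] [Finite G]

theorem choose_modEq_card_subgroups (p β m : ℕ) (hp : p.Prime) (hn : Nat.card G = p ^ β * m) :
    (Nat.card G).choose (p ^ β) ≡ m * Nat.card {H : Subgroup G // Nat.card H = p ^ β} [MOD p * m] := by
  classical
  have := Fintype.ofFinite G
  let Ω : SubMulAction G (Finset G) :=
    { carrier := {S | S.card = p ^ β}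
      smul_mem' := fun g S (hS : S.card = p ^ β) => show (g • S).card = p ^ β by rw [Finset.card_smul_finset]; exact hS }
  have hΩ : Nat.card Ω = (Nat.card G).choose (p ^ β) := by
    rw [Nat.card_eq_fintype_card (α := G), ← Fintype.card_finset_len, ← Nat.card_eq_fintype_card]
    exact Nat.card_congr (Equiv.subtypeEquivRight fun S => Iff.rfl)
  -- the stabiliser acts freely on the set
  have hdvd : ∀ S : Ω, Nat.card (stabilizer G S) ∣ p ^ β := by
    intro S
    set K := stabilizer G S with hK
    let T : SubMulAction K G :=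
      { carrier := (S.1 : Set G)
        smul_mem' := fun k x (hx : x ∈ (S.1 : Set G)) => by
          have h := congrArg Subtype.val (k.2 : (k : G) • S = S)
          show (k : G) * x ∈ (S.1 : Set G)
          rw [← h]
          exact Finset.smul_mem_smul_finset (a := (k : G)) hx }
    have hcard : Nat.card T = p ^ β := by
      rw [show Nat.card T = Nat.card {x : G // x ∈ S.1} from rfl, Nat.card_eq_fintype_card, Fintype.card_coe]
      exact S.2
    rw [← hcard, Nat.card_congr (MulAction.selfEquivSigmaOrbitsQuotientStabilizer K T)]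
    have : Finite (Quotient (MulAction.orbitRel K T)) := Quotient.finite _
    have := Fintype.ofFinite (Quotient (MulAction.orbitRel K T))
    rw [Nat.card_sigma]
    refine Finset.dvd_sum fun ω _ => ?_
    have hbot : stabilizer K ω.out = ⊥ := by
      rw [eq_bot_iff]
      intro k hk
      have h : (k : G) * (ω.out : G) = (ω.out : G) := congrArg Subtype.val (hk : k • ω.out = ω.out)
      exact Subgroup.mem_bot.2 (Subtype.ext (mul_eq_right.1 h))
    rw [hbot, Nat.card_congr (QuotientGroup.quotientBot (G := K)).toEquiv]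
  -- split according to the order of the stabiliser
  let B : SubMulAction G Ω :=
    { carrier := {S | Nat.card (stabilizer G S) ≠ p ^ β}
      smul_mem' := fun g S (hS : Nat.card (stabilizer G S) ≠ p ^ β) => show Nat.card (stabilizer G (g • S)) ≠ p ^ β by
        rw [Nat.card_congr (stabilizerEquivStabilizerOfOrbitRel (show orbitRel G Ω (g • S) S from ⟨g, rfl⟩)).toEquiv]
        exact hS }
  have hB : p * m ∣ Nat.card B := by
    rw [Nat.card_congr (MulAction.selfEquivSigmaOrbitsQuotientStabilizer G B)]
    have := Fintype.ofFinite (Quotient (MulAction.orbitRel G B))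
    rw [Nat.card_sigma]
    refine Finset.dvd_sum fun ω _ => ?_
    set K := stabilizer G (ω.out : Ω) with hK
    have hK' : stabilizer G ω.out = K := SubMulAction.stabilizer_of_subMul ω.out
    rw [hK']
    obtain ⟨j, hj, hjc⟩ := (Nat.dvd_prime_pow hp).1 (hdvd (ω.out : Ω))
    have hne : j ≠ β := fun e => ω.out.2 (e ▸ hjc)
    have h1 := Subgroup.card_eq_card_quotient_mul_card_subgroup K
    rw [hn, hjc] at h1
    refine ⟨p ^ (β - j - 1), ?_⟩
    refine Nat.eq_of_mul_eq_mul_right (pow_pos hp.pos j) ?_
    rw [← h1]
    calc p ^ β * m = p ^ (1 + (β - j - 1) + j) * m := by rw [show 1 + (β - j - 1) + j = β by omega]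
      _ = p * m * p ^ (β - j - 1) * p ^ j := by rw [pow_add, pow_add, pow_one]; ring
  -- sets with stabiliser of order `p ^ β` are right cosets
  have hA : Nat.card {S : Ω // Nat.card (stabilizer G S) = p ^ β} =
      m * Nat.card {H : Subgroup G // Nat.card H = p ^ β} := by
    let F : (Σ H : {H : Subgroup G // Nat.card H = p ^ β}, Quotient (QuotientGroup.rightRel (H.1))) → Finset G :=
      fun v => Quotient.liftOn v.2 (fun g => Finset.univ.filter (fun x => x * g⁻¹ ∈ v.1.1)) (fun a b hab => by
        have h : b * a⁻¹ ∈ v.1.1 := QuotientGroup.rightRel_apply.1 hab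
        ext x
        simp only [Finset.mem_filter, Finset.mem_univ, true_and]
        constructor
        · intro hx
          have := v.1.1.mul_mem hx (v.1.1.inv_mem h)
          simpa [mul_assoc] using this
        · intro hx
          have := v.1.1.mul_mem hx h
          simpa [mul_assoc] using this)
    have hFmem : ∀ (H : {H : Subgroup G // Nat.card H = p ^ β}) (g x : G),
        x ∈ F ⟨H, Quotient.mk _ g⟩ ↔ x * g⁻¹ ∈ H.1 := fun H g x => by
      show x ∈ Finset.univ.filter (fun x => x * g⁻¹ ∈ H.1) ↔ _
      simp only [Finset.mem_filter, Finset.mem_univ, true_and]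
    have hFcard : ∀ (H : {H : Subgroup G // Nat.card H = p ^ β}) (g : G), (F ⟨H, Quotient.mk _ g⟩).card = p ^ β := by
      intro H g
      refine Eq.trans ?_ H.2
      rw [← Fintype.card_coe, ← Nat.card_eq_fintype_card]
      exact Nat.card_congr
        { toFun := fun x => ⟨x.1 * g⁻¹, (hFmem H g x.1).1 x.2⟩
          invFun := fun h => ⟨h.1 * g, (hFmem H g _).2 (by simp)⟩
          left_inv := fun x => Subtype.ext (by simp)
          right_inv := fun h => Subtype.ext (by simp) }
    have hFst : ∀ (H : {H : Subgroup G // Nat.card H = p ^ β}) (g : G) (hΩ : F ⟨H, Quotient.mk _ g⟩ ∈ Ω),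
        stabilizer G (⟨_, hΩ⟩ : Ω) = H.1 := by
      intro H g hΩ
      ext k
      constructor
      · intro hk
        have h : k • F ⟨H, Quotient.mk _ g⟩ = F ⟨H, Quotient.mk _ g⟩ := congrArg Subtype.val hk
        have hgm : g ∈ F ⟨H, Quotient.mk _ g⟩ := (hFmem H g g).2 (by simp)
        have := Finset.smul_mem_smul_finset (a := k) hgm
        rw [h, hFmem, smul_eq_mul, mul_inv_cancel_right] at this
        exact this
      · intro hk
        refine Subtype.ext ?_
        show k • F ⟨H, Quotient.mk _ g⟩ = F ⟨H, Quotient.mk _ g⟩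
        ext x
        rw [Finset.mem_smul_finset]
        constructor
        · rintro ⟨y, hy, rfl⟩
          rw [hFmem] at hy ⊢
          rw [smul_eq_mul, mul_assoc]
          exact mul_mem hk hy
        · intro hx
          rw [hFmem] at hx
          exact ⟨k⁻¹ * x, (hFmem H g _).2 (by rw [mul_assoc]; exact mul_mem (inv_mem hk) hx), by simp⟩
    let E : (Σ H : {H : Subgroup G // Nat.card H = p ^ β}, Quotient (QuotientGroup.rightRel (H.1))) →
        {S : Ω // Nat.card (stabilizer G S) = p ^ β} := fun v =>
      ⟨⟨F v, by obtain ⟨H, q⟩ := v; induction q using Quotient.inductionOn with | _ g => exact hFcard H g⟩, by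
        obtain ⟨H, q⟩ := v
        induction q using Quotient.inductionOn with | _ g => rw [hFst H g]; exact H.2⟩
    have hE : Function.Bijective E := by
      constructor
      · rintro ⟨H, q⟩ ⟨H', q'⟩ he
        induction q using Quotient.inductionOn with | _ g => ?_
        induction q' using Quotient.inductionOn with | _ g' => ?_
        have hs : F ⟨H, Quotient.mk _ g⟩ = F ⟨H', Quotient.mk _ g'⟩ := congrArg (fun z => z.1.1) he
        have hHH : H = H' := Subtype.ext (by
          rw [← hFst H g (hFcard H g), ← hFst H' g' (hFcard H' g')]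
          congr 1; exact Subtype.ext hs)
        subst hHH
        have hm : g' ∈ F ⟨H, Quotient.mk _ g⟩ := by rw [hs, hFmem]; simp
        rw [hFmem] at hm
        exact congrArg (Sigma.mk H) (Quotient.sound (QuotientGroup.rightRel_apply.2 hm))
      · rintro ⟨⟨S, hS⟩, hst⟩
        obtain ⟨g, hg⟩ : S.Nonempty := Finset.card_pos.1 ((hS : S.card = p ^ β) ▸ pow_pos hp.pos β)
        refine ⟨⟨⟨_, hst⟩, Quotient.mk _ g⟩, Subtype.ext (Subtype.ext ?_)⟩
        refine Finset.eq_of_subset_of_card_le (fun x hx => ?_) (by
          exact ((hS : S.card = p ^ β).trans (hFcard ⟨_, hst⟩ g).symm).le)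
        have hk := (hFmem ⟨_, hst⟩ g x).1 hx
        have h : (x * g⁻¹) • S = S := congrArg Subtype.val hk
        have := Finset.smul_mem_smul_finset (a := x * g⁻¹) hg
        rwa [h, smul_eq_mul, inv_mul_cancel_right] at this
    rw [← Nat.card_congr (Equiv.ofBijective E hE)]
    have : Finite (Subgroup G) := Finite.of_injective (SetLike.coe : Subgroup G → Set G) SetLike.coe_injective
    have := Fintype.ofFinite {H : Subgroup G // Nat.card H = p ^ β}
    rw [Nat.card_sigma]
    have hidx : ∀ H : {H : Subgroup G // Nat.card H = p ^ β}, Nat.card (Quotient (QuotientGroup.rightRel H.1)) = m := by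
      intro H
      rw [Nat.card_congr (QuotientGroup.quotientRightRelEquivQuotientLeftRel H.1)]
      have h1 := Subgroup.card_eq_card_quotient_mul_card_subgroup H.1
      rw [hn, H.2, mul_comm] at h1
      exact (Nat.eq_of_mul_eq_mul_right (pow_pos hp.pos β) h1).symm
    simp only [hidx, Finset.sum_const, Finset.card_univ, smul_eq_mul, ← Nat.card_eq_fintype_card]
    rw [mul_comm]
  have hsplit : Nat.card Ω = Nat.card {S : Ω // Nat.card (stabilizer G S) = p ^ β} + Nat.card B := by
    rw [← Nat.card_sum]
    exact Nat.card_congr (Equiv.sumCompl (fun S : Ω => Nat.card (stabilizer G S) = p ^ β)).symm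
  rw [← hΩ, hsplit, hA]
  obtain ⟨c, hc⟩ := hB
  rw [hc, Nat.ModEq, Nat.add_mul_mod_self_left]

/-- Frobenius: if `p ^ β ∣ |G|`, the number of subgroups of order `p ^ β` is `1` modulo `p`. -/
theorem card_subgroups_primePow_modEq_one (p β : ℕ) (hp : p.Prime) (hdiv : p ^ β ∣ Nat.card G) :
    Nat.card {H : Subgroup G // Nat.card H = p ^ β} ≡ 1 [MOD p] := by
  obtain ⟨m, hm⟩ := hdiv
  have hm0 : m ≠ 0 := fun e => Nat.card_pos.ne' (by rw [hm, e, mul_zero])
  haveI : NeZero (Nat.card G) := ⟨Nat.card_pos.ne'⟩
  have h1 := choose_modEq_card_subgroups p β m hp hm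
  have hC : Nat.card (Multiplicative (ZMod (Nat.card G))) = Nat.card G := Nat.card_zmod _
  have h2 := choose_modEq_card_subgroups (G := Multiplicative (ZMod (Nat.card G))) p β m hp (hC.trans hm)
  rw [hC] at h2
  have huniq : Nat.card {H : Subgroup (Multiplicative (ZMod (Nat.card G))) // Nat.card H = p ^ β} = 1 := by
    set C := Multiplicative (ZMod (Nat.card G))
    haveI : IsCyclic C := inferInstance
    have key : ∀ H : Subgroup C, Nat.card H = p ^ β → H = (powMonoidHom (p ^ β) : C →* C).ker := by
      intro H hH
      refine Subgroup.eq_of_le_of_card_ge (fun x hx => ?_) ?_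
      · rw [MonoidHom.mem_ker, powMonoidHom_apply, ← orderOf_dvd_iff_pow_eq_one, ← hH]
        exact Subgroup.orderOf_dvd_natCard H hx
      · rw [IsCyclic.card_powMonoidHom_ker, hH]
        exact Nat.le_of_dvd (pow_pos hp.pos β) (Nat.gcd_dvd_right _ _)
    refine Nat.card_eq_one_iff_unique.2 ⟨⟨fun a b => Subtype.ext ((key _ a.2).trans (key _ b.2).symm)⟩,
      ⟨⟨(powMonoidHom (p ^ β) : C →* C).ker, ?_⟩⟩⟩
    rw [IsCyclic.card_powMonoidHom_ker, hC, hm]
    exact Nat.gcd_eq_right (dvd_mul_right _ _)
  rw [huniq] at h2
  have h3 := h1.symm.trans h2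
  rw [mul_comm p m] at h3
  exact Nat.ModEq.mul_left_cancel' hm0 h3

/-- In a `p`-group, the number of normal subgroups of order `p ^ s` is `1` modulo `p`. -/
theorem card_normal_subgroups_modEq_one (p m s : ℕ) (hp : p.Prime) (hG : Nat.card G = p ^ m) (hs : s ≤ m) :
    Nat.card {H : Subgroup G // H.Normal ∧ Nat.card H = p ^ s} ≡ 1 [MOD p] := by
  classical
  haveI : Fact p.Prime := ⟨hp⟩
  haveI : Finite (Subgroup G) := Finite.of_injective (SetLike.coe : Subgroup G → Set G) SetLike.coe_injective
  let X := {H : Subgroup G // Nat.card H = p ^ s}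
  let act : MulAction G X :=
    { smul := fun g H => ⟨H.1.map (MulAut.conj g).toMonoidHom, by
        rw [Subgroup.card_map_of_injective (MulAut.conj g).injective]; exact H.2⟩
      one_smul := fun H => Subtype.ext (by
        show H.1.map _ = H.1
        rw [map_one]; exact Subgroup.map_id _)
      mul_smul := fun a b H => Subtype.ext (by
        show H.1.map _ = (H.1.map _).map _
        rw [map_mul, Subgroup.map_map]; rfl) }
  have h := (IsPGroup.of_card hG).card_modEq_card_fixedPoints X
  have hfix : Nat.card (MulAction.fixedPoints G X) = Nat.card {H : Subgroup G // H.Normal ∧ Nat.card H = p ^ s} := by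
    refine Nat.card_congr
      { toFun := fun H => ⟨H.1.1, ⟨fun x hx g => ?_⟩, H.1.2⟩
        invFun := fun H => ⟨⟨H.1, H.2.2⟩, fun g => Subtype.ext (by
          haveI := H.2.1
          exact Subgroup.eq_of_le_of_card_ge (by rintro _ ⟨x, hx, rfl⟩; exact H.2.1.conj_mem x hx g)
            (Subgroup.card_map_of_injective (MulAut.conj g).injective).ge)⟩
        left_inv := fun H => rfl
        right_inv := fun H => rfl }
    have he : H.1.1.map (MulAut.conj g).toMonoidHom = H.1.1 := congrArg Subtype.val (H.2 g)
    exact he.le ⟨x, hx, rfl⟩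
  rw [hfix] at h
  exact h.symm.trans (card_subgroups_primePow_modEq_one p s hp (hG ▸ pow_dvd_pow p hs))

end CfsgLib.StructB
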