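import Mathlib
import Cfsg.Agent.Lib.StructB.Misc

/-!
# Real elements and Sylow 2-subgroups
-/

set_option autoImplicit false

namespace CfsgLib.StructB

/-- If `g` inverts `y`, every odd power of `g` inverts `y`. -/
theorem conj_odd_pow_eq_inv {G : Type*} [Group G] {g y : G} (h : g * y * g⁻¹ = y⁻¹) {m : ℕ} (hm : Odd m) :
    g ^ m * y * (g ^ m)⁻¹ = y⁻¹ := by
  obtain ⟨k, rfl⟩ := hm
  induction k with
  | zero => simpa using h
  | succ k ih =>
    rw [show 2 * (k + 1) + 1 = 2 + (2 * k + 1) by ring, pow_add, pow_two,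
      show g * g * g ^ (2 * k + 1) * y * (g * g * g ^ (2 * k + 1))⁻¹
        = g * (g * (g ^ (2 * k + 1) * y * (g ^ (2 * k + 1))⁻¹) * g⁻¹) * g⁻¹ by group, ih, ← conj_inv, h, inv_inv, h]

/-- A power of an element with odd exponent and `2`-power order. -/
theorem exists_odd_pow_two_power {G : Type*} [Group G] [Finite G] (g : G) :
    ∃ m k : ℕ, Odd m ∧ (g ^ m) ^ (2 ^ k) = 1 := by
  obtain ⟨k, m, hm, hg⟩ := Nat.exists_eq_pow_mul_and_not_dvd (orderOf_pos g).ne' 2 (by norm_num)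
  refine ⟨m, k, Nat.not_even_iff_odd.1 (fun he => hm (even_iff_two_dvd.1 he)), ?_⟩
  rw [← pow_mul, mul_comm, ← hg, pow_orderOf_eq_one]

/-- A `p`-element normalising a Sylow `p`-subgroup lies in it. -/
theorem mem_sylow_of_mem_normalizer {G : Type*} [Group G] [Finite G] {p : ℕ} [Fact p.Prime] (P : Sylow p G)
    {x : G} {k : ℕ} (hx : x ^ (p ^ k) = 1) (hn : x ∈ Subgroup.normalizer ((P : Subgroup G) : Set G)) :
    x ∈ (P : Subgroup G) := by
  have hX : IsPGroup p (Subgroup.zpowers x) := by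
    rintro ⟨_, i, rfl⟩
    refine ⟨k, Subtype.ext ?_⟩
    show (x ^ i) ^ (p ^ k) = 1
    rw [← zpow_natCast (x ^ i), ← zpow_mul, mul_comm, zpow_mul, zpow_natCast, hx, one_zpow]
  have h := hX.inf_normalizer_sylow P
  have hm : x ∈ Subgroup.zpowers x ⊓ Subgroup.normalizer ((P : Subgroup G) : Set G) :=
    Subgroup.mem_inf.2 ⟨Subgroup.mem_zpowers x, hn⟩
  exact (Subgroup.mem_inf.1 (h.le hm)).2

/-- A real element centralising a Sylow `2`-subgroup squares to one. -/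
theorem sq_eq_one_of_isConj_inv_of_mem_centralizer {G : Type*} [Group G] [Finite G] (S : Sylow 2 G) {x : G}
    (hx : x ∈ Subgroup.centralizer ((S : Subgroup G) : Set G)) (hreal : IsConj x x⁻¹) : x ^ 2 = 1 := by
  haveI : Fact (Nat.Prime 2) := ⟨Nat.prime_two⟩
  obtain ⟨g, hg⟩ := isConj_iff.1 hreal
  obtain ⟨n, hn, hne⟩ := S.conj_eq_normalizer_conj_of_mem_centralizer x g⁻¹ hx
    (by rw [inv_inv, hg]; exact Subgroup.inv_mem _ hx)
  rw [inv_inv, hg] at hne
  obtain ⟨m, k, hm, hk⟩ := exists_odd_pow_two_power n⁻¹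
  have h1 := conj_odd_pow_eq_inv (g := n⁻¹) (y := x) (by rw [inv_inv]; exact hne.symm) hm
  have hmem : n⁻¹ ^ m ∈ (S : Subgroup G) :=
    mem_sylow_of_mem_normalizer S hk (Subgroup.pow_mem _ (Subgroup.inv_mem _ hn) m)
  rw [Subgroup.mem_centralizer_iff.1 hx _ hmem, mul_inv_cancel_right] at h1
  rw [pow_two]
  exact mul_eq_one_iff_eq_inv.2 h1

end CfsgLib.StructB
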