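import Cfsg.Agent.S0199
import Cfsg.Agent.Lib.Coprime.Complements
import Cfsg.Agent.Lib.Solvable.PCore
import Mathlib

/-!
# Sylow 2-subgroups are normal when nothing of odd order is inverted
-/

set_option autoImplicit false

namespace CfsgLib.StructB

/-- If no nontrivial element of odd order is conjugate to its inverse, the Sylow `2`-subgroups are normal. -/
theorem sylow_two_normal_of_not_inverted {G : Type*} [Group G] [Finite G]
    (h : ∀ x g : G, Odd (orderOf x) → g * x * g⁻¹ = x⁻¹ → x = 1) (P : Sylow 2 G) :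
    (P : Subgroup G).Normal := by
  classical
  haveI : Fact (Nat.Prime 2) := ⟨Nat.prime_two⟩
  set N := Cfsg.pCore 2 G with hNdef
  haveI : N.Normal := CfsgLib.Solvable.pCore_normal 2 G
  have hN2 : IsPGroup 2 N := CfsgLib.Solvable.pCore_isPGroup 2
  obtain ⟨eN, heN⟩ := IsPGroup.iff_card.1 hN2
  by_cases hodd : 2 ∣ Nat.card (G ⧸ N)
  swap
  · have hle : N ≤ (P : Subgroup G) := by
      have h2 := hN2.to_sup_of_normal_left P.isPGroup'
      rw [← P.is_maximal' h2 le_sup_right]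
      exact le_sup_left
    have hdvd : Nat.card (P : Subgroup G) ∣ Nat.card N := by
      obtain ⟨e, he⟩ := IsPGroup.iff_card.1 P.isPGroup'
      have h1 := Subgroup.card_subgroup_dvd_card (P : Subgroup G)
      rw [he, Subgroup.card_eq_card_quotient_mul_card_subgroup N] at h1
      rw [he]
      exact (Nat.Coprime.pow_left e ((Nat.prime_two.coprime_iff_not_dvd).2 hodd)).dvd_of_dvd_mul_left h1
    rw [← Subgroup.eq_of_le_of_card_ge hle (Nat.le_of_dvd Nat.card_pos hdvd)]
    infer_instance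
  exfalso
  obtain ⟨t, ht⟩ := exists_prime_orderOf_dvd_card' (G := G ⧸ N) 2 hodd
  have htt : t * t = 1 := by rw [← pow_two, ← ht, pow_orderOf_eq_one]
  have hti : t⁻¹ = t := inv_eq_of_mul_eq_one_right htt
  set X := Subgroup.zpowers t with hX
  have hXp : IsPGroup 2 X := IsPGroup.of_card (n := 1) (by rw [hX, Nat.card_zpowers, ht, pow_one])
  obtain ⟨g, hg⟩ : ∃ g : G ⧸ N, ¬ IsPGroup 2 (X ⊔ X.map (MulAut.conj g).toMonoidHom : Subgroup (G ⧸ N)) := by
    by_contra hh
    push Not at hh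
    obtain ⟨M, hMn, hMp, hXM⟩ := Cfsg.Agent.S0199.result X hXp hh
    have hle : M.comap (QuotientGroup.mk' N) ≤ N := CfsgLib.Solvable.le_pCore (hMn.comap _)
      (hMp.comap_of_ker_isPGroup _ (by rw [QuotientGroup.ker_mk']; exact hN2))
    obtain ⟨w, hw⟩ := QuotientGroup.mk_surjective t
    have : w ∈ N := hle (show QuotientGroup.mk' N w ∈ M by
      rw [QuotientGroup.mk'_apply, hw]; exact hXM (Subgroup.mem_zpowers t))
    have ht1 : t = 1 := by rw [← hw]; exact (QuotientGroup.eq_one_iff w).2 this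
    rw [ht1, orderOf_one] at ht
    omega
  set u := g * t * g⁻¹ with hu
  have huu : u * u = 1 := by
    rw [hu, show g * t * g⁻¹ * (g * t * g⁻¹) = g * (t * t) * g⁻¹ by group, htt, mul_one, mul_inv_cancel]
  set z := t * u with hz
  have hinv : t * z * t⁻¹ = z⁻¹ := by
    rw [hz, mul_inv_rev, hti, inv_eq_of_mul_eq_one_right huu, ← mul_assoc t t u, htt, one_mul]
  obtain ⟨s, o, ho, hzo⟩ := Nat.exists_eq_pow_mul_and_not_dvd (orderOf_pos z).ne' 2 (by norm_num)
  set y := z ^ (2 ^ s) with hy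
  have hyo : orderOf y = o := by
    rw [hy, orderOf_pow_of_dvd (by positivity) (Dvd.intro _ hzo.symm), hzo, Nat.mul_div_cancel_left _ (by positivity)]
  have hy1 : y ≠ 1 := by
    intro e
    refine hg ?_
    have hzp : IsPGroup 2 (Subgroup.zpowers z) := by
      refine IsPGroup.of_card (n := s) ?_
      have ho1 : o = 1 := by rw [← hyo, e, orderOf_one]
      rw [Nat.card_zpowers, hzo, ho1, mul_one]
    have htn : t ∈ Subgroup.normalizer (Subgroup.zpowers z : Set (G ⧸ N)) := by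
      have key : ∀ w ∈ Subgroup.zpowers z, t * w * t⁻¹ ∈ Subgroup.zpowers z := by
        rintro w ⟨i, rfl⟩
        exact ⟨-i, by rw [← conj_zpow, hinv, inv_zpow']⟩
      rw [Subgroup.mem_normalizer_iff]
      intro w
      refine ⟨key w, fun hw => ?_⟩
      have := key _ hw
      rw [hti, show t * (t * w * t) * t = t * t * w * (t * t) by group, htt, one_mul, mul_one] at this
      exact this
    refine (hXp.to_sup_of_normal_right' hzp (Subgroup.zpowers_le.2 htn)).to_le (sup_le le_sup_left ?_)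
    rw [hX, MonoidHom.map_zpowers, Subgroup.zpowers_le]
    show g * t * g⁻¹ ∈ _
    have : g * t * g⁻¹ = t * z := by rw [← hu, hz, ← mul_assoc, htt, one_mul]
    rw [this]
    exact mul_mem (Subgroup.mem_sup_left (Subgroup.mem_zpowers t)) (Subgroup.mem_sup_right (Subgroup.mem_zpowers z))
  have hyinv : t * y * t⁻¹ = y⁻¹ := by rw [hy, ← conj_pow, hinv, inv_pow]
  -- lift
  obtain ⟨w, hw⟩ := QuotientGroup.mk_surjective y
  obtain ⟨t', ht'⟩ := QuotientGroup.mk_surjective t
  have hoodd : Nat.Coprime (2 ^ eN) o := Nat.Coprime.pow_left eN ((Nat.prime_two.coprime_iff_not_dvd).2 ho)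
  obtain ⟨k, hk⟩ : ∃ k, 2 ^ eN * k ≡ 1 [MOD o] := by
    rcases Nat.eq_or_lt_of_le (show 1 ≤ o from hyo ▸ orderOf_pos y) with h1 | h1
    · exact ⟨0, by rw [← h1]; exact Nat.modEq_one⟩
    · obtain ⟨k, -, hk⟩ := Nat.exists_mul_mod_eq_one_of_coprime hoodd h1
      exact ⟨k, by rw [Nat.ModEq, hk, Nat.mod_eq_of_lt h1]⟩
  set x := w ^ (2 ^ eN * k) with hx
  have hxo : x ^ o = 1 := by
    have h1 : w ^ o ∈ N := by rw [← QuotientGroup.eq_one_iff, QuotientGroup.mk_pow, hw, ← hyo, pow_orderOf_eq_one]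
    have h3 : (w ^ o) ^ Nat.card N = 1 := by
      have h2 : (⟨w ^ o, h1⟩ : N) ^ Nat.card N = 1 := pow_card_eq_one'
      exact congrArg Subtype.val h2
    rw [hx, ← pow_mul, mul_comm, pow_mul, pow_mul, ← heN, h3, one_pow]
  have hxy : (QuotientGroup.mk x : G ⧸ N) = y := by
    rw [hx, QuotientGroup.mk_pow, hw]
    exact (pow_eq_pow_iff_modEq.2 (hyo.symm ▸ hk)).trans (pow_one _)
  have hxodd : Odd (orderOf x) := by
    rw [← Nat.not_even_iff_odd, even_iff_two_dvd]
    exact fun hd => ho (hd.trans (orderOf_dvd_of_pow_eq_one hxo))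
  set A := Subgroup.zpowers x with hA
  set B := A.map (MulAut.conj t').toMonoidHom with hB
  have hnormN : ∀ H : Subgroup G, H ≤ Subgroup.normalizer (N : Set G) := fun H => by
    rw [Subgroup.normalizer_eq_top]; exact le_top
  have htx : x * (t' * x * t'⁻¹) ∈ N := by
    rw [← QuotientGroup.eq_one_iff, QuotientGroup.mk_mul, QuotientGroup.mk_mul, QuotientGroup.mk_mul,
      QuotientGroup.mk_inv, hxy, ht', hyinv, mul_inv_cancel]
  have hAB : N ⊔ A = N ⊔ B := by
    refine le_antisymm (sup_le le_sup_left ?_) (sup_le le_sup_left ?_)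
    · rw [hA, Subgroup.zpowers_le]
      have h1 : x = x * (t' * x * t'⁻¹) * (t' * x * t'⁻¹)⁻¹ := by group
      rw [h1]
      exact mul_mem (Subgroup.mem_sup_left htx) (inv_mem (Subgroup.mem_sup_right ⟨x, Subgroup.mem_zpowers x, rfl⟩))
    · rw [hB, hA, MonoidHom.map_zpowers, Subgroup.zpowers_le]
      show t' * x * t'⁻¹ ∈ _
      have h1 : t' * x * t'⁻¹ = x⁻¹ * (x * (t' * x * t'⁻¹)) := by group
      rw [h1]
      exact mul_mem (inv_mem (Subgroup.mem_sup_right (Subgroup.mem_zpowers x))) (Subgroup.mem_sup_left htx)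
  have hAc : (Nat.card A).Coprime (Nat.card N) := by
    rw [hA, Nat.card_zpowers, heN]
    exact Nat.Coprime.pow_right eN (Nat.coprime_two_right.2 hxodd)
  obtain ⟨c, hc, hcB⟩ := CfsgLib.Coprime.exists_conj_eq_of_coprime (hnormN A) (hnormN B) hAB hAc
    (by rw [hB, Subgroup.card_map_of_injective (MulAut.conj t').injective]; exact hAc) (Or.inl inferInstance)
  have h1 : t' * x * t'⁻¹ ∈ B := ⟨x, Subgroup.mem_zpowers x, rfl⟩
  rw [hcB] at h1
  obtain ⟨v, hv, hve⟩ := h1
  have hv' : (c⁻¹ * t') * x * (c⁻¹ * t')⁻¹ = v := by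
    have hve' : c * v * c⁻¹ = t' * x * t'⁻¹ := hve
    rw [show c⁻¹ * t' * x * (c⁻¹ * t')⁻¹ = c⁻¹ * (t' * x * t'⁻¹) * c by group, ← hve']
    group
  have hvx : v = x⁻¹ := by
    have hm : x * v ∈ A ⊓ N := by
      refine Subgroup.mem_inf.2 ⟨A.mul_mem (Subgroup.mem_zpowers x) hv, ?_⟩
      rw [← QuotientGroup.eq_one_iff, ← hv', QuotientGroup.mk_mul, QuotientGroup.mk_mul, QuotientGroup.mk_mul,
        QuotientGroup.mk_inv, QuotientGroup.mk_mul, QuotientGroup.mk_inv, (QuotientGroup.eq_one_iff c).2 hc,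
        inv_one, one_mul, hxy, ht', hyinv, mul_inv_cancel]
    rw [CfsgLib.Coprime.inf_eq_bot_of_coprime hAc, Subgroup.mem_bot] at hm
    exact (inv_eq_of_mul_eq_one_right hm).symm
  have := h x (c⁻¹ * t') hxodd (hv'.trans hvx)
  exact hy1 (by rw [← hxy, this]; rfl)

end CfsgLib.StructB
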