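import Mathlib
import Cfsg.Agent.Lib.Solvable.UniqueSubgroup
import Cfsg.Agent.Lib.StructB.Misc

/-!
`p`-groups in which any two subgroups of the same order are isomorphic, and two small tools for
the groups in which any two such `p`-subgroups are conjugate.
-/

set_option autoImplicit false
open scoped commutatorElement

namespace CfsgLib.StructB

variable {P : Type*} [Group P] [Finite P] {p : ℕ} [hp : Fact p.Prime]

theorem soi_card_mul_le (hP : IsPGroup p P) {A B : Subgroup P} (h : A < B) :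
    Nat.card A * p ≤ Nat.card B := by
  obtain ⟨a, ha⟩ := (hP.to_subgroup A).exists_card_eq
  obtain ⟨b, hb⟩ := (hP.to_subgroup B).exists_card_eq
  have hlt : Nat.card A < Nat.card B := by
    by_contra hh
    exact h.ne (Subgroup.eq_of_le_of_card_ge h.le (Nat.le_of_not_lt hh))
  rw [ha, hb] at hlt ⊢
  have := (Nat.pow_lt_pow_iff_right hp.out.one_lt).1 hlt
  rw [← pow_succ]
  exact Nat.pow_le_pow_right hp.out.pos (by omega)

/-- Adjoining an element of order `p` which normalises `A`. -/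
theorem soi_card_sup (hP : IsPGroup p P) {A : Subgroup P} {y : P} (hy : y ∉ A) (hyp : y ^ p = 1)
    (hn : y ∈ Subgroup.normalizer (A : Set P)) :
    Nat.card ↥(A ⊔ Subgroup.zpowers y) = Nat.card A * p := by
  refine le_antisymm ?_ (soi_card_mul_le hP (left_lt_sup.2 fun h => hy (h (Subgroup.mem_zpowers y))))
  have hc : Nat.card (Subgroup.zpowers y) = p := by
    rw [Nat.card_zpowers]
    exact orderOf_eq_prime hyp fun h => hy (h ▸ A.one_mem)
  rw [← hc, ← Nat.card_prod]
  refine Nat.card_le_card_of_surjective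
    (fun q : ↥A × ↥(Subgroup.zpowers y) => (⟨(q.1 : P) * (q.2 : P),
      Subgroup.mul_mem_sup q.1.2 q.2.2⟩ : ↥(A ⊔ Subgroup.zpowers y))) fun w => ?_
  have hw : (w : P) ∈ (↑(A ⊔ Subgroup.zpowers y) : Set P) := w.2
  rw [Subgroup.coe_mul_of_right_le_normalizer_left A (Subgroup.zpowers y)
    (Subgroup.zpowers_le.2 hn)] at hw
  obtain ⟨a, ha, b, hb, hab⟩ := hw
  exact ⟨(⟨a, ha⟩, ⟨b, hb⟩), Subtype.ext hab⟩

theorem pow_eq_one_of_iso {A B : Subgroup P} (e : A ≃* B) {n : ℕ} (hA : ∀ a ∈ A, a ^ n = 1) :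
    ∀ b ∈ B, b ^ n = 1 := by
  intro b hb
  obtain ⟨a, ha⟩ := e.surjective ⟨b, hb⟩
  have h1 : a ^ n = 1 := Subtype.ext (by rw [SubgroupClass.coe_pow]; exact hA _ a.2)
  have h2 : e (a ^ n) = 1 := by rw [h1, map_one]
  rw [map_pow, ha] at h2
  exact congrArg Subtype.val h2

theorem commute_of_iso {A B : Subgroup P} (e : A ≃* B) (hA : ∀ a ∈ A, ∀ b ∈ A, a * b = b * a) :
    ∀ a ∈ B, ∀ b ∈ B, a * b = b * a := by
  intro a ha b hb
  obtain ⟨a', ha'⟩ := e.surjective ⟨a, ha⟩
  obtain ⟨b', hb'⟩ := e.surjective ⟨b, hb⟩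
  have h1 : a' * b' = b' * a' := Subtype.ext (hA _ a'.2 _ b'.2)
  have h2 := congrArg e h1
  rw [map_mul, map_mul, ha', hb'] at h2
  exact congrArg Subtype.val h2

theorem sup_zpowers_comm {A : Subgroup P} {y : P} (hA : ∀ a ∈ A, ∀ b ∈ A, a * b = b * a)
    (hy : ∀ a ∈ A, a * y = y * a) :
    ∀ a ∈ A ⊔ Subgroup.zpowers y, ∀ b ∈ A ⊔ Subgroup.zpowers y, a * b = b * a := by
  have h1 : A ⊔ Subgroup.zpowers y ≤ Subgroup.centralizer (A : Set P) := by
    refine sup_le (fun a ha => ?_) (Subgroup.zpowers_le.2 ?_)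
    · rw [Subgroup.mem_centralizer_iff]; exact fun g hg => hA g hg a ha
    · rw [Subgroup.mem_centralizer_iff]; exact hy
  have h2 : A ⊔ Subgroup.zpowers y ≤ Subgroup.centralizer (↑(A ⊔ Subgroup.zpowers y) : Set P) := by
    refine sup_le (fun a ha => ?_) (Subgroup.zpowers_le.2 ?_)
    · rw [Subgroup.mem_centralizer_iff]
      exact fun g hg => (Subgroup.mem_centralizer_iff.1 (h1 hg) a ha).symm
    · rw [Subgroup.mem_centralizer_iff]
      intro g hg
      have : Subgroup.zpowers y ≤ Subgroup.centralizer ({y} : Set P) :=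
        Subgroup.zpowers_le.2 (Subgroup.mem_centralizer_singleton_iff.2 rfl)
      have hA' : A ≤ Subgroup.centralizer ({y} : Set P) := fun a ha =>
        Subgroup.mem_centralizer_singleton_iff.2 (hy a ha)
      exact Subgroup.mem_centralizer_singleton_iff.1 (sup_le hA' this hg)
  intro a ha b hb
  exact Subgroup.mem_centralizer_iff.1 (h2 hb) a ha

theorem exp_p_or_cyclic (hP : IsPGroup p P)
    (hiso : ∀ H K : Subgroup P, Nat.card H = Nat.card K → Nonempty (H ≃* K)) :
    IsCyclic P ∨ Nonempty (P ≃* QuaternionGroup 2) ∨ ∀ a : P, a ^ p = 1 := by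
  classical
  by_cases hexp : ∀ a : P, a ^ p = 1
  · exact Or.inr (Or.inr hexp)
  push Not at hexp
  obtain ⟨y, hy⟩ := hexp
  obtain ⟨k, hk⟩ := IsPGroup.iff_orderOf.1 hP y
  have hk2 : 2 ≤ k := by
    by_contra hh
    apply hy
    rw [← orderOf_dvd_iff_pow_eq_one, hk]
    calc p ^ k ∣ p ^ 1 := pow_dvd_pow p (by omega)
      _ = p := pow_one p
  obtain ⟨C, hC, hCcard⟩ : ∃ C : Subgroup P, IsCyclic C ∧ Nat.card C = p ^ 2 := by
    refine ⟨Subgroup.zpowers (y ^ p ^ (k - 2)), inferInstance, ?_⟩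
    rw [Nat.card_zpowers, orderOf_pow_of_dvd (pow_ne_zero _ hp.out.ne_zero)
      (hk ▸ pow_dvd_pow p (by omega)), hk, Nat.pow_div (by omega) hp.out.pos]
    congr 1
    omega
  have huniq : ∀ H K : Subgroup P, Nat.card H = p → Nat.card K = p → H = K := by
    have hnon : ∀ S : Subgroup P, Nat.card S = p ^ 2 → (∀ a ∈ S, a ^ p = 1) → False := by
      intro S hS hSexp
      obtain ⟨e⟩ := hiso S C (by rw [hS, hCcard])
      obtain ⟨g, hg⟩ := IsCyclic.exists_ofOrder_eq_natCard (α := C)
      have h1 := pow_eq_one_of_iso e hSexp _ g.2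
      have h2 : orderOf (g : P) ∣ p := orderOf_dvd_iff_pow_eq_one.2 h1
      rw [Subgroup.orderOf_coe, hg, hCcard] at h2
      have h3 := Nat.le_of_dvd hp.out.pos h2
      nlinarith [hp.out.two_le]
    haveI : Nontrivial P := ⟨⟨y, 1, fun h => hy (by rw [h]; exact one_pow p)⟩⟩
    haveI := hP.center_nontrivial
    obtain ⟨z, hz⟩ := exists_prime_orderOf_dvd_card' p (by
      obtain ⟨j, hj, hj'⟩ := (hP.to_subgroup (Subgroup.center P)).nontrivial_iff_card.1 inferInstance
      rw [hj']; exact dvd_pow_self p (by omega) : p ∣ Nat.card (Subgroup.center P))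
    rw [← Subgroup.orderOf_coe] at hz
    suffices h : ∀ H : Subgroup P, Nat.card H = p → H = Subgroup.zpowers (z : P) by
      intro H K hH hK; rw [h H hH, h K hK]
    intro H hH
    have hzc : Nat.card (Subgroup.zpowers (z : P)) = p := by rw [Nat.card_zpowers, hz]
    by_contra hne
    have hle : ¬ H ≤ Subgroup.zpowers (z : P) := fun h =>
      hne (Subgroup.eq_of_le_of_card_ge h (by rw [hH, hzc]))
    obtain ⟨x, hxH, hxz⟩ := SetLike.not_le_iff_exists.1 hle
    have hxp : x ^ p = 1 := by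
      rw [← orderOf_dvd_iff_pow_eq_one, ← hH]
      exact Subgroup.orderOf_dvd_natCard H hxH
    have hcx : ∀ a ∈ Subgroup.zpowers (z : P), a * x = x * a := fun a ha =>
      ((Subgroup.mem_center_iff.1 ((Subgroup.zpowers_le.2 z.2) ha)) x).symm
    have hnx : x ∈ Subgroup.normalizer (Subgroup.zpowers (z : P) : Set P) := by
      refine mem_normalizer_of_conj_le fun h hh => ?_
      rwa [← hcx h hh, mul_inv_cancel_right]
    refine hnon (Subgroup.zpowers (z : P) ⊔ Subgroup.zpowers x)
      (by rw [soi_card_sup hP hxz hxp hnx, hzc, pow_two]) ?_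
    have hcomm := sup_zpowers_comm (A := Subgroup.zpowers (z : P)) (y := x)
      (fun a ha b hb => by
        obtain ⟨i, rfl⟩ := Subgroup.mem_zpowers_iff.1 ha
        obtain ⟨j, rfl⟩ := Subgroup.mem_zpowers_iff.1 hb
        exact zpow_mul_comm _ _ _) hcx
    intro a ha
    rw [← SetLike.mem_coe, Subgroup.coe_mul_of_right_le_normalizer_left _ _
      (Subgroup.zpowers_le.2 hnx)] at ha
    obtain ⟨b, hb, c, hc, rfl⟩ := ha
    have h1 : Commute b c := hcomm b (le_sup_left (a := Subgroup.zpowers (z : P)) hb) c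
      (le_sup_right (a := Subgroup.zpowers (z : P)) hc)
    show (b * c) ^ p = 1
    rw [h1.mul_pow, orderOf_dvd_iff_pow_eq_one.1
      ((orderOf_dvd_of_mem_zpowers hb).trans hz.dvd)]
    obtain ⟨j, rfl⟩ := Subgroup.mem_zpowers_iff.1 hc
    rw [one_mul, ← zpow_natCast, ← zpow_mul, mul_comm, zpow_mul, zpow_natCast, hxp, one_zpow]
  rcases CfsgLib.Solvable.isCyclic_or_quaternion_of_unique hP huniq with h | ⟨rfl, m, ⟨e⟩⟩
  · exact Or.inl h
  by_cases hm1 : m = 1
  · subst hm1; exact Or.inr (Or.inl ⟨e⟩)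
  left
  by_cases hm0 : m = 0
  · subst hm0
    haveI : IsCyclic (QuaternionGroup (2 ^ 0)) := by
      refine ⟨⟨QuaternionGroup.xa 0, ?_⟩⟩
      intro x
      have hh : Nat.card (QuaternionGroup (2 ^ 0)) = orderOf (QuaternionGroup.xa (n := 2 ^ 0) 0) := by
        rw [QuaternionGroup.orderOf_xa, Nat.card_eq_fintype_card, QuaternionGroup.card]
        norm_num
      have : Subgroup.zpowers (QuaternionGroup.xa (n := 2 ^ 0) 0) = ⊤ :=
        Subgroup.eq_top_of_card_eq _ (by rw [Nat.card_zpowers, hh])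
      exact Subgroup.mem_zpowers_iff.1 (this ▸ Subgroup.mem_top x)
    exact e.isCyclic.2 inferInstance
  exfalso
  set n := 2 ^ m with hn
  have hn4 : 4 ≤ n := (by norm_num : 4 = 2 ^ 2).le.trans (Nat.pow_le_pow_right (by norm_num) (by omega))
  haveI : NeZero n := ⟨by omega⟩
  have h8 : 2 ^ 3 ∣ 2 * n := by
    rw [hn, ← pow_succ']; exact pow_dvd_pow 2 (by omega)
  set a : QuaternionGroup n := QuaternionGroup.a 1
  obtain ⟨d, hd⟩ := h8
  have hC8 : Nat.card (Subgroup.zpowers (a ^ d)) = 2 ^ 3 := by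
    rw [Nat.card_zpowers, orderOf_pow_of_dvd (by omega)
      (by rw [QuaternionGroup.orderOf_a_one, hd]; exact Dvd.intro_left _ rfl),
      QuaternionGroup.orderOf_a_one, hd, Nat.mul_div_cancel _ (by omega)]
  have hQ8 : 2 ^ 3 ∣ Nat.card P := by
    rw [Nat.card_congr e.toEquiv, Nat.card_eq_fintype_card, QuaternionGroup.card]
    exact ⟨2 * d, by rw [← mul_assoc, mul_comm (2 ^ 3 : ℕ), mul_assoc, ← hd]; ring⟩
  set w : P := e.symm (QuaternionGroup.xa 0) with hw
  have hwcard : Nat.card (Subgroup.zpowers w) = 2 ^ 2 := by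
    rw [Nat.card_zpowers, hw, MulEquiv.orderOf_eq, QuaternionGroup.orderOf_xa]; norm_num
  obtain ⟨S, hS, hwS⟩ := Sylow.exists_subgroup_card_pow_succ (p := 2)
    (by exact hQ8) hwcard
  obtain ⟨f⟩ := hiso ((Subgroup.zpowers (a ^ d)).map (e.symm : QuaternionGroup n →* P)) S (by
    rw [hS, ← hC8]
    exact (Nat.card_congr ((Subgroup.zpowers (a ^ d)).equivMapOfInjective
      (e.symm : QuaternionGroup n →* P) e.symm.injective).toEquiv).symm)
  haveI : IsCyclic ↥((Subgroup.zpowers (a ^ d)).map (e.symm : QuaternionGroup n →* P)) :=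
    (Subgroup.equivMapOfInjective _ (e.symm : QuaternionGroup n →* P) e.symm.injective).isCyclic.1
      inferInstance
  haveI : IsCyclic S := f.isCyclic.1 inferInstance
  obtain ⟨g, hg⟩ := IsCyclic.exists_ofOrder_eq_natCard (α := S)
  rw [hS] at hg
  have hgo : orderOf (e (g : P)) = 2 ^ 3 := by rw [MulEquiv.orderOf_eq, Subgroup.orderOf_coe, hg]
  have hall : S = Subgroup.zpowers (g : P) := (Subgroup.eq_of_le_of_card_ge
    (Subgroup.zpowers_le.2 g.2) (by rw [hS, Nat.card_zpowers, Subgroup.orderOf_coe, hg])).symm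
  rcases hgv : e (g : P) with i | i
  · have h1 := hwS (Subgroup.mem_zpowers w)
    rw [hall, Subgroup.mem_zpowers_iff] at h1
    obtain ⟨j, hj⟩ := h1
    have h2 := congrArg e hj
    rw [map_zpow, hgv, hw, MulEquiv.apply_symm_apply] at h2
    have h3 : QuaternionGroup.a i ∈ Subgroup.zpowers a := by
      refine Subgroup.mem_zpowers_iff.2 ⟨i.val, ?_⟩
      rw [zpow_natCast, QuaternionGroup.a_one_pow, ZMod.natCast_zmod_val]
    have h4 : QuaternionGroup.xa (0 : ZMod (2 * n)) ∈ Subgroup.zpowers a :=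
      h2 ▸ zpow_mem h3 j
    obtain ⟨l, hl⟩ := mem_powers_iff_mem_zpowers.2 h4
    simp only at hl
    rw [QuaternionGroup.a_one_pow] at hl
    simp at hl
  · rw [hgv, QuaternionGroup.orderOf_xa] at hgo
    norm_num at hgo

theorem elementary_or_order_cube (hP : IsPGroup p P)
    (hiso : ∀ H K : Subgroup P, Nat.card H = Nat.card K → Nonempty (H ≃* K))
    (hexp : ∀ a : P, a ^ p = 1) :
    (∀ a b : P, a * b = b * a) ∨ (p ≠ 2 ∧ Nat.card P = p ^ 3) := by
  classical
  by_cases hc : ∀ a b : P, a * b = b * a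
  · exact Or.inl hc
  refine Or.inr ⟨?_, ?_⟩
  · intro h2
    subst h2
    apply hc
    intro a b
    have hinv : ∀ c : P, c⁻¹ = c := fun c => by
      rw [inv_eq_iff_mul_eq_one, ← pow_two]; exact hexp c
    rw [← hinv (a * b), mul_inv_rev, hinv a, hinv b]
  haveI : Group.IsNilpotent P := hP.isNilpotent
  set Z := Subgroup.center P with hZ
  have hnt : ∃ x ∈ Subgroup.upperCentralSeries P 2, x ∉ Z := by
    by_contra hh
    push Not at hh
    have hall : ∀ j, Subgroup.upperCentralSeries P j ≤ Z := fun j => by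
      induction j with
      | zero => rw [Subgroup.upperCentralSeries_zero]; exact bot_le
      | succ j ih =>
        intro x hx
        refine hh x ?_
        rw [Subgroup.mem_upperCentralSeries_succ_iff]
        intro y
        rw [Subgroup.upperCentralSeries_one]
        exact ih (Subgroup.mem_upperCentralSeries_succ_iff.1 hx y)
    obtain ⟨c₀, hc₀⟩ := Group.IsNilpotent.nilpotent P
    refine hc fun a b => Subgroup.mem_center_iff.1 ((hall c₀) ?_) a |>.trans (by rfl)
    rw [hc₀]; exact Subgroup.mem_top _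
  obtain ⟨x, hx2, hxZ⟩ := hnt
  have hcm : ∀ g : P, g * x * g⁻¹ * x⁻¹ ∈ Z := by
    intro g
    have h := Subgroup.mem_upperCentralSeries_succ_iff.1 hx2 g
    rw [Subgroup.upperCentralSeries_one] at h
    have h' := Subgroup.inv_mem _ h
    rw [commutatorElement_inv, commutatorElement_def] at h'
    exact h'
  obtain ⟨y, hy⟩ : ∃ y, y * x ≠ x * y := by
    by_contra hh
    push Not at hh
    exact hxZ (Subgroup.mem_center_iff.2 hh)
  set z := y * x * y⁻¹ * x⁻¹ with hz
  have hz1 : z ≠ 1 := fun h => hy (by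
    rw [hz, mul_inv_eq_one, mul_inv_eq_iff_eq_mul] at h; exact h)
  have hzc : Nat.card (Subgroup.zpowers z) = p := by
    rw [Nat.card_zpowers]; exact orderOf_eq_prime (hexp z) hz1
  have hzcomm : ∀ a ∈ Subgroup.zpowers z, ∀ g : P, g * a = a * g := fun a ha g =>
    Subgroup.mem_center_iff.1 ((Subgroup.zpowers_le.2 (hcm y)) ha) g
  have hxz : x ∉ Subgroup.zpowers z := fun h => hxZ (Subgroup.mem_center_iff.2 (hzcomm x h))
  have hnorm : ∀ (A : Subgroup P) (g : P), (∀ a ∈ A, g * a * g⁻¹ ∈ A) →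
      g ∈ Subgroup.normalizer (A : Set P) := fun A g h => mem_normalizer_of_conj_le h
  have hAcard : Nat.card ↥(Subgroup.zpowers z ⊔ Subgroup.zpowers x) = p ^ 2 := by
    rw [soi_card_sup hP hxz (hexp x) (hnorm _ _ fun a ha => by
      rw [hzcomm a ha x, mul_inv_cancel_right]; exact ha), hzc, pow_two]
  set A := Subgroup.zpowers z ⊔ Subgroup.zpowers x with hA
  have hAc : ∀ a ∈ A, ∀ b ∈ A, a * b = b * a := sup_zpowers_comm
    (fun a ha b hb => (hzcomm b hb a)) (fun a ha => (hzcomm a ha x).symm)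
  have hyA : y ∉ A := fun h => hy (hAc y h x (le_sup_right (a := Subgroup.zpowers z)
    (Subgroup.mem_zpowers x)))
  have hyn : y ∈ Subgroup.normalizer (A : Set P) := hnorm _ _ fun a ha => by
    have hmap : A ≤ A.comap (MulAut.conj y).toMonoidHom := by
      refine sup_le (fun b hb => ?_) (Subgroup.zpowers_le.2 ?_)
      · show y * b * y⁻¹ ∈ A
        rw [hzcomm b hb y, mul_inv_cancel_right]
        exact le_sup_left (b := Subgroup.zpowers x) hb
      · show y * x * y⁻¹ ∈ A
        rw [show y * x * y⁻¹ = z * x by rw [hz, inv_mul_cancel_right]]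
        exact Subgroup.mul_mem_sup (Subgroup.mem_zpowers z) (Subgroup.mem_zpowers x)
    exact hmap ha
  have hB : Nat.card ↥(A ⊔ Subgroup.zpowers y) = p ^ 3 := by
    rw [soi_card_sup hP hyA (hexp y) hyn, hAcard, ← pow_succ]
  obtain ⟨n, hn⟩ := hP.exists_card_eq
  have hn3 : 3 ≤ n := by
    have h1 : p ^ 3 ≤ p ^ n := by rw [← hn, ← hB]; exact Subgroup.card_le_card_group _
    exact (Nat.pow_le_pow_iff_right hp.out.one_lt).1 h1
  by_contra hne
  have hn4 : 4 ≤ n := by
    rcases hn3.eq_or_lt with h | h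
    · exact absurd (hn.trans (by rw [← h])) hne
    · exact h
  obtain ⟨T, hT, hTc⟩ : ∃ T : Subgroup P, p ^ 3 ≤ Nat.card T ∧ ∀ a ∈ T, ∀ b ∈ T, a * b = b * a := by
    have hZp := (hP.to_subgroup Z).exists_card_eq
    obtain ⟨j, hj⟩ := hZp
    by_cases hj2 : 2 ≤ j
    · refine ⟨Z ⊔ Subgroup.zpowers x, ?_, sup_zpowers_comm
        (fun a ha b hb => Subgroup.mem_center_iff.1 hb a)
        (fun a ha => (Subgroup.mem_center_iff.1 ha x).symm)⟩
      refine le_trans ?_ (soi_card_mul_le hP (left_lt_sup.2 fun h => hxZ (h (Subgroup.mem_zpowers x))))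
      rw [hj, pow_succ]
      exact Nat.mul_le_mul_right p (Nat.pow_le_pow_right hp.out.pos hj2)
    · have hZcard : Nat.card Z ≤ p := by
        rw [hj]; exact (Nat.pow_le_pow_right hp.out.pos (show j ≤ 1 by omega)).trans (pow_one p).le
      let f : P →* Z :=
        { toFun := fun g => ⟨g * x * g⁻¹ * x⁻¹, hcm g⟩
          map_one' := by ext; simp
          map_mul' := fun g h => by
            ext
            show g * h * x * (g * h)⁻¹ * x⁻¹ = g * x * g⁻¹ * x⁻¹ * (h * x * h⁻¹ * x⁻¹)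
            have h1 := Subgroup.mem_center_iff.1 (hcm h)
            rw [show g * h * x * (g * h)⁻¹ * x⁻¹ =
              g * (h * x * h⁻¹ * x⁻¹) * (x * g⁻¹ * x⁻¹) by group, h1 g,
              h1 (g * x * g⁻¹ * x⁻¹)]
            group }
      have hker : ∀ g : P, g ∈ f.ker ↔ g * x = x * g := fun g => by
        rw [MonoidHom.mem_ker]
        constructor
        · intro h
          have h' : g * x * g⁻¹ * x⁻¹ = 1 := congrArg Subtype.val h
          rw [mul_inv_eq_one, mul_inv_eq_iff_eq_mul] at h'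
          exact h'
        · intro h
          exact Subtype.ext (show g * x * g⁻¹ * x⁻¹ = 1 by
            rw [mul_inv_eq_one, mul_inv_eq_iff_eq_mul]; exact h)
      have hindex : f.ker.index ≤ p := by
        rw [Subgroup.index_ker]
        exact (Subgroup.card_le_card_group _).trans hZcard
      have hkc : p ^ 3 ≤ Nat.card f.ker := by
        have h1 : p ^ 3 * p ≤ Nat.card f.ker * f.ker.index := by
          rw [Subgroup.card_mul_index, hn, ← pow_succ]
          exact Nat.pow_le_pow_right hp.out.pos hn4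
        exact Nat.le_of_mul_le_mul_right (h1.trans (Nat.mul_le_mul_left _ hindex)) hp.out.pos
      have hnot : ¬ f.ker ≤ A := fun h => by
        have h1 := hkc.trans (Subgroup.card_le_of_le h)
        rw [hAcard] at h1
        exact absurd ((Nat.pow_le_pow_iff_right hp.out.one_lt).1 h1) (by norm_num)
      obtain ⟨w, hw, hwA⟩ := SetLike.not_le_iff_exists.1 hnot
      have hAw : ∀ a ∈ A, a * w = w * a := by
        have : A ≤ Subgroup.centralizer ({w} : Set P) := by
          refine sup_le (fun b hb => ?_) (Subgroup.zpowers_le.2 ?_)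
          · exact Subgroup.mem_centralizer_singleton_iff.2 (hzcomm b hb w).symm
          · exact Subgroup.mem_centralizer_singleton_iff.2 ((hker w).1 hw).symm
        exact fun a ha => Subgroup.mem_centralizer_singleton_iff.1 (this ha)
      refine ⟨A ⊔ Subgroup.zpowers w, ?_, sup_zpowers_comm hAc hAw⟩
      refine le_trans ?_ (soi_card_mul_le hP (left_lt_sup.2 fun h => hwA (h (Subgroup.mem_zpowers w))))
      rw [hAcard, ← pow_succ]
  obtain ⟨T', hT', hT'T⟩ : ∃ T' : Subgroup P, Nat.card T' = p ^ 3 ∧ T' ≤ T := by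
    obtain ⟨T₁, h1, -⟩ := Sylow.exists_subgroup_card_pow_prime_le (G := ↥T) p (n := 0) (m := 3)
      (by
        obtain ⟨t, ht⟩ := (hP.to_subgroup T).exists_card_eq
        rw [ht] at hT ⊢
        exact pow_dvd_pow p ((Nat.pow_le_pow_iff_right hp.out.one_lt).1 hT))
      ⊥ (by rw [Subgroup.card_bot, pow_zero]) (by norm_num)
    exact ⟨T₁.map T.subtype, by rw [← h1]; exact (Nat.card_congr
      (T₁.equivMapOfInjective T.subtype T.subtype_injective).toEquiv).symm,
      Subgroup.map_subtype_le T₁⟩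
  obtain ⟨e⟩ := hiso T' (A ⊔ Subgroup.zpowers y) (by rw [hT', hB])
  exact hy (commute_of_iso e (fun a ha b hb => hTc a (hT'T ha) b (hT'T hb)) y
    (le_sup_right (a := A) (Subgroup.mem_zpowers y)) x
    (le_sup_left (b := Subgroup.zpowers y) (le_sup_right (a := Subgroup.zpowers z)
      (Subgroup.mem_zpowers x))))

/-- Each element of the quaternion group of order 8 is conjugated to itself or its inverse. -/
theorem quaternion_conj : ∀ h s : QuaternionGroup 2, s * h * s⁻¹ = h ∨ s * h * s⁻¹ = h⁻¹ := by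
  decide

end CfsgLib.StructB
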