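import Mathlib
import Cfsg.Prelude.Def_Perm
import Cfsg.Prelude.Def_Solvable
import Cfsg.Agent.Lib.Solvable.Hall
import Cfsg.Agent.Lib.Solvable.PCore

/-!
# Solvable linear groups transitive on vectors and planes; semiaffine embeddings
-/

set_option autoImplicit false

namespace CfsgLib.StructB.SemiNorm

open scoped Pointwise

universe u v

/-- The order of a group of semilinear maps of a field of order `p ^ n`. -/
theorem semilinear_card {p n : ℕ} [Fact p.Prime] (hn : n ≠ 0) {V : Type v} [AddCommGroup V]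
    [Module (ZMod p) V] {R : Subgroup (V ≃ₗ[ZMod p] V)} [Finite R] (e : V ≃+ GaloisField p n)
    (h : ∀ g ∈ R, ∃ (a : GaloisField p n) (σ : GaloisField p n ≃+* GaloisField p n),
      ∀ v, e (g v) = a * σ (e v)) :
    ∃ (a : R → (GaloisField p n)ˣ) (σ : R →* (GaloisField p n ≃ₐ[ZMod p] GaloisField p n)),
      (∀ (g : R) (v : V), e ((g : V ≃ₗ[ZMod p] V) v) = (a g : GaloisField p n) * σ g (e v)) ∧
      Nat.card R ∣ (p ^ n - 1) * n ∧
      Nat.card (GaloisField p n ≃ₐ[ZMod p] GaloisField p n) = n := by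
  classical
  set F := GaloisField p n
  choose a s hs using fun g : R => h g g.2
  have ha : ∀ g, a g ≠ 0 := by
    intro g hg
    have h1 : ∀ v, (g : V ≃ₗ[ZMod p] V) v = 0 := fun v =>
      e.injective (by rw [hs g v, hg, zero_mul, map_zero])
    have h2 : ∀ x : F, x = 0 := fun x => by
      obtain ⟨v, rfl⟩ := e.surjective x
      obtain ⟨w, rfl⟩ := (g : V ≃ₗ[ZMod p] V).surjective v
      rw [h1 w, map_zero]
    exact one_ne_zero (h2 1)
  let t : R → (F ≃ₐ[ZMod p] F) := fun g =>
    AlgEquiv.ofRingEquiv (f := s g) (fun c => by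
      have hh : ((s g : F →+* F).comp (algebraMap (ZMod p) F)) = algebraMap (ZMod p) F :=
        Subsingleton.elim _ _
      exact RingHom.congr_fun hh c)
  have ht : ∀ g x, t g x = s g x := fun g x => rfl
  have key : ∀ (g : R) (b : F) (τ : F ≃ₐ[ZMod p] F),
      (∀ v, e ((g : V ≃ₗ[ZMod p] V) v) = b * τ (e v)) → a g = b ∧ t g = τ := by
    intro g b τ hb
    have h1 := hs g (e.symm 1)
    rw [hb, e.apply_symm_apply, map_one, map_one, mul_one, mul_one] at h1
    refine ⟨h1.symm, AlgEquiv.ext fun x => ?_⟩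
    have h2 := hs g (e.symm x)
    rw [hb, e.apply_symm_apply, h1] at h2
    rw [ht]
    exact (mul_left_cancel₀ (ha g) h2).symm
  have hmul : ∀ g g' : R, a (g * g') = a g * t g (a g') ∧ t (g * g') = t g * t g' := fun g g' =>
    key (g * g') _ _ fun v => by
      show e ((g : V ≃ₗ[ZMod p] V) ((g' : V ≃ₗ[ZMod p] V) v)) = _
      rw [hs g, hs g', map_mul, ← ht, ← ht, ← ht, AlgEquiv.mul_apply, mul_assoc]
  let σ : R →* (F ≃ₐ[ZMod p] F) := MonoidHom.mk' t fun g g' => (hmul g g').2
  refine ⟨fun g => Units.mk0 (a g) (ha g), σ, fun g v => ?_, ?_, ?_⟩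
  · rw [Units.val_mk0]; exact hs g v
  rotate_left
  · rw [IsGalois.card_aut_eq_finrank, GaloisField.finrank p hn]
  let κ : σ.ker →* Fˣ := MonoidHom.mk' (fun g => Units.mk0 (a g) (ha g)) fun g g' => Units.ext (by
    show a ((g : R) * (g' : R)) = a g * a g'
    rw [(hmul _ _).1, show t (g : R) = 1 from MonoidHom.mem_ker.1 g.2]
    rfl)
  have hκ : Function.Injective κ := by
    intro g g' hgg
    have h1 : a (g : R) = a (g' : R) := congrArg Units.val hgg
    refine Subtype.ext (Subtype.ext (LinearEquiv.ext fun v => e.injective ?_))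
    rw [hs, hs, ← ht, ← ht, h1, show t (g : R) = 1 from MonoidHom.mem_ker.1 g.2,
      show t (g' : R) = 1 from MonoidHom.mem_ker.1 g'.2]
  haveI : Finite F := inferInstance
  have h1 : Nat.card σ.ker ∣ p ^ n - 1 := by
    have := Subgroup.card_dvd_of_injective κ hκ
    rwa [Nat.card_units, GaloisField.card p n hn] at this
  have h2 : σ.ker.index ∣ n := by
    rw [Subgroup.index_ker]
    have := Subgroup.card_subgroup_dvd_card σ.range
    rwa [IsGalois.card_aut_eq_finrank, GaloisField.finrank p hn] at this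
  rw [← Subgroup.card_mul_index σ.ker]
  exact mul_dvd_mul h1 h2

theorem card_fiber {W : Type v} [AddCommGroup W] {p : ℕ} [Fact p.Prime] [Module (ZMod p) W]
    [Fintype W] [DecidableEq W] (U : Submodule (ZMod p) W) (m : ℕ) (hU : Nat.card U = p ^ m) :
    Nat.card {x : W × W // x.1 ∈ U ∧ x.1 ≠ 0 ∧ x.2 ∈ U ∧ x.2 ∉ Submodule.span (ZMod p) {x.1}}
      = (p ^ m - 1) * (p ^ m - p) := by
  classical
  let e : {x : W × W // x.1 ∈ U ∧ x.1 ≠ 0 ∧ x.2 ∈ U ∧ x.2 ∉ Submodule.span (ZMod p) {x.1}} ≃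
      Σ v : {v : W // v ∈ U ∧ v ≠ 0}, {w : W // w ∈ U ∧ w ∉ Submodule.span (ZMod p) {(v : W)}} :=
    { toFun := fun x => ⟨⟨x.1.1, x.2.1, x.2.2.1⟩, ⟨x.1.2, x.2.2.2⟩⟩
      invFun := fun y => ⟨(y.1.1, y.2.1), y.1.2.1, y.1.2.2, y.2.2⟩
      left_inv := fun x => rfl
      right_inv := fun y => rfl }
  have hin : ∀ v : {v : W // v ∈ U ∧ v ≠ 0},
      Nat.card {w : W // w ∈ U ∧ w ∉ Submodule.span (ZMod p) {(v : W)}} = p ^ m - p := by
    intro v
    have hle : Submodule.span (ZMod p) {(v : W)} ≤ U :=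
      (Submodule.span_singleton_le_iff_mem _ _).2 v.2.1
    have hc : Nat.card ↥(Submodule.span (ZMod p) {(v : W)}) = p := by
      rw [← Nat.card_congr (LinearEquiv.toSpanNonzeroSingleton (ZMod p) W _ v.2.2).toEquiv, Nat.card_zmod]
    have h : ((U : Set W) \ (Submodule.span (ZMod p) {(v : W)} : Set W)).ncard = p ^ m - p := by
      rw [Set.ncard_sdiff hle, ← Nat.card_coe_set_eq, ← Nat.card_coe_set_eq]
      exact congrArg₂ _ hU hc
    rw [← h, ← Nat.card_coe_set_eq]
    exact Nat.card_congr (Equiv.subtypeEquivRight fun w => Iff.rfl)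
  have hout : Nat.card {v : W // v ∈ U ∧ v ≠ 0} = p ^ m - 1 := by
    have h : ((U : Set W) \ {0}).ncard = p ^ m - 1 := by
      rw [Set.ncard_sdiff (Set.singleton_subset_iff.2 U.zero_mem), Set.ncard_singleton,
        ← Nat.card_coe_set_eq]
      exact congrArg (fun a => a - 1) hU
    rw [← h, ← Nat.card_coe_set_eq]
    exact Nat.card_congr (Equiv.subtypeEquivRight fun w => Iff.rfl)
  rw [Nat.card_congr e, Nat.card_sigma, Finset.sum_congr rfl (fun v _ => hin v), Finset.sum_const,
    Finset.card_univ, ← Nat.card_eq_fintype_card, hout, smul_eq_mul]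

/-- Planes: a group containing the scalars and transitive on planes has order divisible by
`#planes * (p - 1)`. -/
theorem plane_dvd {V : Type v} [AddCommGroup V] {p n : ℕ} [Fact p.Prime] [Module (ZMod p) V]
    [Finite V] (hV : Nat.card V = p ^ n) (hn : 2 ≤ n) (R : Subgroup (V ≃ₗ[ZMod p] V)) [Finite R]
    (hsc : ∀ c : (ZMod p)ˣ, ∃ g ∈ R, ∀ v : V, g v = (c : ZMod p) • v)
    (htr : ∀ U U' : Submodule (ZMod p) V, Nat.card U = p ^ 2 → Nat.card U' = p ^ 2 →
      ∃ g ∈ R, U.map (g : V →ₗ[ZMod p] V) = U') :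
    (p ^ (n - 1) - 1) * ((p ^ n - 1) * (p - 1)) ∣ Nat.card R * ((p ^ 2 - 1) * (p - 1)) := by
  classical
  have hp : p.Prime := Fact.out
  haveI : Fintype V := Fintype.ofFinite V
  haveI : Finite (Submodule (ZMod p) V) := Finite.of_injective (SetLike.coe) SetLike.coe_injective
  let f : V × V → Submodule (ZMod p) V := fun x => Submodule.span (ZMod p) {x.1, x.2}
  set S : Finset (V × V) :=
    Finset.univ.filter fun x => x.1 ≠ 0 ∧ x.2 ∉ Submodule.span (ZMod p) {x.1} with hS
  set Ω : Finset (Submodule (ZMod p) V) :=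
    (Set.toFinite {U : Submodule (ZMod p) V | Nat.card U = p ^ 2}).toFinset with hΩ
  have hfcard : ∀ x ∈ S, Nat.card (f x) = p ^ 2 := by
    intro x hx
    obtain ⟨h1, h2⟩ := (Finset.mem_filter.1 hx).2
    have hli : LinearIndependent (ZMod p) ![x.1, x.2] := by
      rw [LinearIndependent.pair_iff' h1]
      exact fun a ha => h2 (ha ▸ Submodule.smul_mem _ a (Submodule.mem_span_singleton_self _))
    have hr : Submodule.span (ZMod p) (Set.range ![x.1, x.2]) = f x := by
      show _ = Submodule.span (ZMod p) {x.1, x.2}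
      rw [Matrix.range_cons, Matrix.range_cons, Matrix.range_empty, Set.union_empty, Set.union_comm]
      simp [Set.pair_comm]
    rw [Module.natCard_eq_pow_finrank (K := ZMod p), Nat.card_zmod, ← hr,
      finrank_span_eq_card hli, Fintype.card_fin]
  have hmaps : Set.MapsTo f (S : Set (V × V)) (Ω : Set (Submodule (ZMod p) V)) := by
    intro x hx
    rw [Finset.mem_coe, hΩ, Set.Finite.mem_toFinset]
    exact hfcard x (Finset.mem_coe.1 hx)
  have hfib : ∀ U ∈ Ω, (S.filter fun x => f x = U).card = (p ^ 2 - 1) * (p ^ 2 - p) := by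
    intro U hU
    rw [hΩ, Set.Finite.mem_toFinset] at hU
    rw [← card_fiber U 2 hU, Nat.card_eq_fintype_card, Fintype.card_subtype]
    congr 1
    ext x
    simp only [Finset.mem_filter, hS, Finset.mem_univ, true_and]
    constructor
    · rintro ⟨⟨h1, h2⟩, rfl⟩
      exact ⟨Submodule.subset_span (by simp), h1, Submodule.subset_span (by simp), h2⟩
    · rintro ⟨h1, h2, h3, h4⟩
      refine ⟨⟨h2, h4⟩, ?_⟩
      have hle : f x ≤ U := Submodule.span_le.2 (by
        rintro y (rfl | rfl)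
        · exact h1
        · exact h3)
      have hc : Nat.card (f x) = p ^ 2 := hfcard x (Finset.mem_filter.2 ⟨Finset.mem_univ _, h2, h4⟩)
      exact SetLike.coe_injective (Set.eq_of_subset_of_ncard_le hle
        (by rw [← Nat.card_coe_set_eq, ← Nat.card_coe_set_eq]; exact le_of_eq (hU.trans hc.symm)))
  have hScard : S.card = (p ^ n - 1) * (p ^ n - p) := by
    rw [← card_fiber (⊤ : Submodule (ZMod p) V) n (by
      rw [← hV]; exact Nat.card_congr (Equiv.subtypeUnivEquiv fun _ => trivial)),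
      Nat.card_eq_fintype_card, Fintype.card_subtype, hS]
    simp
  have hcount := Finset.card_eq_sum_card_fiberwise hmaps
  rw [Finset.sum_congr rfl hfib, Finset.sum_const, smul_eq_mul, hScard] at hcount
  -- orbit of a plane
  obtain ⟨U₀, hU₀⟩ : ∃ U, U ∈ Ω := by
    by_contra hh
    push Not at hh
    rw [Finset.eq_empty_of_forall_notMem hh, Finset.card_empty, zero_mul] at hcount
    have h1 : p ^ 1 < p ^ n := Nat.pow_lt_pow_right hp.one_lt (by omega)
    rw [pow_one] at h1
    have := hp.two_le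
    rcases Nat.mul_eq_zero.1 hcount with h | h <;> omega
  have hU₀' : Nat.card U₀ = p ^ 2 := by rwa [hΩ, Set.Finite.mem_toFinset] at hU₀
  letI : MulAction R (Submodule (ZMod p) V) :=
    { smul := fun g U => U.map ((g : V ≃ₗ[ZMod p] V) : V →ₗ[ZMod p] V)
      one_smul := fun U => Submodule.map_id U
      mul_smul := fun g h U => Submodule.map_comp _ _ U }
  have horb : MulAction.orbit R U₀ = (Ω : Set (Submodule (ZMod p) V)) := by
    ext U
    rw [hΩ, Set.Finite.coe_toFinset]
    constructor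
    · rintro ⟨g, rfl⟩
      show Nat.card ↥(U₀.map ((g : V ≃ₗ[ZMod p] V) : V →ₗ[ZMod p] V)) = p ^ 2
      rw [← hU₀']
      exact (Nat.card_congr ((g : V ≃ₗ[ZMod p] V).submoduleMap U₀).toEquiv).symm
    · intro hU
      obtain ⟨g, hg, rfl⟩ := htr U₀ U hU₀' hU
      exact ⟨⟨g, hg⟩, rfl⟩
  have hidx : (MulAction.stabilizer R U₀).index = Ω.card := by
    exact (MulAction.index_stabilizer R U₀).trans ((congrArg Set.ncard horb).trans (Set.ncard_coe_finset _))
  -- scalars lie in the stabilizer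
  choose sc hscR hsc' using hsc
  have hsinj : Function.Injective fun c : (ZMod p)ˣ => (⟨⟨sc c, hscR c⟩, by
      show U₀.map ((sc c : V ≃ₗ[ZMod p] V) : V →ₗ[ZMod p] V) = U₀
      refine SetLike.coe_injective (Set.eq_of_subset_of_ncard_le ?_ ?_)
      · rintro _ ⟨v, hv, rfl⟩
        show sc c v ∈ U₀
        rw [hsc']
        exact U₀.smul_mem _ hv
      · rw [← Nat.card_coe_set_eq, ← Nat.card_coe_set_eq]
        exact le_of_eq (Nat.card_congr ((sc c).submoduleMap U₀).toEquiv)⟩ :
      MulAction.stabilizer R U₀) := by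
    intro c d h
    have h' : sc c = sc d := congrArg (fun q : MulAction.stabilizer R U₀ => ((q : R) : V ≃ₗ[ZMod p] V)) h
    haveI : Nontrivial V := Finite.one_lt_card_iff_nontrivial.1 (by
      rw [hV]; exact Nat.one_lt_pow (by omega) hp.one_lt)
    obtain ⟨v, hv⟩ := exists_ne (0 : V)
    have h1 := hsc' c v
    rw [h', hsc' d v] at h1
    exact Units.ext (smul_left_injective (ZMod p) hv h1).symm
  let S₁ : Subgroup (V ≃ₗ[ZMod p] V) :=
    { carrier := Set.range sc
      one_mem' := ⟨1, LinearEquiv.ext fun v => by rw [hsc']; simp⟩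
      mul_mem' := by
        rintro _ _ ⟨c, rfl⟩ ⟨d, rfl⟩
        exact ⟨c * d, LinearEquiv.ext fun v => by
          show sc (c * d) v = sc c (sc d v)
          rw [hsc', hsc', hsc', smul_smul, Units.val_mul]⟩
      inv_mem' := by
        rintro _ ⟨c, rfl⟩
        refine ⟨c⁻¹, eq_inv_of_mul_eq_one_left (LinearEquiv.ext fun v => ?_)⟩
        show sc c⁻¹ (sc c v) = v
        rw [hsc', hsc', smul_smul, ← Units.val_mul, inv_mul_cancel, Units.val_one, one_smul] }
  have hS1R : S₁ ≤ R := by rintro _ ⟨c, rfl⟩; exact hscR c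
  have hS1c : Nat.card S₁ = p - 1 := by
    have hinj : Function.Injective sc := fun c d h => hsinj (Subtype.ext (Subtype.ext h))
    rw [← ZMod.card_units p, ← Nat.card_eq_fintype_card, Nat.card_congr (Equiv.ofInjective sc hinj)]
    rfl
  have hS1s : S₁.subgroupOf R ≤ MulAction.stabilizer R U₀ := by
    rintro g ⟨c, hc⟩
    show U₀.map ((g : V ≃ₗ[ZMod p] V) : V →ₗ[ZMod p] V) = U₀
    refine SetLike.coe_injective (Set.eq_of_subset_of_ncard_le ?_ ?_)
    · rintro _ ⟨v, hv, rfl⟩
      show (g : V ≃ₗ[ZMod p] V) v ∈ U₀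
      rw [← (show sc c = (g : V ≃ₗ[ZMod p] V) from hc), hsc']
      exact U₀.smul_mem _ hv
    · rw [← Nat.card_coe_set_eq, ← Nat.card_coe_set_eq]
      exact le_of_eq (Nat.card_congr ((g : V ≃ₗ[ZMod p] V).submoduleMap U₀).toEquiv)
  have hd : (p - 1) * Ω.card ∣ Nat.card R := by
    rw [← hidx, ← Subgroup.card_mul_index (MulAction.stabilizer R U₀)]
    refine Nat.mul_dvd_mul_right ?_ _
    rw [← hS1c, ← Nat.card_congr (Subgroup.subgroupOfEquivOfLe hS1R).toEquiv]
    exact Subgroup.card_dvd_of_le hS1s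
  -- numerology
  have e1 : p ^ n - p = p * (p ^ (n - 1) - 1) := by
    rw [Nat.mul_sub, mul_one, ← pow_succ', Nat.sub_add_cancel (by omega)]
  have e2 : p ^ 2 - p = p * (p - 1) := by rw [Nat.mul_sub, mul_one, pow_two]
  rw [e1, e2] at hcount
  have hcount' : (p ^ n - 1) * (p ^ (n - 1) - 1) = Ω.card * ((p ^ 2 - 1) * (p - 1)) := by
    apply Nat.eq_of_mul_eq_mul_left hp.pos
    calc p * ((p ^ n - 1) * (p ^ (n - 1) - 1)) = (p ^ n - 1) * (p * (p ^ (n - 1) - 1)) := by ring
      _ = Ω.card * ((p ^ 2 - 1) * (p * (p - 1))) := hcount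
      _ = _ := by ring
  rw [show (p ^ (n - 1) - 1) * ((p ^ n - 1) * (p - 1)) = (p - 1) * ((p ^ n - 1) * (p ^ (n - 1) - 1)) by ring,
    hcount', ← mul_assoc]
  exact Nat.mul_dvd_mul_right hd _

theorem ge_facts {n p : ℕ} (hp : 2 ≤ p) (hn : 3 ≤ n)
    (h : p ^ (n - 1) - 1 ∣ n * (p ^ 2 - 1)) : n = 3 ∨ (n = 5 ∧ p = 2) := by
  by_contra hh
  push Not at hh
  obtain ⟨hn3, hn5⟩ := hh
  have hp2 : 4 ≤ p ^ 2 := by nlinarith
  have hle := Nat.le_of_dvd (Nat.mul_pos (by omega) (by omega)) h
  rcases (show n = 4 ∨ 5 ≤ n by omega) with rfl | hn5'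
  · norm_num at hle h
    have : p ≤ 4 := by
      by_contra hc
      have : 5 * p ^ 2 ≤ p ^ 3 := by rw [pow_succ p 2, mul_comm (p ^ 2)]; exact Nat.mul_le_mul_right _ (by omega)
      omega
    interval_cases p <;> norm_num at h
  · have key : ∀ m, 5 ≤ m → (m = 5 ∧ p = 2) ∨ m * (p ^ 2 - 1) < p ^ (m - 1) - 1 := by
      intro m hm
      induction m, hm using Nat.le_induction with
      | base =>
        by_cases hp' : p = 2
        · exact Or.inl ⟨rfl, hp'⟩
        right
        have h9 : 9 ≤ p ^ 2 := by nlinarith [show 3 ≤ p by omega]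
        have h4 : p ^ (5 - 1) = p ^ 2 * p ^ 2 := by rw [← pow_add]
        have : 9 * p ^ 2 ≤ p ^ 2 * p ^ 2 := Nat.mul_le_mul_right _ h9
        omega
      | succ m hm ih =>
        right
        have hP : 4 ≤ p ^ (m - 1) := hp2.trans (Nat.pow_le_pow_right (by omega) (by omega))
        have hS : (m + 1) * (p ^ 2 - 1) = m * (p ^ 2 - 1) + (p ^ 2 - 1) := Nat.succ_mul _ _
        have hp1 : p ^ (m + 1 - 1) = p * p ^ (m - 1) := by rw [← pow_succ']; congr 1; omega
        have hge : 2 * p ^ (m - 1) ≤ p * p ^ (m - 1) := Nat.mul_le_mul_right _ hp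
        rcases ih with ⟨rfl, rfl⟩ | ih
        · norm_num
        · have h2 : p ^ 2 ≤ p ^ (m - 1) := Nat.pow_le_pow_right (by omega) (by omega)
          omega
    rcases key n hn5' with ⟨h5, h2⟩ | h'
    · exact hn5 h5 h2
    · omega

/-- The exceptional degree `3 ^ 4`: no solvable group is transitive on vectors and on planes. -/
theorem no_three_four {V : Type v} [AddCommGroup V] [Module (ZMod 3) V] [Finite V]
    (hV : Nat.card V = 81) (R : Subgroup (V ≃ₗ[ZMod 3] V)) [Finite R] (hsol : Group.IsSolvable R)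
    (h5 : 5 ∣ Nat.card R) (h13 : 13 ∣ Nat.card R) : False := by
  classical
  haveI := hsol
  haveI : Fact (Nat.Prime 3) := ⟨by norm_num⟩
  haveI f5 : Fact (Nat.Prime 5) := ⟨by norm_num⟩
  haveI f13 : Fact (Nat.Prime 13) := ⟨by norm_num⟩
  have hfixV : ∀ (r : ℕ) [Fact r.Prime] (M : Subgroup R), IsPGroup r M →
      ∀ U : Submodule (ZMod 3) V, (∀ g ∈ M, ∀ v ∈ U, ((g : R) : V ≃ₗ[ZMod 3] V) v ∈ U) →
      ∃ U' : Submodule (ZMod 3) V, (∀ v, v ∈ U' ↔ v ∈ U ∧ ∀ g ∈ M, ((g : R) : V ≃ₗ[ZMod 3] V) v = v) ∧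
        Nat.card U ≡ Nat.card U' [MOD r] := by
    intro r _ M hM U hU
    refine ⟨{ carrier := {v | v ∈ U ∧ ∀ g ∈ M, ((g : R) : V ≃ₗ[ZMod 3] V) v = v}
              add_mem' := fun {a b} ha hb => ⟨U.add_mem ha.1 hb.1, fun g hg => by
                rw [map_add, ha.2 g hg, hb.2 g hg]⟩
              zero_mem' := ⟨U.zero_mem, fun g _ => map_zero _⟩
              smul_mem' := fun c a ha => ⟨U.smul_mem c ha.1, fun g hg => by
                rw [map_smul, ha.2 g hg]⟩ }, fun v => Iff.rfl, ?_⟩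
    letI : MulAction M U :=
      { smul := fun g u => ⟨((g : R) : V ≃ₗ[ZMod 3] V) u, hU g g.2 u u.2⟩
        one_smul := fun u => Subtype.ext rfl
        mul_smul := fun g h u => Subtype.ext rfl }
    refine (hM.card_modEq_card_fixedPoints U).trans (congrArg (fun t => t % r) ?_)
    refine Nat.card_congr
      { toFun := fun u => ⟨(u : U), u.1.2, fun g hg => congrArg Subtype.val (u.2 ⟨g, hg⟩)⟩
        invFun := fun v => ⟨⟨(v : V), v.2.1⟩, fun g => Subtype.ext (v.2.2 g g.2)⟩
        left_inv := fun u => rfl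
        right_inv := fun v => rfl }
  have hcardU : ∀ U : Submodule (ZMod 3) V, ∃ c ≤ 4, Nat.card U = 3 ^ c := by
    intro U
    refine ⟨Module.finrank (ZMod 3) U, ?_, by
      rw [Module.natCard_eq_pow_finrank (K := ZMod 3), Nat.card_zmod]⟩
    have h1 := Submodule.finrank_le U
    have h2 : Module.finrank (ZMod 3) V = 4 := by
      have := Module.natCard_eq_pow_finrank (K := ZMod 3) (V := V)
      rw [hV, Nat.card_zmod] at this
      exact (Nat.pow_right_injective (by norm_num) (show 3 ^ 4 = 3 ^ _ from this)).symm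
    omega
  have htop : ∀ U : Submodule (ZMod 3) V, Nat.card U = 81 → U = ⊤ := fun U hU => by
    refine SetLike.coe_injective (Set.eq_of_subset_of_ncard_le (fun _ _ => trivial) ?_)
    rw [← Nat.card_coe_set_eq, ← Nat.card_coe_set_eq]
    exact le_of_eq ((Nat.card_congr (Equiv.subtypeUnivEquiv fun _ => trivial)).trans (hV.trans hU.symm))
  have htopc : Nat.card (⊤ : Submodule (ZMod 3) V) = 81 :=
    (Nat.card_congr (Equiv.subtypeUnivEquiv fun _ => Submodule.mem_top)).trans hV
  have hpgz : ∀ (r : ℕ) [Fact r.Prime] (z : R), orderOf z = r → IsPGroup r (Subgroup.zpowers z) :=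
    fun r _ z hz => IsPGroup.of_card (n := 1) (by rw [Nat.card_zpowers, hz, pow_one])
  -- an element of order 5 leaves no proper nonzero subspace invariant
  have L5 : ∀ z : R, orderOf z = 5 → ∀ U : Submodule (ZMod 3) V, U ≠ ⊥ → U ≠ ⊤ →
      (∀ v ∈ U, ((z : R) : V ≃ₗ[ZMod 3] V) v ∈ U) → False := by
    intro z hz U hU0 hU1 hinv
    have hinv' : ∀ g ∈ Subgroup.zpowers z, ∀ v ∈ U, ((g : R) : V ≃ₗ[ZMod 3] V) v ∈ U := by
      intro g hg
      obtain ⟨k, rfl⟩ := mem_powers_iff_mem_zpowers.2 hg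
      simp only
      clear hg
      induction k with
      | zero => intro v hv; exact hv
      | succ k ih => intro v hv; exact ih _ (hinv v hv)
    obtain ⟨U', hU', hmod⟩ := hfixV 5 _ (hpgz 5 z hz) U hinv'
    obtain ⟨a, ha4, ha⟩ := hcardU U
    obtain ⟨b, hb4, hb⟩ := hcardU U'
    have ha0 : a ≠ 0 := fun h => hU0 (by
      rw [h, pow_zero, Nat.card_eq_one_iff_unique] at ha
      exact eq_bot_iff.2 fun v hv => (Submodule.mem_bot _).2
        (congrArg Subtype.val (@Subsingleton.elim _ ha.1 (⟨v, hv⟩ : U) 0)))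
    have ha4' : a ≠ 4 := fun h => hU1 (htop U (by rw [ha, h]; norm_num))
    have hab : a = b := by
      rw [ha, hb] at hmod
      interval_cases a <;> interval_cases b <;> first | rfl | (exact absurd hmod (by decide)) | omega
    have hUU : ∀ v ∈ U, ((z : R) : V ≃ₗ[ZMod 3] V) v = v := by
      intro v hv
      have h1 : (U' : Set V) = (U : Set V) := Set.eq_of_subset_of_ncard_le (fun x hx => ((hU' x).1 hx).1)
        (by rw [← Nat.card_coe_set_eq, ← Nat.card_coe_set_eq]; exact le_of_eq (ha.trans (hab ▸ hb.symm)))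
      exact ((hU' v).1 (h1.symm.subset hv)).2 z (Subgroup.mem_zpowers z)
    obtain ⟨C, hC, hmodC⟩ := hfixV 5 _ (hpgz 5 z hz) ⊤ (fun _ _ _ _ => trivial)
    obtain ⟨c, hc4, hc⟩ := hcardU C
    have hUC : (U : Set V) ⊆ C := fun v hv => (hC v).2 ⟨trivial, fun g hg => by
      obtain ⟨k, rfl⟩ := mem_powers_iff_mem_zpowers.2 hg
      simp only
      clear hg
      induction k with
      | zero => rfl
      | succ k ih =>
        show ((z ^ k : R) : V ≃ₗ[ZMod 3] V) (((z : R) : V ≃ₗ[ZMod 3] V) v) = v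
        rw [hUU v hv]; exact ih⟩
    have hc0 : c ≠ 0 := fun h => by
      have h1 := Set.ncard_le_ncard hUC
      rw [← Nat.card_coe_set_eq, ← Nat.card_coe_set_eq] at h1
      change Nat.card U ≤ Nat.card C at h1
      rw [ha, hc, h, pow_zero] at h1
      have := Nat.one_lt_pow ha0 (by norm_num : 1 < 3)
      omega
    have hc' : Nat.card (⊤ : Submodule (ZMod 3) V) = 81 :=
      (Nat.card_congr (Equiv.subtypeUnivEquiv fun _ => trivial)).trans hV
    have hc4' : c = 4 := by
      rw [hc, hc'] at hmodC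
      interval_cases c <;> first | rfl | (exact absurd hmodC (by decide)) | omega
    have hall : ∀ v, ((z : R) : V ≃ₗ[ZMod 3] V) v = v := fun v => by
      have h1 : C = ⊤ := htop C (by rw [hc, hc4']; norm_num)
      exact ((hC v).1 (h1 ▸ Submodule.mem_top)).2 z (Subgroup.mem_zpowers z)
    have : z = 1 := Subtype.ext (LinearEquiv.ext hall)
    rw [this, orderOf_one] at hz
    norm_num at hz
  -- a Hall subgroup for {5, 13}
  set N := Nat.card R with hN
  have hN0 : N ≠ 0 := Nat.card_pos.ne'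
  obtain ⟨a, m₁, hm1, hN1⟩ := Nat.exists_eq_pow_mul_and_not_dvd hN0 5 (by norm_num)
  obtain ⟨b, m₂, hm2, hm12⟩ := Nat.exists_eq_pow_mul_and_not_dvd
    (show m₁ ≠ 0 from fun h => hm1 (h ▸ dvd_zero 5)) 13 (by norm_num)
  have hm25 : ¬ 5 ∣ m₂ := fun h => hm1 (hm12 ▸ h.mul_left _)
  obtain ⟨K, hK⟩ := CfsgLib.Solvable.exists_hall (G := R) (m := 5 ^ a * 13 ^ b) (n := m₂)
    (by rw [← hN, hN1, hm12, mul_assoc])
    (Nat.Coprime.mul_left (((Nat.Prime.coprime_iff_not_dvd f5.out).2 hm25).pow_left a)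
      (((Nat.Prime.coprime_iff_not_dvd f13.out).2 hm2).pow_left b))
  have ha1 : a ≠ 0 := fun h => by rw [hN1, h, pow_zero, one_mul] at h5; exact hm1 h5
  have hb1 : b ≠ 0 := fun h => by
    rw [hN1] at h13
    rcases (Nat.Prime.dvd_mul f13.out).1 h13 with h' | h'
    · have := (Nat.prime_dvd_prime_iff_eq f13.out f5.out).1 (f13.out.dvd_of_dvd_pow h'); omega
    · rw [hm12, h, pow_zero, one_mul] at h'; exact hm2 h'
  have h5K : 5 ∣ Nat.card K := hK ▸ (dvd_pow_self 5 ha1).mul_right _
  have h13K : 13 ∣ Nat.card K := hK ▸ (dvd_pow_self 13 hb1).mul_left _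
  obtain ⟨z₀, hz₀⟩ := exists_prime_orderOf_dvd_card' 5 h5K
  obtain ⟨y₀, hy₀⟩ := exists_prime_orderOf_dvd_card' 13 h13K
  set z : R := (z₀ : R) with hzdef
  set y : R := (y₀ : R) with hydef
  have hz : orderOf z = 5 := (Subgroup.orderOf_coe z₀).trans hz₀
  have hy : orderOf y = 13 := (Subgroup.orderOf_coe y₀).trans hy₀
  have hKsol : Group.IsSolvable K := inferInstance
  -- a normal elementary abelian subgroup of K
  obtain ⟨A, hAn, hAc, hA1⟩ : ∃ A : Subgroup K, A.Normal ∧ (∀ u ∈ A, ∀ w ∈ A, u * w = w * u) ∧ A ≠ ⊥ := by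
    obtain ⟨k, hk⟩ := (Group.isSolvable_def K).1 hKsol
    haveI : Nontrivial K := ⟨⟨z₀, 1, fun h => by rw [h, orderOf_one] at hz₀; norm_num at hz₀⟩⟩
    have hex : ∃ j, derivedSeries K j ≠ ⊥ ∧ derivedSeries K (j + 1) = ⊥ := by
      by_contra hh
      push Not at hh
      have : ∀ j, derivedSeries K j ≠ ⊥ := fun j => by
        induction j with
        | zero => rw [derivedSeries_zero]; exact top_ne_bot
        | succ j ih => exact hh j ih
      exact this k hk
    obtain ⟨j, hj, hj'⟩ := hex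
    refine ⟨_, derivedSeries_normal K j, ?_, hj⟩
    intro u hu w hw
    rw [derivedSeries_succ, Subgroup.commutator_eq_bot_iff_le_centralizer] at hj'
    exact Subgroup.mem_centralizer_iff.1 (hj' hw) u hu
  haveI := hAn
  have hr : ∀ r, r.Prime → r ∣ Nat.card A → r = 5 ∨ r = 13 := by
    intro r hr hd
    have h1 := hd.trans (Subgroup.card_subgroup_dvd_card A)
    rw [hK] at h1
    rcases hr.dvd_mul.1 h1 with h | h
    · exact Or.inl ((Nat.prime_dvd_prime_iff_eq hr f5.out).1 (hr.dvd_of_dvd_pow h))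
    · exact Or.inr ((Nat.prime_dvd_prime_iff_eq hr f13.out).1 (hr.dvd_of_dvd_pow h))
  obtain ⟨r, hrp, hrd⟩ := Nat.exists_prime_and_dvd (fun h => hA1 (Subgroup.card_eq_one.1 h))
  haveI : Fact r.Prime := ⟨hrp⟩
  let M : Subgroup R :=
    { carrier := {g | ∃ u : K, u ∈ A ∧ u ^ r = 1 ∧ (u : R) = g}
      one_mem' := ⟨1, A.one_mem, one_pow r, rfl⟩
      mul_mem' := by
        rintro _ _ ⟨u, hu, hu', rfl⟩ ⟨w, hw, hw', rfl⟩
        exact ⟨u * w, A.mul_mem hu hw, by
          rw [(show Commute u w from hAc u hu w hw).mul_pow, hu', hw', one_mul], rfl⟩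
      inv_mem' := by
        rintro _ ⟨u, hu, hu', rfl⟩
        exact ⟨u⁻¹, A.inv_mem hu, by rw [inv_pow, hu', inv_one], rfl⟩ }
  have hM : IsPGroup r M := fun g => ⟨1, by
    obtain ⟨u, -, hu', hug⟩ := g.2
    rw [pow_one]
    exact Subtype.ext (show (g : R) ^ r = 1 by rw [← hug, ← SubgroupClass.coe_pow, hu']; rfl)⟩
  have hMn : ∀ k : K, ∀ g ∈ M, (k : R) * g * (k : R)⁻¹ ∈ M := by
    rintro k _ ⟨u, hu, hu', rfl⟩
    exact ⟨k * u * k⁻¹, hAn.conj_mem u hu k, by rw [conj_pow, hu', mul_one, mul_inv_cancel], rfl⟩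
  obtain ⟨m₀, hm₀M, hm₀1, hm₀o⟩ : ∃ m ∈ M, m ≠ 1 ∧ orderOf m = r := by
    obtain ⟨u, hu⟩ := exists_prime_orderOf_dvd_card' r hrd
    refine ⟨_, ⟨(u : K), u.2, by rw [← SubgroupClass.coe_pow, ← hu, pow_orderOf_eq_one]; rfl, rfl⟩, ?_, ?_⟩
    · intro h
      have : u = 1 := Subtype.ext (Subtype.ext h)
      rw [this, orderOf_one] at hu
      exact hrp.one_lt.ne hu
    · rw [Subgroup.orderOf_coe, Subgroup.orderOf_coe, hu]
  rcases hr r hrp hrd with rfl | rfl
  · -- r = 5 : the subgroup has order 5 and y centralises it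
    have hfree : ∀ g ∈ M, g ≠ 1 → ∀ v : V, v ≠ 0 → ((g : R) : V ≃ₗ[ZMod 3] V) v ≠ v := by
      intro g hg hg1 v hv0 hgv
      have hgo : orderOf g = 5 := by
        obtain ⟨u, -, hu', rfl⟩ := hg
        exact orderOf_eq_prime (by rw [← SubgroupClass.coe_pow, hu']; rfl) hg1
      obtain ⟨C, hC, hmod⟩ := hfixV 5 _ (hpgz 5 g hgo) ⊤ (fun _ _ _ _ => trivial)
      refine L5 g hgo (Submodule.span (ZMod 3) {v}) ?_ ?_ ?_
      · simpa using hv0
      · intro h
        have h1 : Nat.card (Submodule.span (ZMod 3) {v}) = 3 := by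
          rw [← Nat.card_congr (LinearEquiv.toSpanNonzeroSingleton (ZMod 3) V _ hv0).toEquiv, Nat.card_zmod]
        rw [h, htopc] at h1
        norm_num at h1
      · intro w hw
        obtain ⟨c, rfl⟩ := Submodule.mem_span_singleton.1 hw
        rw [map_smul, hgv]
        exact hw
    let X := {v : V // v ≠ 0}
    letI : MulAction M X :=
      { smul := fun g v => ⟨((g : R) : V ≃ₗ[ZMod 3] V) v, fun h => v.2 ((((g : R) : V ≃ₗ[ZMod 3] V)).map_eq_zero_iff.1 h)⟩
        one_smul := fun v => Subtype.ext rfl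
        mul_smul := fun g h v => Subtype.ext rfl }
    have hst : ∀ v : X, MulAction.stabilizer M v = ⊥ := fun v => by
      rw [eq_bot_iff]
      intro g hg
      rw [Subgroup.mem_bot]
      by_contra hne
      exact hfree g g.2 (fun h => hne (Subtype.ext h)) v.1 v.2
        (congrArg Subtype.val (MulAction.mem_stabilizer_iff.1 hg))
    have hX : Nat.card X = 80 := by
      have h : ((Set.univ : Set V) \ {0}).ncard = 80 := by
        rw [Set.ncard_sdiff (Set.subset_univ _), Set.ncard_singleton, Set.ncard_univ, hV]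
      rw [← h, ← Nat.card_coe_set_eq]
      exact Nat.card_congr (Equiv.subtypeEquivRight fun w => by simp)
    have hMd : Nat.card M ∣ 80 := by
      have := Nat.card_congr (MulAction.selfEquivOrbitsQuotientProd hst)
      rw [hX, Nat.card_prod] at this
      exact Dvd.intro_left _ this.symm
    obtain ⟨j, hj⟩ := hM.exists_card_eq
    have hj1 : Nat.card M = 5 := by
      have h2 : j < 2 := by
        by_contra hj2
        have := (pow_dvd_pow 5 (show 2 ≤ j by omega)).trans (hj ▸ hMd)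
        norm_num at this
      have h0 : j ≠ 0 := fun h => by
        rw [h, pow_zero, Subgroup.card_eq_one] at hj
        exact hm₀1 (by simpa [hj] using hm₀M)
      rw [hj, show j = 1 by omega, pow_one]
    -- y centralises M
    letI : MulAction (Subgroup.zpowers y) M :=
      { smul := fun g u => ⟨(g : R) * u * (g : R)⁻¹, by
          obtain ⟨k, hk⟩ := Subgroup.mem_zpowers_iff.1 g.2
          have := hMn (y₀ ^ k) u u.2
          rwa [SubgroupClass.coe_zpow, ← hydef, hk] at this⟩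
        one_smul := fun u => Subtype.ext (show ((1 : Subgroup.zpowers y) : R) * u *
            ((1 : Subgroup.zpowers y) : R)⁻¹ = u by simp)
        mul_smul := fun g h u => Subtype.ext (show ((g * h : Subgroup.zpowers y) : R) * u *
            ((g * h : Subgroup.zpowers y) : R)⁻¹ =
            (g : R) * ((h : R) * u * (h : R)⁻¹) * (g : R)⁻¹ by simp [mul_assoc]) }
    have hmod := (hpgz 13 y hy).card_modEq_card_fixedPoints M
    rw [hj1] at hmod
    have hle : Nat.card (MulAction.fixedPoints (Subgroup.zpowers y) M) ≤ 5 :=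
      hj1 ▸ Nat.card_le_card_of_injective _ Subtype.val_injective
    have hall : MulAction.fixedPoints (Subgroup.zpowers y) M = Set.univ := by
      refine Set.eq_of_subset_of_ncard_le (Set.subset_univ _) ?_
      rw [Set.ncard_univ, hj1, ← Nat.card_coe_set_eq]
      have h5' := Nat.ModEq.eq_of_lt_of_lt hmod (by norm_num) (by omega)
      omega
    have hcomm : y * m₀ = m₀ * y := by
      have h : (⟨m₀, hm₀M⟩ : M) ∈ MulAction.fixedPoints (Subgroup.zpowers y) M := hall ▸ Set.mem_univ _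
      have h2 : y * m₀ * y⁻¹ = m₀ := congrArg Subtype.val (h ⟨y, Subgroup.mem_zpowers y⟩)
      exact mul_inv_eq_iff_eq_mul.1 h2
    obtain ⟨U, hU, hmodU⟩ := hfixV 13 _ (hpgz 13 y hy) ⊤ (fun _ _ _ _ => trivial)
    refine L5 m₀ hm₀o U ?_ ?_ ?_
    · intro h
      rw [h, htopc] at hmodU
      simp at hmodU
      exact absurd hmodU (by decide)
    · intro h
      have : y = 1 := Subtype.ext (LinearEquiv.ext fun v =>
        ((hU v).1 (h ▸ Submodule.mem_top)).2 y (Subgroup.mem_zpowers y))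
      rw [this, orderOf_one] at hy
      norm_num at hy
    · intro v hv
      refine (hU _).2 ⟨trivial, fun g hg => ?_⟩
      obtain ⟨k, rfl⟩ := Subgroup.mem_zpowers_iff.1 hg
      have hc : Commute (y ^ k) m₀ := (show Commute y m₀ from hcomm).zpow_left k
      show ((y ^ k * m₀ : R) : V ≃ₗ[ZMod 3] V) v = _
      rw [hc.eq]
      show ((m₀ : R) : V ≃ₗ[ZMod 3] V) (((y ^ k : R) : V ≃ₗ[ZMod 3] V) v) = _
      rw [((hU v).1 hv).2 _ (Subgroup.zpow_mem_zpowers y k)]
  · -- r = 13 : its fixed space is invariant under z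
    obtain ⟨U, hU, hmodU⟩ := hfixV 13 M hM ⊤ (fun _ _ _ _ => trivial)
    refine L5 z hz U ?_ ?_ ?_
    · intro h
      rw [h, htopc] at hmodU
      simp at hmodU
      exact absurd hmodU (by decide)
    · intro h
      exact hm₀1 (Subtype.ext (LinearEquiv.ext fun v => ((hU v).1 (h ▸ Submodule.mem_top)).2 m₀ hm₀M))
    · intro v hv
      refine (hU _).2 ⟨trivial, fun g hg => ?_⟩
      have h1 := ((hU v).1 hv).2 _ (hMn z₀⁻¹ g hg)
      have h2 := congrArg ((z : R) : V ≃ₗ[ZMod 3] V) h1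
      have e : ((z * ((↑z₀⁻¹ : R) * g * (↑z₀⁻¹ : R)⁻¹) : R) : V ≃ₗ[ZMod 3] V) v =
          ((g * z : R) : V ≃ₗ[ZMod 3] V) v := by
        congr 2
        push_cast
        rw [hzdef]; group
      exact e.symm.trans h2

/-- Embedding of an extension of an elementary abelian group by semilinear maps. -/
theorem semiaffine_embedding {Q : Type u} [Group Q] [Finite Q] {F : Type v} [Field F]
    (Pb X : Subgroup Q) [Pb.Normal] (hc : Pb.IsComplement' X) (e : Additive ↥Pb ≃+ F)
    (hX : ∀ x ∈ X, ∃ (a : Fˣ) (σ : F ≃+* F), ∀ v : ↥Pb,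
      e (Additive.ofMul (MulAut.conjNormal x v)) = (a : F) * σ (e (Additive.ofMul v)))
    (hfaith : ∀ x ∈ X, (∀ v : ↥Pb, MulAut.conjNormal x v = v) → x = 1) :
    (∃ f : Q →* ↥(Cfsg.semiaffineGroup F), Function.Injective f) ∧
    ((∀ x ∈ X, ∃ a : Fˣ, ∀ v : ↥Pb,
      e (Additive.ofMul (MulAut.conjNormal x v)) = (a : F) * e (Additive.ofMul v)) →
      ∃ f : Q →* ↥(Cfsg.affineGroup F), Function.Injective f) := by
  classical
  let d : ↥Pb × ↥X ≃ Q := hc.equiv.symm
  have hd : ∀ p, d p = (p.1 : Q) * p.2 := fun p => Subgroup.IsComplement.equiv_symm_apply hc p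
  let dec : Q → ↥Pb × ↥X := d.symm
  have hdec : ∀ g, ((dec g).1 : Q) * (dec g).2 = g := fun g => by
    rw [← hd]; exact d.apply_symm_apply g
  let act : Q → ↥Pb → ↥Pb := fun g v => (dec g).1 * MulAut.conjNormal ((dec g).2 : Q) v
  have hact : ∀ (g : Q) (v : ↥Pb), ∀ (v₁ : ↥Pb) (x : ↥X), g * (v : Q) = (v₁ : Q) * x → act g v = v₁ := by
    intro g v v₁ x h
    have h2 : g * (v : Q) = ((act g v : ↥Pb) : Q) * (dec g).2 := by
      conv_lhs => rw [← hdec g]
      simp only [act, Subgroup.coe_mul, MulAut.conjNormal_apply]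
      group
    have h3 : d (act g v, (dec g).2) = d (v₁, x) := by rw [hd, hd, ← h2, h]
    exact congrArg Prod.fst (d.injective h3)
  have hmul : ∀ g g' v, act (g * g') v = act g (act g' v) := by
    intro g g' v
    refine hact _ _ _ ((dec g).2 * (dec g').2) ?_
    have e1 : g' * (v : Q) = ((act g' v : ↥Pb) : Q) * (dec g').2 := by
      conv_lhs => rw [← hdec g']
      simp only [act, Subgroup.coe_mul, MulAut.conjNormal_apply]
      group
    have e2 : g * ((act g' v : ↥Pb) : Q) = ((act g (act g' v) : ↥Pb) : Q) * (dec g).2 := by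
      conv_lhs => rw [← hdec g]
      simp only [act, Subgroup.coe_mul, MulAut.conjNormal_apply]
      group
    rw [mul_assoc, e1, ← mul_assoc, e2]
    simp only [Subgroup.coe_mul, mul_assoc]
  have hone : ∀ v, act 1 v = v := fun v => hact 1 v v 1 (by simp)
  let τ : ↥Pb ≃ F := Additive.ofMul.trans e.toEquiv
  let perm : Q →* Equiv.Perm F :=
    { toFun := fun g =>
        { toFun := fun x => τ (act g (τ.symm x))
          invFun := fun x => τ (act g⁻¹ (τ.symm x))
          left_inv := fun x => by simp [← hmul, hone]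
          right_inv := fun x => by simp [← hmul, hone] }
      map_one' := Equiv.ext fun x => by simp [hone]
      map_mul' := fun g g' => Equiv.ext fun x => by simp [hmul] }
  have hinj : Function.Injective perm := by
    rw [injective_iff_map_eq_one]
    intro g hg
    have h1 : ∀ v, act g v = v := fun v => by
      have := congrArg (fun π : Equiv.Perm F => π (τ v)) hg
      simpa [perm] using this
    have hv : (dec g).1 = 1 := by
      have := h1 1
      simpa [act] using this
    have hx : ((dec g).2 : Q) = 1 := hfaith _ (dec g).2.2 fun v => by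
      have := h1 v
      simpa [act, hv] using this
    rw [← hdec g, hv, hx]; simp
  have hform : ∀ g (a : Fˣ) (σ : F ≃+* F), (∀ v : ↥Pb,
      e (Additive.ofMul (MulAut.conjNormal ((dec g).2 : Q) v)) = (a : F) * σ (e (Additive.ofMul v))) →
      ∀ x, perm g x = (a : F) * σ x + e (Additive.ofMul (dec g).1) := by
    intro g a σ h x
    show e (Additive.ofMul ((dec g).1 * MulAut.conjNormal ((dec g).2 : Q) (τ.symm x))) = _
    rw [ofMul_mul, map_add, h, add_comm]
    congr 2
    simp [τ]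
  refine ⟨⟨perm.codRestrict _ (fun g => ?_), fun g g' h => hinj (congrArg Subtype.val h)⟩, fun haff =>
    ⟨perm.codRestrict _ (fun g => ?_), fun g g' h => hinj (congrArg Subtype.val h)⟩⟩
  · obtain ⟨a, σ, h⟩ := hX _ (dec g).2.2
    exact ⟨a, _, σ, hform g a σ h⟩
  · obtain ⟨a, h⟩ := haff _ (dec g).2.2
    exact ⟨a, _, fun x => hform g a (RingEquiv.refl F) h x⟩

end CfsgLib.StructB.SemiNorm
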