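import Cfsg.Agent.Lib.StructB.PPowerOrbit
import Cfsg.Agent.Lib.StructB.Kazarin
import Cfsg.Agent.Lib.Solvable.HallHigman
import Cfsg.Agent.Lib.Solvable.Fitting
import Cfsg.Agent.Lib.Solvable.PCore
import Cfsg.Agent.Lib.Coprime.Sylow
import Cfsg.Agent.Lib.Coprime.Abelian
import Mathlib.GroupTheory.SchurZassenhaus
import Mathlib.Algebra.Module.ZMod
import Mathlib.Data.Nat.Prime.Basic

/-!
Baer's theorem on elements of `q`-power order whose classes have prime power size.
-/

set_option autoImplicit false

namespace CfsgLib.StructB.Baer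

open Subgroup

universe u

section Coprime

variable {H : Type*} [Group H] [Finite H]

theorem relIndex_eq_of_coprime (A B : Subgroup H) (h : A.index.Coprime B.index) :
    A.relIndex B = A.index := by
  have h1 : (A ⊓ B).index = A.relIndex B * B.index := by
    rw [← inf_relIndex_right, relIndex_mul_index inf_le_right]
  have h2 : A.index ∣ A.relIndex B * B.index := h1 ▸ index_dvd_of_le inf_le_left
  refine le_antisymm ?_ (Nat.le_of_dvd (Nat.pos_of_ne_zero ?_) (h.dvd_of_dvd_mul_right h2))
  · refine Nat.le_of_mul_le_mul_right ?_ (Nat.pos_of_ne_zero (index_ne_zero_of_finite (H := B)))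
    rw [← h1]
    exact index_inf_le
  · exact index_ne_zero_of_finite

theorem coset_bijective_of_coprime (A B : Subgroup H) (h : A.index.Coprime B.index) :
    ∃ f : B ⧸ A.subgroupOf B → H ⧸ A, Function.Bijective f ∧ ∀ b : B, f b = (b : H) := by
  let f : B ⧸ A.subgroupOf B → H ⧸ A :=
    Quotient.map' (fun x => (x : H)) fun a b hab => by
      rw [QuotientGroup.leftRel_apply] at hab ⊢
      exact hab
  refine ⟨f, ?_, fun b => rfl⟩
  have hinj : Function.Injective f := by
    intro x y
    refine Quotient.inductionOn₂' x y fun a b hab => ?_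
    exact Quotient.sound' (by
      have := Quotient.exact' hab
      rw [QuotientGroup.leftRel_apply] at this ⊢
      exact this)
  refine hinj.bijective_of_nat_card_le ?_
  rw [← index_eq_card, ← index_eq_card]
  exact (relIndex_eq_of_coprime A B h).ge

/-- Subgroups of coprime index factorise the group. -/
theorem exists_mul_of_coprime (A B : Subgroup H) (h : A.index.Coprime B.index) (g : H) :
    ∃ b ∈ B, ∃ a ∈ A, g = b * a := by
  obtain ⟨f, hf, hfb⟩ := coset_bijective_of_coprime A B h
  obtain ⟨x, hx⟩ := hf.2 (g : H ⧸ A)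
  induction x using QuotientGroup.induction_on with
  | H b =>
    rw [hfb, QuotientGroup.eq] at hx
    exact ⟨b, b.2, _, hx, (mul_inv_cancel_left _ _).symm⟩

end Coprime

section Orbit

variable {H M : Type*} [Group H] [Finite H] [CommGroup M] (φ : H →* MulAut M)

/-- The stabiliser of a point of `M`. -/
def stab (m : M) : Subgroup H where
  carrier := {h | φ h m = m}
  one_mem' := by simp
  mul_mem' := by
    intro a b (ha : φ a m = m) (hb : φ b m = m)
    show φ (a * b) m = m
    rw [map_mul, MulAut.mul_apply, hb, ha]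
  inv_mem' := by
    intro a (ha : φ a m = m)
    show φ a⁻¹ m = m
    conv_lhs => rw [← ha]
    rw [← MulAut.mul_apply, ← map_mul, inv_mul_cancel, map_one, MulAut.one_apply]

theorem mem_stab {m : M} {h : H} : h ∈ stab φ m ↔ φ h m = m := Iff.rfl

omit [CommGroup M] in
theorem prod_eq_pow {N : Type*} [CommGroup N] {G : Type*} [Group G] [Fintype G] (A : Subgroup G)
    [Fintype (G ⧸ A)] (F : G ⧸ A → N) :
    ∏ g : G, F (g : G ⧸ A) = (∏ c, F c) ^ Nat.card A := by
  let := Fintype.ofFinite A
  have hb : Function.Bijective (fun x : (G ⧸ A) × A => x.1.out * (x.2 : G)) := by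
    constructor
    · intro x y hxy
      have h1 : x.1 = y.1 := by
        have := congrArg (fun g : G => (g : G ⧸ A)) hxy
        simpa [QuotientGroup.mk_mul_of_mem] using this
      have h2 : x.2 = y.2 := Subtype.ext (by simpa [h1] using hxy)
      exact Prod.ext h1 h2
    · intro g
      have h1 : ((g : G ⧸ A).out)⁻¹ * g ∈ A := by
        rw [← QuotientGroup.eq, QuotientGroup.out_eq']
      exact ⟨⟨(g : G ⧸ A), ⟨_, h1⟩⟩, mul_inv_cancel_left _ _⟩
  rw [← Fintype.prod_bijective _ hb (fun x => F x.1) _ fun x => by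
      simp [QuotientGroup.mk_mul_of_mem],
    Fintype.prod_prod_type, Nat.card_eq_fintype_card]
  rw [← Finset.prod_pow]
  exact Finset.prod_congr rfl fun c _ => by simp

theorem orbitProd_eq_prod [Fintype H] (B : Subgroup H) [Fintype B] (m : M) :
    CfsgLib.Coprime.orbitProd φ B m = ∏ b : B, φ b m := by
  classical
  show ∏ b ∈ Finset.univ.filter (· ∈ B), φ b m = _
  rw [← Finset.prod_subtype (Finset.univ.filter (· ∈ B)) (p := (· ∈ B)) (by simp)
    (fun b => φ b m)]

variable [Finite M]

theorem pow_eq_pow_imp {n : ℕ} (h : (Nat.card M).Coprime n) {a b : M} (e : a ^ n = b ^ n) :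
    a = b :=
  (powCoprime h).injective e

/-- If a point fixed by `A` has trivial total product, then so has it over every subgroup of
index prime to that of `A`. -/
theorem orbitProd_eq_one [Fintype H] (hcop : (Nat.card M).Coprime (Nat.card H)) (A B : Subgroup H)
    (h : A.index.Coprime B.index) {m : M} (hA : A ≤ stab φ m)
    (hm : CfsgLib.Coprime.orbitProd φ ⊤ m = 1) : CfsgLib.Coprime.orbitProd φ B m = 1 := by
  classical
  let := Fintype.ofFinite B
  let := Fintype.ofFinite (H ⧸ A)
  let := Fintype.ofFinite (B ⧸ A.subgroupOf B)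
  let := Fintype.ofFinite (⊤ : Subgroup H)
  let F : H ⧸ A → M := fun c => φ c.out m
  have hF : ∀ g : H, F (g : H ⧸ A) = φ g m := by
    intro g
    have h1 : ((g : H ⧸ A).out)⁻¹ * g ∈ A := by
      rw [← QuotientGroup.eq, QuotientGroup.out_eq']
    have h2 : φ (((g : H ⧸ A).out)⁻¹ * g) m = m := hA h1
    show φ (g : H ⧸ A).out m = _
    conv_lhs => rw [← h2]
    rw [← MulAut.mul_apply, ← map_mul, mul_inv_cancel_left]
  have hS : ∏ c, F c = 1 := by
    refine pow_eq_pow_imp (hcop.coprime_dvd_right A.card_subgroup_dvd_card) ?_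
    rw [one_pow, ← prod_eq_pow A F, ← hm, orbitProd_eq_prod]
    exact (Fintype.prod_equiv Subgroup.topEquiv.toEquiv _ _ fun g => (hF g).symm).symm
  obtain ⟨f, hf, hfb⟩ := coset_bijective_of_coprime A B h
  rw [orbitProd_eq_prod]
  calc ∏ b : B, φ b m = ∏ b : B, (F ∘ f) (b : B ⧸ A.subgroupOf B) :=
        Finset.prod_congr rfl fun b _ => by rw [Function.comp_apply, hfb, hF]
    _ = (∏ c, (F ∘ f) c) ^ Nat.card (A.subgroupOf B) := prod_eq_pow _ _
    _ = 1 := by
      rw [Fintype.prod_bijective f hf (F ∘ f) F fun _ => rfl, hS, one_pow]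

/-- All points with nontrivial orbits of prime power size share the prime. -/
theorem false_of_two_primes (hcop : (Nat.card M).Coprime (Nat.card H))
    (hpp : ∀ m : M, ∃ r a : ℕ, r.Prime ∧ (stab φ m).index = r ^ a)
    {x y : M} {r s a b : ℕ} (hr : r.Prime) (hs : s.Prime) (hrs : r ≠ s) (ha : a ≠ 0) (hb : b ≠ 0)
    (hx : (stab φ x).index = r ^ a) (hy : (stab φ y).index = s ^ b) : False := by
  classical
  let := Fintype.ofFinite H
  set E := CfsgLib.Coprime.orbitProd φ ⊤ with hE
  set n := Nat.card (⊤ : Subgroup H) with hn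
  have hn' : (Nat.card M).Coprime n := by rw [hn, card_top]; exact hcop
  let norm : M → M := fun m => m ^ n * (E m)⁻¹
  have hEfix : ∀ h m, φ h (E m) = E m := fun h m =>
    CfsgLib.Coprime.apply_orbitProd φ ⊤ (mem_top h) m
  have hstab : ∀ m, stab φ (norm m) = stab φ m := by
    intro m
    ext h
    rw [mem_stab, mem_stab]
    show φ h (m ^ n * (E m)⁻¹) = m ^ n * (E m)⁻¹ ↔ _
    rw [map_mul, map_inv, hEfix, mul_left_inj, map_pow]
    exact ⟨pow_eq_pow_imp hn', fun e => by rw [e]⟩
  have hEn : ∀ m, E (norm m) = 1 := by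
    intro m
    show E (m ^ n * (E m)⁻¹) = 1
    rw [map_mul, map_inv, map_pow, hE,
      CfsgLib.Coprime.orbitProd_eq_pow φ ⊤ (CfsgLib.Coprime.orbitProd φ ⊤ m) fun h _ => hEfix h m,
      ← hn, mul_inv_cancel]
  obtain ⟨x', hx', hEx⟩ : ∃ x', stab φ x' = stab φ x ∧ E x' = 1 := ⟨norm x, hstab x, hEn x⟩
  obtain ⟨y', hy', hEy⟩ : ∃ y', stab φ y' = stab φ y ∧ E y' = 1 := ⟨norm y, hstab y, hEn y⟩
  have hEz : E (x' * y') = 1 := by rw [map_mul, hEx, hEy, one_mul]
  rw [← hx'] at hx
  rw [← hy'] at hy
  have hne : ∀ {m : M} {t c : ℕ}, t.Prime → c ≠ 0 → (stab φ m).index = t ^ c → m ≠ 1 := by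
    intro m t c ht hc he e
    have h1 : stab φ m = ⊤ := eq_top_iff.2 fun h _ => by rw [mem_stab, e, map_one]
    rw [h1, index_top] at he
    exact (Nat.one_lt_pow hc ht.one_lt).ne' he.symm
  have key : ∀ {u v : M} {r s t a b c : ℕ}, r.Prime → s.Prime → t.Prime → r ≠ s → t ≠ s →
      (stab φ u).index = r ^ a → (stab φ v).index = s ^ b → (stab φ (u * v)).index = t ^ c →
      E u = 1 → E (u * v) = 1 → v = 1 := by
    intro u v r s t a b c hr hs ht hrs hts hu hv huv hEu hEuv
    have h1 : CfsgLib.Coprime.orbitProd φ (stab φ v) u = 1 :=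
      orbitProd_eq_one φ hcop (stab φ u) _
        (by rw [hu, hv]; exact Nat.Coprime.pow a b ((Nat.coprime_primes hr hs).2 hrs)) le_rfl hEu
    have h2 : CfsgLib.Coprime.orbitProd φ (stab φ v) (u * v) = 1 :=
      orbitProd_eq_one φ hcop (stab φ (u * v)) _
        (by rw [huv, hv]; exact Nat.Coprime.pow c b ((Nat.coprime_primes ht hs).2 hts)) le_rfl hEuv
    rw [map_mul, h1, one_mul,
      CfsgLib.Coprime.orbitProd_eq_pow φ (stab φ v) v fun h hh => hh] at h2
    exact pow_eq_pow_imp (hcop.coprime_dvd_right (stab φ v).card_subgroup_dvd_card)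
      (h2.trans (one_pow _).symm)
  obtain ⟨t, c, ht, hz⟩ := hpp (x' * y')
  by_cases hts : t = s
  · refine hne hr ha hx (key hs hr ht hrs.symm (fun e => hrs (e.symm.trans hts)) hy hx
      (c := c) ?_ hEy (by rw [mul_comm, hEz]))
    rw [mul_comm, hz]
  · exact hne hs hb hy (key hr hs ht hrs hts hx hy hz hEx hEz)

/-- The elements killed by `q`. -/
def omega (M : Type*) [CommGroup M] (q : ℕ) : Subgroup M := (powMonoidHom q : M →* M).ker

omit [Finite H] [Finite M] in
theorem mem_omega {q : ℕ} {m : M} : m ∈ omega M q ↔ m ^ q = 1 := Iff.rfl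

/-- The module structure on the elements killed by `q`. -/
@[reducible] def omegaModule (M : Type*) [CommGroup M] (q : ℕ) :
    Module (ZMod q) (Additive (omega M q)) :=
  AddCommGroup.zmodModule fun v =>
    Additive.toMul.injective (Subtype.ext (Additive.toMul v).2)

/-- The action on the elements killed by `q`. -/
noncomputable def omegaMap (q : ℕ) [Module (ZMod q) (Additive (omega M q))] (h : H) :
    Module.End (ZMod q) (Additive (omega M q)) :=
  AddMonoidHom.toZModLinearMap q
    { toFun := fun v => Additive.ofMul (⟨φ h (Additive.toMul v : omega M q), mem_omega.2 (by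
        rw [← map_pow, mem_omega.1 (Additive.toMul v).2, map_one])⟩ : omega M q)
      map_zero' := Additive.toMul.injective (Subtype.ext (map_one _))
      map_add' := fun v w => Additive.toMul.injective (Subtype.ext (map_mul _ _ _)) }

omit [Finite H] [Finite M] in
theorem omegaMap_apply (q : ℕ) [Module (ZMod q) (Additive (omega M q))] (h : H)
    (v : Additive (omega M q)) :
    ((Additive.toMul (omegaMap φ q h v) : omega M q) : M) = φ h (Additive.toMul v : omega M q) :=
  rfl

/-- The representation on the elements killed by `q`. -/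
noncomputable def omegaRep (q : ℕ) [Module (ZMod q) (Additive (omega M q))] :
    Representation (ZMod q) H (Additive (omega M q)) where
  toFun := omegaMap φ q
  map_one' := by
    refine LinearMap.ext fun v => Additive.toMul.injective (Subtype.ext ?_)
    rw [omegaMap_apply, map_one, MulAut.one_apply, Module.End.one_apply]
  map_mul' a b := by
    refine LinearMap.ext fun v => Additive.toMul.injective (Subtype.ext ?_)
    rw [Module.End.mul_apply, omegaMap_apply, omegaMap_apply, omegaMap_apply, map_mul,
      MulAut.mul_apply]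

/-- Faithful coprime action on an abelian `q`-group with all orbit sizes powers of `p`. -/
theorem isSolvable_of_mulAut_aux {p q : ℕ} [Module (ZMod q) (Additive (omega M q))]
    [Fact p.Prime] (hqp : q.Prime) (hM : IsPGroup q M)
    (hq : ¬ q ∣ Nat.card H) (hinj : Function.Injective φ)
    (horb : ∀ m : M, ∃ a, (stab φ m).index = p ^ a) : Group.IsSolvable H := by
  let ρ : Representation (ZMod q) H (Additive (omega M q)) := omegaRep φ q
  refine @PPowerOrbit.isSolvable H _ q (Additive (omega M q)) _ _ ⟨hqp⟩ p _ _ _ ρ hq ?_ ?_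
  · suffices key : ∀ h : H, (∀ v : Additive (omega M q), ρ h v = v) → h = 1 by
      intro g g' e
      refine inv_mul_eq_one.1 (key (g⁻¹ * g') fun v => ?_)
      rw [map_mul, Module.End.mul_apply, ← e, ← Module.End.mul_apply, ← map_mul, inv_mul_cancel,
        map_one, Module.End.one_apply]
    intro h hh
    apply hinj
    rw [map_one]
    have hfix : ∀ k : ℕ, ∀ m : M, m ^ q ^ k = 1 → φ h m = m := by
      intro k
      induction k with
      | zero => intro m hm; rw [pow_zero, pow_one] at hm; rw [hm, map_one]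
      | succ k ih =>
        intro m hm
        have h1 : φ h (m ^ q) = m ^ q := ih _ (by rw [← pow_mul, ← pow_succ', hm])
        have hw : (φ h m * m⁻¹) ^ q = 1 := by
          rw [mul_pow, ← map_pow, h1, inv_pow, mul_inv_cancel]
        obtain ⟨w, hw', hφw⟩ : ∃ w, φ h m = w * m ∧ φ h w = w := by
          refine ⟨φ h m * m⁻¹, (inv_mul_cancel_right _ _).symm, ?_⟩
          have h2 := hh (Additive.ofMul (⟨φ h m * m⁻¹, mem_omega.2 hw⟩ : omega M q))
          exact congrArg (fun v : Additive (omega M q) => ((Additive.toMul v : omega M q) : M)) h2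
        have hiter : ∀ j : ℕ, φ (h ^ j) m = w ^ j * m := by
          intro j
          induction j with
          | zero => simp
          | succ j ihj =>
            rw [pow_succ', map_mul, MulAut.mul_apply, ihj, map_mul, map_pow, hφw, hw', pow_succ,
              mul_assoc]
        have h3 := hiter (orderOf h)
        rw [pow_orderOf_eq_one, map_one, MulAut.one_apply, eq_comm, mul_eq_right] at h3
        have hcop : (Nat.card M).Coprime (orderOf h) := by
          haveI : Fact q.Prime := ⟨hqp⟩
          obtain ⟨i, hi⟩ := hM.exists_card_eq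
          rw [hi]
          exact Nat.Coprime.pow_left i ((hqp.coprime_iff_not_dvd).2
            fun hd => hq (hd.trans (orderOf_dvd_natCard h)))
        rw [hw', pow_eq_pow_imp hcop (h3.trans (one_pow _).symm), one_mul]
    refine MulEquiv.ext fun m => ?_
    obtain ⟨k, hk⟩ := hM m
    exact hfix k m hk
  · intro w
    obtain ⟨a, ha⟩ := horb ((Additive.toMul w : omega M q) : M)
    refine ⟨a, ?_⟩
    rw [← ha]
    congr 1
    ext h
    exact ⟨fun e => congrArg (fun v : Additive (omega M q) => ((Additive.toMul v : omega M q) : M)) e,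
      fun e => Additive.toMul.injective (Subtype.ext e)⟩

/-- Faithful coprime action on an abelian `q`-group with all orbit sizes powers of `p`. -/
theorem isSolvable_of_mulAut {p q : ℕ} [Fact p.Prime] (hqp : q.Prime) (hM : IsPGroup q M)
    (hq : ¬ q ∣ Nat.card H) (hinj : Function.Injective φ)
    (horb : ∀ m : M, ∃ a, (stab φ m).index = p ^ a) : Group.IsSolvable H :=
  @isSolvable_of_mulAut_aux H M _ _ _ φ _ p q (omegaModule M q) _ hqp hM hq hinj horb

end Orbit

section Cores

variable {G : Type*} [Group G] [Finite G] {q : ℕ} [hq : Fact q.Prime]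

theorem exists_sylow_le {ℓ : ℕ} [Fact ℓ.Prime] (C : Subgroup G) (h : ¬ ℓ ∣ C.index) :
    ∃ P : Sylow ℓ G, (P : Subgroup G) ≤ C := by
  obtain ⟨S⟩ := (inferInstance : Nonempty (Sylow ℓ C))
  have hc : Nat.card ↥((S : Subgroup C).map C.subtype) = ℓ ^ (Nat.card G).factorization ℓ := by
    rw [card_map_of_injective C.subtype_injective, S.card_eq_multiplicity, ← C.card_mul_index,
      Nat.factorization_mul Nat.card_pos.ne' index_ne_zero_of_finite, Finsupp.add_apply,
      Nat.factorization_eq_zero_of_not_dvd h, add_zero]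
  exact ⟨Sylow.ofCard _ hc, map_subtype_le _⟩

theorem map_pCore_le_of_surjective {H : Type*} [Group H] (f : G →* H) (hf : Function.Surjective f) :
    (Cfsg.pCore q G).map f ≤ Cfsg.pCore q H := by
  have := CfsgLib.Solvable.pCore_normal q G
  exact CfsgLib.Solvable.le_pCore (Normal.map inferInstance f hf)
    ((CfsgLib.Solvable.pCore_isPGroup q).map f)

theorem index_centralizer_map_dvd {H : Type*} [Group H] (f : G →* H) (hf : Function.Surjective f)
    (x : G) :
    (centralizer ({f x} : Set H)).index ∣ (centralizer ({x} : Set G)).index := by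
  refine (index_dvd_of_le ?_).trans (index_map_dvd (H := centralizer ({x} : Set G)) hf)
  rintro _ ⟨c, hc, rfl⟩
  rw [SetLike.mem_coe, mem_centralizer_singleton_iff] at hc
  rw [mem_centralizer_singleton_iff, ← map_mul, hc, map_mul]

omit [Finite G] in
theorem normalClosure_le_centralizer {S : Set G} (N : Subgroup G) [N.Normal]
    (h : S ⊆ (centralizer (N : Set G) : Set G)) : normalClosure S ≤ centralizer (N : Set G) := by
  have : (centralizer (N : Set G)).Normal := by
    constructor
    intro c hc g
    rw [mem_centralizer_iff] at hc ⊢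
    intro n hn
    have h1 := hc (g⁻¹ * n * g) (by simpa using (inferInstance : N.Normal).conj_mem n hn g⁻¹)
    calc n * (g * c * g⁻¹) = g * ((g⁻¹ * n * g) * c) * g⁻¹ := by group
      _ = g * (c * (g⁻¹ * n * g)) * g⁻¹ := by rw [h1]
      _ = g * c * g⁻¹ * n := by group
  exact normalClosure_le_normal h

end Cores

/-- An element of `q`-power order whose class has `r`-power size lies in `O_q(G)` when
`O_r(G) = 1`. -/
theorem mem_pCore_of_index {G : Type u} [Group G] [Finite G] {q r a k : ℕ} [Fact q.Prime]
    [Fact r.Prime] (hr1 : Cfsg.pCore r G = ⊥) {x : G} (hk : x ^ q ^ k = 1)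
    (hx : (centralizer ({x} : Set G)).index ∣ r ^ a) : x ∈ Cfsg.pCore q G := by
  set K := normalClosure ({x} : Set G) with hK
  have hsol : Group.IsSolvable K :=
    Kazarin.isSolvable_normalClosure (Fact.out : r.Prime) a _ G rfl x hx
  have hcen : ∀ s : Nat.Primes, Cfsg.pCore (s : ℕ) G ≤ centralizer (K : Set G) := by
    intro s
    have hs : Fact (s : ℕ).Prime := ⟨s.2⟩
    have hN := CfsgLib.Solvable.pCore_normal (s : ℕ) G
    rw [le_centralizer_iff]
    refine normalClosure_le_centralizer _ (Set.singleton_subset_iff.2 ?_)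
    rw [SetLike.mem_coe, mem_centralizer_iff]
    by_cases hsr : (s : ℕ) = r
    · intro n hn
      rw [hsr, hr1] at hn
      rw [show n = 1 from hn, one_mul, mul_one]
    · have h1 := Kazarin.relIndex_dvd_index_normal (Cfsg.pCore (s : ℕ) G) (centralizer ({x} : Set G))
      obtain ⟨i, hi⟩ := (CfsgLib.Solvable.pCore_isPGroup (G := G) (s : ℕ)).exists_card_eq
      have h2 : (centralizer ({x} : Set G)).relIndex (Cfsg.pCore (s : ℕ) G) = 1 :=
        Nat.eq_one_of_dvd_coprimes
          (Nat.Coprime.pow i a ((Nat.coprime_primes s.2 (Fact.out : r.Prime)).2 hsr))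
          (hi ▸ index_dvd_card _) (h1.trans hx)
      intro n hn
      exact mem_centralizer_singleton_iff.1 (relIndex_eq_one.1 h2 hn)
  have hFc : (Cfsg.fittingSubgroup K).map K.subtype ≤ centralizer (K : Set G) :=
    (CfsgLib.Solvable.map_fittingSubgroup_le K).trans
      ((CfsgLib.Solvable.fittingSubgroup_eq_iSup_pCore (G := G)).le.trans (iSup_le hcen))
  have hcenter : ∀ f ∈ Cfsg.fittingSubgroup K, ∀ z : K, z * f = f * z := fun f hf z =>
    Subtype.ext (mem_centralizer_iff.1 (hFc (mem_map_of_mem _ hf)) z z.2)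
  have hcomm : ∀ z w : K, z * w = w * z := fun z w =>
    hcenter w (CfsgLib.Solvable.centralizer_fittingSubgroup_le
      (mem_centralizer_iff.2 fun f hf => (hcenter f hf w).symm)) z
  let xK : K := ⟨x, subset_normalClosure rfl⟩
  have hn : (zpowers xK).Normal := ⟨fun n hn g => by rwa [hcomm g n, mul_inv_cancel_right]⟩
  have hxq : xK ∈ Cfsg.pCore q K := by
    refine CfsgLib.Solvable.le_pCore hn ?_ (mem_zpowers xK)
    intro z
    obtain ⟨j, hj⟩ := mem_zpowers_iff.1 z.2
    refine ⟨k, Subtype.ext ?_⟩
    rw [SubmonoidClass.coe_pow, ← hj, ← zpow_natCast, ← zpow_mul, mul_comm, zpow_mul, zpow_natCast,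
      show xK ^ q ^ k = 1 from Subtype.ext (by simpa using hk), one_zpow, OneMemClass.coe_one]
  exact CfsgLib.Solvable.map_pCore_le q K (mem_map_of_mem _ hxq)

section Sylow

variable {G : Type*} [Group G] [Finite G] {q : ℕ} [Fact q.Prime]

theorem index_centralizer_conj (g x : G) :
    (centralizer ({g * x * g⁻¹} : Set G)).index = (centralizer ({x} : Set G)).index := by
  have h : (centralizer ({g * x * g⁻¹} : Set G)).comap (MulAut.conj g).toMonoidHom =
      centralizer ({x} : Set G) := by
    ext y
    rw [mem_comap, mem_centralizer_singleton_iff, mem_centralizer_singleton_iff]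
    show g * y * g⁻¹ * (g * x * g⁻¹) = g * x * g⁻¹ * (g * y * g⁻¹) ↔ y * x = x * y
    rw [show g * y * g⁻¹ * (g * x * g⁻¹) = g * (y * x) * g⁻¹ by group,
      show g * x * g⁻¹ * (g * y * g⁻¹) = g * (x * y) * g⁻¹ by group, mul_left_inj, mul_right_inj]
  rw [← h, index_comap_of_surjective _ (MulAut.conj g).surjective]

theorem mem_center_of_index_eq_one {x : G} (h : (centralizer ({x} : Set G)).index = 1) :
    x ∈ center G := by
  rw [mem_center_iff]
  intro g
  exact mem_centralizer_singleton_iff.1 ((index_eq_one.1 h).symm ▸ mem_top g)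

theorem index_eq_one_of_mem_center {x : G} (h : x ∈ center G) :
    (centralizer ({x} : Set G)).index = 1 := by
  rw [index_eq_one, eq_top_iff]
  exact fun g _ => mem_centralizer_singleton_iff.2 (mem_center_iff.1 h g)

omit [Finite G] in
/-- The conjugacy class of an element of the Sylow subgroup stays in it when it has `q`-power
size. -/
theorem exists_conj_eq_of_qpower [Finite G] (Q : Sylow q G) {x : G} {a : ℕ}
    (hx : (centralizer ({x} : Set G)).index = q ^ a) (g : G) :
    ∃ b ∈ Q, ∃ c ∈ centralizer ({x} : Set G), g = b * c := by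
  refine exists_mul_of_coprime _ _ ?_ g
  rw [hx]
  exact Nat.Coprime.pow_left a (((Fact.out : q.Prime).coprime_iff_not_dvd).2 Q.not_dvd_index)

theorem mem_pCore_of_qpower (Q : Sylow q G) {x : G} (hxQ : x ∈ Q) {a : ℕ}
    (hx : (centralizer ({x} : Set G)).index = q ^ a) : x ∈ Cfsg.pCore q G := by
  have h : normalClosure ({x} : Set G) ≤ (Q : Subgroup G) := by
    refine (closure_le _).2 fun y hy => ?_
    obtain ⟨x', hx', hconj⟩ := Group.mem_conjugatesOfSet_iff.1 hy
    rw [Set.mem_singleton_iff] at hx'
    subst x'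
    obtain ⟨g, rfl⟩ := isConj_iff.1 hconj
    obtain ⟨b, hb, c, hc, rfl⟩ := exists_conj_eq_of_qpower Q hx g
    rw [mem_centralizer_singleton_iff] at hc
    rw [show b * c * x * (b * c)⁻¹ = b * (c * x * c⁻¹) * b⁻¹ by group,
      show c * x * c⁻¹ = x by rw [hc, mul_inv_cancel_right]]
    exact mul_mem (mul_mem hb hxQ) (inv_mem hb)
  exact CfsgLib.Solvable.le_pCore inferInstance (Q.2.to_le h) (subset_normalClosure rfl)

/-- A Sylow subgroup falling into `O_q(G ⧸ N)` gives a normal product. -/
theorem map_eq_pCore (Q : Sylow q G) (N : Subgroup G) [N.Normal]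
    (h : ∀ x ∈ Q, (x : G ⧸ N) ∈ Cfsg.pCore q (G ⧸ N)) :
    (Q : Subgroup G).map (QuotientGroup.mk' N) = Cfsg.pCore q (G ⧸ N) := by
  refine ((Q.mapSurjective (QuotientGroup.mk'_surjective N)).3
    (CfsgLib.Solvable.pCore_isPGroup q) ?_).symm
  rintro _ ⟨x, hx, rfl⟩
  exact h x hx

theorem sup_normal (Q : Sylow q G) (N : Subgroup G) [N.Normal]
    (h : ∀ x ∈ Q, (x : G ⧸ N) ∈ Cfsg.pCore q (G ⧸ N)) : (N ⊔ (Q : Subgroup G)).Normal := by
  have := CfsgLib.Solvable.pCore_normal q (G ⧸ N)
  have h1 : ((Cfsg.pCore q (G ⧸ N)).comap (QuotientGroup.mk' N)).Normal :=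
    Normal.comap inferInstance _
  rwa [← map_eq_pCore Q N h, comap_map_eq, QuotientGroup.ker_mk', sup_comm] at h1

/-- A subgroup of a nilpotent group whose conjugates, with the centre, cover it is everything,
unless the group is abelian. -/
theorem eq_top_of_conj_union {P : Type*} [Group P] [Finite P] [Group.IsNilpotent P]
    (C : Subgroup P) (h : ∀ x : P, x ∈ center P ∨ ∃ u : P, u * x * u⁻¹ ∈ C)
    (hZ : center P ≠ ⊤) : C = ⊤ := by
  have hD : C ⊔ center P = ⊤ := by
    by_contra hne
    obtain ⟨M, hM, hle⟩ := (eq_top_or_exists_le_coatom (C ⊔ center P)).resolve_left hne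
    have : M.Normal :=
      NormalizerCondition.normal_of_coatom M Group.normalizerCondition_of_isNilpotent hM
    refine hM.1 (eq_top_iff.2 fun x _ => ?_)
    rcases h x with hx | ⟨u, hu⟩
    · exact hle (le_sup_right (a := C) hx)
    · have h1 := this.conj_mem _ (hle (le_sup_left (b := center P) hu)) u⁻¹
      simpa [mul_assoc] using h1
  have hCn : C.Normal := normalizer_eq_top_iff.1 (eq_top_iff.2 (hD ▸ sup_le le_normalizer
    (center_le_normalizer _)))
  by_contra hC
  obtain ⟨c, hc⟩ : ∃ c, c ∉ C := by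
    by_contra hh
    push Not at hh
    exact hC (eq_top_iff.2 fun x _ => hh x)
  obtain ⟨z, hz⟩ : ∃ z, z ∉ center P := by
    by_contra hh
    push Not at hh
    exact hZ (eq_top_iff.2 fun x _ => hh x)
  have hmem : ∀ x : P, x ∈ center P ∨ x ∈ C := fun x => (h x).imp_right fun ⟨u, hu⟩ => by
    simpa [mul_assoc] using hCn.conj_mem _ hu u⁻¹
  have hzC := (hmem z).resolve_left hz
  have hcZ := (hmem c).resolve_right hc
  rcases hmem (c * z) with h1 | h1
  · exact hz ((Subgroup.mul_mem_cancel_left _ hcZ).1 h1)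
  · exact hc ((Subgroup.mul_mem_cancel_right _ hzC).1 h1)

end Sylow

end CfsgLib.StructB.Baer
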