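import Cfsg.Agent.S0205
import Cfsg.Agent.Lib.Invol.Basic
import Cfsg.Agent.Lib.Invol.Isolated
import Cfsg.Agent.Lib.Invol.BrauerSuzuki
import Cfsg.Agent.Lib.Coprime.Action
import Cfsg.Agent.Lib.Solvable.HallHigman
import Cfsg.Agent.Lib.OddLocal.PGroup
import Cfsg.Agent.Lib.Transfer.Frobenius
import Mathlib

/-!
In a finite nonsolvable group without normal subgroups of odd order in which two distinct Sylow
`2`-subgroups meet in a cyclic group, the solvable radical is a central cyclic `2`-group.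
-/

set_option autoImplicit false

namespace CfsgLib.StructB.CycInt

open Subgroup

universe u
variable {X : Type u} [Group X] [Finite X]

local instance : Fact (Nat.Prime 2) := ⟨Nat.prime_two⟩

/-- A subgroup of odd order, or one all of whose elements have `2`-power order, is solvable. -/
theorem solvable_odd {N : Subgroup X} (h : Odd (Nat.card N)) : Group.IsSolvable N :=
  Cfsg.Agent.S0205.result h

/-- `y` lies in at most one Sylow `2`-subgroup. -/
def Rigid (y : X) : Prop := ∀ S T : Sylow 2 X, y ∈ S → y ∈ T → S = T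

theorem mem_smul_iff {g x : X} {S : Sylow 2 X} : x ∈ g • S ↔ g⁻¹ * x * g ∈ S := by
  change x ∈ ((g • S : Sylow 2 X) : Subgroup X) ↔ _
  rw [Sylow.coe_subgroup_smul, CfsgLib.Solvable.mem_conj_smul]
  rfl

theorem Rigid.norm {y h : X} (hr : Rigid y) {S : Sylow 2 X} (hy : y ∈ S)
    (hh : h⁻¹ * y * h ∈ S) : h ∈ normalizer ((S : Subgroup X) : Set X) :=
  Sylow.smul_eq_iff_mem_normalizer.1 (hr _ _ (mem_smul_iff.2 hh) hy)

theorem mem_of_norm {h : X} {S : Sylow 2 X} (hp : ∃ k : ℕ, h ^ (2 ^ k) = 1)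
    (hh : h ∈ normalizer ((S : Subgroup X) : Set X)) : h ∈ S := by
  obtain ⟨k, hk⟩ := hp
  have hP : IsPGroup 2 (zpowers h) := by
    rintro ⟨z, m, rfl⟩
    refine ⟨k, Subtype.ext ?_⟩
    show (h ^ m) ^ (2 ^ k) = 1
    rw [← zpow_natCast, ← zpow_mul, mul_comm, zpow_mul, zpow_natCast, hk, one_zpow]
  have : h ∈ zpowers h ⊓ normalizer ((S : Subgroup X) : Set X) := ⟨mem_zpowers h, hh⟩
  exact ((hP.inf_normalizer_sylow S).le this).2

/-- The standing hypotheses, with `V` a cyclic normal `2`-subgroup and `g` a generator. -/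
structure Hyp (V : Subgroup X) (g : X) : Prop where
  cyc : ∀ S T : Sylow 2 X, S ≠ T → IsCyclic ↥((S : Subgroup X) ⊓ (T : Subgroup X))
  mem : g ∈ V
  gen : ∀ v ∈ V, ∃ k : ℕ, g ^ k = v
  le : ∀ S : Sylow 2 X, V ≤ (S : Subgroup X)
  rad : ∀ N : Subgroup X, N.Normal → Group.IsSolvable N → N ≤ V

variable {V : Subgroup X} {g : X}

theorem Hyp.twoPower (hX : Hyp V g) {v : X} (hv : v ∈ V) : ∃ k : ℕ, v ^ (2 ^ k) = 1 := by
  let S : Sylow 2 X := Classical.choice inferInstance
  obtain ⟨k, hk⟩ := S.2 ⟨v, hX.le S hv⟩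
  exact ⟨k, by simpa using congrArg Subtype.val hk⟩

theorem Hyp.comm (hX : Hyp V g) {a b : X} (ha : a ∈ V) (hb : b ∈ V) : a * b = b * a := by
  obtain ⟨i, rfl⟩ := hX.gen a ha
  obtain ⟨j, rfl⟩ := hX.gen b hb
  exact ((Commute.refl g).pow_pow i j).eq

theorem Hyp.le_centralizer (hX : Hyp V g) : V ≤ centralizer (V : Set X) :=
  fun _ hv => mem_centralizer_iff.2 fun _ hw => hX.comm hw hv

/-- An element not centralising `V` is rigid. -/
theorem Hyp.rigid_of_not_mem (hX : Hyp V g) {y : X} (hy : y ∉ centralizer (V : Set X)) :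
    Rigid y := by
  intro S T hS hT
  by_contra hne
  haveI := hX.cyc S T hne
  refine hy (mem_centralizer_iff.2 fun v hv => ?_)
  letI : CommGroup ↥((S : Subgroup X) ⊓ (T : Subgroup X)) := IsCyclic.commGroup
  exact congrArg Subtype.val (mul_comm (⟨v, hX.le S hv, hX.le T hv⟩ :
    ↥((S : Subgroup X) ⊓ (T : Subgroup X))) ⟨y, hS, hT⟩)

section Four

variable (h4 : 4 ∣ orderOf g)
include h4

theorem Hyp.sq_of_sq_eq_one (hX : Hyp V g) {v : X} (hv : v ∈ V) (h : v * v = 1) :
    ∃ w ∈ V, w * w = v := by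
  obtain ⟨k, rfl⟩ := hX.gen v hv
  rw [← pow_add] at h
  have h2 : 4 ∣ k + k := h4.trans (orderOf_dvd_of_pow_eq_one h)
  obtain ⟨m, rfl⟩ : 2 ∣ k := by omega
  exact ⟨g ^ m, pow_mem hX.mem m, by rw [← pow_add, two_mul]⟩

/-- An involution outside `V` is rigid. -/
theorem Hyp.rigid_of_invol (hX : Hyp V g) {y : X} (hy : y * y = 1) (hyV : y ∉ V) : Rigid y := by
  intro S T hS hT
  by_contra hne
  haveI := hX.cyc S T hne
  obtain ⟨m, hm⟩ : 2 ∣ orderOf g := (by norm_num : (2 : ℕ) ∣ 4).trans h4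
  have hm0 : 0 < m := by have := orderOf_pos g; omega
  set D := (S : Subgroup X) ⊓ (T : Subgroup X)
  classical
  let v0 : D := ⟨g ^ m, hX.le S (pow_mem hX.mem m), hX.le T (pow_mem hX.mem m)⟩
  let y' : D := ⟨y, hS, hT⟩
  have hv0 : g ^ m ≠ 1 := pow_ne_one_of_lt_orderOf (by omega) (by omega)
  have : Fintype D := Fintype.ofFinite D
  have hle := IsCyclic.card_pow_eq_one_le (α := D) (n := 2) (by norm_num)
  have hsub : ({1, v0, y'} : Finset D) ⊆ Finset.univ.filter (fun a : D => a ^ 2 = 1) := by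
    intro a ha
    simp only [Finset.mem_insert, Finset.mem_singleton] at ha
    simp only [Finset.mem_filter, Finset.mem_univ, true_and]
    rcases ha with rfl | rfl | rfl
    · exact one_pow 2
    · apply Subtype.ext
      show (g ^ m) ^ 2 = 1
      rw [← pow_mul, mul_comm, ← hm, pow_orderOf_eq_one]
    · apply Subtype.ext
      show y ^ 2 = 1
      rw [pow_two, hy]
  have h3 : ({1, v0, y'} : Finset D).card = 3 := by
    rw [Finset.card_eq_three]
    refine ⟨1, v0, y', ?_, ?_, ?_, rfl⟩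
    · exact fun h => hv0 (congrArg Subtype.val h).symm
    · intro h
      have : (1 : X) = y := congrArg Subtype.val h
      exact hyV (this ▸ one_mem V)
    · intro h
      have : g ^ m = y := congrArg Subtype.val h
      exact hyV (this ▸ pow_mem hX.mem m)
  have := (Finset.card_le_card hsub).trans hle
  omega

end Four

theorem Rigid.mul_mem (hX : Hyp V g) {y v : X} (hr : Rigid y) (hv : v ∈ V) : Rigid (y * v) := by
  intro S T hS hT
  refine hr S T ?_ ?_
  · have := (S : Subgroup X).mul_mem hS (inv_mem (hX.le S hv))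
    rwa [mul_inv_cancel_right] at this
  · have := (T : Subgroup X).mul_mem hT (inv_mem (hX.le T hv))
    rwa [mul_inv_cancel_right] at this

/-- If `π y` is the image of an element of the Sylow subgroup `S`, then `y ∈ S`. -/
theorem Hyp.mem_of_map [V.Normal] (hX : Hyp V g) {S : Sylow 2 X} {x y : X} (hx : x ∈ S)
    (h : QuotientGroup.mk' V y = QuotientGroup.mk' V x) : y ∈ S := by
  obtain ⟨z, hz, hzy⟩ := (QuotientGroup.mk'_eq_mk' V).1 h
  have : y = x * z⁻¹ := by rw [← hzy]; group
  rw [this]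
  exact mul_mem hx (inv_mem (hX.le S hz))

/-- Key lemma. -/
theorem Hyp.isConj [V.Normal] (hX : Hyp V g) (h4 : 4 ∣ orderOf g) {a i : X} {S T : Sylow 2 X}
    (hST : S ≠ T) (haS : a ∈ S) (ha2 : a * a ∈ V) (haV : a ∉ V) (har : Rigid a)
    (hac : a ∈ centralizer (V : Set X) → a * a = 1) (hiT : i ∈ T) (hi2 : i * i = 1)
    (hiC : i ∈ centralizer (V : Set X)) (hiV : i ∉ V) :
    IsConj (QuotientGroup.mk' V a) (QuotientGroup.mk' V i) := by
  set π := QuotientGroup.mk' V with hπ
  have hker : ∀ x : X, π x = 1 ↔ x ∈ V := fun x => QuotientGroup.eq_one_iff x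
  have hoa : orderOf (π a) = 2 := orderOf_eq_prime (by rw [pow_two, ← map_mul, hker]; exact ha2)
    (fun h => haV ((hker a).1 h))
  have hoi : orderOf (π i) = 2 := orderOf_eq_prime (by rw [pow_two, ← map_mul, hi2, map_one])
    (fun h => hiV ((hker i).1 h))
  rcases Nat.even_or_odd (orderOf (π a * π i)) with ⟨n, hn⟩ | hodd
  swap
  · obtain ⟨d, -, hd⟩ := CfsgLib.Invol.exists_conj_of_odd hoa hoi hodd
    exact isConj_iff.2 ⟨d, hd⟩
  exfalso
  have hir := hX.rigid_of_invol h4 hi2 hiV
  set C := centralizer (V : Set X) with hC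
  set d := a * i with hd
  set x := d ^ n with hx
  have hn0 : 0 < n := by have := orderOf_pos (π a * π i); omega
  have hπd : π d = π a * π i := map_mul π a i
  have hxV : x ∉ V := by
    intro h
    have : (π a * π i) ^ n = 1 := by rw [← hπd, ← map_pow, hker]; exact h
    exact pow_ne_one_of_lt_orderOf (by omega) (by omega) this
  have hx2 : x * x ∈ V := by
    rw [← hker, ← pow_add, map_pow, hπd, ← hn, pow_orderOf_eq_one]
  have hxpow : ∃ k : ℕ, x ^ (2 ^ k) = 1 := by
    obtain ⟨k, hk⟩ := hX.twoPower hx2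
    exact ⟨k + 1, by rw [pow_succ', pow_mul, pow_two, hk]⟩
  have hxinv : (π x)⁻¹ = π x := by
    rw [inv_eq_iff_mul_eq_one, ← map_mul, hker]; exact hx2
  have haa : (π a)⁻¹ = π a := by
    rw [inv_eq_iff_mul_eq_one, ← map_mul, hker]; exact ha2
  have hii : (π i)⁻¹ = π i := by rw [inv_eq_iff_mul_eq_one, ← map_mul, hi2, map_one]
  have hxd : π x = (π a * π i) ^ n := by rw [hx, map_pow, hπd]
  have hA : π a * π a = 1 := by rw [← map_mul, hker]; exact ha2
  have hI : π i * π i = 1 := by rw [← map_mul, hi2, map_one]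
  have hxa : π a * π x * (π a)⁻¹ = π x := by
    have h1 : π a * (π a * π i) * (π a)⁻¹ = (π a * π i)⁻¹ := by
      rw [mul_inv_rev, haa, hii, ← mul_assoc, hA, one_mul]
    rw [hxd, ← conj_pow, h1, inv_pow, ← hxd, hxinv]
  have hxi : π i * π x * (π i)⁻¹ = π x := by
    have h1 : π i * (π a * π i) * (π i)⁻¹ = (π a * π i)⁻¹ := by
      rw [mul_inv_rev, haa, hii, mul_assoc (π i), mul_assoc (π a), hI, mul_one]
    rw [hxd, ← conj_pow, h1, inv_pow, ← hxd, hxinv]
  have hnorm : ∀ (y : X) (U : Sylow 2 X), Rigid y → y ∈ U → π y * π x * (π y)⁻¹ = π x →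
      x ∈ U := by
    intro y U hy hyU hc
    refine mem_of_norm hxpow (hy.norm hyU (hX.mem_of_map hyU ?_))
    rw [map_mul, map_mul, map_inv]
    calc (π x)⁻¹ * π y * π x = (π x)⁻¹ * (π y * π x * (π y)⁻¹) * π y := by group
      _ = π y := by rw [hc]; group
  have hxS : x ∈ S := hnorm a S har haS hxa
  have hxT : x ∈ T := hnorm i T hir hiT hxi
  have hxnr : ¬ Rigid x := fun h => hST (h S T hxS hxT)
  have hxC : x ∈ C := by
    by_contra h
    exact hxnr (hX.rigid_of_not_mem h)
  have ht : Commute (a * a) d := by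
    have h1 : Commute (a * a) a := (Commute.refl a).mul_left (Commute.refl a)
    have h2 : Commute (a * a) i := (mem_centralizer_iff.1 hiC) _ ha2
    exact h1.mul_right h2
  have hw : ∃ w ∈ V, (a * a) ^ n = w * w := by
    by_cases haC : a ∈ C
    · exact ⟨1, one_mem V, by rw [hac haC, one_pow, one_mul]⟩
    · rcases Nat.even_or_odd n with ⟨m, hm⟩ | ⟨m, hm⟩
      · exact ⟨(a * a) ^ m, pow_mem ha2 m, by rw [hm, pow_add]⟩
      · exfalso
        have hCn : C.Normal := Subgroup.normal_centralizer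
        have hd2 : d * d ∈ C := by
          have : d * d = (a * a) * (a⁻¹ * i * a) * i := by rw [hd]; group
          rw [this]
          refine mul_mem (mul_mem (hX.le_centralizer ha2) ?_) hiC
          simpa using hCn.conj_mem i hiC a⁻¹
        have h1 : d ∈ C := by
          have h2 : x = (d * d) ^ m * d := by rw [hx, hm, pow_succ, pow_mul, pow_two]
          have : d = ((d * d) ^ m)⁻¹ * x := by rw [h2]; group
          rw [this]
          exact mul_mem (inv_mem (pow_mem hd2 m)) hxC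
        exact haC (by simpa [hd] using mul_mem h1 (inv_mem hiC))
  obtain ⟨w, hwV, hw⟩ := hw
  have hid : i * d * i⁻¹ = d⁻¹ * (a * a) := by
    have : i⁻¹ = i := inv_eq_of_mul_eq_one_right hi2
    rw [hd, mul_inv_rev, this]
    group
    simp [mul_assoc, hi2, sq]
  have hix : i * x * i⁻¹ = x⁻¹ * (w * w) := by
    rw [hx, ← conj_pow, hid, ((ht.symm).inv_left).mul_pow, inv_pow, hw]
  set v := x⁻¹ * (x⁻¹ * (w * w)) with hv
  have hvV : v ∈ V := by
    have : v = (x * x)⁻¹ * (w * w) := by rw [hv]; group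
    rw [this]
    exact mul_mem (inv_mem hx2) (mul_mem hwV hwV)
  have hix' : i * x * i⁻¹ = x * v := by rw [hix, hv]; group
  have hiv : i * v * i⁻¹ = v := by
    rw [mul_inv_eq_iff_eq_mul]
    exact ((mem_centralizer_iff.1 hiC) v hvV).symm
  have hvv : v * v = 1 := by
    have : i * (i * x * i⁻¹) * i⁻¹ = x * v * v := by
      rw [hix']
      calc i * (x * v) * i⁻¹ = (i * x * i⁻¹) * (i * v * i⁻¹) := by group
        _ = x * v * v := by rw [hiv, hix']
    have h2 : i * (i * x * i⁻¹) * i⁻¹ = x := by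
      have : i⁻¹ = i := inv_eq_of_mul_eq_one_right hi2
      rw [this]
      simp [← mul_assoc, hi2]
      simp [mul_assoc, hi2]
    rw [h2, mul_assoc] at this
    exact (mul_eq_left (a := x)).1 this.symm
  obtain ⟨z, hzV, hz⟩ := hX.sq_of_sq_eq_one h4 hvV hvv
  have hxx : x * x = (w * w) * (z * z)⁻¹ := by
    rw [hz, hv]; simp [mul_assoc]
  set r := z * w⁻¹ with hr
  have hrV : r ∈ V := mul_mem hzV (inv_mem hwV)
  have hcx : Commute x r := ((mem_centralizer_iff.1 hxC) r hrV).symm
  have hy2 : (x * r) * (x * r) = 1 := by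
    rw [hcx.symm.mul_mul_mul_comm, hxx, hr]
    have hc : Commute z w⁻¹ := hX.comm hzV (inv_mem hwV)
    rw [hc.symm.mul_mul_mul_comm]
    group
  have hxrV : x * r ∉ V := fun h => hxV (by simpa using mul_mem h (inv_mem hrV))
  apply hxnr
  have := Rigid.mul_mem hX (hX.rigid_of_invol h4 hy2 hxrV) (inv_mem hrV)
  simpa using this

/-- `X/V` has no isolated involution and is not a `2`-group. -/
theorem Hyp.not_isolated [V.Normal] (hX : Hyp V g) {z : X ⧸ V}
    (hz : Cfsg.IsIsolatedInvolution z) : False := by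
  set π := QuotientGroup.mk' V with hπ
  haveI : Group.IsSolvable V :=
    Group.isSolvable_of_comm fun a b => Subtype.ext (hX.comm a.2 b.2)
  have hbar : ∀ N : Subgroup (X ⧸ V), N.Normal → Group.IsSolvable N → N = ⊥ := by
    intro N hN hs
    let f : ↥(N.comap π) →* N := π.subgroupComap N
    have hsol : Group.IsSolvable ↥(N.comap π) := by
      refine Group.isSolvable_of_ker_le_range (Subgroup.inclusion (?_ : V ≤ N.comap π)) f ?_
      · intro v hv
        rw [mem_comap, hπ, QuotientGroup.mk'_apply, (QuotientGroup.eq_one_iff v).2 hv]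
        exact one_mem N
      · rintro ⟨y, hy⟩ hk
        have : π y = 1 := congrArg Subtype.val hk
        exact ⟨⟨y, (QuotientGroup.eq_one_iff y).1 this⟩, rfl⟩
    have hle := hX.rad _ (hN.comap π) hsol
    rw [eq_bot_iff]
    intro y hy
    obtain ⟨y, rfl⟩ := QuotientGroup.mk'_surjective V y
    exact (QuotientGroup.eq_one_iff y).2 (hle hy)
  have hO : Cfsg.oddCore (X ⧸ V) = ⊥ := by
    haveI := CfsgLib.Solvable.pPrimeCore_normal 2 (X ⧸ V)
    exact hbar _ inferInstance (solvable_odd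
      (Nat.coprime_two_right.1 (CfsgLib.Solvable.pPrimeCore_coprime 2)))
  have hc : ∀ y, z * y * z⁻¹ * y⁻¹ = 1 := fun y => by
    simpa [hO] using CfsgLib.Invol.zstar (X ⧸ V) hz y
  have hzc : z ∈ center (X ⧸ V) := mem_center_iff.2 fun y => by
    have := hc y
    rw [mul_inv_eq_one, mul_inv_eq_iff_eq_mul] at this
    exact this.symm
  have hn : (zpowers z).Normal := ⟨fun k hk y => by
    have hkc : k ∈ center (X ⧸ V) := (zpowers_le.2 hzc) hk
    rwa [(mem_center_iff.1 hkc y), mul_inv_cancel_right]⟩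
  have := hbar _ hn (Group.isSolvable_of_comm fun a b => by
    apply Subtype.ext
    obtain ⟨i, hi⟩ := a.2
    obtain ⟨j, hj⟩ := b.2
    show (a : X ⧸ V) * b = b * a
    rw [← hi, ← hj]
    exact ((Commute.refl z).zpow_zpow i j).eq)
  rw [zpowers_eq_bot] at this
  have h1 := hz.1
  rw [this, orderOf_one] at h1
  exact absurd h1 (by norm_num)

/-- The radical `V` is central. -/
theorem Hyp.centralizer_eq_top [V.Normal] (hX : Hyp V g) (hns : ¬ Group.IsSolvable X) :
    centralizer (V : Set X) = ⊤ := by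
  set π := QuotientGroup.mk' V with hπ
  set C := centralizer (V : Set X) with hCdef
  haveI hCn : C.Normal := Subgroup.normal_centralizer
  have hker : ∀ x : X, π x = 1 ↔ x ∈ V := fun x => QuotientGroup.eq_one_iff x
  have hVp : IsPGroup 2 V := by
    intro v
    obtain ⟨k, hk⟩ := hX.twoPower v.2
    exact ⟨k, Subtype.ext (by simpa using hk)⟩
  haveI hVc : IsCyclic V := by
    refine ⟨⟨⟨g, hX.mem⟩, fun v => ?_⟩⟩
    obtain ⟨k, hk⟩ := hX.gen v v.2
    exact ⟨k, Subtype.ext (by simpa using hk)⟩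
  -- conjugation maps are power maps
  have hcon : ∀ a : X, ∃ k : ℕ, a * g * a⁻¹ = g ^ k := fun a => by
    obtain ⟨k, hk⟩ := hX.gen _ (Subgroup.Normal.conj_mem inferInstance g hX.mem a)
    exact ⟨k, hk.symm⟩
  have hCg : ∀ a : X, a ∈ C ↔ a * g * a⁻¹ = g := by
    intro a
    constructor
    · intro h
      rw [mul_inv_eq_iff_eq_mul]
      exact ((mem_centralizer_iff.1 h) g hX.mem).symm
    · intro h
      rw [mul_inv_eq_iff_eq_mul] at h
      refine mem_centralizer_iff.2 fun v hv => ?_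
      obtain ⟨k, rfl⟩ := hX.gen v hv
      exact ((show Commute a g from h).pow_right k).eq.symm
  have hcomC : ∀ a b : X, a * b * a⁻¹ * b⁻¹ ∈ C := by
    intro a b
    obtain ⟨k, hk⟩ := hcon a
    obtain ⟨l, hl⟩ := hcon b
    have h1 : (a * b) * g * (a * b)⁻¹ = g ^ (k * l) := by
      calc (a * b) * g * (a * b)⁻¹ = a * (b * g * b⁻¹) * a⁻¹ := by group
        _ = g ^ (k * l) := by rw [hl, ← conj_pow, hk, ← pow_mul]
    have h2 : (b * a) * g * (b * a)⁻¹ = g ^ (k * l) := by
      calc (b * a) * g * (b * a)⁻¹ = b * (a * g * a⁻¹) * b⁻¹ := by group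
        _ = g ^ (k * l) := by rw [hk, ← conj_pow, hl, ← pow_mul, mul_comm]
    have h3 : (b * a)⁻¹ * (a * b) ∈ C := by
      rw [hCg]
      calc (b * a)⁻¹ * (a * b) * g * ((b * a)⁻¹ * (a * b))⁻¹
          = (b * a)⁻¹ * ((a * b) * g * (a * b)⁻¹) * (b * a) := by group
        _ = g := by rw [h1, ← h2]; group
    have := hCn.conj_mem _ h3 (b * a)
    have e : b * a * ((b * a)⁻¹ * (a * b)) * (b * a)⁻¹ = a * b * a⁻¹ * b⁻¹ := by group
    rwa [e] at this
  have hpow : ∀ a : X, ∃ k : ℕ, a ^ (2 ^ k) ∈ C := by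
    intro a
    let φ := MulAut.conjNormal (H := V)
    obtain ⟨e, he⟩ := IsPGroup.iff_card.1 hVp
    have hcard : Nat.card (MulAut V) = 2 ^ (e - 1) := by
      rw [IsCyclic.card_mulAut, he]
      rcases e with _ | e
      · simp
      · rw [Nat.totient_prime_pow Nat.prime_two (by omega)]; simp
    refine ⟨e - 1, (hCg _).2 ?_⟩
    have h1 : φ (a ^ (2 ^ (e - 1))) = 1 := by rw [map_pow, ← hcard, pow_card_eq_one']
    have := congrArg Subtype.val (DFunLike.congr_fun h1 ⟨g, hX.mem⟩)
    simpa [φ, ← map_pow] using this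
  by_contra hne
  obtain ⟨a0, ha0⟩ : ∃ a : X, a ∉ C := by
    by_contra h
    exact hne (eq_top_iff.2 fun a _ => not_not.1 (not_exists.1 h a))
  -- a `2`-element outside `C`
  obtain ⟨s0, hs0C, hs0⟩ : ∃ s : X, s ∉ C ∧ ∃ k : ℕ, s ^ (2 ^ k) = 1 := by
    obtain ⟨k, hk⟩ := hpow a0
    obtain ⟨e, m, hm, ho⟩ := Nat.exists_eq_pow_mul_and_not_dvd (orderOf_pos a0).ne' 2 (by norm_num)
    refine ⟨a0 ^ m, fun h => ha0 ?_, e, by rw [← pow_mul, mul_comm, ← ho, pow_orderOf_eq_one]⟩
    have hg : Nat.gcd (2 ^ k) m = 1 := Nat.Coprime.pow_left k (Nat.prime_two.coprime_iff_not_dvd.2 hm)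
    have := (pow_gcd_eq_one (a := QuotientGroup.mk' C a0) (m := 2 ^ k) (n := m)).2
      ⟨by rw [← map_pow]; exact (QuotientGroup.eq_one_iff _).2 hk,
       by rw [← map_pow]; exact (QuotientGroup.eq_one_iff _).2 h⟩
    rw [hg, pow_one] at this
    exact (QuotientGroup.eq_one_iff a0).1 this
  obtain ⟨k0, hk0⟩ := hs0
  have hs0p : IsPGroup 2 (zpowers s0) := by
    rintro ⟨z, m, rfl⟩
    refine ⟨k0, Subtype.ext ?_⟩
    show (s0 ^ m) ^ (2 ^ k0) = 1
    rw [← zpow_natCast, ← zpow_mul, mul_comm, zpow_mul, zpow_natCast, hk0, one_zpow]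
  obtain ⟨S, hS⟩ := hs0p.exists_le_sylow
  have hs0S : s0 ∈ S := hS (mem_zpowers s0)
  have h4 : 4 ∣ orderOf g := by
    obtain ⟨k, hk⟩ := hX.twoPower hX.mem
    obtain ⟨e, -, he⟩ := (Nat.dvd_prime_pow Nat.prime_two).1 (orderOf_dvd_of_pow_eq_one hk)
    rcases e with _ | _ | e
    · exfalso
      refine hs0C ((hCg s0).2 ?_)
      rw [pow_zero] at he
      rw [orderOf_eq_one_iff.1 he]; group
    · exfalso
      refine hs0C ((hCg s0).2 ?_)
      obtain ⟨j, hj⟩ := hcon s0
      have hg1 : g ≠ 1 := fun h => by rw [h, orderOf_one] at he; norm_num at he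
      rw [hj, pow_eq_pow_mod j (show g ^ 2 = 1 by rw [show 2 = orderOf g by simpa using he.symm,
        pow_orderOf_eq_one])]
      rcases Nat.mod_two_eq_zero_or_one j with hj' | hj' <;> rw [hj']
      · exfalso
        rw [pow_eq_pow_mod j (show g ^ 2 = 1 by rw [show 2 = orderOf g by simpa using he.symm,
          pow_orderOf_eq_one]), hj', pow_zero, mul_inv_eq_one] at hj
        exact hg1 (mul_eq_left.1 hj)
      · exact pow_one g
    · rw [he, pow_succ, pow_succ, mul_assoc]; exact Dvd.intro_left _ rfl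
  -- every rigid element outside `V` has a conjugate outside `S`
  have hout : ∀ y : X, y ∉ V → ∃ h : X, h * y * h⁻¹ ∉ S := by
    intro y hy
    by_contra h
    push Not at h
    have hle : normalClosure ({y} : Set X) ≤ (S : Subgroup X) := by
      refine (closure_le _).2 fun z hz => ?_
      obtain ⟨a, ha, hconj⟩ := Group.mem_conjugatesOfSet_iff.1 hz
      obtain rfl : a = y := ha
      obtain ⟨c, rfl⟩ := isConj_iff.1 hconj
      exact h c
    have hp : IsPGroup 2 (normalClosure ({y} : Set X)) := S.2.to_le hle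
    haveI : Group.IsNilpotent (normalClosure ({y} : Set X)) := hp.isNilpotent
    exact hy (hX.rad (normalClosure ({y} : Set X)) normalClosure_normal inferInstance
      (subset_normalClosure rfl))
  -- the split involutions
  let I : X → Prop := fun i => i * i = 1 ∧ i ∈ C ∧ i ∉ V
  have hIr : ∀ i, I i → Rigid i := fun i hi => hX.rigid_of_invol h4 hi.1 hi.2.2
  have hIconj : ∀ i (h : X), I i → I (h * i * h⁻¹) := by
    intro i h ⟨h1, h2, h3⟩
    refine ⟨?_, hCn.conj_mem i h2 h, fun hv => h3 ?_⟩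
    · calc h * i * h⁻¹ * (h * i * h⁻¹) = h * (i * i) * h⁻¹ := by group
        _ = 1 := by rw [h1]; group
    · have := Subgroup.Normal.conj_mem (H := V) inferInstance _ hv h⁻¹
      have e : h⁻¹ * (h * i * h⁻¹) * h⁻¹⁻¹ = i := by group
      rwa [e] at this
  have hIp : ∀ i, I i → ∃ T : Sylow 2 X, i ∈ T := by
    intro i hi
    have hp : IsPGroup 2 (zpowers i) := by
      rintro ⟨z, m, rfl⟩
      refine ⟨1, Subtype.ext ?_⟩
      show (i ^ m) ^ (2 ^ 1) = 1
      rw [pow_one, ← zpow_natCast, ← zpow_mul, mul_comm, zpow_mul, zpow_natCast, pow_two, hi.1,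
        one_zpow]
    obtain ⟨T, hT⟩ := hp.exists_le_sylow
    exact ⟨T, hT (mem_zpowers i)⟩
  -- all split involutions are conjugate modulo `V`
  have hall : ∀ i j, I i → i ∈ S → I j → j ∈ S → IsConj (π i) (π j) := by
    intro i j hi hiS hj hjS
    obtain ⟨h, hh⟩ := hout i hi.2.2
    have hk := hIconj i h hi
    obtain ⟨T, hT⟩ := hIp _ hk
    have hne : S ≠ T := fun e => hh (e ▸ hT)
    have hVi : ∀ i, I i → i * i ∈ V := fun i hi => by rw [hi.1]; exact one_mem V
    exact (hX.isConj h4 hne hiS (hVi i hi) hi.2.2 (hIr i hi) (fun _ => hi.1) hT hk.1 hk.2.1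
      hk.2.2).trans (hX.isConj h4 hne hjS (hVi j hj) hj.2.2 (hIr j hj) (fun _ => hj.1) hT hk.1
      hk.2.1 hk.2.2).symm
  let Central : X → Prop := fun x => ∀ s ∈ S, π s * π x = π x * π s
  -- a central element of order two modulo `V` in `C`
  obtain ⟨w, hwS, hwC, hwV, hw2, hwc⟩ : ∃ w, w ∈ S ∧ w ∈ C ∧ w ∉ V ∧ w * w ∈ V ∧ Central w := by
    have hlt : V.subgroupOf S < C.subgroupOf S := by
      refine lt_of_le_of_ne (comap_mono hX.le_centralizer) fun heq => ?_
      -- then the Sylow subgroup of `C` is `V`, so `C` is a `2`-group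
      apply hns
      have hCV : C ≤ V := by
        refine hX.rad C hCn ?_
        have hSC : (S : Subgroup X) ⊓ C = V := by
          refine le_antisymm (fun y hy => ?_) (le_inf (hX.le S) hX.le_centralizer)
          exact (heq ▸ (show (⟨y, hy.1⟩ : S) ∈ C.subgroupOf S from hy.2) :
            (⟨y, hy.1⟩ : S) ∈ V.subgroupOf S)
        haveI : Group.IsSolvable V :=
          Group.isSolvable_of_comm fun a b => Subtype.ext (hX.comm a.2 b.2)
        have hodd : Odd (Nat.card (↥C ⧸ V.subgroupOf C)) := by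
          rw [← Nat.not_even_iff_odd, even_iff_two_dvd]
          intro h2
          obtain ⟨W, hW⟩ := CfsgLib.Transfer.exists_sylow_eq_subgroupOf S C
          have hWV : (W : Subgroup C) = V.subgroupOf C := by
            rw [hW, ← inf_subgroupOf_right, hSC]
          apply W.not_dvd_index
          rw [hWV]
          exact h2
        haveI : Group.IsSolvable (↥C ⧸ V.subgroupOf C) := Cfsg.Agent.S0205.result hodd
        exact Group.isSolvable_of_ker_le_range (Subgroup.inclusion hX.le_centralizer)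
          (QuotientGroup.mk' (V.subgroupOf C)) (fun y hy => by
            rw [QuotientGroup.ker_mk'] at hy
            exact ⟨⟨y, hy⟩, rfl⟩)
      have hp : IsPGroup 2 X := by
        intro y
        obtain ⟨k, hk⟩ := hpow y
        obtain ⟨l, hl⟩ := hX.twoPower (hCV hk)
        exact ⟨k + l, by rw [pow_add, pow_mul, hl]⟩
      haveI := hp.isNilpotent
      exact inferInstance
    obtain ⟨x, hxC, hxV, hxc⟩ := CfsgLib.OddLocal.exists_central_mod S.2 _ _ hlt
    obtain ⟨k, hk⟩ := S.2 x
    have hex : ∃ k : ℕ, (x : X) ^ (2 ^ k) ∈ V := ⟨k, by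
      rw [show (x : X) ^ (2 ^ k) = 1 by simpa using congrArg Subtype.val hk]; exact one_mem V⟩
    classical
    obtain ⟨j, hj⟩ : ∃ j, Nat.find hex = j + 1 := Nat.exists_eq_succ_of_ne_zero fun h0 => by
      have := Nat.find_spec hex
      rw [h0, pow_zero, pow_one] at this
      exact hxV this
    refine ⟨(x : X) ^ (2 ^ j), pow_mem x.2 _, pow_mem hxC _, Nat.find_min hex (by omega), ?_, ?_⟩
    · have := Nat.find_spec hex
      rw [hj, pow_succ, pow_mul, pow_two] at this
      exact this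
    · intro s hs
      have h1 : π s * π x = π x * π s := by
        have := (hker _).2 (hxc ⟨s, hs⟩)
        change π (s * (x : X) * s⁻¹ * (x : X)⁻¹) = 1 at this
        rwa [map_mul, map_mul, map_mul, map_inv, map_inv, mul_inv_eq_one, mul_inv_eq_iff_eq_mul]
          at this
      rw [map_pow]
      exact ((show Commute (π s) (π x) from h1).pow_right _).eq
  -- a split involution, central modulo `V`
  obtain ⟨i0, hi0, hi0S, hi0c⟩ : ∃ i, I i ∧ i ∈ S ∧ Central i := by
    by_cases hsq : ∃ z ∈ V, z * z = w * w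
    · obtain ⟨z, hz, hzz⟩ := hsq
      refine ⟨w * z⁻¹, ⟨?_, mul_mem hwC (inv_mem (hX.le_centralizer hz)),
        fun h => hwV (by simpa using mul_mem h hz)⟩, mul_mem hwS (inv_mem (hX.le S hz)), ?_⟩
      · have hc : Commute w z⁻¹ := ((mem_centralizer_iff.1 hwC) _ (inv_mem hz)).symm
        rw [hc.symm.mul_mul_mul_comm, ← hzz]; group
      · intro s hs
        rw [map_mul, (hker _).2 (inv_mem hz), mul_one]
        exact hwc s hs
    -- otherwise use that `π w` is not isolated
    set z := π w with hz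
    have hzS : z ∈ (S.mapSurjective (QuotientGroup.mk'_surjective V) : Subgroup (X ⧸ V)) :=
      ⟨w, hwS, rfl⟩
    have hzo : orderOf z = 2 := orderOf_eq_prime (by rw [pow_two, hz, ← map_mul, hker]; exact hw2)
      (fun h => hwV ((hker w).1 h))
    obtain ⟨h', hh'S, hh'⟩ : ∃ h, h * z * h⁻¹ ∈
        (S.mapSurjective (QuotientGroup.mk'_surjective V) : Subgroup (X ⧸ V)) ∧
        h * z * h⁻¹ ≠ z := by
      by_contra hall'
      push Not at hall'
      exact hX.not_isolated (CfsgLib.Invol.isolated_of_sylow _ hzo hzS hall')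
    obtain ⟨h, rfl⟩ := QuotientGroup.mk'_surjective V h'
    rw [hz, ← map_inv, ← map_mul, ← map_mul] at hh'S hh'
    set w' := h * w * h⁻¹ with hw'
    have hw'S : w' ∈ S := by
      obtain ⟨s, hs, hse⟩ := hh'S
      exact hX.mem_of_map hs hse.symm
    have hw'C : w' ∈ C := hCn.conj_mem w hwC h
    have hw'2 : w' * w' = h * (w * w) * h⁻¹ := by rw [hw']; group
    have hw'2V : w' * w' ∈ V := by
      rw [hw'2]; exact Subgroup.Normal.conj_mem inferInstance _ hw2 h
    -- the commutator
    set c := (w * w')⁻¹ * (w' * w) with hc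
    have hcV : c ∈ V := by
      have h1 : π (w' * w) = π (w * w') := by rw [map_mul π w' w, map_mul π w w']; exact hwc w' hw'S
      rw [← hker, hc, map_mul, map_inv, h1, inv_mul_cancel]
    have hcc : ∀ v ∈ V, ∀ y ∈ C, v * y = y * v := fun v hv y hy => (mem_centralizer_iff.1 hy) v hv
    have hc2 : c * c = 1 := by
      have e1 : w' * w = w * w' * c := by rw [hc]; group
      have e2 : w' * w' * w = w * (w' * w') * (c * c) := by
        calc w' * w' * w = w' * (w' * w) := mul_assoc _ _ _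
          _ = w' * (w * w' * c) := by rw [e1]
          _ = (w' * w) * w' * c := by simp only [mul_assoc]
          _ = w * w' * (c * w') * c := by rw [e1]; simp only [mul_assoc]
          _ = w * (w' * w') * (c * c) := by rw [hcc c hcV w' hw'C]; simp only [mul_assoc]
      rw [hcc _ hw'2V w hwC] at e2
      exact (mul_eq_left.1 e2.symm)
    obtain ⟨q, hq, hqq⟩ := hX.sq_of_sq_eq_one h4 hcV hc2
    -- the squares of `w` and `w'` are both nonsquares
    obtain ⟨k, hk⟩ := hX.gen _ hw2
    obtain ⟨l, hl⟩ := hX.gen _ hw'2V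
    have hsq' : ∀ j : ℕ, g ^ (j + j) = g ^ j * g ^ j := fun j => pow_add g j j
    have hkodd : Odd k := by
      rcases Nat.even_or_odd k with ⟨j, rfl⟩ | hk'
      · exact absurd ⟨g ^ j, pow_mem hX.mem j, by rw [← hsq', hk]⟩ hsq
      · exact hk'
    have hlodd : Odd l := by
      rcases Nat.even_or_odd l with ⟨j, rfl⟩ | hl'
      · refine absurd ⟨h⁻¹ * g ^ j * h, ?_, ?_⟩ hsq
        · simpa using Subgroup.Normal.conj_mem (H := V) inferInstance _ (pow_mem hX.mem j) h⁻¹
        · calc h⁻¹ * g ^ j * h * (h⁻¹ * g ^ j * h) = h⁻¹ * (g ^ j * g ^ j) * h := by group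
            _ = w * w := by rw [← hsq', hl, hw'2]; group
      · exact hl'
    obtain ⟨m, hm⟩ := hkodd.add_odd hlodd
    set r := g ^ m * q with hr
    have hrV : r ∈ V := mul_mem (pow_mem hX.mem m) hq
    have hyy : (w * w') * (w * w') = r * r := by
      have e1 : w' * w = w * w' * c := by rw [hc]; group
      calc (w * w') * (w * w') = w * (w' * w) * w' := by group
        _ = (w * w) * (w' * w') * c := by
          rw [e1, mul_assoc (w) (w * w' * c) w', mul_assoc (w * w') c w', hcc c hcV w' hw'C]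
          group
        _ = r * r := by
          rw [← hk, ← hl, ← pow_add, hm, hsq', ← hqq, hr]
          have hcq : Commute q (g ^ m) := hX.comm hq (pow_mem hX.mem m)
          rw [hcq.mul_mul_mul_comm]
    set y := w * w' * r⁻¹ with hy
    have hne : π w' ≠ π w := hh'
    have hπy : π y = π w * π w' := by rw [hy, map_mul, map_mul, (hker _).2 (inv_mem hrV), mul_one]
    have hyC : y ∈ C := mul_mem (mul_mem hwC hw'C) (inv_mem (hX.le_centralizer hrV))
    have hy2 : y * y = 1 := by
      have hc' : Commute r⁻¹ (w * w') := hcc _ (inv_mem hrV) _ (mul_mem hwC hw'C)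
      rw [hy, hc'.mul_mul_mul_comm, hyy]; group
    have hwi : (π w)⁻¹ = π w := by rw [inv_eq_iff_mul_eq_one, ← map_mul, hker]; exact hw2
    have hyV : y ∉ V := fun hv => hne (by
      have h1 := (hker y).2 hv
      rw [hπy, mul_eq_one_iff_inv_eq, hwi] at h1
      exact h1.symm)
    have hIy : I y := ⟨hy2, hyC, hyV⟩
    have hyS : y ∈ S := mul_mem (mul_mem hwS hw'S) (inv_mem (hX.le S hrV))
    refine ⟨y, hIy, hyS, ?_⟩
    -- `w'` is central modulo `V`
    obtain ⟨U, u, huU, hwU, hw'U⟩ : ∃ (U : Sylow 2 X) (u : X), U = u • S ∧ w ∈ U ∧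
        π (u * w * u⁻¹) = π w' := by
      set Q := ((h • S : Sylow 2 X).mapSurjective (QuotientGroup.mk'_surjective V)) with hQ
      set H := centralizer ({π w'} : Set (X ⧸ V)) with hH
      have hQH : (Q : Subgroup (X ⧸ V)) ≤ H := by
        rintro _ ⟨s, hs, rfl⟩
        rw [hH, mem_centralizer_singleton_iff]
        change π s * π w' = π w' * π s
        have hs' := mem_smul_iff.1 hs
        have := hwc _ hs'
        rw [map_mul, map_mul, map_inv] at this
        rw [hw', map_mul, map_mul, map_inv]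
        calc π s * (π h * π w * (π h)⁻¹) = π h * ((π h)⁻¹ * π s * π h * π w) * (π h)⁻¹ := by group
          _ = _ := by rw [this]; group
      have hwH : π w ∈ H := by
        rw [hH, mem_centralizer_singleton_iff]
        exact (hwc w' hw'S).symm
      have hp : IsPGroup 2 (zpowers (⟨π w, hwH⟩ : H)) := by
        rintro ⟨t, m, rfl⟩
        refine ⟨1, Subtype.ext (Subtype.ext ?_)⟩
        show (π w ^ m) ^ (2 ^ 1) = 1
        rw [pow_one, ← zpow_natCast, ← zpow_mul, mul_comm, zpow_mul, zpow_natCast, pow_two,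
          ← map_mul, (hker _).2 hw2, one_zpow]
      obtain ⟨P, hP⟩ := hp.exists_le_sylow
      obtain ⟨a, ha⟩ := MulAction.exists_smul_eq H (Q.subtype hQH) P
      have hwP : (⟨π w, hwH⟩ : H) ∈ a • Q.subtype hQH := ha ▸ hP (mem_zpowers _)
      change (⟨π w, hwH⟩ : H) ∈ ((a • Q.subtype hQH : Sylow 2 H) : Subgroup H) at hwP
      rw [Sylow.coe_subgroup_smul, CfsgLib.Solvable.mem_conj_smul, Sylow.coe_subtype,
        mem_subgroupOf] at hwP
      obtain ⟨s, hs, hse⟩ := hwP
      obtain ⟨b, hb⟩ := QuotientGroup.mk'_surjective V (a : X ⧸ V)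
      refine ⟨(b * h) • S, b * h, rfl, ?_, ?_⟩
      · rw [mul_smul, mem_smul_iff]
        refine hX.mem_of_map hs ?_
        rw [hse, map_mul, map_mul, map_inv, ← hπ, hb]
        rfl
      · have haw := mem_centralizer_singleton_iff.1 a.2
        rw [← hb] at haw
        calc π (b * h * w * (b * h)⁻¹) = π b * π w' * (π b)⁻¹ := by
              rw [hw', ← map_inv, ← map_mul, ← map_mul]; congr 1; group
          _ = π w' := by rw [haw, mul_inv_cancel_right]
    have hw'U' : w' ∈ U := by
      refine hX.mem_of_map (x := u * w * u⁻¹) ?_ hw'U.symm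
      rw [huU, mem_smul_iff]
      convert hwS using 1; group
    have hyU : y ∈ U := mul_mem (mul_mem hwU hw'U') (inv_mem (hX.le U hrV))
    have hUS : U = S := hIr y hIy U S hyU hyS
    have hun : u ∈ normalizer ((S : Subgroup X) : Set X) :=
      Sylow.smul_eq_iff_mem_normalizer.1 (huU ▸ hUS)
    intro s hs
    have hus : u⁻¹ * s * u ∈ S := ((mem_normalizer_iff''.1 hun) s).1 hs
    have hcw' : π s * π w' = π w' * π s := by
      have := hwc _ hus
      rw [map_mul, map_mul, map_inv] at this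
      rw [← hw'U, map_mul, map_mul, map_inv]
      calc π s * (π u * π w * (π u)⁻¹) = π u * ((π u)⁻¹ * π s * π u * π w) * (π u)⁻¹ := by group
        _ = _ := by rw [this]; group
    rw [hπy]
    exact ((show Commute (π s) (π w) from hwc s hs).mul_right
      (show Commute (π s) (π w') from hcw')).eq
  -- no element outside `C` has order two modulo `V`
  have hno : ∀ a : X, a * a ∈ V → a ∈ C := by
    intro a ha
    by_contra haC
    obtain ⟨k, hk⟩ := hX.twoPower ha
    have hap : IsPGroup 2 (zpowers a) := by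
      rintro ⟨z, m, rfl⟩
      refine ⟨k + 1, Subtype.ext ?_⟩
      show (a ^ m) ^ (2 ^ (k + 1)) = 1
      rw [← zpow_natCast, ← zpow_mul, mul_comm, zpow_mul, zpow_natCast, pow_succ', pow_mul,
        pow_two, hk, one_zpow]
    obtain ⟨T, hT⟩ := hap.exists_le_sylow
    have haV : a ∉ V := fun h => haC (hX.le_centralizer h)
    obtain ⟨h, hh⟩ := hout i0 hi0.2.2
    obtain ⟨j, hj, hjT⟩ : ∃ j, I j ∧ j ∉ T := by
      by_cases h0 : i0 ∈ T
      · exact ⟨_, hIconj i0 h hi0, (hIr i0 hi0 S T hi0S h0) ▸ hh⟩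
      · exact ⟨i0, hi0, h0⟩
    obtain ⟨U, hU⟩ := hIp j hj
    have := hX.isConj h4 (fun e : T = U => hjT (e.symm ▸ hU)) (hT (mem_zpowers a)) ha haV
      (hX.rigid_of_not_mem haC) (fun h => absurd h haC) hU hj.1 hj.2.1 hj.2.2
    obtain ⟨c, hc⟩ := isConj_iff.1 this.symm
    obtain ⟨c, rfl⟩ := QuotientGroup.mk'_surjective V c
    rw [← map_inv, ← map_mul, ← map_mul] at hc
    obtain ⟨v, hv, hv'⟩ := (QuotientGroup.mk'_eq_mk' V).1 hc
    exact haC (hv' ▸ mul_mem (hCn.conj_mem j hj.2.1 c) (hX.le_centralizer hv))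
  -- work in the quotient
  set Sb := S.mapSurjective (QuotientGroup.mk'_surjective V) with hSb
  set N := normalizer ((Sb : Subgroup (X ⧸ V)) : Set (X ⧸ V)) with hN
  have hle : (Sb : Subgroup (X ⧸ V)) ≤ N := le_normalizer
  set SN := (Sb : Subgroup (X ⧸ V)).subgroupOf N with hSN
  haveI : SN.Normal := normal_in_normalizer
  have hcop : Nat.Coprime (Nat.card SN) SN.index := by
    have := (Sb.subtype hle).card_coprime_index
    rwa [Sylow.coe_subtype] at this
  obtain ⟨K0, hK0⟩ := exists_right_complement'_of_coprime hcop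
  set A := K0.map N.subtype with hA
  have hAN : A ≤ N := map_subtype_le K0
  set Pb := (Sb : Subgroup (X ⧸ V)) ⊓ C.map π with hPb
  haveI : (C.map π).Normal := hCn.map π (QuotientGroup.mk'_surjective V)
  have hAPb : A ≤ normalizer (Pb : Set (X ⧸ V)) := by
    intro a ha
    rw [mem_normalizer_iff]
    intro y
    rw [hPb, mem_inf, mem_inf]
    refine and_congr ((mem_normalizer_iff.1 (hAN ha)) y) ?_
    refine ⟨fun hy => Subgroup.Normal.conj_mem inferInstance y hy a, fun hy => ?_⟩
    have h' := Subgroup.Normal.conj_mem (H := C.map π) inferInstance _ hy a⁻¹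
    rwa [show a⁻¹ * (a * y * a⁻¹) * a⁻¹⁻¹ = y by group] at h'
  have hAcop : (Nat.card A).Coprime (Nat.card (Sb : Subgroup (X ⧸ V))) := by
    have hidx : Nat.card K0 = SN.index := hK0.symm.index_eq_card.symm
    have h1 : Nat.card A = Nat.card K0 :=
      (Nat.card_congr (K0.equivMapOfInjective N.subtype N.subtype_injective).toEquiv).symm
    have h2 : Nat.card SN = Nat.card (Sb : Subgroup (X ⧸ V)) :=
      Nat.card_congr (subgroupOfEquivOfLe hle).toEquiv
    rw [h1, hidx, ← h2]
    exact hcop.symm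
  have hPsol : Group.IsSolvable Pb := by
    haveI : Group.IsNilpotent Pb := (Sb.2.to_le inf_le_left).isNilpotent
    infer_instance
  obtain ⟨nb, hnb, hfix⟩ := CfsgLib.Coprime.exists_mem_centralizer_of_coset hAN hAPb inf_le_left
    hAcop (Or.inr hPsol) (g := π s0) ⟨s0, hs0S, rfl⟩ (fun a ha => by
      refine mem_inf.2 ⟨?_, ?_⟩
      · have h1 : a * π s0 * a⁻¹ ∈ (Sb : Subgroup (X ⧸ V)) :=
          ((mem_normalizer_iff.1 (hAN ha)) _).1 ⟨s0, hs0S, rfl⟩
        have h0 : π s0 ∈ (Sb : Subgroup (X ⧸ V)) := ⟨s0, hs0S, rfl⟩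
        have := mul_mem (inv_mem h0) h1
        rwa [show (π s0)⁻¹ * (a * π s0 * a⁻¹) = (π s0)⁻¹ * a * π s0 * a⁻¹ by group] at this
      · obtain ⟨a', rfl⟩ := QuotientGroup.mk'_surjective V a
        refine ⟨_, hcomC s0⁻¹ a', ?_⟩
        simp only [map_mul, map_inv, inv_inv]
        rfl)
  obtain ⟨hnS, hnC⟩ := mem_inf.1 hnb
  obtain ⟨n, hnC', rfl⟩ := hnC
  obtain ⟨n', hn', hne'⟩ := hnS
  have hnS' : n ∈ S := hX.mem_of_map hn' hne'.symm
  set s := s0 * n with hs
  have hsS : s ∈ S := mul_mem hs0S hnS'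
  have hsC : s ∉ C := fun h => hs0C (by simpa [hs] using mul_mem h (inv_mem hnC'))
  have hfix' : π s ∈ centralizer (A : Set (X ⧸ V)) := by rw [hs, map_mul]; exact hfix
  -- the socle of `π s`
  classical
  obtain ⟨k, hk⟩ := S.2 ⟨s, hsS⟩
  have hex : ∃ k : ℕ, s ^ (2 ^ k) ∈ V := ⟨k, by
    rw [show s ^ (2 ^ k) = 1 by simpa using congrArg Subtype.val hk]; exact one_mem V⟩
  obtain ⟨j, hj⟩ : ∃ j, Nat.find hex = j + 1 := Nat.exists_eq_succ_of_ne_zero fun h0 => by
    have := Nat.find_spec hex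
    rw [h0, pow_zero, pow_one] at this
    exact hsC (hX.le_centralizer this)
  set u := s ^ (2 ^ j) with hu
  have huV : u ∉ V := Nat.find_min hex (by omega)
  have hu2 : u * u ∈ V := by
    have := Nat.find_spec hex
    rw [hj, pow_succ, pow_mul, pow_two] at this
    exact this
  have huC : u ∈ C := hno u hu2
  obtain ⟨e, he⟩ := hX.gen _ hu2
  obtain ⟨m, rfl⟩ : Even e := by
    by_contra hodd
    rw [Nat.not_even_iff_odd] at hodd
    refine hsC ((hCg s).2 ?_)
    obtain ⟨l, hl⟩ := hX.twoPower hX.mem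
    have hcp : e.Coprime (orderOf g) := Nat.Coprime.coprime_dvd_right
      (orderOf_dvd_of_pow_eq_one hl) (Nat.Coprime.pow_right l (Nat.coprime_two_right.2 hodd))
    obtain ⟨p, hp⟩ := exists_pow_eq_self_of_coprime hcp
    have h1 : Commute s (g ^ e) := by
      rw [he, hu, ← pow_add]; exact Commute.self_pow s _
    rw [mul_inv_eq_iff_eq_mul, ← hp]
    exact (h1.pow_right p).eq
  set i := u * (g ^ m)⁻¹ with hi
  have hgm : g ^ m ∈ V := pow_mem hX.mem m
  have hIi : I i := by
    refine ⟨?_, mul_mem huC (inv_mem (hX.le_centralizer hgm)),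
      fun h => huV (by simpa [hi] using mul_mem h hgm)⟩
    have hc : Commute (g ^ m)⁻¹ u := (mem_centralizer_iff.1 huC) _ (inv_mem hgm)
    rw [hi, hc.mul_mul_mul_comm, ← he, pow_add]; group
  have hiS : i ∈ S := mul_mem (pow_mem hsS _) (inv_mem (hX.le S hgm))
  have hπi : π i = π u := by rw [hi, map_mul, (hker _).2 (inv_mem hgm), mul_one]
  -- `i` is central modulo `V`
  have hic : Central i := by
    obtain ⟨c, hc⟩ := isConj_iff.1 (hall i0 i hi0 hi0S hIi hiS)
    obtain ⟨c, rfl⟩ := QuotientGroup.mk'_surjective V c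
    rw [← hπ] at hc
    have hcS : c ∈ normalizer ((S : Subgroup X) : Set X) := by
      have hr := hIr i0 hi0
      have : c * i0 * c⁻¹ ∈ S := hX.mem_of_map hiS (by rw [map_mul, map_mul, map_inv]; exact hc)
      have h2 := hr.norm (h := c⁻¹) hi0S (by rwa [inv_inv])
      simpa using inv_mem h2
    intro t ht
    have hct : c⁻¹ * t * c ∈ S := ((mem_normalizer_iff''.1 hcS) t).1 ht
    have := hi0c _ hct
    rw [map_mul, map_mul, map_inv] at this
    rw [← hc]
    calc π t * (π c * π i0 * (π c)⁻¹) = π c * ((π c)⁻¹ * π t * π c * π i0) * (π c)⁻¹ := by group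
      _ = _ := by rw [this]; group
  -- and isolated
  refine hX.not_isolated (z := π i) (CfsgLib.Invol.isolated_of_sylow Sb
    (orderOf_eq_prime (by rw [pow_two, ← map_mul, hIi.1, map_one])
      (fun h => hIi.2.2 ((hker i).1 h))) ⟨i, hiS, rfl⟩ fun c hc => ?_)
  obtain ⟨c, rfl⟩ := QuotientGroup.mk'_surjective V c
  have hcS : c ∈ normalizer ((S : Subgroup X) : Set X) := by
    obtain ⟨t, ht, hte⟩ := hc
    have hmem : c * i * c⁻¹ ∈ S := hX.mem_of_map ht (by rw [map_mul, map_mul, map_inv]; exact hte.symm)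
    have h2 := (hIr i hIi).norm (h := c⁻¹) hiS (by rwa [inv_inv])
    simpa using inv_mem h2
  have hcN : π c ∈ N := by
    have := le_normalizer_map π (mem_map_of_mem π hcS)
    exact this
  obtain ⟨p, hp⟩ := (isComplement'_def.1 hK0).existsUnique (⟨π c, hcN⟩ : N) |>.exists
  have hpc : π c = (p.1.1 : X ⧸ V) * (p.2.1 : X ⧸ V) := (congrArg Subtype.val hp).symm
  have hcomA : π i * (p.2.1 : X ⧸ V) = (p.2.1 : X ⧸ V) * π i := by
    have h1 := (mem_centralizer_iff.1 hfix') (p.2.1 : X ⧸ V) (mem_map_of_mem N.subtype p.2.2)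
    rw [hπi, hu, map_pow]
    exact ((show Commute (π s) (p.2.1 : X ⧸ V) from h1.symm).pow_left _).eq
  have hcomS : (p.1.1 : X ⧸ V) * π i = π i * (p.1.1 : X ⧸ V) := by
    obtain ⟨t, ht, hte⟩ := (mem_subgroupOf.1 p.1.2)
    rw [← hte]
    exact hic t ht
  rw [hpc]
  calc (p.1.1 : X ⧸ V) * (p.2.1 : X ⧸ V) * π i * ((p.1.1 : X ⧸ V) * (p.2.1 : X ⧸ V))⁻¹
      = (p.1.1 : X ⧸ V) * ((p.2.1 : X ⧸ V) * π i * (p.2.1 : X ⧸ V)⁻¹) * (p.1.1 : X ⧸ V)⁻¹ := by
        group
    _ = π i := by rw [← hcomA, mul_inv_cancel_right, hcomS, mul_inv_cancel_right]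

/-- In a nonsolvable group with trivial odd core and cyclic Sylow `2`-intersections every solvable
normal subgroup is a central cyclic `2`-group. -/
theorem solvable_normal (hC : ∀ S T : Sylow 2 X, S ≠ T → IsCyclic ↥((S : Subgroup X) ⊓ (T : Subgroup X)))
    (hO : Cfsg.pPrimeCore 2 X = ⊥) (hns : ¬ Group.IsSolvable X)
    (N : Subgroup X) [N.Normal] (hN : Group.IsSolvable N) :
    IsCyclic N ∧ IsPGroup 2 N ∧ N ≤ center X := by
  set V := Cfsg.pCore 2 X with hV
  haveI : V.Normal := CfsgLib.Solvable.pCore_normal 2 X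
  have hVp : IsPGroup 2 V := CfsgLib.Solvable.pCore_isPGroup 2
  have hle : ∀ S : Sylow 2 X, V ≤ (S : Subgroup X) := CfsgLib.Solvable.pCore_le_sylow
  -- two distinct Sylow subgroups
  obtain ⟨S, T, hne⟩ : ∃ S T : Sylow 2 X, S ≠ T := by
    by_contra h
    push Not at h
    obtain ⟨S⟩ := (inferInstance : Nonempty (Sylow 2 X))
    haveI hSn : (S : Subgroup X).Normal := by
      rw [← normalizer_eq_top_iff]
      exact eq_top_iff.2 fun g _ => Sylow.smul_eq_iff_mem_normalizer.1 (h _ _)
    apply hns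
    haveI : Group.IsNilpotent S := S.2.isNilpotent
    have hodd : Odd (Nat.card (X ⧸ (S : Subgroup X))) := by
      rw [← Nat.not_even_iff_odd, even_iff_two_dvd]
      exact S.not_dvd_index
    haveI : Group.IsSolvable (X ⧸ (S : Subgroup X)) := Cfsg.Agent.S0205.result hodd
    exact Group.isSolvable_of_ker_le_range (S : Subgroup X).subtype (QuotientGroup.mk' _)
      (fun y hy => by
        rw [QuotientGroup.ker_mk'] at hy
        exact ⟨⟨y, hy⟩, rfl⟩)
  haveI := hC S T hne
  haveI hVc : IsCyclic V :=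
    isCyclic_of_injective (inclusion (le_inf (hle S) (hle T))) (inclusion_injective _)
  letI : CommGroup V := IsCyclic.commGroup
  obtain ⟨⟨g, hg⟩, hgen⟩ := IsCyclic.exists_generator (α := V)
  have hVC : V ≤ centralizer (V : Set X) := fun a ha => mem_centralizer_iff.2 fun b hb =>
    congrArg Subtype.val (mul_comm (⟨b, hb⟩ : V) ⟨a, ha⟩)
  have hrad : ∀ R : Subgroup X, R.Normal → Group.IsSolvable R → R ≤ V := by
    intro R hR hRs
    haveI : R.Normal := hR
    -- the part centralising `V`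
    have hR0 : R ⊓ centralizer (V : Set X) ≤ V := by
      have hc := CfsgLib.Solvable.centralizer_pCore_le (G := R) 2 ?_
      · have hcore : (Cfsg.pCore 2 R).map R.subtype ≤ V := by
          haveI : (Cfsg.pCore 2 R).Characteristic := CfsgLib.Solvable.pCore_characteristic 2 R
          exact CfsgLib.Solvable.le_pCore inferInstance
            ((CfsgLib.Solvable.pCore_isPGroup 2).map _)
        intro r hr
        refine hcore ⟨⟨r, hr.1⟩, hc (mem_centralizer_iff.2 fun y hy => Subtype.ext ?_), rfl⟩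
        exact (mem_centralizer_iff.1 hr.2) y (hcore ⟨y, hy, rfl⟩)
      · haveI : (Cfsg.pPrimeCore 2 R).Characteristic :=
          CfsgLib.Solvable.pPrimeCore_characteristic 2 R
        have h1 := CfsgLib.Solvable.le_pPrimeCore (p := 2)
          (N := (Cfsg.pPrimeCore 2 R).map R.subtype) inferInstance (by
            rw [Nat.card_congr ((Cfsg.pPrimeCore 2 R).equivMapOfInjective R.subtype
              R.subtype_injective).toEquiv.symm]
            exact CfsgLib.Solvable.pPrimeCore_coprime 2)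
        rw [hO, le_bot_iff] at h1
        exact (map_eq_bot_iff_of_injective _ R.subtype_injective).1 h1
    refine CfsgLib.Solvable.le_pCore hR fun r => ?_
    have hcard : ∃ e, Nat.card (MulAut V) = 2 ^ e := by
      obtain ⟨e, he⟩ := IsPGroup.iff_card.1 hVp
      rw [IsCyclic.card_mulAut, he]
      rcases e with _ | e
      · exact ⟨0, by simp⟩
      · exact ⟨e, by rw [Nat.totient_prime_pow Nat.prime_two (by omega)]; simp⟩
    obtain ⟨e, he⟩ := hcard
    have hmem : (r : X) ^ (2 ^ e) ∈ R ⊓ centralizer (V : Set X) := by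
      refine ⟨pow_mem r.2 _, mem_centralizer_iff.2 fun v hv => ?_⟩
      have h1 : MulAut.conjNormal (H := V) ((r : X) ^ (2 ^ e)) = 1 := by
        rw [map_pow, ← he, pow_card_eq_one']
      have h2 := congrArg Subtype.val (DFunLike.congr_fun h1 ⟨v, hv⟩)
      rw [MulAut.conjNormal_apply] at h2
      exact (mul_inv_eq_iff_eq_mul.1 h2).symm
    obtain ⟨k, hk⟩ := hVp ⟨_, hR0 hmem⟩
    refine ⟨e + k, Subtype.ext ?_⟩
    have h3 := congrArg Subtype.val hk
    show (r : X) ^ (2 ^ (e + k)) = 1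
    rw [pow_add, pow_mul]
    exact h3
  have hX : Hyp V g :=
    { cyc := hC
      mem := hg
      gen := fun v hv => by
        obtain ⟨k, hk⟩ := (mem_powers_iff_mem_zpowers).2 (hgen ⟨v, hv⟩)
        exact ⟨k, by simpa using congrArg Subtype.val hk⟩
      le := hle
      rad := hrad }
  have hcen : centralizer (V : Set X) = ⊤ := hX.centralizer_eq_top hns
  have hNV : N ≤ V := hrad N inferInstance hN
  refine ⟨isCyclic_of_injective (inclusion hNV) (inclusion_injective _), hVp.to_le hNV,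
    fun n hn => mem_center_iff.2 fun x => ?_⟩
  exact ((mem_centralizer_iff.1 (hcen ▸ mem_top x : x ∈ centralizer (V : Set X))) n (hNV hn)).symm

end CfsgLib.StructB.CycInt
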