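import Cfsg.Agent.Lib.StructB.SuperTower
import Cfsg.Agent.Lib.StructB.Misc
import Cfsg.Agent.Lib.Char.Burnside
import Cfsg.Agent.Lib.StructC.UniqueInvol
import Cfsg.Agent.Lib.Solvable.HallHigman
import Cfsg.Agent.Lib.Solvable.Supersolvable
import Mathlib

/-!
# Solvability from order types: groups whose abelian subgroups are cyclic
-/

set_option autoImplicit false

namespace CfsgLib.StructB

universe u v

/-- If `G` has normal Hall subgroups for the primes `≥ m` for all `m ≥ 4`, every group with the same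
order type is solvable. -/
theorem isSolvable_of_tower_orderType {G : Type u} {H : Type v} [Group G] [Finite G] [Group H] [Finite H]
    (hT : ∀ m : ℕ, Nat.card {g : G // orderOf g = m} = Nat.card {h : H // orderOf h = m})
    (hG : ∀ m : ℕ, 4 ≤ m → ∃ N : Subgroup G, N.Normal ∧ AllGE m (Nat.card N) ∧
      ∀ r : ℕ, r.Prime → r ∣ N.index → r < m) :
    Group.IsSolvable H := by
  classical
  obtain ⟨e, he⟩ := exists_equiv_orderOf hT
  have hGH : Nat.card G = Nat.card H := Nat.card_congr e
  suffices key : ∀ k m : ℕ, Nat.card H + 1 ≤ k + m → 4 ≤ m → ∃ N : Subgroup H, N.Normal ∧ Group.IsSolvable N ∧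
      AllGE m (Nat.card N) ∧ ∀ r : ℕ, r.Prime → r ∣ N.index → r < m by
    obtain ⟨N, hNn, hs, -, hi⟩ := key (Nat.card H + 1) 4 (by omega) le_rfl
    haveI := hNn
    haveI := hs
    obtain ⟨a, n', hn', hcard⟩ := Nat.exists_eq_pow_mul_and_not_dvd (Nat.card_pos (α := H ⧸ N)).ne' 2 (by norm_num)
    have h3 : n' = 3 ^ n'.primeFactorsList.length := by
      refine Nat.eq_prime_pow_of_unique_prime_dvd (fun e => hn' (e ▸ dvd_zero 2)) fun {r} hr hd => ?_
      have h4 : r < 4 := hi r hr (by rw [Subgroup.index_eq_card, hcard]; exact hd.mul_left _)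
      have h2 : r ≠ 2 := fun e => hn' (e ▸ hd)
      have := hr.two_le
      omega
    rw [h3] at hcard
    haveI := CfsgLib.Char.burnside_pq 2 3 Nat.prime_two Nat.prime_three _ _ (H ⧸ N) hcard
    exact Group.isSolvable_of_ker_le_range N.subtype (QuotientGroup.mk' N) (by
      rw [QuotientGroup.ker_mk', Subgroup.range_subtype])
  intro k
  induction k with
  | zero =>
    intro m hm hm4
    refine ⟨⊥, inferInstance, inferInstance, fun r hr hd => ?_, fun r hr hd => ?_⟩
    · rw [Subgroup.card_bot, Nat.dvd_one] at hd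
      exact absurd hd hr.one_lt.ne'
    · rw [Subgroup.index_bot] at hd
      have := Nat.le_of_dvd Nat.card_pos hd
      omega
  | succ k ih =>
    intro m hm hm4
    obtain ⟨N, hNn, hNs, hNc, hNi⟩ := ih (m + 1) (by omega) (by omega)
    by_cases hmp : m.Prime
    · obtain ⟨M, hMn, hMc, hMi⟩ := hG m hm4
      obtain ⟨M', hM'n, hM'c, hM'i⟩ := hG (m + 1) (by omega)
      have hcN : Nat.card N = Nat.card M' :=
        calc Nat.card N = Nat.card {h : H // AllGE (m + 1) (orderOf h)} :=
              Nat.card_congr (Equiv.subtypeEquivRight fun x => mem_iff_allGE hNc hNi x)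
          _ = Nat.card {g : G // AllGE (m + 1) (orderOf g)} := (card_orderOf_subtype_eq he _).symm
          _ = Nat.card M' :=
              (Nat.card_congr (Equiv.subtypeEquivRight fun x => mem_iff_allGE hM'c hM'i x)).symm
      have hcM : Nat.card M = Nat.card {h : H // AllGE m (orderOf h)} :=
        calc Nat.card M = Nat.card {g : G // AllGE m (orderOf g)} :=
              Nat.card_congr (Equiv.subtypeEquivRight fun x => mem_iff_allGE hMc hMi x)
          _ = _ := card_orderOf_subtype_eq he _
      haveI : Fact m.Prime := ⟨hmp⟩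
      have hX : ∀ r : ℕ, r.Prime → r ∣ Nat.card (H ⧸ N) → r ≤ m := fun r hr hd =>
        Nat.lt_succ_iff.1 (hNi r hr (by rwa [Subgroup.index_eq_card]))
      have hchar : ∀ h : H, AllGE m (orderOf h) ↔ ∃ j : ℕ, orderOf (h : H ⧸ N) = m ^ j := by
        intro h
        constructor
        · intro hh
          refine ⟨_, Nat.eq_prime_pow_of_unique_prime_dvd (orderOf_pos _).ne' fun {r} hr hd => ?_⟩
          exact le_antisymm (hX r hr (hd.trans (orderOf_dvd_natCard _)))
            (hh r hr (hd.trans (orderOf_map_dvd (QuotientGroup.mk' N) h)))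
        · rintro ⟨j, hj⟩
          have h1 : h ^ (m ^ j) ∈ N := by
            rw [← QuotientGroup.eq_one_iff, QuotientGroup.mk_pow, ← hj, pow_orderOf_eq_one]
          have h2 : orderOf h ∣ m ^ j * Nat.card N := by
            rw [orderOf_dvd_iff_pow_eq_one, pow_mul, ← orderOf_dvd_iff_pow_eq_one]
            exact Subgroup.orderOf_dvd_natCard N h1
          intro r hr hd
          rcases hr.dvd_mul.1 (hd.trans h2) with h3 | h3
          · exact ((Nat.prime_dvd_prime_iff_eq hr hmp).1 (hr.dvd_of_dvd_pow h3)).ge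
          · exact (Nat.le_succ m).trans (hNc r hr h3)
      rw [Nat.card_congr (Equiv.subtypeEquivRight hchar),
        card_subtype_mk N (fun x : H ⧸ N => ∃ j : ℕ, orderOf x = m ^ j)] at hcM
      let P : Sylow m (H ⧸ N) := default
      set e' := Nat.card {x : H ⧸ N // ∃ j : ℕ, orderOf x = m ^ j} with he'
      have hMmul : Nat.card (H ⧸ N) = e' * M.index := by
        have h1 := Subgroup.card_mul_index M
        rw [hGH, hcM, Subgroup.card_eq_card_quotient_mul_card_subgroup N] at h1
        apply Nat.eq_of_mul_eq_mul_right (Nat.card_pos (α := N))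
        rw [← h1]; ring
      have hdvd : e' ∣ Nat.card (H ⧸ N) := ⟨_, hMmul⟩
      have hepos : e' ≠ 0 := fun h0 => Nat.card_pos.ne' (Nat.eq_zero_of_zero_dvd (h0 ▸ hdvd))
      have hpow : e' = m ^ e'.primeFactorsList.length := by
        refine Nat.eq_prime_pow_of_unique_prime_dvd hepos fun {r} hr hd => ?_
        exact le_antisymm (hX r hr (hd.trans hdvd))
          (hMc r hr (hd.trans (hcM ▸ dvd_mul_left _ _)))
      have hle : e' ≤ Nat.card (P : Subgroup (H ⧸ N)) := by
        rw [P.card_eq_multiplicity, hpow]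
        refine Nat.pow_le_pow_right hmp.pos ?_
        exact (hmp.pow_dvd_iff_le_factorization Nat.card_pos.ne').1 (hpow ▸ hdvd)
      obtain ⟨hPn, -⟩ := sylow_of_card_pElements P hle
      have hge : Nat.card (P : Subgroup (H ⧸ N)) ≤ e' := by
        refine Nat.card_le_card_of_injective (fun x => ⟨x.1, ?_⟩) ?_
        · obtain ⟨j, hj⟩ := IsPGroup.iff_orderOf.1 P.isPGroup' x
          exact ⟨j, by rw [← hj, Subgroup.orderOf_coe]⟩
        · intro a b hab
          exact Subtype.ext (congrArg (fun z : {x : H ⧸ N // ∃ j : ℕ, orderOf x = m ^ j} => (z : H ⧸ N)) hab)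
      set Y := (P : Subgroup (H ⧸ N)).comap (QuotientGroup.mk' N) with hY
      have hYi : Y.index = M.index := by
        rw [hY, Subgroup.index_comap_of_surjective _ (QuotientGroup.mk'_surjective N)]
        have h1 := Subgroup.card_mul_index (P : Subgroup (H ⧸ N))
        rw [le_antisymm hge hle, hMmul] at h1
        exact Nat.eq_of_mul_eq_mul_left (Nat.pos_of_ne_zero hepos) h1
      refine ⟨Y, hPn.comap _, ?_, ?_, hYi ▸ hMi⟩
      · have hNY : N ≤ Y := fun x hx => by
          show (x : H ⧸ N) ∈ (P : Subgroup (H ⧸ N))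
          rw [(QuotientGroup.eq_one_iff x).2 hx]; exact one_mem _
        haveI : Group.IsSolvable N := hNs
        haveI : Group.IsNilpotent (P : Subgroup (H ⧸ N)) := P.isPGroup'.isNilpotent
        refine Group.isSolvable_of_ker_le_range (Subgroup.inclusion hNY)
          (((QuotientGroup.mk' N).comp Y.subtype).codRestrict (P : Subgroup (H ⧸ N)) (fun y => y.2)) ?_
        intro y hy
        have : ((y : H) : H ⧸ N) = 1 := congrArg Subtype.val hy
        exact ⟨⟨y, (QuotientGroup.eq_one_iff _).1 this⟩, rfl⟩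
      · have hYc : Nat.card Y = Nat.card M := by
          have h1 := Subgroup.card_mul_index Y
          have h2 := Subgroup.card_mul_index M
          rw [hYi, ← hGH, ← h2] at h1
          exact Nat.eq_of_mul_eq_mul_right (Nat.pos_of_ne_zero Subgroup.index_ne_zero_of_finite) h1
        rwa [hYc]
    · refine ⟨N, hNn, hNs, fun r hr hd => (Nat.le_succ m).trans (hNc r hr hd), fun r hr hd => ?_⟩
      have := hNi r hr hd
      rcases Nat.lt_succ_iff_lt_or_eq.1 this with h | h
      · exact h
      · exact absurd (h ▸ hr) hmp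

/-- An automorphism of `q`-power order, `q ≥ 5`, fixes a `2`-group with a cyclic subgroup of index `≤ 2`. -/
theorem mulAut_eq_one_of_cyclic_index_two {T : Type*} [Group T] [Finite T] (hT : IsPGroup 2 T) (a : T)
    (ha : (Subgroup.zpowers a).index ≤ 2) {q : ℕ} [Fact q.Prime] (hq : 5 ≤ q) (φ : MulAut T) {e : ℕ}
    (hφ : φ ^ q ^ e = 1) : φ = 1 := by
  classical
  haveI : Fact (Nat.Prime 2) := ⟨Nat.prime_two⟩
  have hind : ∀ b : T, orderOf b = orderOf a → (Subgroup.zpowers b).index = (Subgroup.zpowers a).index := by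
    intro b hb
    have h1 := Subgroup.card_mul_index (Subgroup.zpowers b)
    rw [← Subgroup.card_mul_index (Subgroup.zpowers a), Nat.card_zpowers, Nat.card_zpowers, hb] at h1
    exact Nat.eq_of_mul_eq_mul_left (orderOf_pos a) h1
  have hsq : ∀ b : T, orderOf b = orderOf a → a * a ∈ Subgroup.zpowers b := by
    intro b hb
    rcases Nat.lt_or_ge (Subgroup.zpowers b).index 2 with h | h
    · have h1 : (Subgroup.zpowers b).index = 1 := by
        have := Subgroup.index_ne_zero_of_finite (H := Subgroup.zpowers b); omega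
      rw [Subgroup.index_eq_one.1 h1]; exact Subgroup.mem_top _
    · exact Subgroup.mul_self_mem_of_index_two (by have := hind b hb; omega) a
  set B := Subgroup.zpowers (a * a) with hB
  have hB4 : B.index ≤ 4 := by
    have h1 := Subgroup.card_mul_index B
    have h2 := Subgroup.card_mul_index (Subgroup.zpowers a)
    have h3 : Nat.card (Subgroup.zpowers a) ≤ 2 * Nat.card B := by
      rw [hB, Nat.card_zpowers, Nat.card_zpowers, ← pow_two, orderOf_pow]
      have hg : Nat.gcd (orderOf a) 2 ∣ 2 := Nat.gcd_dvd_right _ _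
      have hg' : Nat.gcd (orderOf a) 2 ∣ orderOf a := Nat.gcd_dvd_left _ _
      have hle : Nat.gcd (orderOf a) 2 ≤ 2 := Nat.le_of_dvd two_pos hg
      calc orderOf a = orderOf a / Nat.gcd (orderOf a) 2 * Nat.gcd (orderOf a) 2 := (Nat.div_mul_cancel hg').symm
        _ ≤ 2 * (orderOf a / Nat.gcd (orderOf a) 2) := by rw [mul_comm]; exact Nat.mul_le_mul_right _ hle
    have h4 := Nat.mul_le_mul h3 ha
    rw [h2] at h4
    by_contra hlt
    have h5 : Nat.card B * 5 ≤ Nat.card B * B.index := Nat.mul_le_mul_left _ (by omega)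
    rw [h1] at h5
    have : 0 < Nat.card B := Nat.card_pos
    nlinarith
  let S := {A : Subgroup T // ∃ b : T, orderOf b = orderOf a ∧ A = Subgroup.zpowers b}
  let σ : Equiv.Perm S :=
    { toFun := fun A => ⟨A.1.map φ.toMonoidHom, by
        obtain ⟨b, hb, hA⟩ := A.2
        exact ⟨φ b, by rw [MulEquiv.orderOf_eq, hb], by rw [hA, MonoidHom.map_zpowers]; rfl⟩⟩
      invFun := fun A => ⟨A.1.map φ.symm.toMonoidHom, by
        obtain ⟨b, hb, hA⟩ := A.2
        exact ⟨φ.symm b, by rw [MulEquiv.orderOf_eq, hb], by rw [hA, MonoidHom.map_zpowers]; rfl⟩⟩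
      left_inv := fun A => Subtype.ext (by
        show (A.1.map φ.toMonoidHom).map φ.symm.toMonoidHom = A.1
        rw [Subgroup.map_map]; convert A.1.map_id; ext x; simp)
      right_inv := fun A => Subtype.ext (by
        show (A.1.map φ.symm.toMonoidHom).map φ.toMonoidHom = A.1
        rw [Subgroup.map_map]; convert A.1.map_id; ext x; simp) }
  have hσpow : ∀ (n : ℕ) (A : S), ((σ ^ n) A).1 = A.1.map (φ ^ n).toMonoidHom := by
    intro n
    induction n with
    | zero => intro A; show A.1 = _; exact (Subgroup.map_id _).symm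
    | succ n ih =>
      intro A
      rw [pow_succ', Equiv.Perm.mul_apply, pow_succ']
      show ((σ ^ n) A).1.map φ.toMonoidHom = _
      rw [ih, Subgroup.map_map]; rfl
  have hσ : σ ^ q ^ e = 1 := Equiv.ext fun A => Subtype.ext (by
    rw [hσpow, hφ]; exact Subgroup.map_id _)
  haveI : Finite (Subgroup T) := Finite.of_injective (SetLike.coe : Subgroup T → Set T) SetLike.coe_injective
  haveI : Finite S := inferInstance
  haveI : Nonempty S := ⟨⟨_, a, rfl, rfl⟩⟩
  have hcardS : Nat.card S ≤ 4 := by
    refine le_trans ?_ (Subgroup.index_eq_card B ▸ hB4)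
    refine Nat.card_le_card_of_injective (fun A : S => (QuotientGroup.mk (Classical.choose A.2) : T ⧸ B)) ?_
    rintro ⟨A, hA⟩ ⟨A', hA'⟩ heq
    apply Subtype.ext
    obtain ⟨h1, h2⟩ := Classical.choose_spec hA
    obtain ⟨h3, h4⟩ := Classical.choose_spec hA'
    show A = A'
    set b := Classical.choose hA with hb
    set c := Classical.choose hA' with hc
    have hcb : c ∈ Subgroup.zpowers b := by
      have h5 : b⁻¹ * c ∈ B := QuotientGroup.eq.1 heq
      have h6 : b⁻¹ * c ∈ Subgroup.zpowers b := Subgroup.zpowers_le.2 (hsq b h1) h5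
      simpa using mul_mem (Subgroup.mem_zpowers b) h6
    rw [h2, h4]
    exact (Subgroup.eq_of_le_of_card_ge (Subgroup.zpowers_le.2 hcb)
      (by rw [Nat.card_zpowers, Nat.card_zpowers, h1, h3])).symm
  obtain ⟨⟨A, b, hb, rfl⟩, hfix⟩ : ∃ A : S, σ A = A := by
    by_contra hno
    push Not at hno
    haveI : IsEmpty {A : S // σ A = A} := ⟨fun A => hno A.1 A.2⟩
    have h0 := card_fixed_modEq σ hσ
    rw [Nat.card_of_isEmpty, Nat.ModEq, Nat.zero_mod, Nat.mod_eq_of_lt (by omega)] at h0
    exact Nat.card_pos.ne' h0.symm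
  have hmap : (Subgroup.zpowers b).map φ.toMonoidHom = Subgroup.zpowers b := congrArg Subtype.val hfix
  have hfixb : φ b = b := by
    set A := Subgroup.zpowers b with hA
    have hmem : ∀ x ∈ A, φ x ∈ A := fun x hx => hmap.le ⟨x, hx, rfl⟩
    obtain ⟨n, hn⟩ : ∃ n : ℕ, orderOf b = 2 ^ n := by
      obtain ⟨n, hn⟩ := IsPGroup.iff_orderOf.1 hT b; exact ⟨n, hn⟩
    -- the restriction to the cyclic group has odd and `2`-power order
    let ψ : MulAut A := MulEquiv.ofBijective
      ((φ.toMonoidHom.comp A.subtype).codRestrict A (fun x => hmem x.1 x.2))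
      ((Finite.injective_iff_bijective).1 (fun x y h => Subtype.ext (φ.injective (congrArg Subtype.val h))))
    have hψ : ∀ (k : ℕ) (x : A), ((ψ ^ k) x : T) = (φ ^ k) x := by
      intro k
      induction k with
      | zero => intro x; rfl
      | succ k ih =>
        intro x
        rw [pow_succ', pow_succ', MulAut.mul_apply, MulAut.mul_apply]
        show φ ((ψ ^ k) x : T) = _
        rw [ih]
    have h1 : ψ ^ q ^ e = 1 := MulEquiv.ext fun x => Subtype.ext (by rw [hψ, hφ]; rfl)
    have h2 : ψ = 1 := by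
      rw [← orderOf_eq_one_iff]
      refine Nat.eq_one_of_dvd_coprimes (a := q ^ e) (b := Nat.card (MulAut A)) ?_ (orderOf_dvd_of_pow_eq_one h1) (orderOf_dvd_natCard _)
      rw [IsCyclic.card_mulAut, hA, Nat.card_zpowers, hn]
      refine Nat.Coprime.pow_left e ((Nat.Prime.coprime_iff_not_dvd Fact.out).2 fun hd => ?_)
      rcases Nat.eq_zero_or_pos n with rfl | hn0
      · rw [pow_zero, Nat.totient_one] at hd
        have := Nat.le_of_dvd one_pos hd; omega
      · rw [Nat.totient_prime_pow Nat.prime_two hn0, show (2 : ℕ) - 1 = 1 from rfl, mul_one] at hd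
        have := Nat.le_of_dvd two_pos ((Fact.out : q.Prime).dvd_of_dvd_pow hd); omega
    exact congrArg Subtype.val (DFunLike.congr_fun h2 ⟨b, Subgroup.mem_zpowers b⟩)
  set F := φ.toMonoidHom.eqLocus (MonoidHom.id T) with hF
  have hbF : Subgroup.zpowers b ≤ F := Subgroup.zpowers_le.2 hfixb
  have hFi : F.index ≤ 2 := by
    refine le_trans (Nat.le_of_dvd ?_ (Subgroup.index_dvd_of_le hbF)) (hind b hb ▸ ha)
    exact Nat.pos_of_ne_zero Subgroup.index_ne_zero_of_finite
  have hpow : (φ.toEquiv : Equiv.Perm T) ^ q ^ e = 1 := by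
    have h : ∀ k : ℕ, (φ.toEquiv : Equiv.Perm T) ^ k = (φ ^ k).toEquiv := by
      intro k
      induction k with
      | zero => rfl
      | succ k ih => rw [pow_succ, pow_succ, ih]; rfl
    rw [h, hφ]; rfl
  have hmod : Nat.card F ≡ Nat.card T [MOD q] := card_fixed_modEq (φ.toEquiv : Equiv.Perm T) hpow
  have hFtop : F = ⊤ := by
    rw [← Subgroup.index_eq_one]
    by_contra hne
    have h2 : F.index = 2 := by
      have := Subgroup.index_ne_zero_of_finite (H := F); omega
    rw [← Subgroup.card_mul_index F, h2, mul_two] at hmod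
    have h3 : q ∣ Nat.card F := by
      have := (Nat.modEq_iff_dvd' (Nat.le_add_left _ _)).1 hmod
      rwa [Nat.add_sub_cancel] at this
    obtain ⟨n, hn⟩ := IsPGroup.iff_card.1 (hT.to_subgroup F)
    rw [hn] at h3
    have := Nat.le_of_dvd two_pos ((Fact.out : q.Prime).dvd_of_dvd_pow h3); omega
  refine MulEquiv.ext fun x => ?_
  exact (hFtop ▸ Subgroup.mem_top x : x ∈ F)

/-- A finite commutative group is supersolvable. -/
theorem isSupersolvable_of_comm (n : ℕ) : ∀ (G : Type u) [Group G] [Finite G], Nat.card G = n →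
    IsMulCommutative G → Cfsg.IsSupersolvable G := by
  induction n using Nat.strong_induction_on with
  | _ n ih =>
    intro G _ _ hn hc
    rcases subsingleton_or_nontrivial G with h | h
    · exact CfsgLib.Solvable.isSupersolvable_of_subsingleton G
    obtain ⟨z, hz⟩ := exists_ne (1 : G)
    haveI : (Subgroup.zpowers z).Normal := ⟨fun y hy c => by
      rw [hc.is_comm.comm c y, mul_inv_cancel_right]; exact hy⟩
    refine CfsgLib.Solvable.isSupersolvable_of_cyclic_normal (Subgroup.zpowers z) (ih _ ?_ _ rfl ?_)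
    · rw [← hn, Subgroup.card_eq_card_quotient_mul_card_subgroup (Subgroup.zpowers z)]
      exact lt_mul_of_one_lt_right Nat.card_pos ((Subgroup.one_lt_card_iff_ne_bot _).2 (Subgroup.zpowers_ne_bot.2 hz))
    · refine ⟨⟨fun a b => ?_⟩⟩
      induction a using QuotientGroup.induction_on with | _ a => ?_
      induction b using QuotientGroup.induction_on with | _ b => ?_
      rw [← QuotientGroup.mk_mul, hc.is_comm.comm a b, QuotientGroup.mk_mul]

/-- A solvable group with all abelian subgroups cyclic has normal Hall subgroups for the primes `≥ m`,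
for every `m ≥ 4`. -/
theorem exists_tower_of_abelian_cyclic {C : Type u} [Group C] [Finite C] [Group.IsSolvable C]
    (hcyc : ∀ A : Subgroup C, IsMulCommutative A → IsCyclic A) (m : ℕ) (hm : 4 ≤ m) :
    ∃ N : Subgroup C, N.Normal ∧ AllGE m (Nat.card N) ∧ ∀ r : ℕ, r.Prime → r ∣ N.index → r < m := by
  classical
  haveI : Fact (Nat.Prime 2) := ⟨Nat.prime_two⟩
  set O := Cfsg.pCore 2 C with hO
  haveI hOn : O.Normal := CfsgLib.Solvable.pCore_normal 2 C
  set K := Subgroup.centralizer (O : Set C) with hK
  haveI hKn : K.Normal := inferInstance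
  have hu : ∀ {p : ℕ}, p.Prime → ∀ (R : Subgroup C) (a b : R), orderOf a = p → orderOf b = p → Commute a b →
      b ∈ Subgroup.zpowers a := by
    intro p hp R a b ha hb hab
    haveI : Fact p.Prime := ⟨hp⟩
    set A := Subgroup.closure ({(a : C), (b : C)} : Set C) with hA
    have hAc : IsMulCommutative A := Subgroup.isMulCommutative_closure (by
      have hab' : (a : C) * b = b * a := congrArg Subtype.val hab.eq
      intro x hx y hy
      rcases hx with rfl | rfl <;> rcases hy with rfl | rfl <;>
        first | rfl | exact hab' | exact hab'.symm)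
    haveI := hcyc A hAc
    have haA : (a : C) ∈ A := Subgroup.subset_closure (by simp)
    have hbA : (b : C) ∈ A := Subgroup.subset_closure (by simp)
    have h1 : Subgroup.zpowers (⟨(a : C), haA⟩ : A) = Subgroup.zpowers (⟨(b : C), hbA⟩ : A) := by
      letI : CommGroup A := IsCyclic.commGroup
      have hle : ∀ z : A, orderOf z = p → Subgroup.zpowers z = (powMonoidHom p : A →* A).ker := fun z hz => by
        refine Subgroup.eq_of_le_of_card_ge (Subgroup.zpowers_le.2 ?_) ?_
        · rw [MonoidHom.mem_ker, powMonoidHom_apply, ← hz, pow_orderOf_eq_one]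
        · rw [IsCyclic.card_powMonoidHom_ker, Nat.card_zpowers, hz]
          exact Nat.le_of_dvd hp.pos (Nat.gcd_dvd_right _ _)
      rw [hle _ (by rw [Subgroup.orderOf_mk, Subgroup.orderOf_coe, ha]),
        hle _ (by rw [Subgroup.orderOf_mk, Subgroup.orderOf_coe, hb])]
    obtain ⟨i, hi⟩ := (h1.symm ▸ Subgroup.mem_zpowers _ : (⟨(b : C), hbA⟩ : A) ∈ Subgroup.zpowers (⟨(a : C), haA⟩ : A))
    exact ⟨i, Subtype.ext (congrArg (fun z : A => (z : C)) hi)⟩
  have hidx : ∀ r : ℕ, r.Prime → r ∣ K.index → r < 5 := by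
    intro r hr hd
    by_contra hlt
    push Not at hlt
    haveI : Fact r.Prime := ⟨hr⟩
    obtain ⟨R⟩ : Nonempty (Sylow r C) := inferInstance
    refine R.not_dvd_index (hd.trans (Subgroup.index_dvd_of_le fun x hx => ?_))
    obtain ⟨e, he⟩ := R.isPGroup' ⟨x, hx⟩
    have he' : x ^ r ^ e = 1 := congrArg Subtype.val he
    have hO2 : IsPGroup 2 O := CfsgLib.Solvable.pCore_isPGroup 2
    obtain ⟨a, ha⟩ : ∃ a : O, (Subgroup.zpowers a).index ≤ 2 := by
      rcases CfsgLib.StructC.isCyclic_or_quaternion hO2 (hu Nat.prime_two O) with h | ⟨k, hk, ⟨f⟩⟩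
      · obtain ⟨g, hg⟩ := h.exists_zpow_surjective
        refine ⟨g, ?_⟩
        rw [show Subgroup.zpowers g = ⊤ from eq_top_iff.2 fun y _ => hg y, Subgroup.index_top]
        exact one_le_two
      · refine ⟨f.symm (QuaternionGroup.a 1), ?_⟩
        have h1 := Subgroup.card_mul_index (Subgroup.zpowers (f.symm (QuaternionGroup.a 1)))
        haveI : NeZero (2 ^ k : ℕ) := ⟨pow_ne_zero k two_ne_zero⟩
        rw [Nat.card_zpowers, MulEquiv.orderOf_eq, QuaternionGroup.orderOf_a_one, Nat.card_congr f.toEquiv,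
          Nat.card_eq_fintype_card, QuaternionGroup.card] at h1
        have : 0 < 2 ^ k := by positivity
        exact Nat.le_of_eq (Nat.eq_of_mul_eq_mul_left (show 0 < 2 * 2 ^ k by omega) (h1.trans (by ring)))
    have h := mulAut_eq_one_of_cyclic_index_two hO2 a ha (q := r) hlt (MulAut.conjNormal x) (e := e)
      (by rw [← map_pow, he', map_one])
    refine Subgroup.mem_centralizer_iff.2 fun y hy => ?_
    have h2 : x * y * x⁻¹ = y := congrArg Subtype.val (DFunLike.congr_fun h (⟨y, hy⟩ : O))
    exact (mul_inv_eq_iff_eq_mul.1 h2).symm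
  set A := (commutator K).map K.subtype with hA
  have hAF : A ≤ Subgroup.centralizer (Cfsg.fittingSubgroup C : Set C) := by
    rw [Subgroup.le_centralizer_iff, CfsgLib.Solvable.fittingSubgroup_eq_iSup_pCore]
    refine iSup_le fun p => ?_
    haveI : Fact (p : ℕ).Prime := ⟨p.2⟩
    by_cases hp2 : (p : ℕ) = 2
    · rw [hp2]
      refine Subgroup.le_centralizer_iff.1 ?_
      rintro _ ⟨x, -, rfl⟩
      exact x.2
    · set D := Cfsg.pCore (p : ℕ) C with hD
      haveI : D.Normal := CfsgLib.Solvable.pCore_normal _ C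
      have hDp : IsPGroup (p : ℕ) D := CfsgLib.Solvable.pCore_isPGroup _
      haveI : IsCyclic D := by
        rcases CfsgLib.StructC.isCyclic_or_quat_pair hDp (hu p.2 D) with h | h
        · exact h
        · exact absurd h.1 hp2
      refine Subgroup.le_centralizer_iff.1 ?_
      rintro _ ⟨x, hx, rfl⟩
      have hker : commutator K ≤ ((MulAut.conjNormal : C →* MulAut D).comp K.subtype).ker := by
        rw [commutator_eq_closure, Subgroup.closure_le]
        rintro c ⟨s, t, rfl⟩
        rw [SetLike.mem_coe, MonoidHom.mem_ker, map_commutatorElement, commutatorElement_eq_one_iff_mul_comm]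
        exact ((IsCyclic.mulAutMulEquiv D).injective (by rw [map_mul, map_mul, mul_comm]))
      refine Subgroup.mem_centralizer_iff.2 fun y hy => ?_
      have h2 : (x : C) * y * (x : C)⁻¹ = y :=
        congrArg Subtype.val (DFunLike.congr_fun (MonoidHom.mem_ker.1 (hker hx)) (⟨y, hy⟩ : D))
      exact (mul_inv_eq_iff_eq_mul.1 h2).symm
  have hAF2 : A ≤ Cfsg.fittingSubgroup C := hAF.trans CfsgLib.Solvable.centralizer_fittingSubgroup_le
  haveI : IsCyclic A := hcyc A ⟨⟨fun x y => Subtype.ext (Subgroup.mem_centralizer_iff.1 (hAF y.2) x (hAF2 x.2))⟩⟩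
  haveI : IsCyclic (commutator K) := isCyclic_of_surjective
    ((commutator K).equivMapOfInjective K.subtype K.subtype_injective).symm.toMonoidHom
    ((commutator K).equivMapOfInjective K.subtype K.subtype_injective).symm.surjective
  have hKs : Cfsg.IsSupersolvable K :=
    CfsgLib.Solvable.isSupersolvable_of_cyclic_normal (commutator K)
      (isSupersolvable_of_comm _ _ rfl ⟨⟨fun x y => mul_comm (G := Abelianization K) x y⟩⟩)
  obtain ⟨N, hNn, hNc, hNi⟩ := exists_tower_of_supersolvable hKs m
  haveI : N.Characteristic := Subgroup.characteristic_iff_le_comap.2 fun φ x hx => by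
    rw [mem_iff_allGE hNc hNi] at hx
    show φ x ∈ N
    rw [mem_iff_allGE hNc hNi, MulEquiv.orderOf_eq]
    exact hx
  refine ⟨N.map K.subtype, inferInstance, ?_, ?_⟩
  · rwa [Subgroup.card_map_of_injective K.subtype_injective]
  · intro r hr hd
    rw [Subgroup.index_map_subtype] at hd
    rcases hr.dvd_mul.1 hd with h | h
    · exact hNi r hr h
    · have h5 := hidx r hr h
      have h4 : r ≠ 4 := fun e => by rw [e] at hr; exact absurd hr (by decide)
      omega

end CfsgLib.StructB
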