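import Cfsg.Agent.Lib.KnownA.Stem
import Mathlib.Algebra.Ring.GeomSum

/-!
# Stem extensions of metacyclic groups
-/

set_option autoImplicit false

namespace CfsgLib.StructB

open scoped commutatorElement

theorem mem_normalizer_zpowers_of_conj {G : Type*} [Group G] [Finite G] {s c : G}
    (h : s * c * s⁻¹ ∈ Subgroup.zpowers c) : s ∈ Subgroup.normalizer (Subgroup.zpowers c : Set G) := by
  have hle : (Subgroup.zpowers c).map (MulAut.conj s).toMonoidHom ≤ Subgroup.zpowers c := by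
    rw [MonoidHom.map_zpowers, Subgroup.zpowers_le]
    exact h
  have h' : (Subgroup.zpowers c).map (MulAut.conj s).toMonoidHom = Subgroup.zpowers c :=
    Subgroup.eq_of_le_of_card_ge hle (le_of_eq (Subgroup.card_map_of_injective (MulAut.conj s).injective).symm)
  rw [Subgroup.mem_normalizer_iff]
  intro x
  constructor
  · intro hx
    rw [← h']
    exact ⟨x, hx, rfl⟩
  · intro hx
    rw [← h'] at hx
    obtain ⟨y, hy, hyx⟩ := hx
    have hyx' : s * y * s⁻¹ = s * x * s⁻¹ := hyx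
    rwa [← mul_left_cancel (mul_right_cancel hyx')]

/-- The kernel of a stem extension of a metacyclic group `⟨a, b⟩`, `b a b⁻¹ = a ^ r`, `b ^ n = a ^ (m / d * l)`,
`d = gcd (m, r - 1)`, is generated by one element, whose order divides `gcd (l, d * gcd (m, 1 + r + ⋯) / m)`. -/
theorem stem_metacyclic {Γ G : Type*} [Group Γ] [Finite Γ] [Group G] {σ : Γ →* G}
    (hσ : Cfsg.IsStemExtension σ) (a b : G) (hgen : Subgroup.closure ({a, b} : Set G) = ⊤)
    (m n r l : ℕ) (hr1 : 1 ≤ r) (ha : orderOf a = m) (hab : b * a * b⁻¹ = a ^ r)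
    (hbn : b ^ n = a ^ (m / Nat.gcd m (r - 1) * l)) :
    ∃ k ∈ σ.ker, σ.ker ≤ Subgroup.zpowers k ∧
      k ^ Nat.gcd l (Nat.gcd m (r - 1) * Nat.gcd m (∑ i ∈ Finset.range n, r ^ i) / m) = 1 := by
  obtain ⟨x, hx⟩ := hσ.1 a
  obtain ⟨y, hy⟩ := hσ.1 b
  obtain ⟨r', rfl⟩ : ∃ r', r = r' + 1 := ⟨r - 1, by omega⟩
  rw [Nat.add_sub_cancel] at hbn ⊢
  have cen : ∀ w ∈ σ.ker, ∀ g : Γ, g * w = w * g := fun w hw g =>
    Subgroup.mem_center_iff.mp (hσ.2.1 hw) g
  have hm : 0 < m := by
    rw [← ha, ← hx]; exact (σ.isOfFinOrder (isOfFinOrder_of_finite x)).orderOf_pos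
  set z := y * x * y⁻¹ * (x ^ (r' + 1))⁻¹ with hz
  have hzker : z ∈ σ.ker := by
    rw [MonoidHom.mem_ker, hz, map_mul, map_mul, map_mul, map_inv, map_inv, map_pow, hx, hy, hab, mul_inv_cancel]
  have hzc : ∀ g, Commute z g := fun g => (cen z hzker g).symm
  have hyx : y * x * y⁻¹ = z * x ^ (r' + 1) := by rw [hz, inv_mul_cancel_right]
  set c := z * x ^ r' with hc
  have hcx : Commute c x := (hzc x).mul_left ((Commute.refl x).pow_left r')
  have hyx' : y * x * y⁻¹ = c * x := by rw [hc, mul_assoc z (x ^ r') x, ← pow_succ]; exact hyx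
  have hcomm : c = ⁅y, x⁆ := by rw [commutatorElement_def, hyx', mul_inv_cancel_right]
  have hyc : y * c * y⁻¹ = c ^ (r' + 1) := by
    calc y * c * y⁻¹ = y * z * y⁻¹ * (y * x * y⁻¹) ^ r' := by rw [conj_pow, hc]; group
      _ = z * (c * x) ^ r' := by rw [hyx', cen z hzker y, mul_inv_cancel_right]
      _ = z * (c ^ r' * x ^ r') := by rw [hcx.mul_pow]
      _ = c ^ r' * (z * x ^ r') := by rw [← mul_assoc, (hzc _).eq, mul_assoc]
      _ = c ^ (r' + 1) := by rw [← hc, pow_succ]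
  have hσc : σ c = a ^ r' := by
    rw [hc, map_mul, map_pow, hx, MonoidHom.mem_ker.mp hzker, one_mul]
  -- the derived group is generated by `c`
  set S : Set Γ := (σ.ker : Set Γ) ∪ {x, y} with hS
  have htop : Subgroup.closure S = ⊤ := by
    rw [eq_top_iff]
    intro g _
    have hle : Subgroup.closure ({a, b} : Set G) ≤ (Subgroup.closure S).map σ := by
      rw [Subgroup.closure_le]
      intro w hw
      simp only [Set.mem_insert_iff, Set.mem_singleton_iff] at hw
      rcases hw with rfl | rfl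
      · exact ⟨x, Subgroup.subset_closure (Or.inr (by simp)), hx⟩
      · exact ⟨y, Subgroup.subset_closure (Or.inr (by simp)), hy⟩
    rw [hgen] at hle
    obtain ⟨w, hw, hwg⟩ := hle (Subgroup.mem_top (σ g))
    have : g * w⁻¹ ∈ σ.ker := by rw [MonoidHom.mem_ker, map_mul, map_inv, hwg, mul_inv_cancel]
    have h' := mul_mem (Subgroup.subset_closure (Or.inl this) : g * w⁻¹ ∈ Subgroup.closure S) hw
    rwa [inv_mul_cancel_right] at h'
  have hI : commutator Γ ≤ Subgroup.zpowers c := by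
    rw [commutator_def, ← htop]
    refine CfsgLib.KnownA.commutator_closure_le S _ ?_ ?_
    · intro s hs
      refine mem_normalizer_zpowers_of_conj ?_
      rcases hs with hs | hs
      · rw [← cen s hs c, mul_inv_cancel_right]; exact Subgroup.mem_zpowers c
      · simp only [Set.mem_insert_iff, Set.mem_singleton_iff] at hs
        rcases hs with rfl | rfl
        · rw [← hcx.eq, mul_inv_cancel_right]; exact Subgroup.mem_zpowers c
        · rw [hyc]; exact pow_mem (Subgroup.mem_zpowers c) _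
    · intro s hs u hu
      rcases hs with hs | hs
      · rw [commutatorElement_eq_one_iff_mul_comm.mpr (cen s hs u).symm]; exact one_mem _
      rcases hu with hu | hu
      · rw [commutatorElement_eq_one_iff_mul_comm.mpr (cen u hu s)]; exact one_mem _
      simp only [Set.mem_insert_iff, Set.mem_singleton_iff] at hs hu
      rcases hs with rfl | rfl <;> rcases hu with rfl | rfl
      · rw [commutatorElement_self]; exact one_mem _
      · rw [← commutatorElement_inv, ← hcomm]; exact inv_mem (Subgroup.mem_zpowers c)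
      · rw [← hcomm]; exact Subgroup.mem_zpowers c
      · rw [commutatorElement_self]; exact one_mem _
  set d := Nat.gcd m r' with hd
  have hdpos : 0 < d := Nat.gcd_pos_of_pos_left _ hm
  obtain ⟨m', hm'⟩ : d ∣ m := Nat.gcd_dvd_left _ _
  have hmd : m / d = m' := by rw [hm', Nat.mul_div_cancel_left _ hdpos]
  rw [hmd] at hbn
  -- three relations
  have hxm : x ^ m ∈ σ.ker := by rw [MonoidHom.mem_ker, map_pow, hx, ← ha, pow_orderOf_eq_one]
  have hcm : c ^ m = 1 := by
    have h1 : y * x ^ m * y⁻¹ = (c * x) ^ m := by rw [← conj_pow, hyx']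
    rw [cen _ hxm y, mul_inv_cancel_right, hcx.mul_pow] at h1
    exact mul_eq_right.mp h1.symm
  have hv : y ^ n * (x ^ (m' * l))⁻¹ ∈ σ.ker := by
    rw [MonoidHom.mem_ker, map_mul, map_inv, map_pow, map_pow, hx, hy, hbn, mul_inv_cancel]
  have hct : c ^ (m' * l) = 1 := by
    have h0 : Commute y (x ^ (m' * l)) := by
      have h2 : Commute y (y ^ n * (x ^ (m' * l))⁻¹)⁻¹ := (Commute.inv_right (cen _ hv y))
      have := h2.mul_right ((Commute.refl y).pow_right n)
      rwa [mul_inv_rev, inv_inv, inv_mul_cancel_right] at this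
    have h1 : y * x ^ (m' * l) * y⁻¹ = (c * x) ^ (m' * l) := by rw [← conj_pow, hyx']
    rw [h0.eq, mul_inv_cancel_right, hcx.mul_pow] at h1
    exact mul_eq_right.mp h1.symm
  have hiter : ∀ i : ℕ, y ^ i * x * (y ^ i)⁻¹ = c ^ (∑ j ∈ Finset.range i, (r' + 1) ^ j) * x := by
    intro i
    induction i with
    | zero => simp
    | succ i ih =>
      calc y ^ (i + 1) * x * (y ^ (i + 1))⁻¹ = y * (y ^ i * x * (y ^ i)⁻¹) * y⁻¹ := by rw [pow_succ']; group
        _ = y * (c ^ (∑ j ∈ Finset.range i, (r' + 1) ^ j) * x) * y⁻¹ := by rw [ih]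
        _ = (y * c * y⁻¹) ^ (∑ j ∈ Finset.range i, (r' + 1) ^ j) * (y * x * y⁻¹) := by rw [conj_pow]; group
        _ = _ := by rw [hyc, hyx', ← pow_mul, ← mul_assoc, ← pow_succ, geom_sum_succ]
  have hcS : c ^ (∑ j ∈ Finset.range n, (r' + 1) ^ j) = 1 := by
    have h0 : Commute (y ^ n) x := by
      have h2 : Commute x (y ^ n * (x ^ (m' * l))⁻¹) := cen _ hv x
      have := h2.mul_right ((Commute.refl x).pow_right (m' * l))
      rw [inv_mul_cancel_right] at this
      exact this.symm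
    have h1 := hiter n
    rw [h0.eq, mul_inv_cancel_right] at h1
    exact mul_eq_right.mp h1.symm
  refine ⟨c ^ m', ?_, ?_, ?_⟩
  · rw [MonoidHom.mem_ker, map_pow, hσc, ← pow_mul, ← orderOf_dvd_iff_pow_eq_one, ha, hm', mul_comm r' m',
      mul_comm d m']
    exact mul_dvd_mul_left _ (Nat.gcd_dvd_right m r')
  · intro w hw
    obtain ⟨j, rfl⟩ := Subgroup.mem_zpowers_iff.mp (hI (hσ.2.2 hw))
    have h1 : (m : ℤ) ∣ (r' : ℤ) * j := by
      rw [← ha, orderOf_dvd_iff_zpow_eq_one, zpow_mul, zpow_natCast, ← hσc, ← map_zpow]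
      exact MonoidHom.mem_ker.mp hw
    obtain ⟨r'', hr''⟩ : d ∣ r' := Nat.gcd_dvd_right m r'
    have hcop : IsCoprime (m' : ℤ) (r'' : ℤ) := by
      rw [Int.isCoprime_iff_gcd_eq_one, Int.gcd_natCast_natCast]
      have h2 : Nat.gcd (d * m') (d * r'') = d * 1 := by rw [← hm', ← hr'', mul_one]
      rw [Nat.gcd_mul_left] at h2
      exact Nat.eq_of_mul_eq_mul_left hdpos h2
    have h2 : (m' : ℤ) ∣ j := by
      refine hcop.dvd_of_dvd_mul_left ?_
      rw [hm', hr''] at h1
      push_cast at h1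
      rw [mul_assoc] at h1
      exact (mul_dvd_mul_iff_left (by exact_mod_cast hdpos.ne')).mp h1
    obtain ⟨i, rfl⟩ := h2
    exact ⟨i, by simp only; rw [zpow_mul, zpow_natCast]⟩
  · refine pow_gcd_eq_one.2 ⟨by rw [← pow_mul]; exact hct, ?_⟩
    rw [← pow_mul]
    set g := Nat.gcd m (∑ i ∈ Finset.range n, (r' + 1) ^ i) with hg
    have hcg : c ^ g = 1 := pow_gcd_eq_one.2 ⟨hcm, hcS⟩
    have hmdg : m ∣ d * g := by
      have hS' : m ∣ r' * ∑ i ∈ Finset.range n, (r' + 1) ^ i := by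
        rw [← ha, orderOf_dvd_iff_pow_eq_one, pow_mul, ← hσc, ← map_pow, hcS, map_one]
      exact (Nat.dvd_gcd (dvd_refl m) hS').trans (Nat.gcd_mul_right_dvd_mul_gcd m r' _)
    obtain ⟨e, he⟩ := hmdg
    have he' : m' * e = g := Nat.eq_of_mul_eq_mul_left hdpos (by rw [← mul_assoc, ← hm', he])
    rw [he, Nat.mul_div_cancel_left _ hm, he', hcg]

end CfsgLib.StructB

namespace CfsgLib.StructB

/-- A cyclic bound on all stem kernels and one stem extension attaining it give the multiplier. -/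
theorem hasCyclicSchurMultiplier_of_bound.{u} {G : Type u} [Group G] (q : ℕ) [NeZero q]
    (hbound : ∀ (Γ : Type u) [Group Γ] [Finite Γ] (σ : Γ →* G), Cfsg.IsStemExtension σ →
      ∃ k ∈ σ.ker, σ.ker ≤ Subgroup.zpowers k ∧ k ^ q = 1)
    {Γ₀ : Type u} [Group Γ₀] [Finite Γ₀] (σ₀ : Γ₀ →* G) (h₀ : Cfsg.IsStemExtension σ₀)
    (hcard : Nat.card σ₀.ker = q) : Cfsg.HasCyclicSchurMultiplier G q := by
  refine ⟨⟨Γ₀, inferInstance, inferInstance, σ₀, h₀, ?_⟩, ?_⟩
  · obtain ⟨k, hk, hle, -⟩ := hbound Γ₀ σ₀ h₀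
    have : IsCyclic σ₀.ker := ⟨⟨⟨k, hk⟩, fun w => by
      obtain ⟨i, hi⟩ := hle w.2
      exact ⟨i, Subtype.ext (by simpa using hi)⟩⟩⟩
    exact ⟨mulEquivOfCyclicCardEq (by rw [hcard]; simp [Nat.card_zmod])⟩
  · intro Γ _ _ σ hσ
    obtain ⟨k, hk, hle, hq⟩ := hbound Γ σ hσ
    let f : ℤ →+ Additive σ.ker := zmultiplesHom (Additive σ.ker) (Additive.ofMul ⟨k, hk⟩)
    have hf : f (q : ℤ) = 0 := by
      apply Additive.toMul.injective
      apply Subtype.ext
      simpa [f] using hq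
    refine ⟨AddMonoidHom.toMultiplicativeLeft (ZMod.lift q ⟨f, hf⟩), fun w => ?_⟩
    obtain ⟨i, hi⟩ := hle w.2
    refine ⟨Multiplicative.ofAdd (i : ZMod q), Subtype.ext ?_⟩
    simpa [f] using hi

/-- A cyclic bound of one makes the multiplier trivial. -/
theorem hasCyclicSchurMultiplier_one_of_bound.{u} {G : Type u} [Group G] [Finite G]
    (hbound : ∀ (Γ : Type u) [Group Γ] [Finite Γ] (σ : Γ →* G), Cfsg.IsStemExtension σ →
      ∃ k ∈ σ.ker, σ.ker ≤ Subgroup.zpowers k ∧ k ^ 1 = 1) : Cfsg.HasCyclicSchurMultiplier G 1 :=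
  CfsgLib.KnownA.hasCyclicSchurMultiplier_one fun Γ _ _ σ hσ => by
    obtain ⟨k, -, hle, h1⟩ := hbound Γ σ hσ
    rw [pow_one] at h1
    rw [h1, Subgroup.zpowers_one_eq_bot] at hle
    exact le_bot_iff.mp hle

end CfsgLib.StructB
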