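import Cfsg.Agent.S0205
import Cfsg.Prelude.Def_Solvable
import Cfsg.Agent.Lib.Invol.BaerSuzuki
import Cfsg.Agent.Lib.Solvable.Basic
import Cfsg.Agent.Lib.StructB.Ambivalent

/-!
# Non-soluble groups have inverted elements of odd prime order
-/

set_option autoImplicit false
set_option linter.style.haveILetI false

namespace CfsgLib.StructB

universe u

/-- An element of 2-power order inverts some element of odd prime order unless the group is soluble. -/
theorem exists_inverted_odd_prime {G : Type u} [Group G] [Finite G] (hG : ¬ Group.IsSolvable G) :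
    ∃ (r : ℕ) (u y : G), r.Prime ∧ r ≠ 2 ∧ orderOf u = r ∧ (∃ k, orderOf y = 2 ^ k) ∧ y * u * y⁻¹ = u⁻¹ := by
  classical
  haveI : Fact (Nat.Prime 2) := ⟨Nat.prime_two⟩
  set Q := Cfsg.pCore 2 G with hQ
  haveI hQn : Q.Normal := CfsgLib.Solvable.pCore_normal 2 G
  have hQp : IsPGroup 2 Q := CfsgLib.Solvable.pCore_isPGroup 2
  haveI : Group.IsNilpotent Q := hQp.isNilpotent
  have hq : ¬ Group.IsSolvable (G ⧸ Q) := fun h => hG
    ((Group.isSolvable_iff_subgroup_quotient Q).2 ⟨inferInstance, h⟩)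
  have heven : 2 ∣ Nat.card (G ⧸ Q) := by
    rw [← even_iff_two_dvd, ← Nat.not_odd_iff_even]
    exact fun h => hq (Cfsg.Agent.S0205.result h)
  obtain ⟨t, ht⟩ := exists_prime_orderOf_dvd_card' 2 heven
  have ht2 : t * t = 1 := by rw [← pow_two, ← ht, pow_orderOf_eq_one]
  have htinv : t⁻¹ = t := inv_eq_of_mul_eq_one_left ht2
  -- `t` is not in the 2-core of the quotient
  have htO : t ∉ Cfsg.pCore 2 (G ⧸ Q) := by
    intro htO
    have hp : IsPGroup 2 ((Cfsg.pCore 2 (G ⧸ Q)).comap (QuotientGroup.mk' Q)) :=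
      (CfsgLib.Solvable.pCore_isPGroup 2).comap_of_ker_isPGroup _ (by rwa [QuotientGroup.ker_mk'])
    haveI := CfsgLib.Solvable.pCore_normal 2 (G ⧸ Q)
    obtain ⟨a, rfl⟩ := QuotientGroup.mk'_surjective Q t
    have haQ : a ∈ Q := CfsgLib.Solvable.le_pCore
      (Subgroup.Normal.comap inferInstance (QuotientGroup.mk' Q)) hp htO
    rw [QuotientGroup.mk'_apply, (QuotientGroup.eq_one_iff a).2 haQ, orderOf_one] at ht
    omega
  obtain ⟨g, hg⟩ : ∃ g, ¬ IsPGroup 2 ↥(Subgroup.closure ({t, g * t * g⁻¹} : Set (G ⧸ Q))) := by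
    by_contra hh
    push Not at hh
    exact htO (CfsgLib.Invol.baer_suzuki_mem_pCore hh)
  set s := g * t * g⁻¹ with hs
  have hs2 : s * s = 1 := by
    rw [hs, show g * t * g⁻¹ * (g * t * g⁻¹) = g * (t * t) * g⁻¹ by group, ht2, mul_one, mul_inv_cancel]
  -- `t` inverts `t * s`
  set w := t * s with hw
  have htw : t * w * t⁻¹ = w⁻¹ := by
    rw [hw, mul_inv_rev, htinv, inv_eq_of_mul_eq_one_left hs2, ← mul_assoc, ht2, one_mul]
  obtain ⟨r, hr, hr2, hrw⟩ : ∃ r : ℕ, r.Prime ∧ r ≠ 2 ∧ r ∣ orderOf w := by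
    by_contra hh
    push Not at hh
    obtain ⟨k, hk⟩ : ∃ k, orderOf w = 2 ^ k :=
      ⟨_, Nat.eq_prime_pow_of_unique_prime_dvd (orderOf_pos w).ne' (fun {d} hd hdd => by
        by_contra hd2; exact hh d hd hd2 hdd)⟩
    apply hg
    set W := Subgroup.zpowers w with hW
    set T := Subgroup.zpowers t with hT
    have hnorm : t ∈ Subgroup.normalizer (W : Set (G ⧸ Q)) := by
      refine Subgroup.mem_normalizer_fintype fun z hz => ?_
      obtain ⟨i, rfl⟩ := Subgroup.mem_zpowers_iff.1 hz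
      rw [← conj_zpow, htw]
      exact zpow_mem (inv_mem (Subgroup.mem_zpowers w)) i
    have hWp : IsPGroup 2 W := IsPGroup.of_card (n := k) (by rw [hW, Nat.card_zpowers, hk])
    have hTp : IsPGroup 2 T := IsPGroup.of_card (n := 1) (by rw [hT, Nat.card_zpowers, ht, pow_one])
    have hsup : IsPGroup 2 ↥(T ⊔ W) :=
      hTp.to_sup_of_normal_right' hWp (Subgroup.zpowers_le.2 hnorm)
    refine hsup.to_le ((Subgroup.closure_le _).2 ?_)
    rintro x (rfl | rfl)
    · exact Subgroup.mem_sup_left (Subgroup.mem_zpowers _)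
    · have h : s = t * w := by rw [hw, ← mul_assoc, ht2, one_mul]
      rw [h]
      exact mul_mem (Subgroup.mem_sup_left (Subgroup.mem_zpowers _))
        (Subgroup.mem_sup_right (Subgroup.mem_zpowers _))
  haveI : Fact r.Prime := ⟨hr⟩
  set z := w ^ (orderOf w / r) with hz
  have hzr : orderOf z = r := orderOf_pow_orderOf_div (orderOf_pos w).ne' hrw
  have htz : t * z * t⁻¹ = z⁻¹ := by rw [hz, ← conj_pow, htw, inv_pow]
  -- lift
  set π := QuotientGroup.mk' Q with hπ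
  obtain ⟨a, ha⟩ := QuotientGroup.mk'_surjective Q t
  obtain ⟨b, hb⟩ := QuotientGroup.mk'_surjective Q z
  set L : Subgroup G := (Subgroup.zpowers z).comap π with hL
  obtain ⟨R⟩ : Nonempty (Sylow r L) := inferInstance
  haveI hLn : a ∈ Subgroup.normalizer (L : Set G) := by
    refine Subgroup.mem_normalizer_fintype fun x hx => ?_
    rw [hL, SetLike.mem_coe, Subgroup.mem_comap] at hx ⊢
    obtain ⟨i, hi⟩ := Subgroup.mem_zpowers_iff.1 hx
    rw [map_mul, map_mul, map_inv, hπ, ha, ← hπ, ← hi, ← conj_zpow, htz]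
    exact zpow_mem (inv_mem (Subgroup.mem_zpowers z)) i
  set R' : Subgroup G := (R : Subgroup L).map L.subtype with hR'
  have hR'p : IsPGroup r R' := R.2.map _
  -- `R'` maps isomorphically onto `⟨z⟩`
  have hinj : ∀ x ∈ R', x ∈ Q → x = 1 := by
    intro x hxR hxQ
    obtain ⟨i, hi⟩ := hR'p ⟨x, hxR⟩
    obtain ⟨j, hj⟩ := hQp ⟨x, hxQ⟩
    have hi' : x ^ r ^ i = 1 := congrArg Subtype.val hi
    have hj' : x ^ 2 ^ j = 1 := congrArg Subtype.val hj
    have hcop : (r ^ i).Coprime (2 ^ j) := Nat.Coprime.pow _ _ ((Nat.coprime_primes hr Nat.prime_two).2 hr2)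
    exact orderOf_eq_one_iff.1 (Nat.eq_one_of_dvd_coprimes hcop (orderOf_dvd_of_pow_eq_one hi') (orderOf_dvd_of_pow_eq_one hj'))
  have hrL : r ∣ Nat.card L := by
    have h : r ∣ Nat.card ↥(L.map π) := by
      rw [hL, Subgroup.map_comap_eq_self_of_surjective (QuotientGroup.mk'_surjective Q), Nat.card_zpowers, hzr]
    exact h.trans (Subgroup.card_map_dvd L π)
  obtain ⟨u, hu⟩ := exists_prime_orderOf_dvd_card' (G := ↥(R : Subgroup L)) r (R.dvd_card_of_dvd_card hrL)
  set v : G := ((u : L) : G) with hv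
  have hvo : orderOf v = r := by rw [hv, Subgroup.orderOf_coe, Subgroup.orderOf_coe, hu]
  have hvR : v ∈ R' := ⟨u, u.2, rfl⟩
  have hR'L : R' ≤ L := Subgroup.map_subtype_le _
  -- some element of the coset of `a` normalises `R'`
  obtain ⟨l, hl⟩ : ∃ l : L, ((l : G) * a) ∈ Subgroup.normalizer (R' : Set G) := by
    let c : ↥L ≃* ↥L := {
      toFun := fun x => ⟨a * x * a⁻¹, (Subgroup.mem_normalizer_iff.1 hLn x).1 x.2⟩
      invFun := fun x => ⟨a⁻¹ * x * a, by
        have h := (Subgroup.mem_normalizer_iff.1 (inv_mem hLn) x).1 x.2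
        rwa [inv_inv] at h⟩
      left_inv := fun x => Subtype.ext (by simp [mul_assoc])
      right_inv := fun x => Subtype.ext (by simp [mul_assoc])
      map_mul' := fun x y => Subtype.ext (by simp [mul_assoc]) }
    obtain ⟨l, hl⟩ := MulAction.exists_smul_eq L (R.mapSurjective (f := c.toMonoidHom) c.surjective) R
    refine ⟨l, Subgroup.mem_normalizer_fintype fun x hx => ?_⟩
    obtain ⟨x', hx', rfl⟩ := (hx : x ∈ R')
    have h1 : c x' ∈ (R.mapSurjective (f := c.toMonoidHom) c.surjective : Subgroup L) := ⟨x', hx', rfl⟩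
    have h2 : l * c x' * l⁻¹ ∈ (R : Subgroup L) := by
      rw [← hl, Sylow.coe_subgroup_smul, Subgroup.mem_pointwise_smul_iff_inv_smul_mem]
      show (MulAut.conj l)⁻¹ (l * c x' * l⁻¹) ∈ _
      simpa [MulAut.conj_inv_apply, mul_assoc] using h1
    refine ⟨_, h2, ?_⟩
    show (l : G) * (a * (x' : G) * a⁻¹) * (l : G)⁻¹ = (l : G) * a * (x' : G) * ((l : G) * a)⁻¹
    group
  have hπl : ∃ i : ℤ, π (l : G) = z ^ i := by
    obtain ⟨i, hi⟩ := Subgroup.mem_zpowers_iff.1 (l.2 : π (l : G) ∈ Subgroup.zpowers z)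
    exact ⟨i, hi.symm⟩
  set y0 := (l : G) * a with hy0
  have hy0v : y0 * v * y0⁻¹ = v⁻¹ := by
    obtain ⟨i, hi⟩ := hπl
    obtain ⟨j, hj⟩ := Subgroup.mem_zpowers_iff.1 (hR'L hvR : π v ∈ Subgroup.zpowers z)
    have him : π (y0 * v * y0⁻¹) = π (v⁻¹) := by
      rw [hy0, map_mul, map_mul, map_inv, map_inv, map_mul, hi, ← hj, hπ, ha,
        show z ^ i * t * z ^ j * (z ^ i * t)⁻¹ = z ^ i * (t * z ^ j * t⁻¹) * (z ^ i)⁻¹ by group,
        ← conj_zpow, htz, inv_zpow, ((Commute.refl z).zpow_zpow i j).inv_right.eq, mul_inv_cancel_right]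
    have hmem : y0 * v * y0⁻¹ * v ∈ Q := by
      rw [← QuotientGroup.eq_one_iff, ← QuotientGroup.mk'_apply, ← hπ, map_mul, him, map_inv, inv_mul_cancel]
    have hone := hinj _ (mul_mem ((Subgroup.mem_normalizer_iff.1 hl v).1 hvR) hvR) hmem
    exact eq_inv_of_mul_eq_one_left hone
  obtain ⟨m, k, hm, hk⟩ := exists_odd_pow_two_power y0
  obtain ⟨k', -, hk'⟩ := (Nat.dvd_prime_pow Nat.prime_two).1 (orderOf_dvd_of_pow_eq_one hk)
  exact ⟨r, v, y0 ^ m, hr, hr2, hvo, ⟨k', hk'⟩, conj_odd_pow_eq_inv hy0v hm⟩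

end CfsgLib.StructB
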