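import Mathlib

/-!
# `k_π(G) ≤ k_π(N) k_π(G/N)`
-/

set_option autoImplicit false

namespace CfsgLib.StructB

open MulAction

variable {G : Type*} [Group G] [Finite G]

/-- Classes of `π`-elements in terms of the `π`-part of the group order. -/
theorem pi_exponent (π : Set ℕ) (E : ℕ) (hE : E ≠ 0) :
    ∃ a b : ℕ, a * b = E ∧ a.Coprime b ∧ (∀ q, q.Prime → q ∣ a → q ∈ π) ∧ (∀ q, q.Prime → q ∣ b → q ∉ π) := by
  classical
  refine ⟨∏ q ∈ E.primeFactors.filter (· ∈ π), q ^ E.factorization q,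
    ∏ q ∈ E.primeFactors.filter (fun q => ¬ q ∈ π), q ^ E.factorization q, ?_, ?_, ?_, ?_⟩
  · rw [Finset.prod_filter_mul_prod_filter_not]
    exact Nat.prod_factorization_pow_eq_self hE
  · refine Nat.Coprime.prod_left fun q hq => Nat.Coprime.prod_right fun r hr => Nat.Coprime.pow _ _ ?_
    obtain ⟨hq1, hq2⟩ := Finset.mem_filter.1 hq
    obtain ⟨hr1, hr2⟩ := Finset.mem_filter.1 hr
    refine (Nat.coprime_primes (Nat.prime_of_mem_primeFactors hq1) (Nat.prime_of_mem_primeFactors hr1)).2 ?_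
    rintro rfl; exact hr2 hq2
  · intro q hq hd
    obtain ⟨r, hr, hqr⟩ := (hq.prime.dvd_finsetProd_iff _).1 hd
    obtain ⟨hr1, hr2⟩ := Finset.mem_filter.1 hr
    rwa [(Nat.prime_dvd_prime_iff_eq hq (Nat.prime_of_mem_primeFactors hr1)).1 (hq.dvd_of_dvd_pow hqr)]
  · intro q hq hd
    obtain ⟨r, hr, hqr⟩ := (hq.prime.dvd_finsetProd_iff _).1 hd
    obtain ⟨hr1, hr2⟩ := Finset.mem_filter.1 hr
    rwa [(Nat.prime_dvd_prime_iff_eq hq (Nat.prime_of_mem_primeFactors hr1)).1 (hq.dvd_of_dvd_pow hqr)]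

theorem pow_eq_one_iff_pi {π : Set ℕ} {a b : ℕ} (ha : ∀ q, q.Prime → q ∣ a → q ∈ π)
    (hb : ∀ q, q.Prime → q ∣ b → q ∉ π) {x : G} (hx : orderOf x ∣ a * b) :
    x ^ a = 1 ↔ ∀ q, q.Prime → q ∣ orderOf x → q ∈ π := by
  refine ⟨fun h q hq hd => ha q hq (hd.trans (orderOf_dvd_of_pow_eq_one h)), fun h => ?_⟩
  refine orderOf_dvd_iff_pow_eq_one.1 ((Nat.coprime_of_dvd fun q hq h1 h2 => hb q hq h2 (h q hq h1)).dvd_of_dvd_mul_right hx)

/-- Burnside's lemma as a count of fixed pairs. -/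
theorem card_pairs_eq (K : Type*) [Group K] [Finite K] (X : Type*) [Finite X] [MulAction K X] :
    Nat.card {v : X × K // v.2 • v.1 = v.1} = Nat.card (Quotient (orbitRel K X)) * Nat.card K := by
  classical
  have := Fintype.ofFinite K
  have := Fintype.ofFinite X
  have : Finite (Quotient (orbitRel K X)) := Quotient.finite _
  have := Fintype.ofFinite (Quotient (orbitRel K X))
  rw [Nat.card_eq_fintype_card (α := K), Nat.card_eq_fintype_card (α := Quotient _),
    ← MulAction.sum_card_fixedBy_eq_card_orbits_mul_card_group K X,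
    Finset.sum_congr rfl (fun c _ => (Nat.card_eq_fintype_card (α := fixedBy X c)).symm), ← Nat.card_sigma]
  exact Nat.card_congr
    { toFun := fun v => ⟨v.1.2, v.1.1, v.2⟩
      invFun := fun w => ⟨(w.2.1, w.1), w.2.2⟩
      left_inv := fun v => rfl
      right_inv := fun w => rfl }

/-- `k_π(G) ≤ k_π(N) k_π(G/N)`. -/
theorem card_piClasses_le_mul_quotient (N : Subgroup G) [N.Normal] (π : Set ℕ) :
    Nat.card {C : ConjClasses G // ∀ q : ℕ, q.Prime → (∃ g : G, ConjClasses.mk g = C ∧ q ∣ orderOf g) → q ∈ π} ≤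
      Nat.card {C : ConjClasses N // ∀ q : ℕ, q.Prime → (∃ g : N, ConjClasses.mk g = C ∧ q ∣ orderOf g) → q ∈ π} *
      Nat.card {C : ConjClasses (G ⧸ N) // ∀ q : ℕ, q.Prime → (∃ g : (G ⧸ N), ConjClasses.mk g = C ∧ q ∣ orderOf g) → q ∈ π} := by
  classical
  obtain ⟨a, b, hab, hcop, ha, hb⟩ := pi_exponent π (Nat.card G) Nat.card_pos.ne'
  obtain ⟨e, hea, heb⟩ := Nat.chineseRemainder hcop 1 0
  obtain ⟨f, hfa, hfb⟩ := Nat.chineseRemainder hcop 0 1
  have hpowG : ∀ (x : G) {i j : ℕ}, i ≡ j [MOD a * b] → x ^ i = x ^ j := fun x i j h =>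
    pow_eq_pow_iff_modEq.2 (h.of_dvd (hab ▸ orderOf_dvd_natCard x))
  have hef : e + f ≡ 1 [MOD a * b] :=
    (Nat.modEq_and_modEq_iff_modEq_mul hcop).1 ⟨hea.add hfa, heb.add hfb⟩
  have hfe : f * e ≡ 0 [MOD a * b] :=
    (Nat.modEq_and_modEq_iff_modEq_mul hcop).1 ⟨(hfa.mul_right e).trans (by rw [zero_mul]), by
      have := heb.mul_left f; rwa [mul_zero] at this⟩
  have hfix : ∀ x : G, x ^ a = 1 → x ^ e = x := fun x hx => by
    rw [← pow_one x, ← pow_mul, one_mul]
    exact pow_eq_pow_iff_modEq.2 (hea.of_dvd (orderOf_dvd_of_pow_eq_one hx))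
  have hea0 : ∀ x : G, (x ^ e) ^ a = 1 := fun x => by
    rw [← pow_mul, ← pow_zero x]
    refine hpowG x ((Nat.modEq_and_modEq_iff_modEq_mul hcop).1 ⟨Nat.modEq_zero_iff_dvd.2 (dvd_mul_left a e), ?_⟩)
    have := heb.mul_right a; rwa [zero_mul] at this
  have hsplit : ∀ x : G, x ^ e * x ^ f = x := fun x => by
    rw [← pow_add]; exact (hpowG x hef).trans (pow_one x)
  -- `π`-classes in terms of exponents
  have hiffG : ∀ g : G, (∀ q : ℕ, q.Prime → (∃ h : G, ConjClasses.mk h = ConjClasses.mk g ∧ q ∣ orderOf h) → q ∈ π) ↔ g ^ a = 1 := by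
    intro g
    rw [pow_eq_one_iff_pi ha hb (hab ▸ orderOf_dvd_natCard g)]
    refine ⟨fun h q hq hd => h q hq ⟨g, rfl, hd⟩, fun h q hq ⟨x, hx, hd⟩ => h q hq ?_⟩
    obtain ⟨c, hc⟩ := isConj_iff.1 (ConjClasses.mk_eq_mk_iff_isConj.1 hx)
    rw [← hc]
    exact (orderOf_injective (MulAut.conj c).toMonoidHom (MulAut.conj c).injective x).symm ▸ hd
  set PN := {C : ConjClasses N // ∀ q : ℕ, q.Prime → (∃ g : N, ConjClasses.mk g = C ∧ q ∣ orderOf g) → q ∈ π} with hPN
  set PQ := {C : ConjClasses (G ⧸ N) // ∀ q : ℕ, q.Prime → (∃ g : (G ⧸ N), ConjClasses.mk g = C ∧ q ∣ orderOf g) → q ∈ π} with hPQ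
  set PG := {C : ConjClasses G // ∀ q : ℕ, q.Prime → (∃ g : G, ConjClasses.mk g = C ∧ q ∣ orderOf g) → q ∈ π} with hPG
  let proj : PG → PQ := fun C => ⟨ConjClasses.map (QuotientGroup.mk' N) C.1, by
    obtain ⟨C, hC⟩ := C
    induction C using Quotient.inductionOn with | _ g => ?_
    rintro q hq ⟨h, hh, hd⟩
    obtain ⟨c, hc⟩ := isConj_iff.1 (ConjClasses.mk_eq_mk_iff_isConj.1 hh)
    refine hC q hq ⟨g, rfl, ?_⟩
    have e1 := orderOf_injective (MulAut.conj c).toMonoidHom (MulAut.conj c).injective h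
    simp only [MulEquiv.coe_toMonoidHom, MulAut.conj_apply] at e1
    rw [hc] at e1
    exact (e1.symm ▸ hd).trans (orderOf_map_dvd (QuotientGroup.mk' N) g)⟩
  have : Finite PQ := Subtype.finite
  have := Fintype.ofFinite PQ
  calc Nat.card PG = Nat.card (Σ Cb : PQ, {C : PG // proj C = Cb}) := Nat.card_congr (Equiv.sigmaFiberEquiv proj).symm
    _ = ∑ Cb : PQ, Nat.card {C : PG // proj C = Cb} := Nat.card_sigma
    _ ≤ ∑ _Cb : PQ, Nat.card PN := Finset.sum_le_sum fun Cb _ => ?_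
    _ = Nat.card PN * Nat.card PQ := by
      rw [Finset.sum_const, Finset.card_univ, smul_eq_mul, ← Nat.card_eq_fintype_card, mul_comm]
  obtain ⟨gb, hgb⟩ := Quotient.exists_rep Cb.1
  obtain ⟨g, rfl⟩ := QuotientGroup.mk_surjective gb
  -- the two sets acted on by `N`
  let X := {x : G // x ^ a = 1 ∧ (QuotientGroup.mk x : G ⧸ N) = QuotientGroup.mk g}
  let Y := {n : N // n ^ a = 1}
  let actX : MulAction N X :=
    { smul := fun n x => ⟨(n : G) * x.1 * (n : G)⁻¹, by rw [conj_pow, x.2.1, mul_one, mul_inv_cancel], by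
        rw [QuotientGroup.mk_mul, QuotientGroup.mk_mul, QuotientGroup.mk_inv, (QuotientGroup.eq_one_iff (n : G)).2 n.2,
          one_mul, inv_one, mul_one, x.2.2]⟩
      one_smul := fun x => Subtype.ext (by show ((1 : N) : G) * x.1 * ((1 : N) : G)⁻¹ = x.1; simp)
      mul_smul := fun m n x => Subtype.ext (by
        show ((m * n : N) : G) * x.1 * ((m * n : N) : G)⁻¹ = (m : G) * ((n : G) * x.1 * (n : G)⁻¹) * (m : G)⁻¹
        rw [Subgroup.coe_mul]; group) }
  let actY : MulAction N Y :=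
    { smul := fun n x => ⟨n * x.1 * n⁻¹, by rw [conj_pow, x.2, mul_one, mul_inv_cancel]⟩
      one_smul := fun x => Subtype.ext (by show (1 : N) * x.1 * (1 : N)⁻¹ = x.1; simp)
      mul_smul := fun m n x => Subtype.ext (by
        show (m * n) * x.1 * (m * n)⁻¹ = m * (n * x.1 * n⁻¹) * m⁻¹
        group) }
  have h1 : Nat.card {C : PG // proj C = Cb} ≤ Nat.card (Quotient (orbitRel N X)) := by
    have : Finite X := Subtype.finite
    have : Finite (Quotient (orbitRel N X)) := Quotient.finite _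
    have hcov : ∀ C : {C : PG // proj C = Cb}, ∃ o : Quotient (orbitRel N X), ConjClasses.mk o.out.1 = C.1.1 := by
      rintro ⟨⟨C, hC⟩, hCb⟩
      induction C using Quotient.inductionOn with | _ x => ?_
      have h : ConjClasses.mk (QuotientGroup.mk' N x) = ConjClasses.mk (QuotientGroup.mk' N g) :=
        (congrArg Subtype.val hCb).trans hgb.symm
      obtain ⟨c, hc⟩ := isConj_iff.1 (ConjClasses.mk_eq_mk_iff_isConj.1 h)
      obtain ⟨c', rfl⟩ := QuotientGroup.mk_surjective c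
      have hx : x ^ a = 1 := (hiffG x).1 hC
      let y : X := ⟨c' * x * c'⁻¹, by rw [conj_pow, hx, mul_one, mul_inv_cancel], hc⟩
      refine ⟨Quotient.mk _ y, ?_⟩
      obtain ⟨n, hn⟩ : ∃ n : N, n • y = (Quotient.mk (orbitRel N X) y).out :=
        Quotient.exact (Quotient.out_eq (Quotient.mk (orbitRel N X) y))
      rw [← hn]
      show ConjClasses.mk ((n : G) * (c' * x * c'⁻¹) * (n : G)⁻¹) = ConjClasses.mk x
      exact (ConjClasses.mk_eq_mk_iff_isConj.2 (isConj_iff.2 ⟨(n : G) * c', by group⟩)).symm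
    choose o ho using hcov
    exact Nat.card_le_card_of_injective o (fun C D h => Subtype.ext (Subtype.ext (by rw [← ho C, ← ho D, h])))
  have h2 : Nat.card (Quotient (orbitRel N Y)) ≤ Nat.card PN := by
    refine Nat.card_le_card_of_injective (fun o => (⟨ConjClasses.mk o.out.1, ?_⟩ : PN)) ?_
    · rintro q hq ⟨m, hm, hd⟩
      obtain ⟨c, hc⟩ := isConj_iff.1 (ConjClasses.mk_eq_mk_iff_isConj.1 hm.symm)
      refine ha q hq (hd.trans (orderOf_dvd_of_pow_eq_one ?_))
      rw [← hc, conj_pow, o.out.2, mul_one, mul_inv_cancel]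
    · intro o o' h
      obtain ⟨c, hc⟩ := isConj_iff.1 (ConjClasses.mk_eq_mk_iff_isConj.1 (congrArg Subtype.val h))
      rw [← Quotient.out_eq o, ← Quotient.out_eq o']
      exact (Quotient.sound (show orbitRel N Y o'.out o.out from ⟨c, Subtype.ext hc⟩)).symm
  have h3 : Nat.card {v : X × N // v.2 • v.1 = v.1} ≤ Nat.card {v : Y × N // v.2 • v.1 = v.1} := by
    have hpair : ∀ v : {v : X × N // v.2 • v.1 = v.1}, Commute ((v.1.2 : G)) v.1.1.1 := fun v =>
      mul_inv_eq_iff_eq_mul.1 (congrArg Subtype.val v.2)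
    -- a commuting element of the coset for each `π`-element of `N`
    let P : Y → Prop := fun m => ∃ y : G, (QuotientGroup.mk y : G ⧸ N) = QuotientGroup.mk g ∧ Commute y (m.1 : G)
    let base : Y → G := fun m => if h : P m then h.choose else 1
    let mE : {v : X × N // v.2 • v.1 = v.1} → Y := fun v => ⟨v.1.2 ^ e, Subtype.ext (by simpa using hea0 (v.1.2 : G))⟩
    let yE : {v : X × N // v.2 • v.1 = v.1} → G := fun v => v.1.1.1 * (v.1.2 : G) ^ f
    have hy : ∀ v, (QuotientGroup.mk (yE v) : G ⧸ N) = QuotientGroup.mk g ∧ Commute (yE v) ((mE v).1 : G) := by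
      intro v
      refine ⟨?_, ?_⟩
      · show (QuotientGroup.mk (v.1.1.1 * (v.1.2 : G) ^ f) : G ⧸ N) = _
        rw [QuotientGroup.mk_mul, (QuotientGroup.eq_one_iff _).2 (N.pow_mem v.1.2.2 f), mul_one, v.1.1.2.2]
      · show Commute (v.1.1.1 * (v.1.2 : G) ^ f) ((v.1.2 ^ e : N) : G)
        rw [Subgroup.coe_pow]
        exact ((hpair v).symm.pow_right e).mul_left (Commute.pow_pow_self _ f e)
    have hbase : ∀ v, (QuotientGroup.mk (base (mE v)) : G ⧸ N) = QuotientGroup.mk g ∧ Commute (base (mE v)) ((mE v).1 : G) := by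
      intro v
      have hP : P (mE v) := ⟨yE v, hy v⟩
      simp only [base, dif_pos hP]
      exact hP.choose_spec
    refine Nat.card_le_card_of_injective (fun v => ⟨(mE v, ⟨(base (mE v))⁻¹ * yE v,
      QuotientGroup.eq.1 ((hbase v).1.trans (hy v).1.symm)⟩), ?_⟩) ?_
    · refine Subtype.ext (Subtype.ext ?_)
      show (base (mE v))⁻¹ * yE v * ((mE v).1 : G) * ((base (mE v))⁻¹ * yE v)⁻¹ = ((mE v).1 : G)
      rw [((hbase v).2.inv_left.mul_left (hy v).2).eq, mul_inv_cancel_right]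
    · intro v w h
      have hm : mE v = mE w := congrArg (fun z => z.1.1) h
      have hk : (base (mE v))⁻¹ * yE v = (base (mE w))⁻¹ * yE w :=
        congrArg (fun z : {v : Y × N // v.2 • v.1 = v.1} => (z.1.2 : G)) h
      rw [hm] at hk
      have hy' : yE v = yE w := mul_left_cancel hk
      have hxe : ∀ u, (yE u) ^ e = u.1.1.1 := fun u => by
        show (u.1.1.1 * (u.1.2 : G) ^ f) ^ e = u.1.1.1
        rw [((hpair u).symm.pow_right f).mul_pow, hfix _ u.1.1.2.1, ← pow_mul, hpowG _ hfe, pow_zero, mul_one]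
      have hx : v.1.1.1 = w.1.1.1 := by rw [← hxe v, hy', hxe w]
      have hn : (v.1.2 : G) = w.1.2 := by
        have h1 : (v.1.2 : G) ^ f = (w.1.2 : G) ^ f := mul_left_cancel (a := v.1.1.1)
          (show yE v = v.1.1.1 * (w.1.2 : G) ^ f by rw [hy', hx])
        have h2 : (v.1.2 : G) ^ e = (w.1.2 : G) ^ e := by
          have := congrArg (fun z : Y => (z.1 : G)) hm
          simpa [mE] using this
        rw [← hsplit (v.1.2 : G), h1, h2, hsplit]
      exact Subtype.ext (Prod.ext (Subtype.ext hx) (Subtype.ext hn))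
  rw [card_pairs_eq, card_pairs_eq] at h3
  exact h1.trans ((Nat.le_of_mul_le_mul_right h3 Nat.card_pos).trans h2)

end CfsgLib.StructB
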