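import Cfsg.Agent.Lib.Comp.OrderFormula
import Cfsg.Agent.Lib.StructB.Kazarin
import Mathlib.GroupTheory.NoncommCoprod

/-!
# The product of the fixed-point numbers of a `p`-group on a `p'`-group

`∏_{x ∈ P} |C_N(x)| ^ p ≤ |N| ^ |P| * |C_N(P)| ^ ((p - 1) |P|)`.
-/

set_option autoImplicit false

namespace CfsgLib.StructB.FixProd

open Subgroup
open CfsgLib.Comp (Lines)

universe u

variable {p : ℕ} [hp : Fact p.Prime]

/-- Fixed points pass to a quotient by a central `p`-subgroup. -/
theorem card_inf_centralizer_map {X Y : Type*} [Group X] [Finite X] [Group Y] (π : X →* Y)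
    (hker : π.ker ≤ center X) (hkp : IsPGroup p π.ker) (K : Subgroup X) (hK : ¬ p ∣ Nat.card K)
    (S : Set X) (hS : ∀ s ∈ S, s ∈ normalizer (K : Set X)) :
    Nat.card ↥(K.map π ⊓ centralizer (π '' S)) = Nat.card ↥(K ⊓ centralizer S) := by
  have hinj : ∀ k ∈ K, π k = 1 → k = 1 := fun k hk h => by
    obtain ⟨i, hi⟩ := IsPGroup.iff_orderOf.1 hkp ⟨k, h⟩
    rw [show orderOf (⟨k, h⟩ : π.ker) = orderOf k from (Subgroup.orderOf_coe _).symm] at hi
    rw [← orderOf_eq_one_iff]
    exact Nat.eq_one_of_dvd_coprimes (Nat.Coprime.pow_left i (hp.out.coprime_iff_not_dvd.2 hK))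
      hi.dvd (K.orderOf_dvd_natCard hk)
  have he : K.map π ⊓ centralizer (π '' S) = (K ⊓ centralizer S).map π := by
    refine le_antisymm ?_ (fun y hy => ?_)
    · rintro _ ⟨⟨k, hk, rfl⟩, hc⟩
      refine ⟨k, ⟨hk, mem_centralizer_iff.2 fun s hs => ?_⟩, rfl⟩
      have h1 : π (s * k * s⁻¹ * k⁻¹) = 1 := by
        rw [map_mul, map_mul, map_mul, mem_centralizer_iff.1 hc _ ⟨s, hs, rfl⟩, map_inv, map_inv,
          mul_inv_cancel_right, mul_inv_cancel]
      have h2 := hinj _ (K.mul_mem ((mem_normalizer_iff.1 (hS s hs) k).1 hk) (K.inv_mem hk)) h1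
      exact mul_inv_eq_iff_eq_mul.1 (mul_inv_eq_one.1 h2)
    · obtain ⟨k, ⟨hk, hc⟩, rfl⟩ := hy
      refine ⟨mem_map_of_mem π hk, mem_centralizer_iff.2 ?_⟩
      rintro _ ⟨s, hs, rfl⟩
      rw [← map_mul, mem_centralizer_iff.1 hc s hs, map_mul]
  rw [he]
  refine (Nat.card_congr (Equiv.ofBijective (π.subgroupMap (K ⊓ centralizer S)) ⟨?_, ?_⟩)).symm
  · rw [injective_iff_map_eq_one]
    exact fun k hk => Subtype.ext (hinj k k.2.1 (congrArg Subtype.val hk))
  · exact MonoidHom.subgroupMap_surjective _ _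

theorem centralizer_zpowers {G : Type*} [Group G] (x : G) :
    centralizer ((zpowers x : Subgroup G) : Set G) = centralizer {x} := by
  rw [zpowers_eq_closure, centralizer_closure]

/-- The fixed points in `⟨x, z⟩` with `x ^ p = 1`. -/
theorem coset_formula {Y : Type*} [Group Y] [Finite Y] {x z : Y} (hxp : x ^ p = 1) (hzp : z ^ p = 1)
    (hxz : Commute x z) (hx : x ∉ zpowers z) (hz : z ∉ zpowers x) {K : Subgroup Y}
    (hK : ¬ p ∣ Nat.card K) (hxK : x ∈ normalizer (K : Set Y)) (hzK : z ∈ normalizer (K : Set Y)) :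
    Nat.card K * Nat.card ↥(K ⊓ centralizer ({x, z} : Set Y)) ^ p =
      Nat.card ↥(K ⊓ centralizer {z}) *
        ∏ i ∈ Finset.range p, Nat.card ↥(K ⊓ centralizer {x * z ^ i}) := by
  classical
  have hxo : orderOf x = p := orderOf_eq_prime hxp fun h => hx (h ▸ one_mem _)
  have hzo : orderOf z = p := orderOf_eq_prime hzp fun h => hz (h ▸ one_mem _)
  set E := zpowers x ⊔ zpowers z with hE
  have hcomm : ∀ (a : zpowers x) (b : zpowers z), Commute (a : Y) (b : Y) := by
    rintro ⟨_, i, rfl⟩ ⟨_, j, rfl⟩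
    exact hxz.zpow_zpow i j
  let f := MonoidHom.noncommCoprod (zpowers x).subtype (zpowers z).subtype hcomm
  have hrange : f.range = E := by
    exact (MonoidHom.noncommCoprod_range _ _ _).trans (by rw [range_subtype, range_subtype])
  have hinj : Function.Injective f := by
    rw [injective_iff_map_eq_one]
    rintro ⟨⟨a, ha⟩, ⟨b, hb⟩⟩ hab
    have hab' : a * b = 1 := hab
    have ha' : a ∈ zpowers z := by
      rw [eq_inv_of_mul_eq_one_left hab']; exact inv_mem hb
    have ha1 : a = 1 := by
      by_contra hne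
      have h1 : zpowers a = zpowers x := eq_of_le_of_card_ge (zpowers_le.2 ha) (by
        rw [Nat.card_zpowers, Nat.card_zpowers, hxo]
        rcases hp.out.eq_one_or_self_of_dvd _ ((orderOf_dvd_natCard (⟨a, ha⟩ : zpowers x)).trans
          (Nat.card_zpowers x ▸ hxo ▸ dvd_rfl)) with h | h
        · rw [Subgroup.orderOf_mk, orderOf_eq_one_iff] at h; exact absurd h hne
        · rw [Subgroup.orderOf_mk] at h; rw [h])
      exact hx (zpowers_le.2 ha' (h1.symm ▸ mem_zpowers x))
    have hb1 : b = 1 := by rwa [ha1, one_mul] at hab'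
    exact Prod.ext (Subtype.ext ha1) (Subtype.ext hb1)
  have hcard : Nat.card E = p ^ 2 := by
    rw [← hrange, ← Nat.card_congr (MonoidHom.ofInjective hinj).toEquiv, Nat.card_prod,
      Nat.card_zpowers, Nat.card_zpowers, hxo, hzo, pow_two]
  have hexp : ∀ e : E, e ^ p = 1 := by
    rintro ⟨e, he⟩
    rw [← hrange] at he
    obtain ⟨⟨⟨a, ha⟩, ⟨b, hb⟩⟩, rfl⟩ := he
    refine Subtype.ext ?_
    show (a * b) ^ p = 1
    rw [(hcomm ⟨a, ha⟩ ⟨b, hb⟩).mul_pow]
    obtain ⟨i, rfl⟩ := ha
    obtain ⟨j, rfl⟩ := hb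
    simp only [← zpow_natCast, ← zpow_mul]
    rw [mul_comm i, mul_comm j, zpow_mul, zpow_mul, zpow_natCast, zpow_natCast, hxp, hzp, one_zpow,
      one_zpow, one_mul]
  have hxE : x ∈ E := mem_sup_left (mem_zpowers x)
  have hzE : z ∈ E := mem_sup_right (mem_zpowers z)
  let x' : E := ⟨x, hxE⟩
  let z' : E := ⟨z, hzE⟩
  let gen : Option (Fin p) → E := fun o => o.elim z' fun i => x' * z' ^ (i : ℕ)
  have hgen : ∀ o, gen o ≠ 1 := by
    rintro (_ | i) h
    · refine hz ?_
      rw [show z = 1 from congrArg Subtype.val h]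
      exact one_mem _
    · have h1 : x * z ^ (i : ℕ) = 1 := congrArg Subtype.val h
      exact hx (by rw [eq_inv_of_mul_eq_one_left h1]; exact inv_mem (pow_mem (mem_zpowers z) _))
  let L : Option (Fin p) → Lines p E := fun o => ⟨zpowers (gen o), by
    rw [Nat.card_zpowers, orderOf_eq_prime (hexp _) (hgen o)]⟩
  have hLinj : Function.Injective L := by
    have key : ∀ i : Fin p, z' ∉ zpowers (gen (some i)) := by
      intro i hmem
      have h1 : zpowers z' = zpowers (gen (some i)) := eq_of_le_of_card_ge (zpowers_le.2 hmem) (by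
        rw [Nat.card_zpowers, Nat.card_zpowers]
        exact le_of_eq ((orderOf_eq_prime (hexp _) (hgen (some i))).trans
          (orderOf_eq_prime (hexp _) (hgen none)).symm))
      obtain ⟨k, hk⟩ := mem_zpowers_iff.1 (h1.symm ▸ mem_zpowers (gen (some i)) :
        gen (some i) ∈ zpowers z')
      have h2 : z ^ k = x * z ^ (i : ℕ) := by simpa [gen, x', z'] using congrArg Subtype.val hk
      exact hx (by
        rw [show x = z ^ k * (z ^ (i : ℕ))⁻¹ from eq_mul_inv_of_mul_eq h2.symm]
        exact mul_mem (zpow_mem (mem_zpowers z) k) (inv_mem (pow_mem (mem_zpowers z) _)))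
    rintro (_ | i) (_ | j) h
    · rfl
    · have h' : zpowers z' = zpowers (gen (some j)) := congrArg Subtype.val h
      exact absurd (h' ▸ mem_zpowers z') (key j)
    · have h' : zpowers (gen (some i)) = zpowers z' := congrArg Subtype.val h
      exact absurd (h'.symm ▸ mem_zpowers z') (key i)
    · by_contra hne
      have h' : zpowers (gen (some i)) = zpowers (gen (some j)) := congrArg Subtype.val h
      have hmem : gen (some j) ∈ zpowers (gen (some i)) := by rw [h']; exact mem_zpowers _
      have hij : z' ^ ((j : ℤ) - (i : ℤ)) ∈ zpowers (gen (some i)) := by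
        have h1 : (gen (some i))⁻¹ * gen (some j) = z' ^ ((j : ℤ) - (i : ℤ)) := by
          show (x' * z' ^ (i : ℕ))⁻¹ * (x' * z' ^ (j : ℕ)) = _
          rw [mul_inv_rev, zpow_sub, zpow_natCast, zpow_natCast, mul_assoc, inv_mul_cancel_left]
          exact ((Commute.refl z').pow_pow _ _).inv_left.eq
        exact h1 ▸ mul_mem (inv_mem (mem_zpowers _)) hmem
      refine key i ?_
      have hne' : ¬ (p : ℤ) ∣ (j : ℤ) - (i : ℤ) := by
        intro hd
        have hlt : |(j : ℤ) - (i : ℤ)| < (p : ℤ) := by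
          rw [abs_lt]; constructor <;> omega
        have h0 := Int.eq_zero_of_abs_lt_dvd hd hlt
        exact hne (congrArg some (Fin.ext (by omega)))
      obtain ⟨u, v, huv⟩ := ((Prime.coprime_iff_not_dvd (Nat.prime_iff_prime_int.1 hp.out)).2 hne').symm
      have h2 : z' = (z' ^ ((j : ℤ) - (i : ℤ))) ^ u := by
        rw [← zpow_mul, mul_comm, show u * ((j : ℤ) - i) = 1 - v * p by linarith, zpow_sub, zpow_one,
          mul_comm v, zpow_mul, zpow_natCast, hexp, one_zpow, inv_one, mul_one]
      rw [h2]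
      exact zpow_mem hij u
  have hEab : IsMulCommutative E := by
    refine ⟨⟨?_⟩⟩
    rintro ⟨a, ha⟩ ⟨b, hb⟩
    rw [← hrange] at ha hb
    obtain ⟨⟨a₁, a₂⟩, rfl⟩ := ha
    obtain ⟨⟨b₁, b₂⟩, rfl⟩ := hb
    apply Subtype.ext
    show f (a₁, a₂) * f (b₁, b₂) = f (b₁, b₂) * f (a₁, a₂)
    rw [← map_mul, ← map_mul]
    obtain ⟨_, i, rfl⟩ := a₁; obtain ⟨_, j, rfl⟩ := a₂
    obtain ⟨_, k, rfl⟩ := b₁; obtain ⟨_, l, rfl⟩ := b₂
    exact congrArg f (Prod.ext (Subtype.ext (Commute.zpow_zpow_self x i k).eq)
      (Subtype.ext (Commute.zpow_zpow_self z j l).eq))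
  let : CommGroup E := { (inferInstance : Group E) with mul_comm := hEab.is_comm.comm }
  let := Fintype.ofFinite (Lines p E)
  have hLbij : Function.Bijective L := (Fintype.bijective_iff_injective_and_card L).2 ⟨hLinj, by
    rw [Fintype.card_option, Fintype.card_fin, ← Nat.card_eq_fintype_card,
      CfsgLib.Comp.card_lines hexp hcard]⟩
  have hn : E.subtype.range ≤ normalizer (K : Set Y) := by
    rw [range_subtype]
    exact sup_le (zpowers_le.2 hxK) (zpowers_le.2 hzK)
  have h := CfsgLib.Comp.card_formula hexp hcard E.subtype hK hn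
  rw [← Fintype.prod_bijective L hLbij (fun o => Nat.card ↥(K ⊓ centralizer
      (((L o).1.map E.subtype : Subgroup Y) : Set Y))) _ (fun o => rfl), Fintype.prod_option] at h
  have hLc : ∀ o, centralizer (((L o).1.map E.subtype : Subgroup Y) : Set Y) =
      centralizer {((gen o : E) : Y)} := fun o => by
    rw [show (L o).1.map E.subtype = zpowers ((gen o : E) : Y) from MonoidHom.map_zpowers _ _,
      centralizer_zpowers]
  simp only [hLc] at h
  have htop : centralizer (((⊤ : Subgroup E).map E.subtype : Subgroup Y) : Set Y) =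
      centralizer ({x, z} : Set Y) := by
    rw [← MonoidHom.range_eq_map, range_subtype, hE, zpowers_eq_closure, zpowers_eq_closure,
      ← Subgroup.closure_union, centralizer_closure, Set.singleton_union]
  rw [htop] at h
  rw [h]
  congr 1
  rw [← Fin.prod_univ_eq_prod_range (fun i => Nat.card ↥(K ⊓ centralizer {x * z ^ i})) p]
  rfl

/-- The bound on a coset of a central subgroup of order `p`. -/
theorem coset_bound {G : Type*} [Group G] [Finite G] {x z : G} (hzo : orderOf z = p) {k : ℕ}
    (hxo : orderOf x = p ^ k) (hxz : Commute x z) {N : Subgroup G} (hN : ¬ p ∣ Nat.card N)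
    (hxN : x ∈ normalizer (N : Set G)) (hzN : z ∈ normalizer (N : Set G)) :
    (∏ i ∈ Finset.range p, Nat.card ↥(N ⊓ centralizer {x * z ^ i})) *
        Nat.card ↥(N ⊓ centralizer {z}) ≤
      Nat.card N * Nat.card ↥(N ⊓ centralizer ({x, z} : Set G)) ^ p := by
  classical
  set N1 := N ⊓ centralizer ({z} : Set G)
  have hC : ∀ y : G, centralizer ({x, z} : Set G) ≤ centralizer ({y} : Set G) →
      Nat.card ↥(N ⊓ centralizer ({x, z} : Set G)) ≤ Nat.card ↥(N ⊓ centralizer {y}) :=
    fun y h => card_le_of_le (inf_le_inf_left N h)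
  have h2c : centralizer ({x, z} : Set G) = centralizer {x} ⊓ centralizer {z} := by
    ext c; simp [mem_centralizer_iff]
  by_cases hxz' : x ∈ zpowers z
  · obtain ⟨j, rfl⟩ := mem_zpowers_iff.1 hxz'
    have hc : centralizer ({z ^ j, z} : Set G) = centralizer {z} := by
      rw [h2c, inf_eq_right]
      intro c hc
      rw [mem_centralizer_singleton_iff] at hc ⊢
      exact (Commute.zpow_right hc j).eq
    rw [hc]
    obtain ⟨i₀, hi₀, he₀⟩ : ∃ i₀ ∈ Finset.range p, z ^ j * z ^ i₀ = 1 := by
      have hp0 : (0 : ℤ) < p := by exact_mod_cast hp.out.pos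
      refine ⟨((-j) % (p : ℤ)).toNat, Finset.mem_range.2 ?_, ?_⟩
      · have := Int.emod_lt_of_pos (-j) hp0
        omega
      · rw [← zpow_natCast, Int.toNat_of_nonneg (Int.emod_nonneg _ hp0.ne'), ← zpow_add,
          ← orderOf_dvd_iff_zpow_eq_one, hzo]
        have := Int.emod_add_mul_ediv (-j) (p : ℤ)
        exact ⟨-((-j) / (p : ℤ)), by rw [mul_neg]; omega⟩
    rw [← Finset.mul_prod_erase _ _ hi₀, he₀]
    have hone : N ⊓ centralizer ({(1 : G)} : Set G) = N :=
      inf_eq_left.2 fun n _ => mem_centralizer_singleton_iff.2 (by simp)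
    rw [hone, mul_assoc]
    refine Nat.mul_le_mul_left _ ?_
    calc (∏ i ∈ (Finset.range p).erase i₀, Nat.card ↥(N ⊓ centralizer {z ^ j * z ^ i})) * Nat.card N1
        ≤ (∏ _i ∈ (Finset.range p).erase i₀, Nat.card N1) * Nat.card N1 := by
          refine Nat.mul_le_mul_right _ (Finset.prod_le_prod' fun i hi => ?_)
          obtain ⟨hne, hi⟩ := Finset.mem_erase.1 hi
          refine card_le_of_le (inf_le_inf_left N fun c hc => ?_)
          rw [mem_centralizer_singleton_iff] at hc ⊢
          have hd : ¬ (p : ℤ) ∣ j + i := by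
            intro hd
            have h0 : z ^ j * z ^ i = z ^ j * z ^ i₀ := by
              rw [he₀, ← zpow_natCast, ← zpow_add, ← orderOf_dvd_iff_zpow_eq_one, hzo]
              exact hd
            exact hne (pow_injOn_Iio_orderOf (by simpa [hzo] using Finset.mem_range.1 hi)
              (by simpa [hzo] using Finset.mem_range.1 hi₀) (mul_left_cancel h0))
          obtain ⟨u, v, huv⟩ := ((Prime.coprime_iff_not_dvd (Nat.prime_iff_prime_int.1 hp.out)).2 hd).symm
          have h1 : z = (z ^ j * z ^ i) ^ u := by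
            rw [← zpow_natCast, ← zpow_add, ← zpow_mul, mul_comm,
              show u * (j + i) = 1 - v * p by linarith, zpow_sub, zpow_one, mul_comm v, zpow_mul,
              zpow_natCast, ← hzo, pow_orderOf_eq_one, one_zpow, inv_one, mul_one]
          rw [h1]
          exact (Commute.zpow_right hc u).eq
      _ = Nat.card N1 ^ p := by
          rw [Finset.prod_const, Finset.card_erase_of_mem hi₀, Finset.card_range, ← pow_succ,
            Nat.sub_add_cancel hp.out.one_le]
  by_cases hzx : z ∈ zpowers x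
  · have hk0 : k ≠ 0 := by
      rintro rfl
      rw [pow_zero, orderOf_eq_one_iff] at hxo
      exact hxz' (hxo ▸ one_mem _)
    have hc : centralizer ({x, z} : Set G) = centralizer {x} := by
      rw [h2c, inf_eq_left]
      obtain ⟨j, rfl⟩ := mem_zpowers_iff.1 hzx
      intro c hc
      rw [mem_centralizer_singleton_iff] at hc ⊢
      exact (Commute.zpow_right hc j).eq
    rw [hc, mul_comm]
    refine Nat.mul_le_mul (card_le_of_le inf_le_left) ?_
    refine (Finset.prod_le_prod' fun i _ => ?_).trans (by rw [Finset.prod_const, Finset.card_range])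
    refine card_le_of_le (inf_le_inf_left N fun c hc => ?_)
    rw [mem_centralizer_singleton_iff] at hc ⊢
    obtain ⟨j, hj⟩ := mem_zpowers_iff.1 hzx
    -- `x * z ^ i` generates `⟨x⟩`
    have hjd : (p : ℤ) ∣ j := by
      by_contra hd
      have h1 : z ^ p = 1 := hzo ▸ pow_orderOf_eq_one z
      rw [← hj, ← zpow_natCast, ← zpow_mul, ← orderOf_dvd_iff_zpow_eq_one, hxo] at h1
      have h2 : k ≤ 1 := by
        by_contra hk
        refine hd ?_
        have h3 : ((p : ℤ) * p) ∣ j * p := by
          refine dvd_trans ?_ h1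
          push_cast
          rw [← pow_two]
          exact pow_dvd_pow _ (by omega)
        exact (mul_dvd_mul_iff_right (by exact_mod_cast hp.out.ne_zero)).1 h3
      have hk1 : orderOf x = p := by rw [hxo, show k = 1 by omega, pow_one]
      exact hxz' ((eq_of_le_of_card_ge (zpowers_le.2 hzx)
        (by rw [Nat.card_zpowers, Nat.card_zpowers, hk1, hzo]) : zpowers z = zpowers x).symm ▸ mem_zpowers x)
    obtain ⟨j', rfl⟩ := hjd
    have hd : IsCoprime (1 + (p : ℤ) * j' * i) ((orderOf x : ℕ) : ℤ) := by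
      rw [hxo]
      push_cast
      refine IsCoprime.pow_right ?_
      exact ⟨1, -(j' * i), by ring⟩
    obtain ⟨u, v, huv⟩ := hd
    have h1 : x = (x * z ^ i) ^ u := by
      rw [← hj, ← zpow_natCast (x ^ _), ← zpow_mul, ← zpow_one_add, ← zpow_mul, mul_comm,
        show u * (1 + (p : ℤ) * j' * i) = 1 - v * ((orderOf x : ℕ) : ℤ) by linarith, zpow_sub, zpow_one,
        mul_comm v, zpow_mul, zpow_natCast, pow_orderOf_eq_one, one_zpow, inv_one, mul_one]
    rw [h1]
    exact (Commute.zpow_right hc u).eq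
  -- the elementary abelian case
  set w := x ^ p with hw
  set X := centralizer ({w} : Set G) with hX
  have hxX : x ∈ X := mem_centralizer_singleton_iff.2 (Commute.self_pow x p).eq
  have hzX : z ∈ X := mem_centralizer_singleton_iff.2 ((hxz.pow_left p).symm).eq
  let wX : X := ⟨w, mem_centralizer_singleton_iff.2 rfl⟩
  have hwc : zpowers wX ≤ center X := by
    rw [zpowers_le, mem_center_iff]
    exact fun c => Subtype.ext (mem_centralizer_singleton_iff.1 c.2)
  have hZn : (zpowers wX).Normal := ⟨fun n hn g => by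
    rwa [mem_center_iff.1 (hwc hn) g, mul_inv_cancel_right]⟩
  set π := QuotientGroup.mk' (zpowers wX) with hπ
  have hkp : IsPGroup p π.ker := by
    rw [QuotientGroup.ker_mk']
    obtain ⟨i, -, hi⟩ := (Nat.dvd_prime_pow hp.out).1
      (show orderOf wX ∣ p ^ k by
        rw [← Subgroup.orderOf_coe]
        exact hxo ▸ orderOf_dvd_of_pow_eq_one (by
          show (x ^ p) ^ orderOf x = 1
          rw [← pow_mul, mul_comm, pow_mul, pow_orderOf_eq_one, one_pow]))
    exact IsPGroup.of_card (n := i) (by rw [Nat.card_zpowers, hi])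
  have hkc : π.ker ≤ center X := by rwa [QuotientGroup.ker_mk']
  set M := N.subgroupOf X with hM
  have hMc : Nat.card M = Nat.card ↥(N ⊓ X) := Nat.card_congr
    ((MulEquiv.subgroupCongr (inf_subgroupOf_right N X).symm).trans (subgroupOfEquivOfLe inf_le_right)).toEquiv
  have hMp : ¬ p ∣ Nat.card M := fun h => hN (h.trans (hMc ▸ card_dvd_of_le inf_le_left))
  have hnorm : ∀ y : X, (y : G) ∈ normalizer (N : Set G) → y ∈ normalizer (M : Set X) :=
    fun y hy => mem_normalizer_fintype fun m hm => (mem_normalizer_iff.1 hy m).1 hm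
  have key : ∀ S : Set X, (∀ s ∈ S, (s : G) ∈ normalizer (N : Set G)) →
      centralizer (Subtype.val '' S) ≤ X →
      Nat.card ↥(M.map π ⊓ centralizer (π '' S)) =
        Nat.card ↥(N ⊓ centralizer (Subtype.val '' S)) := by
    intro S hS hle
    rw [card_inf_centralizer_map π hkc hkp M hMp S fun s hs => hnorm s (hS s hs)]
    have he : (M ⊓ centralizer S).map X.subtype = N ⊓ centralizer (Subtype.val '' S) := by
      ext y
      constructor
      · rintro ⟨c, ⟨hc1, hc2⟩, rfl⟩
        refine ⟨hc1, mem_centralizer_iff.2 ?_⟩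
        rintro _ ⟨s, hs, rfl⟩
        exact congrArg Subtype.val (mem_centralizer_iff.1 hc2 s hs)
      · rintro ⟨hy1, hy2⟩
        exact ⟨⟨y, hle hy2⟩, ⟨hy1, mem_centralizer_iff.2 fun s hs =>
          Subtype.ext (mem_centralizer_iff.1 hy2 s ⟨s, hs, rfl⟩)⟩, rfl⟩
    rw [← he, card_map_of_injective X.subtype_injective]
  let xX : X := ⟨x, hxX⟩
  let zX : X := ⟨z, hzX⟩
  have hmemz : ∀ y : X, π y ∈ zpowers (π zX) → ∃ a b : ℤ, (y : G) = z ^ a * w ^ b := fun y hy => by
    obtain ⟨a, ha⟩ := mem_zpowers_iff.1 hy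
    rw [hπ, ← map_zpow, QuotientGroup.mk'_apply, QuotientGroup.mk'_apply, QuotientGroup.eq] at ha
    obtain ⟨b, hb⟩ := mem_zpowers_iff.1 ha
    refine ⟨a, b, ?_⟩
    rw [show w ^ b = ((wX ^ b : X) : G) from rfl, hb]
    show (y : G) = z ^ a * ((z ^ a)⁻¹ * y)
    group
  have hformula := coset_formula (x := π xX) (z := π zX) (K := M.map π) (p := p) ?_ ?_ ?_ ?_ ?_ ?_ ?_ ?_
  rotate_left
  · rw [← map_pow]
    exact (QuotientGroup.eq_one_iff _).2 (mem_zpowers wX)
  · rw [← map_pow, show zX ^ p = 1 from Subtype.ext (hzo ▸ pow_orderOf_eq_one z), map_one]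
  · exact (Commute.map (show Commute xX zX from Subtype.ext hxz.eq) π)
  · intro h
    obtain ⟨a, b, hab⟩ := hmemz xX h
    -- `x = z ^ a * x ^ (p * b)`
    have h1 : x ^ (1 - (p : ℤ) * b) ∈ zpowers z := by
      rw [zpow_sub, zpow_one, zpow_mul, zpow_natCast, ← hw, show x = (xX : G) from rfl, hab,
        mul_inv_cancel_right]
      exact zpow_mem (mem_zpowers z) a
    have hco : IsCoprime (1 - (p : ℤ) * b) ((orderOf x : ℕ) : ℤ) := by
      rw [hxo]
      push_cast
      refine IsCoprime.pow_right ⟨1, b, by ring⟩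
    obtain ⟨u, v, huv⟩ := hco
    refine hxz' ?_
    have h2 : x = (x ^ (1 - (p : ℤ) * b)) ^ u := by
      rw [← zpow_mul, mul_comm, show u * (1 - (p : ℤ) * b) = 1 - v * ((orderOf x : ℕ) : ℤ) by linarith,
        zpow_sub, zpow_one, mul_comm v, zpow_mul, zpow_natCast, pow_orderOf_eq_one, one_zpow, inv_one,
        mul_one]
    rw [h2]
    exact zpow_mem h1 u
  · intro h
    obtain ⟨a, ha⟩ := mem_zpowers_iff.1 h
    rw [hπ, ← map_zpow, QuotientGroup.mk'_apply, QuotientGroup.mk'_apply, QuotientGroup.eq] at ha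
    obtain ⟨b, hb⟩ := mem_zpowers_iff.1 ha
    refine hzx ?_
    have h1 : z = x ^ a * w ^ b := by
      rw [show w ^ b = ((wX ^ b : X) : G) from rfl, hb]
      show z = x ^ a * ((x ^ a)⁻¹ * z)
      group
    rw [h1]
    exact mul_mem (zpow_mem (mem_zpowers x) a) (zpow_mem (pow_mem (mem_zpowers x) p) b)
  · intro h
    exact hMp (h.trans (card_map_dvd M π))
  · exact le_normalizer_map π ⟨xX, hnorm xX hxN, rfl⟩
  · exact le_normalizer_map π ⟨zX, hnorm zX hzN, rfl⟩
  have hle2 : centralizer ({x, z} : Set G) ≤ X := by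
    rw [h2c]
    intro c hc
    rw [hX, mem_centralizer_singleton_iff]
    exact (Commute.pow_right (mem_centralizer_singleton_iff.1 hc.1) p).eq
  have hlei : ∀ i : ℕ, centralizer ({x * z ^ i} : Set G) ≤ X := fun i c hc => by
    rw [hX, mem_centralizer_singleton_iff]
    have hwi : w = (x * z ^ i) ^ p := by
      rw [(hxz.pow_right i).mul_pow, ← pow_mul, mul_comm, pow_mul, ← hzo, pow_orderOf_eq_one, one_pow,
        mul_one, hzo]
    rw [hwi]
    exact (Commute.pow_right (mem_centralizer_singleton_iff.1 hc) p).eq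
  have e2 := key {xX, zX} (by rintro s (rfl | rfl) <;> assumption) (by
    rw [Set.image_pair]; exact hle2)
  rw [Set.image_pair, Set.image_pair] at e2
  have e3 : ∀ i : ℕ, Nat.card ↥(M.map π ⊓ centralizer {π xX * π zX ^ i}) =
      Nat.card ↥(N ⊓ centralizer {x * z ^ i}) := fun i => by
    have := key {xX * zX ^ i} (by
      rintro s rfl
      exact (normalizer (N : Set G)).mul_mem hxN ((normalizer (N : Set G)).pow_mem hzN i)) (by
      rw [Set.image_singleton]; exact hlei i)
    rw [Set.image_singleton, Set.image_singleton, map_mul, map_pow] at this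
    exact this
  rw [e2, Finset.prod_congr rfl (fun i _ => e3 i)] at hformula
  set T := ∏ i ∈ Finset.range p, Nat.card ↥(N ⊓ centralizer {x * z ^ i})
  set C2 := Nat.card ↥(N ⊓ centralizer ({x, z} : Set G))
  set K := M.map π
  -- `|K : C_K(z)| ≤ |N : C_N(z)|`
  have hzcard : Nat.card ↥(K ⊓ centralizer {π zX}) = Nat.card ↥(N ⊓ X ⊓ centralizer {z}) := by
    have h1 := card_inf_centralizer_map π hkc hkp M hMp {zX} (by
      rintro s rfl; exact hnorm zX hzN)
    rw [Set.image_singleton] at h1
    rw [h1]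
    have he : (M ⊓ centralizer {zX}).map X.subtype = N ⊓ X ⊓ centralizer {z} := by
      ext y
      constructor
      · rintro ⟨c, ⟨hc1, hc2⟩, rfl⟩
        exact ⟨⟨hc1, c.2⟩, mem_centralizer_singleton_iff.2
          (congrArg Subtype.val (mem_centralizer_singleton_iff.1 hc2))⟩
      · rintro ⟨⟨hy1, hy3⟩, hy2⟩
        exact ⟨⟨y, hy3⟩, ⟨hy1, mem_centralizer_singleton_iff.2
          (Subtype.ext (mem_centralizer_singleton_iff.1 hy2))⟩, rfl⟩
    rw [← he, card_map_of_injective X.subtype_injective]
  have hKc : Nat.card K = Nat.card ↥(N ⊓ X) := by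
    have h1 := card_inf_centralizer_map π hkc hkp M hMp ∅ (by simp)
    rw [Set.image_empty, show centralizer (∅ : Set (X ⧸ zpowers wX)) = ⊤ from
        eq_top_iff.2 fun a _ => mem_centralizer_iff.2 (by simp),
      show centralizer (∅ : Set X) = ⊤ from eq_top_iff.2 fun a _ => mem_centralizer_iff.2 (by simp),
      inf_top_eq, inf_top_eq, hMc] at h1
    exact h1
  rw [hzcard, hKc] at hformula
  set M1 := N ⊓ X ⊓ centralizer ({z} : Set G)
  have hrel : Nat.card ↥(N ⊓ X) * Nat.card N1 ≤ Nat.card N * Nat.card M1 := by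
    rw [← CfsgLib.StructB.Kazarin.card_mul_relIndex_of_le (inf_le_left : M1 ≤ N ⊓ X),
      ← CfsgLib.StructB.Kazarin.card_mul_relIndex_of_le (inf_le_left : N1 ≤ N),
      inf_relIndex_left, inf_relIndex_left]
    calc Nat.card M1 * (centralizer ({z} : Set G)).relIndex (N ⊓ X) * Nat.card N1
        ≤ Nat.card M1 * (centralizer ({z} : Set G)).relIndex N * Nat.card N1 :=
          Nat.mul_le_mul_right _ (Nat.mul_le_mul_left _
            (relIndex_le_of_le_right inf_le_left index_ne_zero_of_finite))
      _ = _ := by ring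
  refine Nat.le_of_mul_le_mul_left ?_ (Nat.card_pos (α := M1))
  calc Nat.card M1 * (T * Nat.card N1) = Nat.card ↥(N ⊓ X) * Nat.card N1 * C2 ^ p := by
        rw [← mul_assoc, ← hformula]; ring
    _ ≤ Nat.card N * Nat.card M1 * C2 ^ p := Nat.mul_le_mul_right _ hrel
    _ = _ := by ring

/-- The product bound. -/
theorem prod_card_fixed_le : ∀ (n : ℕ) (G : Type u) [Group G] [Finite G] [Fintype G]
    (P N : Subgroup G) [Fintype P], Nat.card P = n → IsPGroup p P → ¬ p ∣ Nat.card N →
    P ≤ normalizer (N : Set G) →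
    (∏ x : P, Nat.card ↥(N ⊓ centralizer {(x : G)})) ^ p ≤
      Nat.card N ^ n * Nat.card ↥(N ⊓ centralizer (P : Set G)) ^ ((p - 1) * n) := by
  intro n
  induction n using Nat.strong_induction_on with
  | _ n ih =>
    intro G _ _ _ P N _ hn hP hN hPN
    classical
    rcases subsingleton_or_nontrivial P with hsub | hnt
    · have hbot : P = ⊥ := eq_bot_of_subsingleton P
      have h1 : n = 1 := hn ▸ Nat.card_of_subsingleton 1
      have htop : N ⊓ centralizer (P : Set G) = N := inf_eq_left.2 fun m _ => mem_centralizer_iff.2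
        fun q hq => by rw [hbot, SetLike.mem_coe, mem_bot] at hq; rw [hq, one_mul, mul_one]
      rw [h1, htop, pow_one, mul_one, ← pow_succ', Nat.sub_add_cancel hp.out.one_le]
      refine Nat.pow_le_pow_left ?_ p
      rw [Fintype.prod_subsingleton _ 1]
      exact card_le_of_le inf_le_left
    have := hP.center_nontrivial
    obtain ⟨⟨z, hzc⟩, hz⟩ : ∃ z : center P, orderOf z = p :=
      exists_prime_orderOf_dvd_card' p (by
        obtain ⟨j, hj⟩ := (hP.to_subgroup (center P)).exists_card_eq
        rw [hj]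
        exact dvd_pow_self p fun e => (Finite.one_lt_card (α := center P)).ne' (by rw [hj, e, pow_zero]))
    rw [Subgroup.orderOf_mk] at hz
    have hzG : orderOf (z : G) = p := by rw [Subgroup.orderOf_coe, hz]
    set N1 := N ⊓ centralizer ({(z : G)} : Set G) with hN1
    set X := centralizer ({(z : G)} : Set G) with hX
    have hPX : P ≤ X := fun x hx => mem_centralizer_singleton_iff.2
      (congrArg Subtype.val (mem_center_iff.1 hzc ⟨x, hx⟩))
    let zX : X := ⟨z, mem_centralizer_singleton_iff.2 rfl⟩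
    have hwc : zpowers zX ≤ center X := by
      rw [zpowers_le, mem_center_iff]
      exact fun c => Subtype.ext (mem_centralizer_singleton_iff.1 c.2)
    have hZn : (zpowers zX).Normal := ⟨fun m hm g => by
      rwa [mem_center_iff.1 (hwc hm) g, mul_inv_cancel_right]⟩
    set π := QuotientGroup.mk' (zpowers zX) with hπ
    have hkp : IsPGroup p π.ker := by
      rw [QuotientGroup.ker_mk']
      exact IsPGroup.of_card (n := 1) (by rw [Nat.card_zpowers, ← Subgroup.orderOf_coe, hzG, pow_one])
    have hkc : π.ker ≤ center X := by rwa [QuotientGroup.ker_mk']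
    let φ : P →* X ⧸ zpowers zX := π.comp (inclusion hPX)
    set Pb := φ.range with hPb
    let := Fintype.ofFinite (X ⧸ zpowers zX)
    let := Fintype.ofFinite Pb
    have hφker : φ.ker = zpowers z := by
      ext c
      rw [MonoidHom.mem_ker, MonoidHom.comp_apply, hπ, QuotientGroup.mk'_apply, QuotientGroup.eq_one_iff,
        mem_zpowers_iff, mem_zpowers_iff]
      refine exists_congr fun a => ⟨fun h => Subtype.ext ?_, fun h => Subtype.ext ?_⟩
      · simpa [zX] using congrArg (fun u : X => (u : G)) h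
      · simpa [zX] using congrArg (fun u : P => (u : G)) h
    have hPbc : Nat.card Pb * p = n := by
      rw [hPb, ← index_ker, hφker, mul_comm, ← hz, ← Nat.card_zpowers, card_mul_index, hn]
    set M := N.subgroupOf X with hM
    have hMc : Nat.card M = Nat.card N1 := Nat.card_congr
      ((MulEquiv.subgroupCongr (inf_subgroupOf_right N X).symm).trans
        (subgroupOfEquivOfLe inf_le_right)).toEquiv
    have hMp : ¬ p ∣ Nat.card M := fun h => hN (h.trans (hMc ▸ card_dvd_of_le inf_le_left))
    have hnorm : ∀ y : X, (y : G) ∈ P → y ∈ normalizer (M : Set X) := fun y hy =>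
      mem_normalizer_fintype fun m hm => (mem_normalizer_iff.1 (hPN hy) m).1 hm
    have hPbn : Pb ≤ normalizer ((M.map π : Subgroup _) : Set (X ⧸ zpowers zX)) := by
      rintro _ ⟨c, rfl⟩
      exact le_normalizer_map π ⟨inclusion hPX c, hnorm _ c.2, rfl⟩
    have hcnt : ∀ S : Set X, (∀ s ∈ S, (s : G) ∈ P) →
        Nat.card ↥(M.map π ⊓ centralizer (π '' S)) = Nat.card ↥(N1 ⊓ centralizer (Subtype.val '' S)) := by
      intro S hS
      rw [card_inf_centralizer_map π hkc hkp M hMp S fun s hs => hnorm s (hS s hs)]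
      have he : (M ⊓ centralizer S).map X.subtype = N1 ⊓ centralizer (Subtype.val '' S) := by
        ext y
        constructor
        · rintro ⟨c, ⟨hc1, hc2⟩, rfl⟩
          refine ⟨⟨hc1, c.2⟩, mem_centralizer_iff.2 ?_⟩
          rintro _ ⟨s, hs, rfl⟩
          exact congrArg Subtype.val (mem_centralizer_iff.1 hc2 s hs)
        · rintro ⟨⟨hy1, hy3⟩, hy2⟩
          exact ⟨⟨y, hy3⟩, ⟨hy1, mem_centralizer_iff.2 fun s hs =>
            Subtype.ext (mem_centralizer_iff.1 hy2 s ⟨s, hs, rfl⟩)⟩, rfl⟩
      rw [← he, card_map_of_injective X.subtype_injective]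
    have hMbc : Nat.card (M.map π) = Nat.card N1 := by
      have h1 := hcnt ∅ (by simp)
      rw [Set.image_empty, Set.image_empty, show centralizer (∅ : Set (X ⧸ zpowers zX)) = ⊤ from
          eq_top_iff.2 fun a _ => mem_centralizer_iff.2 (by simp),
        show centralizer (∅ : Set G) = ⊤ from eq_top_iff.2 fun a _ => mem_centralizer_iff.2 (by simp),
        inf_top_eq, inf_top_eq] at h1
      exact h1
    have hlt : Nat.card Pb < n := by
      rw [← hPbc]
      exact lt_mul_of_one_lt_right Nat.card_pos hp.out.one_lt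
    have hih := ih _ hlt (X ⧸ zpowers zX) Pb (M.map π) rfl (hP.of_surjective φ.rangeRestrict
      φ.rangeRestrict_surjective) (fun h => hMp (h.trans (card_map_dvd M π))) hPbn
    have hCP : Nat.card ↥(M.map π ⊓ centralizer (Pb : Set (X ⧸ zpowers zX))) =
        Nat.card ↥(N ⊓ centralizer (P : Set G)) := by
      have h1 := hcnt (Subtype.val ⁻¹' (P : Set G)) fun s hs => hs
      rw [Set.image_preimage_eq_of_subset (by
        rw [Subtype.range_coe]; exact hPX)] at h1
      rw [show (Pb : Set (X ⧸ zpowers zX)) = π '' (Subtype.val ⁻¹' (P : Set G)) from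
        Set.Subset.antisymm (by rintro _ ⟨c, rfl⟩; exact ⟨inclusion hPX c, c.2, rfl⟩)
          (by rintro _ ⟨c, hc, rfl⟩; exact ⟨⟨c, hc⟩, rfl⟩), h1, hN1, inf_assoc,
        inf_eq_right.2 (centralizer_le (Set.singleton_subset_iff.2 z.2) : centralizer (P : Set G) ≤ X)]
    -- pull the product back along `φ`
    have hfib : ∏ x : P, Nat.card ↥(M.map π ⊓ centralizer {φ x}) =
        (∏ y : Pb, Nat.card ↥(M.map π ⊓ centralizer {(y : X ⧸ zpowers zX)})) ^ p := by
      rw [← Finset.prod_pow]
      rw [← Finset.prod_fiberwise Finset.univ (fun x => φ.rangeRestrict x)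
        (fun x : P => Nat.card ↥(M.map π ⊓ centralizer {φ x}))]
      refine Finset.prod_congr rfl fun y _ => ?_
      obtain ⟨c, rfl⟩ := φ.rangeRestrict_surjective y
      have hcard : (Finset.univ.filter fun x => φ.rangeRestrict x = φ.rangeRestrict c).card = p := by
        rw [← Fintype.card_subtype, ← Nat.card_eq_fintype_card]
        calc Nat.card {x : P // φ.rangeRestrict x = φ.rangeRestrict c} = Nat.card φ.rangeRestrict.ker :=
              Nat.card_congr ⟨fun g => ⟨c⁻¹ * g.1, by
                  rw [MonoidHom.mem_ker, map_mul, map_inv, g.2, inv_mul_cancel]⟩,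
                fun k => ⟨c * k.1, by rw [map_mul, MonoidHom.mem_ker.1 k.2, mul_one]⟩,
                fun g => Subtype.ext (mul_inv_cancel_left c g.1),
                fun k => Subtype.ext (inv_mul_cancel_left c k.1)⟩
          _ = p := by
              rw [MonoidHom.ker_rangeRestrict, hφker, Nat.card_zpowers, hz]
      rw [← hcard, ← Finset.prod_const]
      refine Finset.prod_congr (by simp only [hcard]) fun x hx => ?_
      rw [(Finset.mem_filter.1 hx).2.symm]
      rfl
    have hone : ∀ x : P, Nat.card ↥(M.map π ⊓ centralizer {φ x}) =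
        Nat.card ↥(N ⊓ centralizer ({(x : G), (z : G)} : Set G)) := fun x => by
      have h1 := hcnt {inclusion hPX x} (by rintro s rfl; exact x.2)
      rw [Set.image_singleton, Set.image_singleton] at h1
      refine h1.trans ?_
      congr 2
      ext y
      simp [hN1, hX, mem_centralizer_iff]
      tauto
    rw [← pow_le_pow_iff_left₀ (Nat.zero_le _) (Nat.zero_le _) hp.out.ne_zero, ← hfib, hMbc, hCP] at hih
    simp only [hone] at hih
    rw [mul_pow, ← pow_mul, ← pow_mul, mul_assoc (p - 1), hPbc] at hih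
    -- average over the cosets of `⟨z⟩`
    have hprod : (∏ x : P, Nat.card ↥(N ⊓ centralizer {(x : G)})) ^ p =
        ∏ x : P, ∏ i ∈ Finset.range p, Nat.card ↥(N ⊓ centralizer {(x : G) * (z : G) ^ i}) := by
      rw [Finset.prod_comm]
      rw [Finset.prod_congr rfl (fun i _ => (Fintype.prod_equiv (Equiv.mulRight (z ^ i))
        (fun x : P => Nat.card ↥(N ⊓ centralizer {(x : G) * (z : G) ^ i}))
        (fun x : P => Nat.card ↥(N ⊓ centralizer {(x : G)})) (fun x => by simp))),
        Finset.prod_const, Finset.card_range]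
    refine Nat.le_of_mul_le_mul_right ?_ (pow_pos (Nat.card_pos (α := N1)) n)
    calc (∏ x : P, Nat.card ↥(N ⊓ centralizer {(x : G)})) ^ p * Nat.card N1 ^ n
        = ∏ x : P, ((∏ i ∈ Finset.range p, Nat.card ↥(N ⊓ centralizer {(x : G) * (z : G) ^ i})) *
            Nat.card N1) := by
          rw [hprod, Finset.prod_mul_distrib, Finset.prod_const, Finset.card_univ,
            ← Nat.card_eq_fintype_card, hn]
      _ ≤ ∏ x : P, (Nat.card N * Nat.card ↥(N ⊓ centralizer ({(x : G), (z : G)} : Set G)) ^ p) :=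
          Finset.prod_le_prod' fun x _ => by
            obtain ⟨k, hk⟩ := IsPGroup.iff_orderOf.1 hP x
            exact coset_bound hzG (by rw [Subgroup.orderOf_coe, hk])
              (show Commute (x : G) z from congrArg Subtype.val (mem_center_iff.1 hzc x))
              hN (hPN x.2) (hPN z.2)
      _ = Nat.card N ^ n * (∏ x : P, Nat.card ↥(N ⊓ centralizer ({(x : G), (z : G)} : Set G))) ^ p := by
          rw [Finset.prod_mul_distrib, Finset.prod_const, Finset.card_univ, ← Nat.card_eq_fintype_card,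
            hn, Finset.prod_pow]
      _ ≤ Nat.card N ^ n * (Nat.card N1 ^ n * Nat.card ↥(N ⊓ centralizer (P : Set G)) ^ ((p - 1) * n)) :=
          Nat.mul_le_mul_left _ hih
      _ = _ := by ring

end CfsgLib.StructB.FixProd
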