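import Cfsg.Prelude.Def_CaseTheorems
import Cfsg.Agent.S0519
import Cfsg.Agent.Lib.Solvable.UniqueSubgroup
import Cfsg.Agent.Lib.OddLocal.PGroup
import Mathlib

/-!
Generation of finite groups by a bounded number of elements; 2-groups all of whose normal
abelian subgroups are cyclic are 2-generated.
-/

set_option autoImplicit false
set_option linter.style.haveILetI false

open scoped Pointwise

namespace CfsgLib.TwoLinear

open Subgroup

/-- `G` is generated by at most `k` elements. -/
def Gen (G : Type*) [Group G] (k : ℕ) : Prop :=
  ∃ T : Finset G, T.card ≤ k ∧ closure (T : Set G) = ⊤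

theorem Gen.mono {G : Type*} [Group G] {a b : ℕ} (h : Gen G a) (hab : a ≤ b) : Gen G b :=
  let ⟨T, h1, h2⟩ := h; ⟨T, h1.trans hab, h2⟩

theorem Gen.of_surjective {G H : Type*} [Group G] [Group H] {k : ℕ} (h : Gen G k) (f : G →* H)
    (hf : Function.Surjective f) : Gen H k := by
  classical
  obtain ⟨T, h1, h2⟩ := h
  refine ⟨T.image f, Finset.card_image_le.trans h1, ?_⟩
  rw [Finset.coe_image, ← MonoidHom.map_closure, h2, map_top_of_surjective f hf]

theorem Gen.of_ker_range {G H : Type*} [Group G] [Group H] (f : G →* H) {a b : ℕ}
    (hk : Gen f.ker a) (hr : Gen f.range b) : Gen G (a + b) := by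
  classical
  obtain ⟨T₁, h₁, h₁'⟩ := hk
  obtain ⟨T₂, h₂, h₂'⟩ := hr
  have hs : ∀ y : f.range, ∃ x : G, f x = y := fun y => y.2
  choose s hs using hs
  refine ⟨T₁.image Subtype.val ∪ T₂.image s, (Finset.card_union_le _ _).trans
    (add_le_add (Finset.card_image_le.trans h₁) (Finset.card_image_le.trans h₂)), ?_⟩
  set C := closure ((T₁.image Subtype.val ∪ T₂.image s : Finset G) : Set G) with hC
  have hker : f.ker ≤ C := by
    rw [← f.ker.range_subtype, MonoidHom.range_eq_map, ← h₁', MonoidHom.map_closure]
    refine closure_mono ?_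
    rintro _ ⟨x, hx, rfl⟩
    simp only [Finset.coe_union, Finset.coe_image]
    exact Or.inl ⟨x, hx, rfl⟩
  have hrange : (⊤ : Subgroup f.range) ≤ (C.map f).comap f.range.subtype := by
    rw [← h₂', closure_le]
    intro y hy
    refine ⟨s y, subset_closure ?_, hs y⟩
    simp only [Finset.coe_union, Finset.coe_image]
    exact Or.inr ⟨y, hy, rfl⟩
  refine eq_top_iff.mpr fun x _ => ?_
  obtain ⟨y, hy, hxy⟩ := hrange (mem_top (⟨f x, x, rfl⟩ : f.range))
  have h : x * y⁻¹ ∈ f.ker := by
    rw [MonoidHom.mem_ker, map_mul, map_inv, hxy]
    exact mul_inv_cancel _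
  simpa using mul_mem (hker h) hy

theorem Gen.zero_of_subsingleton {G : Type*} [Group G] [Subsingleton G] : Gen G 0 :=
  ⟨∅, le_rfl, Subsingleton.elim _ _⟩

theorem Gen.one_of_isCyclic {G : Type*} [Group G] [IsCyclic G] : Gen G 1 := by
  obtain ⟨g, hg⟩ := IsCyclic.exists_generator (α := G)
  refine ⟨{g}, le_rfl, eq_top_iff.mpr fun x _ => ?_⟩
  rw [Finset.coe_singleton, ← zpowers_eq_closure]
  exact hg x

theorem gen_two_of_index {G : Type*} [Group G] [Finite G] (x : G)
    (hx : Nat.card G ≤ 2 * orderOf x) : Gen G 2 := by
  classical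
  by_cases hall : ∀ y : G, y ∈ zpowers x
  · exact ⟨{x}, by simp, eq_top_iff.mpr fun y _ => by
      rw [Finset.coe_singleton, ← zpowers_eq_closure]; exact hall y⟩
  push Not at hall
  obtain ⟨y, hy⟩ := hall
  refine ⟨{x, y}, Finset.card_le_two, ?_⟩
  rw [Finset.coe_pair]
  have hle : zpowers x ≤ closure ({x, y} : Set G) :=
    zpowers_le.mpr (subset_closure (Set.mem_insert x {y}))
  refine eq_top_of_le_card _ (hx.trans ?_)
  obtain ⟨c, hc⟩ := card_dvd_of_le hle
  rw [Nat.card_zpowers] at hc
  have h0 : 0 < Nat.card (closure ({x, y} : Set G)) := Nat.card_pos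
  rcases c with _ | _ | c
  · simp [hc] at h0
  · refine absurd ?_ hy
    have he : zpowers x = closure ({x, y} : Set G) :=
      eq_of_le_of_card_ge hle (by rw [hc, Nat.card_zpowers]; simp)
    rw [he]
    exact subset_closure (Set.mem_insert_of_mem x rfl)
  · rw [hc, mul_comm]; exact Nat.mul_le_mul_left _ (by omega)

/-- A 2-group all of whose normal abelian subgroups are cyclic is 2-generated. -/
theorem gen_two_of_cyclic_normal {X : Type*} [Group X] [Finite X] (hX : IsPGroup 2 X)
    (hn : ∀ A : Subgroup X, A.Normal → IsMulCommutative A → IsCyclic A) : Gen X 2 := by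
  classical
  haveI : Fact (Nat.Prime 2) := ⟨Nat.prime_two⟩
  have hquat : ∀ n : ℕ, Nonempty (X ≃* QuaternionGroup n) → Gen X 2 := by
    rintro n ⟨e⟩
    haveI : NeZero n := ⟨by
      rintro rfl
      haveI : Finite (QuaternionGroup 0) := Finite.of_equiv X e.toEquiv
      exact (orderOf_pos (QuaternionGroup.a 1 : QuaternionGroup 0)).ne'
        (QuaternionGroup.orderOf_a_one.trans (mul_zero 2))⟩
    refine gen_two_of_index (e.symm (QuaternionGroup.a 1)) ?_
    rw [MulEquiv.orderOf_eq, QuaternionGroup.orderOf_a_one, Nat.card_congr e.toEquiv,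
      Nat.card_eq_fintype_card, QuaternionGroup.card]
    omega
  by_cases hm : ∃ B : Subgroup X, IsMulCommutative B ∧ ¬ IsCyclic B
  · obtain ⟨-, h⟩ := Cfsg.Agent.S0519.result 2 hX hn hm
    rcases h with ⟨n, hq⟩ | ⟨n, hn8, ⟨e⟩⟩ | ⟨n, -, hc, x, -, hx, -, -⟩
    · exact hquat n hq
    · refine gen_two_of_index (e.symm (DihedralGroup.r 1)) ?_
      rw [MulEquiv.orderOf_eq, DihedralGroup.orderOf_r_one, Nat.card_congr e.toEquiv,
        DihedralGroup.nat_card]
    · refine gen_two_of_index x ?_
      rw [hc, hx, pow_succ']
  · push Not at hm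
    rcases CfsgLib.Solvable.isCyclic_or_quaternion_of_unique (p := 2) hX (by
      intro H K hH hK
      by_contra hne
      -- two subgroups of order two, one may be taken central
      rcases subsingleton_or_nontrivial X with hs | hs
      · exact hne (Subsingleton.elim _ _)
      obtain ⟨z, hz⟩ : ∃ z : Subgroup.center X, orderOf z = 2 := by
        haveI := hX.center_nontrivial
        obtain ⟨k, hk⟩ := (hX.to_subgroup (Subgroup.center X)).exists_card_eq
        refine exists_prime_orderOf_dvd_card' 2 ?_
        have := Finite.one_lt_card (α := Subgroup.center X)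
        rcases k with _ | k
        · omega
        · rw [hk]; exact Dvd.intro_left _ (pow_succ 2 k).symm
      have hzX : orderOf (z : X) = 2 := by rwa [Subgroup.orderOf_coe]
      have key : ∀ L : Subgroup X, Nat.card L = 2 → L = zpowers (z : X) := by
        intro L hL
        let B := closure (insert (z : X) (L : Set X))
        haveI : IsMulCommutative B := by
          apply Subgroup.isMulCommutative_closure
          haveI : IsCyclic L := isCyclic_of_prime_card hL
          intro a ha b hb
          rcases ha with rfl | ha
          · exact (Subgroup.mem_center_iff.mp z.2 b).symm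
          rcases hb with rfl | hb
          · exact Subgroup.mem_center_iff.mp z.2 a
          · letI : CommGroup L := IsCyclic.commGroup
            exact congrArg Subtype.val (mul_comm (⟨a, ha⟩ : L) ⟨b, hb⟩)
        haveI := hm B inferInstance
        have h1 : L ≤ B := fun a ha => subset_closure (Or.inr ha)
        have h2 : zpowers (z : X) ≤ B := zpowers_le.mpr (subset_closure (Or.inl rfl))
        haveI := Fintype.ofFinite B
        have h3 := IsCyclic.card_pow_eq_one_le (α := B) (n := 2) two_pos
        by_contra hne'
        obtain ⟨l, hl, hlz⟩ : ∃ l ∈ L, l ∉ zpowers (z : X) := by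
          by_contra hcon
          push Not at hcon
          exact hne' (eq_of_le_of_card_ge hcon (by rw [Nat.card_zpowers, hzX, hL]))
        have hsub : ({1, ⟨(z : X), h2 (mem_zpowers _)⟩, ⟨l, h1 hl⟩} : Finset B) ⊆
            Finset.univ.filter fun b : B => b ^ 2 = 1 := by
          intro b hb
          simp only [Finset.mem_insert, Finset.mem_singleton] at hb
          simp only [Finset.mem_filter, Finset.mem_univ, true_and]
          rcases hb with rfl | rfl | rfl
          · exact one_pow 2
          · exact Subtype.ext (hzX ▸ pow_orderOf_eq_one (z : X))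
          · refine Subtype.ext ?_
            have := congrArg Subtype.val (pow_card_eq_one' (x := (⟨l, hl⟩ : L)))
            rw [hL] at this
            simpa using this
        have := (Finset.card_le_card hsub).trans h3
        rw [Finset.card_insert_of_notMem, Finset.card_insert_of_notMem,
          Finset.card_singleton] at this
        · omega
        · simp only [Finset.mem_singleton, Subtype.mk.injEq]
          exact fun h => hlz (h ▸ mem_zpowers _)
        · simp only [Finset.mem_insert, Finset.mem_singleton, not_or]
          refine ⟨fun h => ?_, fun h => hlz ?_⟩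
          · have h' := congrArg Subtype.val h
            simp only [OneMemClass.coe_one] at h'
            rw [← h', orderOf_one] at hzX
            omega
          · have h' := congrArg Subtype.val h
            simp only [OneMemClass.coe_one] at h'
            rw [← h']; exact one_mem _
      exact hne ((key H hH).trans (key K hK).symm)) with hc | ⟨-, n, hq⟩
    · exact Gen.one_of_isCyclic.mono one_le_two
    · exact hquat _ hq

end CfsgLib.TwoLinear
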