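import Cfsg.Agent.Lib.StructB.Misc
import Cfsg.Agent.Lib.Transfer.Frobenius

/-!
# Burnside transfer for abelian Sylow subgroups of small rank
-/

set_option autoImplicit false

namespace CfsgLib.StructB

/-- An abelian Sylow `p`-subgroup of rank `d` has a normal complement if no prime divisor of `|G|` other than `p`
divides some `p ^ i - 1` with `1 ≤ i ≤ d`. -/
theorem hasNormalPComplement_of_rank {G : Type*} [Group G] [Finite G] {p : ℕ} [Fact p.Prime] (P : Sylow p G)
    (hab : IsMulCommutative (P : Subgroup G))
    (h : ∀ q : ℕ, q.Prime → q ∣ Nat.card G → q ≠ p →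
      ∀ i, 1 ≤ i → i ≤ Group.rank (P : Subgroup G) → ¬ q ∣ p ^ i - 1) :
    Cfsg.HasNormalPComplement p G := by
  classical
  have hp : p.Prime := Fact.out
  refine CfsgLib.Transfer.hasNormalPComplement_of_normalizer_le_centralizer P ?_
  set N := Subgroup.normalizer ((P : Subgroup G) : Set G) with hNdef
  set C := Subgroup.centralizer ((P : Subgroup G) : Set G) with hCdef
  have hcomm : ∀ a ∈ (P : Subgroup G), ∀ b ∈ (P : Subgroup G), a * b = b * a := fun a ha b hb =>
    congrArg Subtype.val (hab.is_comm.comm ⟨a, ha⟩ ⟨b, hb⟩)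
  letI : CommGroup (P : Subgroup G) := { (inferInstance : Group (P : Subgroup G)) with mul_comm := hab.is_comm.comm }
  -- the elements of order dividing `p`
  let φ : (P : Subgroup G) →* (P : Subgroup G) := powMonoidHom p
  obtain ⟨a, ha⟩ := IsPGroup.iff_card.1 (P.isPGroup'.to_subgroup φ.ker)
  have ha_le : a ≤ Group.rank (P : Subgroup G) := by
    have e1 : Nat.card φ.ker = Nat.card ((P : Subgroup G) ⧸ φ.range) := by
      have e2 := φ.ker.index_mul_card
      rw [Subgroup.index_ker] at e2
      have e3 := φ.range.index_mul_card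
      rw [← Subgroup.index_eq_card]
      refine Nat.eq_of_mul_eq_mul_left (Nat.card_pos (α := φ.range)) ?_
      rw [e2, mul_comm, e3]
    have hexp : ∀ v : (P : Subgroup G) ⧸ φ.range, v ^ p = 1 := by
      intro v
      obtain ⟨u, rfl⟩ := QuotientGroup.mk_surjective v
      exact (QuotientGroup.eq_one_iff _).2 ⟨u, rfl⟩
    have h2 := card_dvd_exponent_pow_rank' ((P : Subgroup G) ⧸ φ.range) hexp
    rw [← e1, ha, Nat.pow_dvd_pow_iff_le_right hp.one_lt] at h2
    exact h2.trans (Group.rank_le_of_surjective (QuotientGroup.mk' φ.range) (QuotientGroup.mk'_surjective _))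
  -- elements of `N` of prime power order prime to `p` centralise `P`
  have key : ∀ (k q : ℕ), q.Prime → q ≠ p → ∀ g ∈ N, orderOf g ∣ q ^ k → g ∈ C := by
    intro k q hq hqp
    haveI : Fact q.Prime := ⟨hq⟩
    induction k with
    | zero =>
      intro g _ hd
      rw [pow_zero, Nat.dvd_one, orderOf_eq_one_iff] at hd
      rw [hd]
      exact one_mem _
    | succ k ih =>
      intro g hgN hd
      have hgq : g ^ q ∈ C := ih _ (pow_mem hgN q) (orderOf_dvd_of_pow_eq_one (by
        rw [← pow_mul, ← pow_succ']; exact orderOf_dvd_iff_pow_eq_one.1 hd))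
      -- `g` fixes the elements of order `p`
      have hmem : ∀ v ∈ (P : Subgroup G), g * v * g⁻¹ ∈ (P : Subgroup G) := fun v hv =>
        (Subgroup.mem_normalizer_iff.1 hgN v).1 hv
      let ψ : (P : Subgroup G) →* (P : Subgroup G) :=
        { toFun := fun v => ⟨g * v * g⁻¹, hmem v v.2⟩
          map_one' := by ext; simp
          map_mul' := fun u v => by ext; simp }
      have hψ : ∀ (i : ℕ) (v : (P : Subgroup G)), ((ψ^[i] v : (P : Subgroup G)) : G) = g ^ i * v * (g ^ i)⁻¹ := by
        intro i
        induction i with
        | zero => intro v; simp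
        | succ i ih' =>
          intro v
          rw [Function.iterate_succ_apply', pow_succ']
          show g * _ * g⁻¹ = _
          rw [ih']; group
      have hψq : ∀ v, ψ^[q] v = v := fun v => Subtype.ext (by
        rw [hψ, ← Subgroup.mem_centralizer_iff.1 hgq v v.2, mul_inv_cancel_right])
      have hfix : ∀ v : (P : Subgroup G), v ∈ φ.ker → ψ v = v := by
        by_contra hh
        push Not at hh
        obtain ⟨v0, hv0, hne⟩ := hh
        have hmap : ∀ v, v ∈ φ.ker → ψ v ∈ φ.ker := fun v hv => by
          show (ψ v) ^ p = 1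
          rw [← map_pow, show v ^ p = 1 from hv, map_one]
        have hinj : Function.Injective ψ := fun u v e => Subtype.ext (mul_left_cancel (mul_right_cancel
          (congrArg Subtype.val e)))
        let σ : Equiv.Perm φ.ker := Equiv.ofBijective (fun v => ⟨ψ v, hmap v v.2⟩)
          (Finite.injective_iff_bijective.1 fun u v e => Subtype.ext (hinj (congrArg Subtype.val e)))
        have hσ : σ ^ q ^ 1 = 1 := by
          have : ∀ (i : ℕ) (v : φ.ker), (((σ ^ i) v : φ.ker) : (P : Subgroup G)) = ψ^[i] v := by
            intro i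
            induction i with
            | zero => intro v; rfl
            | succ i ih' => intro v; rw [pow_succ', Equiv.Perm.mul_apply, Function.iterate_succ_apply', ← ih']; rfl
          refine Equiv.ext fun v => Subtype.ext ?_
          rw [this, pow_one, hψq]
          rfl
        have hmod := card_fixed_modEq (q := q) σ hσ
        let W : Subgroup φ.ker := (ψ.comp φ.ker.subtype).eqLocus φ.ker.subtype
        have hW : Nat.card {v // σ v = v} = Nat.card W :=
          Nat.card_congr (Equiv.subtypeEquivRight fun v => ⟨fun e => congrArg Subtype.val e, fun e => Subtype.ext e⟩)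
        obtain ⟨b, hb⟩ := IsPGroup.iff_card.1 ((P.isPGroup'.to_subgroup φ.ker).to_subgroup W)
        have hWne : W ≠ ⊤ := fun e => hne (show (⟨v0, hv0⟩ : φ.ker) ∈ W from e ▸ Subgroup.mem_top _)
        have hba : b < a := by
          by_contra hle
          exact hWne (Subgroup.eq_top_of_le_card _ (by rw [ha, hb]; exact Nat.pow_le_pow_right hp.pos (by omega)))
        rw [hW, hb, ha] at hmod
        have hqG : q ∣ Nat.card G := by
          have : g ≠ 1 := fun e => hne (Subtype.ext (by show g * v0 * g⁻¹ = v0; rw [e]; simp))
          obtain ⟨i, -, hi⟩ := (Nat.dvd_prime_pow hq).1 hd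
          have hi0 : i ≠ 0 := fun e => this (orderOf_eq_one_iff.1 (by rw [hi, e, pow_zero]))
          exact (hi ▸ dvd_pow_self q hi0).trans (orderOf_dvd_natCard g)
        refine h q hq hqG hqp (a - b) (by omega) (by omega) ?_
        have h1 : q ∣ p ^ a - p ^ b := (Nat.modEq_iff_dvd' (Nat.pow_le_pow_right hp.pos hba.le)).1 hmod
        rw [show a = b + (a - b) by omega, pow_add, ← Nat.mul_sub_one] at h1
        exact (((Nat.coprime_primes hq hp).2 hqp).pow_right b).dvd_of_dvd_mul_left h1
      -- hence centralises everything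
      refine Subgroup.mem_centralizer_iff.2 fun v hv => ?_
      suffices H : ∀ (e : ℕ) (u : (P : Subgroup G)), u ^ (p ^ e) = 1 → ψ u = u by
        obtain ⟨e, he⟩ := P.isPGroup' ⟨v, hv⟩
        exact (mul_inv_eq_iff_eq_mul.1 (congrArg Subtype.val (H e _ he))).symm
      intro e
      induction e with
      | zero => intro u hu; rw [pow_zero, pow_one] at hu; rw [hu, map_one]
      | succ e ih' =>
        intro u hu
        have h1 : ψ (u ^ p) = u ^ p := ih' _ (by rw [← pow_mul, ← pow_succ']; exact hu)
        set w := u⁻¹ * ψ u with hw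
        have hwp : w ^ p = 1 := by rw [hw, mul_pow, inv_pow, ← map_pow, h1, inv_mul_cancel]
        have hu1 : ψ u = u * w := by rw [hw, mul_inv_cancel_left]
        have hwf : ψ w = w := hfix w hwp
        have hit : ∀ i : ℕ, ψ^[i] u = u * w ^ i := by
          intro i
          induction i with
          | zero => simp
          | succ i ih'' => rw [Function.iterate_succ_apply', ih'', map_mul, map_pow, hwf, hu1, mul_assoc, ← pow_succ']
        have hwq : w ^ q = 1 := by
          have := hit q
          rw [hψq] at this
          exact mul_eq_left.1 this.symm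
        have hw1 : w = 1 := by
          have := pow_gcd_eq_one.2 ⟨hwp, hwq⟩
          rwa [((Nat.coprime_primes hp hq).2 hqp.symm).gcd_eq_one, pow_one] at this
        rw [hu1, hw1, mul_one]
  intro f hf
  refine mem_of_forall_primePow C f fun x hx q k hq hk ho _ => ?_
  have hxN : x ∈ N := Subgroup.zpowers_le.2 hf hx
  by_cases hqp : q = p
  · subst hqp
    have hz : IsPGroup q (Subgroup.zpowers x) := IsPGroup.of_card (n := k) (by rw [Nat.card_zpowers, ho])
    have h1 := hz.to_sup_of_normal_right' P.isPGroup' (Subgroup.zpowers_le.2 hxN)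
    have h2 : x ∈ (P : Subgroup G) := by
      rw [← P.is_maximal' h1 le_sup_right]; exact Subgroup.mem_sup_left (Subgroup.mem_zpowers x)
    exact Subgroup.mem_centralizer_iff.2 fun v hv => hcomm v hv x h2
  · exact key k q hq hqp x hxN (dvd_of_eq ho)

end CfsgLib.StructB
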