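import Cfsg.Agent.Lib.Transfer.Tate
import Cfsg.Agent.Lib.Solvable.FixedPointFree
import Cfsg.Agent.Lib.Solvable.Frattini2
import Cfsg.Agent.Lib.Solvable.Nilpotent
import Cfsg.Agent.Lib.Complement.FpfNilpotent

/-!
# Camina pairs

`IsCamina N`: for `g ∉ N` the conjugacy class of `g` is a union of cosets of the normal subgroup `N`.
-/

set_option autoImplicit false

namespace CfsgLib.StructB

open Subgroup
open scoped commutatorElement

variable {G : Type*} [Group G]

/-- The conjugacy class of every element outside `N` is a union of cosets of `N`. -/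
def IsCamina (N : Subgroup G) : Prop :=
  ∀ g : G, g ∉ N → ∀ n ∈ N, ∃ x : G, x * g * x⁻¹ = g * n

namespace IsCamina

variable {N : Subgroup G} (hN : IsCamina N)

include hN

theorem orderOf_mul {g n : G} (hg : g ∉ N) (hn : n ∈ N) : orderOf (g * n) = orderOf g := by
  obtain ⟨x, hx⟩ := hN g hg n hn
  rw [← hx, show x * g * x⁻¹ = MulAut.conj x g from rfl]
  exact orderOf_injective (MulAut.conj x).toMonoidHom (MulAut.conj x).injective g

theorem orderOf_dvd_of_commute {g n : G} (hg : g ∉ N) (hn : n ∈ N) (hc : Commute g n) :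
    orderOf n ∣ orderOf g := by
  have h := pow_orderOf_eq_one (g * n)
  rw [hN.orderOf_mul hg hn, hc.mul_pow, pow_orderOf_eq_one, one_mul] at h
  exact orderOf_dvd_of_pow_eq_one h

theorem eq_one_of_commute {g n : G} {p k : ℕ} (hp : p.Prime) (hg : g ∉ N) (hgo : orderOf g = p ^ k)
    (hn : n ∈ N) (hnp : ¬ p ∣ orderOf n) (hc : Commute g n) : n = 1 := by
  obtain ⟨i, -, hi⟩ := (Nat.dvd_prime_pow hp).1 (hgo ▸ hN.orderOf_dvd_of_commute hg hn hc)
  rcases i with _ | i
  · exact orderOf_eq_one_iff.1 (by rw [hi, pow_zero])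
  · exact absurd (hi ▸ dvd_pow_self p i.succ_ne_zero) hnp

theorem map [N.Normal] (M : Subgroup G) [M.Normal] (hM : M ≤ N) :
    IsCamina (N.map (QuotientGroup.mk' M)) := by
  intro g hg n hn
  obtain ⟨n, hn, rfl⟩ := hn
  obtain ⟨g, rfl⟩ := QuotientGroup.mk'_surjective M g
  obtain ⟨x, hx⟩ := hN g (fun h => hg (mem_map_of_mem _ h)) n hn
  exact ⟨QuotientGroup.mk' M x, by rw [← map_mul, ← map_inv, ← map_mul, hx, map_mul]⟩

/-- `|C_G(g)| = |C_{G/N}(gN)|`. -/
theorem card_centralizer [Finite G] [N.Normal] {g : G} (hg : g ∉ N) :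
    Nat.card (centralizer ({g} : Set G)) =
      Nat.card (centralizer ({(g : G ⧸ N)} : Set (G ⧸ N))) := by
  set C := centralizer ({g} : Set G) with hC
  set D := (centralizer ({(g : G ⧸ N)} : Set (G ⧸ N))).comap (QuotientGroup.mk' N) with hD
  have hmemD : ∀ x, x ∈ D ↔ g⁻¹ * (x * g * x⁻¹) ∈ N := by
    intro x
    rw [hD, mem_comap, mem_centralizer_singleton_iff, QuotientGroup.mk'_apply, ← QuotientGroup.mk_mul,
      ← QuotientGroup.mk_mul, QuotientGroup.eq, ← ‹N.Normal›.mem_comm_iff]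
    constructor <;> intro h
    · have h' := N.inv_mem (‹N.Normal›.conj_mem _ h g⁻¹)
      simpa [mul_assoc] using h'
    · have h' := ‹N.Normal›.conj_mem _ (N.inv_mem h) g
      simpa [mul_assoc] using h'
  have hCD : C ≤ D := by
    intro x hx
    rw [hmemD, mem_centralizer_singleton_iff.1 hx]
    simp
  have hmemC : ∀ a b : G, a⁻¹ * b ∈ C ↔ a * g * a⁻¹ = b * g * b⁻¹ := by
    intro a b
    rw [hC, mem_centralizer_singleton_iff]
    constructor <;> intro h
    · calc a * g * a⁻¹ = a * (g * (a⁻¹ * b)) * b⁻¹ := by group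
        _ = a * ((a⁻¹ * b) * g) * b⁻¹ := by rw [h]
        _ = b * g * b⁻¹ := by group
    · calc a⁻¹ * b * g = a⁻¹ * (b * g * b⁻¹) * b := by group
        _ = a⁻¹ * (a * g * a⁻¹) * b := by rw [h]
        _ = g * (a⁻¹ * b) := by group
  have hrel : C.relIndex D = Nat.card N := by
    rw [relIndex, index_eq_card]
    refine Nat.card_congr (Equiv.ofBijective (fun q => Quotient.liftOn' q
      (fun x : D => (⟨g⁻¹ * (x * g * (x : G)⁻¹), (hmemD x).1 x.2⟩ : N)) ?_) ⟨?_, ?_⟩)
    · intro a b hab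
      rw [QuotientGroup.leftRel_apply, mem_subgroupOf] at hab
      have := (hmemC a b).1 hab
      exact Subtype.ext (by show g⁻¹ * _ = g⁻¹ * _; rw [this])
    · intro q r h
      induction q using QuotientGroup.induction_on with | _ a =>
      induction r using QuotientGroup.induction_on with | _ b =>
      refine QuotientGroup.eq.2 (mem_subgroupOf.2 ((hmemC a b).2 ?_))
      exact mul_left_cancel (congrArg Subtype.val h : g⁻¹ * _ = g⁻¹ * _)
    · rintro ⟨n, hn⟩
      obtain ⟨x, hx⟩ := hN g hg n hn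
      refine ⟨QuotientGroup.mk (⟨x, (hmemD x).2 (by rw [hx]; simpa using hn)⟩ : D), Subtype.ext ?_⟩
      show g⁻¹ * (x * g * x⁻¹) = n
      rw [hx, inv_mul_cancel_left]
  have h1 : Nat.card C * C.relIndex D = Nat.card D := by
    rw [relIndex, ← Nat.card_congr (subgroupOfEquivOfLe hCD).toEquiv]
    exact card_mul_index _
  have h2 : Nat.card D = Nat.card N * Nat.card (centralizer ({(g : G ⧸ N)} : Set (G ⧸ N))) := by
    have h3 := index_mul_card D
    rw [hD, index_comap_of_surjective _ (QuotientGroup.mk'_surjective N), ← hD,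
      ← index_mul_card N, index_eq_card (H := N),
      ← index_mul_card (centralizer ({(g : G ⧸ N)} : Set (G ⧸ N)))] at h3
    refine Nat.eq_of_mul_eq_mul_left (Nat.pos_of_ne_zero
      (index_ne_zero_of_finite (H := centralizer ({(g : G ⧸ N)} : Set (G ⧸ N))))) ?_
    rw [h3]; ring
  rw [hrel, h2, mul_comm] at h1
  exact Nat.eq_of_mul_eq_mul_left Nat.card_pos h1

/-- If `p` divides the index, a Sylow `p`-subgroup meets `N` in its derived subgroup. -/
theorem subgroupOf_sylow_le_commutator [Finite G] [N.Normal] {p : ℕ} [Fact p.Prime]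
    (hp : p ∣ N.index) (P : Sylow p G) :
    N.subgroupOf (P : Subgroup G) ≤ commutator (P : Subgroup G) := by
  let Pb : Sylow p (G ⧸ N) := P.mapSurjective (QuotientGroup.mk'_surjective N)
  have hPb : (Pb : Subgroup (G ⧸ N)) = (P : Subgroup G).map (QuotientGroup.mk' N) := rfl
  have hnt : Nontrivial (Pb : Subgroup (G ⧸ N)) := by
    rw [nontrivial_iff_ne_bot]
    refine Pb.ne_bot_of_dvd_card ?_
    rwa [← index_eq_card]
  have hnil := Pb.2.isNilpotent
  obtain ⟨z, hz, hz1⟩ : ∃ z : (Pb : Subgroup (G ⧸ N)), z ∈ center _ ∧ z ≠ 1 := by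
    by_contra h
    push Not at h
    exact ((nontrivial_iff_ne_bot _).1 Pb.2.center_nontrivial) ((eq_bot_iff_forall _).2 h)
  obtain ⟨g, hgP, hgz⟩ : ∃ g ∈ (P : Subgroup G), (g : G ⧸ N) = (z : G ⧸ N) :=
    (z.2 : (z : G ⧸ N) ∈ (P : Subgroup G).map (QuotientGroup.mk' N))
  have hg : g ∉ N := fun h => hz1 (Subtype.ext (by rw [← hgz]; exact (QuotientGroup.eq_one_iff g).2 h))
  let f : ↥(P : Subgroup G) → ↥(N.subgroupOf (P : Subgroup G)) := fun x =>
    ⟨(⟨g, hgP⟩ : (P : Subgroup G))⁻¹ * (x * ⟨g, hgP⟩ * x⁻¹), by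
      rw [mem_subgroupOf]
      have h1 : ((x : G) : G ⧸ N) ∈ (Pb : Subgroup (G ⧸ N)) := by
        rw [hPb]; exact mem_map_of_mem _ x.2
      have h2 : ((x : G) : G ⧸ N) * z = z * ((x : G) : G ⧸ N) :=
        congrArg Subtype.val (mem_center_iff.1 hz ⟨_, h1⟩)
      rw [← QuotientGroup.eq_one_iff]
      simp only [coe_mul, InvMemClass.coe_inv, QuotientGroup.mk_mul, QuotientGroup.mk_inv, hgz, h2]
      group⟩
  set Cg := centralizer ({(⟨g, hgP⟩ : (P : Subgroup G))} : Set (P : Subgroup G)) with hCg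
  have hinj : Cg.index ≤ Nat.card (Set.range f) := by
    rw [index_eq_card]
    refine Nat.card_le_card_of_injective (fun q => ⟨f q.out, q.out, rfl⟩) fun q r h => ?_
    have h' : (⟨g, hgP⟩ : (P : Subgroup G))⁻¹ * (q.out * ⟨g, hgP⟩ * q.out⁻¹) =
        ⟨g, hgP⟩⁻¹ * (r.out * ⟨g, hgP⟩ * r.out⁻¹) := congrArg (fun s => (s.1 : N.subgroupOf _).1) h
    refine (QuotientGroup.out_eq' q).symm.trans
      ((QuotientGroup.eq.2 (mem_centralizer_singleton_iff.2 ?_)).trans (QuotientGroup.out_eq' r))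
    have h'' := mul_left_cancel h'
    calc q.out⁻¹ * r.out * (⟨g, hgP⟩ : (P : Subgroup G))
        = q.out⁻¹ * (r.out * ⟨g, hgP⟩ * r.out⁻¹) * r.out := by group
      _ = q.out⁻¹ * (q.out * ⟨g, hgP⟩ * q.out⁻¹) * r.out := by rw [h'']
      _ = ⟨g, hgP⟩ * (q.out⁻¹ * r.out) := by group
  have hcard : Nat.card Cg ∣ Nat.card (Pb : Subgroup (G ⧸ N)) := by
    obtain ⟨j, hj⟩ := (P.2.to_subgroup Cg).exists_card_eq
    rw [Pb.card_eq_multiplicity, hj]
    apply pow_dvd_pow
    rw [← (Fact.out : p.Prime).pow_dvd_iff_le_factorization Nat.card_pos.ne', ← hj]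
    refine dvd_trans ?_ (card_subgroup_dvd_card (centralizer ({(g : G ⧸ N)} : Set (G ⧸ N))))
    rw [← hN.card_centralizer hg, ← card_map_of_injective (P : Subgroup G).subtype_injective (K := Cg)]
    refine card_dvd_of_le ?_
    rintro _ ⟨x, hx, rfl⟩
    exact mem_centralizer_singleton_iff.2
      (congrArg Subtype.val (mem_centralizer_singleton_iff.1 hx))
  have hsplit : Nat.card (Pb : Subgroup (G ⧸ N)) * Nat.card (N.subgroupOf (P : Subgroup G)) =
      Nat.card (P : Subgroup G) := by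
    rw [← index_mul_card (N.subgroupOf (P : Subgroup G)), hPb]
    congr 1
    have h := index_ker ((QuotientGroup.mk' N).comp (P : Subgroup G).subtype)
    rw [← MonoidHom.comap_ker, QuotientGroup.ker_mk', MonoidHom.range_comp, range_subtype] at h
    exact h.symm
  have hge : Nat.card (N.subgroupOf (P : Subgroup G)) ≤ Cg.index := by
    have h1 := Nat.le_of_dvd Nat.card_pos hcard
    have h2 := index_mul_card Cg
    rw [← hsplit] at h2
    refine Nat.le_of_mul_le_mul_left ?_ (Nat.card_pos (α := (Pb : Subgroup (G ⧸ N))))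
    rw [← h2, mul_comm _ Cg.index]
    exact Nat.mul_le_mul_left _ h1
  have hall : Set.range f = Set.univ :=
    Set.eq_of_subset_of_ncard_le (Set.subset_univ _)
      (by rw [Set.ncard_univ, ← Nat.card_coe_set_eq]; exact hge.trans hinj)
  intro u hu
  obtain ⟨x, hx⟩ : (⟨u, hu⟩ : N.subgroupOf (P : Subgroup G)) ∈ Set.range f := hall ▸ Set.mem_univ _
  have hxu : (⟨g, hgP⟩ : (P : Subgroup G))⁻¹ * (x * ⟨g, hgP⟩ * x⁻¹) = u := congrArg Subtype.val hx
  rw [← hxu, ← mul_assoc, ← mul_assoc]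
  have := commutator_mem_commutator (mem_top (⟨g, hgP⟩ : (P : Subgroup G))⁻¹) (mem_top x)
  rwa [commutatorElement_def, inv_inv] at this

end IsCamina

section Stem

/-- A central subgroup inside the derived group of a `p`-group with cyclic or quaternion-like
quotient is trivial. -/
theorem ker_eq_bot_of_stem {E Q : Type*} [Group E] [Finite E] [Group Q] (φ : E →* Q)
    (hφ : Function.Surjective φ) [Group.IsNilpotent E] (hc : φ.ker ≤ center E)
    (hk : φ.ker ≤ commutator E) {m : ℕ}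
    (h : IsCyclic Q ∨ ∃ x y : Q, closure ({x, y} : Set Q) = ⊤ ∧ y * x * y⁻¹ = x⁻¹ ∧ y * y = x ^ m ∧
      orderOf x = 2 * m) : φ.ker = ⊥ := by
  have hfr : φ.ker ≤ frattini E := hk.trans CfsgLib.Solvable.commutator_le_frattini
  have hgen : ∀ S : Set E, closure (φ '' S) = ⊤ → closure S = ⊤ := by
    intro S hS
    refine frattini_nongenerating (eq_top_iff.2 ?_)
    calc (⊤ : Subgroup E) = ((closure S).map φ).comap φ := by
          rw [MonoidHom.map_closure, hS, comap_top]
      _ = closure S ⊔ φ.ker := comap_map_eq _ _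
      _ ≤ closure S ⊔ frattini E := sup_le_sup_left hfr _
  have key : ∀ a b : E, closure ({a, b} : Set E) = ⊤ → ∀ K : Subgroup E, K.Normal →
      a * b * a⁻¹ * b⁻¹ ∈ K → commutator E ≤ K := by
    intro a b hab K hK hK'
    rw [commutator_def, commutator_le]
    intro u hu0 v hv0
    clear hu0 hv0
    rw [← QuotientGroup.eq_one_iff, ← QuotientGroup.mk'_apply, map_commutatorElement,
      commutatorElement_eq_one_iff_commute]
    have hcomm : ∀ s ∈ ({a, b} : Set E), ∀ t ∈ ({a, b} : Set E),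
        Commute (QuotientGroup.mk' K s) (QuotientGroup.mk' K t) := by
      have h0 : Commute (QuotientGroup.mk' K a) (QuotientGroup.mk' K b) := by
        rw [← commutatorElement_eq_one_iff_commute, ← map_commutatorElement, QuotientGroup.mk'_apply,
          QuotientGroup.eq_one_iff, commutatorElement_def]
        exact hK'
      rintro s (rfl | rfl) t (rfl | rfl)
      · exact Commute.refl _
      · exact h0
      · exact h0.symm
      · exact Commute.refl _
    have h1 : ∀ s ∈ ({a, b} : Set E), ∀ v : E, Commute (QuotientGroup.mk' K s) (QuotientGroup.mk' K v) := by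
      intro s hs v
      have hv : v ∈ closure ({a, b} : Set E) := hab ▸ mem_top v
      induction hv using closure_induction with
      | mem t ht => exact hcomm s hs t ht
      | one => rw [map_one]; exact Commute.one_right _
      | mul _ _ _ _ h h' => rw [map_mul]; exact h.mul_right h'
      | inv _ _ h => rw [map_inv]; exact h.inv_right
    have hu : u ∈ closure ({a, b} : Set E) := hab ▸ mem_top u
    induction hu using closure_induction with
    | mem s hs => exact h1 s hs v
    | one => rw [map_one]; exact Commute.one_left _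
    | mul _ _ _ _ h h' => rw [map_mul]; exact h.mul_left h'
    | inv _ _ h => rw [map_inv]; exact h.inv_left
  rcases h with hcyc | ⟨x, y, hxy, h1, h2, h3⟩
  · obtain ⟨q, hq⟩ := IsCyclic.exists_generator (α := Q)
    obtain ⟨a, rfl⟩ := hφ q
    have ha : closure ({a, a} : Set E) = ⊤ := hgen _ (by
      rw [Set.pair_eq_singleton, Set.image_singleton, ← zpowers_eq_closure, eq_top_iff]
      exact fun z _ => hq z)
    exact le_bot_iff.1 (hk.trans (key a a ha ⊥ inferInstance (by simp)))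
  obtain ⟨a, rfl⟩ := hφ x
  obtain ⟨b, rfl⟩ := hφ y
  have hab : closure ({a, b} : Set E) = ⊤ := hgen _ (by rwa [Set.image_pair])
  -- central correction terms
  obtain ⟨u, hu, hau⟩ : ∃ u ∈ φ.ker, b * a * b⁻¹ = a⁻¹ * u :=
    ⟨a * (b * a * b⁻¹), by rw [MonoidHom.mem_ker, map_mul, map_mul, map_mul, map_inv, h1, mul_inv_cancel],
      by group⟩
  obtain ⟨w, hw, hbw⟩ : ∃ w ∈ φ.ker, b * b = a ^ m * w :=
    ⟨(a ^ m)⁻¹ * (b * b), by rw [MonoidHom.mem_ker, map_mul, map_inv, map_mul, map_pow, h2, inv_mul_cancel],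
      by group⟩
  have hcu : ∀ s : E, Commute s u := fun s => mem_center_iff.1 (hc hu) s
  have hcw : ∀ s : E, Commute s w := fun s => mem_center_iff.1 (hc hw) s
  have hbm : b * a ^ m * b⁻¹ = a ^ m := by
    have h' : Commute b (a ^ m) := by
      have : Commute b (b * b * w⁻¹) := ((Commute.refl b).mul_right (Commute.refl b)).mul_right (hcw b).inv_right
      rwa [hbw, mul_inv_cancel_right] at this
    rw [h'.eq, mul_inv_cancel_right]
  have ham : (a ^ m) * (a ^ m) = u ^ m := by
    have h' : b * a ^ m * b⁻¹ = (a ^ m)⁻¹ * u ^ m := by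
      rw [← conj_pow, hau, (hcu a⁻¹).mul_pow, inv_pow]
    rw [hbm] at h'
    calc a ^ m * a ^ m = a ^ m * ((a ^ m)⁻¹ * u ^ m) := by rw [← h']
      _ = u ^ m := mul_inv_cancel_left _ _
  set c := b * a * b⁻¹ * a⁻¹ with hcdef
  have hc' : c = (a⁻¹ * a⁻¹) * u := by
    rw [hcdef, hau, mul_assoc a⁻¹ u, ← (hcu a⁻¹).eq, ← mul_assoc]
  have hcm : c ^ m = 1 := by
    rw [hc', (hcu _).mul_pow, (Commute.refl a⁻¹).mul_pow, inv_pow, ← mul_inv_rev, ham, inv_mul_cancel]
  have hca : a * c * a⁻¹ = c := by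
    rw [hc']
    calc a * (a⁻¹ * a⁻¹ * u) * a⁻¹ = a⁻¹ * (u * a⁻¹) := by group
      _ = a⁻¹ * (a⁻¹ * u) := by rw [(hcu a⁻¹).eq]
      _ = _ := by group
  have hcb : b * c * b⁻¹ = c⁻¹ := by
    have h' : b * a⁻¹ * b⁻¹ = u⁻¹ * a := by
      rw [show b * a⁻¹ * b⁻¹ = (b * a * b⁻¹)⁻¹ by group, hau]; group
    rw [hc']
    calc b * (a⁻¹ * a⁻¹ * u) * b⁻¹ = (b * a⁻¹ * b⁻¹) * (b * a⁻¹ * b⁻¹) * (b * u * b⁻¹) := by group
      _ = (u⁻¹ * a) * (u⁻¹ * a) * u := by rw [h', (hcu b).eq, mul_inv_cancel_right]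
      _ = u⁻¹ * a * (u⁻¹ * (a * u)) := by group
      _ = u⁻¹ * a * a := by rw [(hcu a).eq]; group
      _ = _ := by rw [mul_inv_rev, mul_inv_rev, inv_inv, mul_assoc]
  have hnorm : (zpowers c).Normal := by
    rw [← normalizer_eq_top_iff, eq_top_iff, ← hab, closure_le]
    rintro s (rfl | rfl)
    · exact mem_normalizer_fintype fun v hv => by
        obtain ⟨i, rfl⟩ := mem_zpowers_iff.1 hv
        rw [← conj_zpow, hca]; exact zpow_mem (mem_zpowers c) i
    · exact mem_normalizer_fintype fun v hv => by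
        obtain ⟨i, rfl⟩ := mem_zpowers_iff.1 hv
        rw [← conj_zpow, hcb]; exact zpow_mem (inv_mem (mem_zpowers c)) i
  have hcom : commutator E ≤ zpowers c := key b a (by rwa [Set.pair_comm]) _ hnorm (mem_zpowers c)
  rw [eq_bot_iff]
  intro z hz
  obtain ⟨i, rfl⟩ := mem_zpowers_iff.1 (hcom (hk hz))
  rw [MonoidHom.mem_ker, map_zpow, hc', map_mul, MonoidHom.mem_ker.1 hu, mul_one, map_mul, map_inv,
    ← pow_two, ← zpow_natCast, ← zpow_mul, inv_zpow, inv_eq_one, ← orderOf_dvd_iff_zpow_eq_one, h3,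
    Nat.cast_mul, mul_dvd_mul_iff_left (by norm_num)] at hz
  obtain ⟨j, rfl⟩ := hz
  rw [zpow_mul, zpow_natCast, hcm, one_zpow]
  exact one_mem _

/-- A normal subgroup inside the derived group of a `p`-group with cyclic or generalized
quaternion quotient is trivial. -/
theorem eq_bot_of_stem {E : Type*} [Group E] [Finite E] [Group.IsNilpotent E] (B : Subgroup E)
    [B.Normal] (hk : B ≤ commutator E)
    (h : IsCyclic (E ⧸ B) ∨ ∃ n : ℕ, Nonempty ((E ⧸ B) ≃* QuaternionGroup (2 ^ n))) : B = ⊥ := by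
  set X := ⁅B, (⊤ : Subgroup E)⁆ with hX
  have hXB : X ≤ B := commutator_le_left B ⊤
  suffices hBX : B ≤ X by
    obtain ⟨n, hn⟩ := Subgroup.nilpotent_iff_lowerCentralSeries.1 ‹Group.IsNilpotent E›
    have hall : ∀ k, B ≤ (⊤ : Subgroup E).lowerCentralSeries k := by
      intro k
      induction k with
      | zero => simp
      | succ k ih =>
        rw [Subgroup.lowerCentralSeries_succ]
        exact hBX.trans (commutator_mono ih le_rfl)
    exact le_bot_iff.1 (hn ▸ hall n)
  let φ : E ⧸ X →* E ⧸ B := QuotientGroup.map X B (MonoidHom.id E) (by simpa using hXB)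
  have hφ : Function.Surjective φ := fun z => by
    obtain ⟨z, rfl⟩ := QuotientGroup.mk'_surjective B z
    exact ⟨(z : E ⧸ X), rfl⟩
  have hker : φ.ker = B.map (QuotientGroup.mk' X) := by
    ext z
    obtain ⟨z, rfl⟩ := QuotientGroup.mk'_surjective X z
    rw [MonoidHom.mem_ker, mem_map]
    constructor
    · exact fun h => ⟨z, (QuotientGroup.eq_one_iff z).1 h, rfl⟩
    · rintro ⟨b, hb, hbz⟩
      rw [← hbz]
      exact (QuotientGroup.eq_one_iff b).2 hb
  have hc : φ.ker ≤ center (E ⧸ X) := by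
    rw [hker]
    rintro _ ⟨b, hb, rfl⟩
    rw [mem_center_iff]
    intro t
    obtain ⟨t, rfl⟩ := QuotientGroup.mk'_surjective X t
    exact (commutatorElement_eq_one_iff_commute.1 (by
      rw [← map_commutatorElement, QuotientGroup.mk'_apply, QuotientGroup.eq_one_iff]
      exact commutator_mem_commutator hb (mem_top t))).symm
  have hk' : φ.ker ≤ commutator (E ⧸ X) := by
    rw [hker, _root_.commutator_def, ← map_top_of_surjective _ (QuotientGroup.mk'_surjective X),
      ← map_commutator, ← _root_.commutator_def]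
    exact map_mono hk
  have hnil : Group.IsNilpotent (E ⧸ X) := Group.nilpotent_quotient_of_nilpotent X
  have hbot : φ.ker = ⊥ := by
    rcases h with h | ⟨n, ⟨e⟩⟩
    · exact ker_eq_bot_of_stem φ hφ hc hk' (m := 1) (Or.inl h)
    · have hkc : (e.toMonoidHom.comp φ).ker = φ.ker := by ext; simp
      have h' := ker_eq_bot_of_stem (e.toMonoidHom.comp φ) (e.surjective.comp hφ) (m := 2 ^ n)
        (by rwa [hkc]) (by rwa [hkc])
        (Or.inr ⟨QuaternionGroup.a 1, QuaternionGroup.xa 0, ?_, ?_, ?_, QuaternionGroup.orderOf_a_one⟩)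
      · rwa [hkc] at h'
      · rw [eq_top_iff]
        rintro (i | i) -
        · rw [← ZMod.natCast_zmod_val i, ← QuaternionGroup.a_one_pow]
          exact pow_mem (subset_closure (Set.mem_insert _ _)) _
        · rw [show QuaternionGroup.xa i = QuaternionGroup.xa 0 * QuaternionGroup.a i by simp,
            ← ZMod.natCast_zmod_val i, ← QuaternionGroup.a_one_pow]
          exact mul_mem (subset_closure (Set.mem_insert_of_mem _ rfl))
            (pow_mem (subset_closure (Set.mem_insert _ _)) _)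
      · rw [mul_inv_eq_iff_eq_mul]
        show QuaternionGroup.xa 0 * QuaternionGroup.a 1 = QuaternionGroup.a (-1) * QuaternionGroup.xa 0
        simp
      · rw [QuaternionGroup.a_one_pow, QuaternionGroup.xa_mul_xa]
        simp
  intro b hb
  rw [← QuotientGroup.eq_one_iff]
  exact mem_bot.1 (hbot ▸ hker ▸ mem_map_of_mem _ hb)

end Stem

namespace IsCamina

/-- The contradiction behind the trichotomy: a commutative normal `p'`-subgroup of `N`
centralized by the `p`-elements of `N`, with `p` dividing both `|N|` and the index. -/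
theorem false_of_centralized [Finite G] {N : Subgroup G} [N.Normal] (hN : IsCamina N) {p : ℕ}
    [Fact p.Prime] (hp : p ∣ N.index) (hpN : p ∣ Nat.card N) (V : Subgroup G) [V.Normal]
    (hVN : V ≤ N) [IsMulCommutative V] (hV1 : V ≠ ⊥) (hpV : ¬ p ∣ Nat.card V)
    (hcent : ∀ x ∈ N, ∀ k : ℕ, orderOf x = p ^ k → ∀ v ∈ V, Commute x v) : False := by
  obtain ⟨x, hx⟩ := exists_prime_orderOf_dvd_card' p hpN
  obtain ⟨P, hP⟩ := (IsPGroup.of_card (p := p) (n := 1)
    (by rw [Nat.card_zpowers, Subgroup.orderOf_coe, hx, pow_one]) : IsPGroup p (zpowers (x : G))).exists_le_sylow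
  set B := N.subgroupOf (P : Subgroup G) with hB
  have := P.2.isNilpotent
  have hB1 : B ≠ ⊥ := by
    intro h
    have h1 : (⟨(x : G), hP (mem_zpowers _)⟩ : (P : Subgroup G)) ∈ B := x.2
    rw [h, mem_bot, Subtype.ext_iff] at h1
    have h2 : x = 1 := Subtype.ext h1
    rw [h2, orderOf_one] at hx
    exact (Fact.out : p.Prime).ne_one hx.symm
  have hker : B ≤ ((MulAut.conjNormal (H := V)).comp (P : Subgroup G).subtype).ker := by
    intro b hb
    refine MulEquiv.ext fun v => Subtype.ext ?_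
    obtain ⟨k, hk⟩ := IsPGroup.iff_orderOf.1 P.2 b
    have := hcent b hb k (by rw [Subgroup.orderOf_coe, hk]) v v.2
    simp only [MonoidHom.comp_apply, coe_subtype, MulAut.conjNormal_apply, MulAut.one_apply]
    rw [this.eq, mul_inv_cancel_right]
  let φ : (P : Subgroup G) ⧸ B →* MulAut V := QuotientGroup.lift B _ hker
  have hfpf : ∀ h : (P : Subgroup G) ⧸ B, h ≠ 1 → ∀ v : V, φ h v = v → v = 1 := by
    intro h hh v hv
    obtain ⟨y, rfl⟩ := QuotientGroup.mk'_surjective B h
    have hy : (y : G) ∉ N := fun h' => hh ((QuotientGroup.eq_one_iff y).2 h')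
    have hv' : (y : G) * v * (y : G)⁻¹ = v := congrArg Subtype.val hv
    obtain ⟨k, hk⟩ := IsPGroup.iff_orderOf.1 P.2 y
    refine Subtype.ext (hN.eq_one_of_commute (Fact.out : p.Prime) (k := k) hy
      (by rw [Subgroup.orderOf_coe, hk]) (hVN v.2) (fun hd => hpV ?_) (mul_inv_eq_iff_eq_mul.1 hv'))
    rw [Subgroup.orderOf_coe] at hd
    exact hd.trans (orderOf_dvd_natCard v)
  have : Nontrivial V := (nontrivial_iff_ne_bot V).2 hV1
  obtain ⟨S⟩ := (inferInstance : Nonempty (Sylow p ((P : Subgroup G) ⧸ B)))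
  have hS : (⊤ : Subgroup ((P : Subgroup G) ⧸ B)) = (S : Subgroup ((P : Subgroup G) ⧸ B)) :=
    S.3 ((P.2.to_quotient B).to_subgroup ⊤) le_top
  have e : (S : Subgroup ((P : Subgroup G) ⧸ B)) ≃* (P : Subgroup G) ⧸ B :=
    (MulEquiv.subgroupCongr hS.symm).trans topEquiv
  refine hB1 (eq_bot_of_stem B (hN.subgroupOf_sylow_le_commutator hp P) ?_)
  open scoped IsMulCommutative in
  rcases CfsgLib.Solvable.isCyclic_or_quaternion_of_fpf φ hfpf S with h | ⟨-, n, ⟨f⟩⟩
  · exact Or.inl (isCyclic_of_surjective e e.surjective)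
  · exact Or.inr ⟨n, ⟨e.symm.trans f⟩⟩

/-- `N` has a normal `p`-complement, normal in `G`, for `p` dividing the index. -/
theorem exists_pComplement [Finite G] {N : Subgroup G} [N.Normal] (hN : IsCamina N) {p : ℕ}
    [Fact p.Prime] (hp : p ∣ N.index) :
    ∃ K : Subgroup G, K.Normal ∧ K ≤ N ∧ ¬ p ∣ Nat.card K ∧
      (∀ x ∈ N, ¬ p ∣ orderOf x → x ∈ K) ∧ ∀ x ∈ N, ∃ j : ℕ, x ^ p ^ j ∈ K := by
  obtain ⟨P⟩ := (inferInstance : Nonempty (Sylow p G))
  have := P.2.isNilpotent
  obtain ⟨S, K, hK, hKS⟩ := CfsgLib.Transfer.tate P N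
    ((hN.subgroupOf_sylow_le_commutator hp P).trans CfsgLib.Solvable.commutator_le_frattini)
  have hKcard : Nat.card K = (S : Subgroup N).index := hKS.index_eq_card.symm
  have hpow : ∀ x : N, ∃ j : ℕ, x ^ p ^ j ∈ K := by
    intro x
    obtain ⟨j, hj⟩ := S.2.exists_card_eq
    refine ⟨j, ?_⟩
    rw [← hj, ← hKS.symm.index_eq_card, index_eq_card, ← QuotientGroup.eq_one_iff, QuotientGroup.mk_pow]
    exact pow_card_eq_one'
  have hKp : ¬ p ∣ Nat.card K := hKcard ▸ S.not_dvd_index
  have hmem : ∀ x : N, ¬ p ∣ orderOf x → x ∈ K := by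
    intro x hx
    obtain ⟨j, hj⟩ := hpow x
    have hcop : (p ^ j).Coprime (orderOf x) :=
      Nat.Coprime.pow_left _ (((Fact.out : p.Prime).coprime_iff_not_dvd).2 hx)
    obtain ⟨k, hk⟩ := exists_pow_eq_self_of_coprime hcop
    exact hk ▸ pow_mem hj k
  refine ⟨K.map N.subtype, ⟨?_⟩, map_subtype_le K, ?_, ?_, ?_⟩
  · rintro _ ⟨x, hx, rfl⟩ g
    refine ⟨⟨g * x * g⁻¹, ‹N.Normal›.conj_mem _ x.2 g⟩, hmem _ fun hd => hKp ?_, rfl⟩
    rw [← Subgroup.orderOf_coe] at hd
    have h1 : orderOf (g * (x : G) * g⁻¹) = orderOf (x : G) :=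
      orderOf_injective (MulAut.conj g).toMonoidHom (MulAut.conj g).injective (x : G)
    rw [h1, Subgroup.orderOf_coe] at hd
    exact hd.trans (Subgroup.orderOf_dvd_natCard K hx)
  · rwa [card_map_of_injective N.subtype_injective]
  · intro x hx hd
    exact ⟨⟨x, hx⟩, hmem _ (by rwa [Subgroup.orderOf_mk]), rfl⟩
  · intro x hx
    obtain ⟨j, hj⟩ := hpow ⟨x, hx⟩
    exact ⟨j, _, hj, rfl⟩

/-- If `N` is nilpotent and `p` divides `|N|` and the index, `N` is a `p`-group. -/
theorem isPGroup_of_isNilpotent [Finite G] {N : Subgroup G} [N.Normal] (hN : IsCamina N)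
    (hnil : Group.IsNilpotent N) {p r : ℕ} [Fact p.Prime] [Fact r.Prime] (hp : p ∣ N.index)
    (hpN : p ∣ Nat.card N) (hrN : r ∣ Nat.card N) : r = p := by
  by_contra hne
  obtain ⟨R⟩ := (inferInstance : Nonempty (Sylow r N))
  have hRn : (R : Subgroup N).Normal :=
    Sylow.normal_of_normalizerCondition Group.normalizerCondition_of_isNilpotent R
  have := R.characteristic_of_normal hRn
  have hne1 : center N ⊓ (R : Subgroup N) ≠ ⊥ := by
    rw [inf_comm]
    exact CfsgLib.Solvable.normal_inf_center_ne_bot _ (R.ne_bot_of_dvd_card hrN)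
  let V : Subgroup G := (center N).map N.subtype ⊓ (R : Subgroup N).map N.subtype
  have hVeq : V = (center N ⊓ (R : Subgroup N)).map N.subtype :=
    (map_inf _ _ _ N.subtype_injective).symm
  have hVc : ∀ v ∈ V, ∀ x ∈ N, Commute x v := by
    rintro _ ⟨⟨v, hv, rfl⟩, -⟩ x hx
    exact congrArg Subtype.val (mem_center_iff.1 hv ⟨x, hx⟩)
  have hVN : V ≤ N := inf_le_left.trans (map_subtype_le _)
  have : IsMulCommutative V := ⟨⟨fun a b => Subtype.ext (hVc b b.2 a (hVN a.2))⟩⟩
  refine hN.false_of_centralized hp hpN V hVN ?_ ?_ (fun x hx _ _ v hv => hVc v hv x hx)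
  · rw [hVeq, Ne, map_eq_bot_iff_of_injective _ N.subtype_injective]
    exact hne1
  · obtain ⟨j, hj⟩ := (R.2.map N.subtype).exists_card_eq
    intro hd
    refine hne ((Nat.prime_dvd_prime_iff_eq (Fact.out : p.Prime) (Fact.out : r.Prime)).1
      ((Fact.out : p.Prime).dvd_of_dvd_pow (hd.trans (hj ▸ card_dvd_of_le inf_le_right)))).symm

end IsCamina

end CfsgLib.StructB
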