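import Cfsg.Agent.Lib.StructB.BaerPPower
import Cfsg.Prelude.Def_Local
import Mathlib.RepresentationTheory.Invariants
import Mathlib.LinearAlgebra.FiniteDimensional.Basic

/-!
Orbits of vectors of coprime size in modules for `p`-soluble groups.
-/

set_option autoImplicit false

namespace CfsgLib.StructB.CoprimeOrbit

open Subgroup

universe u v w

variable {k : Type w} [Field k] {H : Type u} [Group H] {V : Type v} [AddCommGroup V] [Module k V]

/-- The stabiliser of a vector. -/
def fixer (ρ : Representation k H V) (x : V) : Subgroup H where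
  carrier := {h | ρ h x = x}
  one_mem' := by simp
  mul_mem' := by
    intro a b (ha : ρ a x = x) (hb : ρ b x = x)
    show ρ (a * b) x = x
    rw [map_mul, Module.End.mul_apply, hb, ha]
  inv_mem' := by
    intro a (ha : ρ a x = x)
    show ρ a⁻¹ x = x
    conv_lhs => rw [← ha]
    rw [← Module.End.mul_apply, ← map_mul, inv_mul_cancel, map_one, Module.End.one_apply]

theorem mem_fixer {ρ : Representation k H V} {x : V} {h : H} : h ∈ fixer ρ x ↔ ρ h x = x := Iff.rfl

/-- The index of the stabiliser is the size of the orbit. -/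
theorem index_fixer (ρ : Representation k H V) (x : V) :
    (fixer ρ x).index = Nat.card {u : V | ∃ h : H, ρ h x = u} := by
  rw [index_eq_card]
  refine Nat.card_eq_of_bijective (fun c => (⟨ρ c.out x, c.out, rfl⟩ : {u : V | ∃ h : H, ρ h x = u}))
    ⟨fun c d hcd => ?_, fun u => ?_⟩
  · have h1 : ρ c.out x = ρ d.out x := congrArg Subtype.val hcd
    rw [← QuotientGroup.out_eq' c, ← QuotientGroup.out_eq' d, QuotientGroup.eq, mem_fixer, map_mul,
      Module.End.mul_apply, ← h1, ← Module.End.mul_apply, ← map_mul, inv_mul_cancel, map_one,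
      Module.End.one_apply]
  · obtain ⟨u, h, rfl⟩ := u
    refine ⟨(h : H ⧸ fixer ρ x), Subtype.ext ?_⟩
    obtain ⟨⟨s, hs⟩, hout⟩ := QuotientGroup.mk_out_eq_mul (fixer ρ x) h
    show ρ (h : H ⧸ fixer ρ x).out x = ρ h x
    rw [hout, map_mul, Module.End.mul_apply, mem_fixer.1 hs]

variable [Finite H]

/-- The average over a subgroup. -/
noncomputable def avg (ρ : Representation k H V) (A : Subgroup H) : V →ₗ[k] V :=
  letI := Fintype.ofFinite A
  (Nat.card A : k)⁻¹ • ∑ a : A, ρ (a : H)

theorem apply_avg (ρ : Representation k H V) (A : Subgroup H) {a : H} (ha : a ∈ A) (x : V) :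
    ρ a (avg ρ A x) = avg ρ A x := by
  let := Fintype.ofFinite A
  simp only [avg, LinearMap.smul_apply, LinearMap.sum_apply, map_smul, map_sum]
  congr 1
  refine Fintype.sum_equiv (M := V) (Equiv.mulLeft (⟨a, ha⟩ : A)) _ _ fun b => ?_
  rw [Equiv.coe_mulLeft, Subgroup.coe_mul, map_mul, Module.End.mul_apply]

theorem avg_apply (ρ : Representation k H V) (A : Subgroup H) {a : H} (ha : a ∈ A) (x : V) :
    avg ρ A (ρ a x) = avg ρ A x := by
  let := Fintype.ofFinite A
  simp only [avg, LinearMap.smul_apply, LinearMap.sum_apply]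
  congr 1
  refine Fintype.sum_equiv (M := V) (Equiv.mulRight (⟨a, ha⟩ : A)) _ _ fun b => ?_
  rw [Equiv.coe_mulRight, Subgroup.coe_mul, map_mul, Module.End.mul_apply]

theorem avg_eq_self (ρ : Representation k H V) (A : Subgroup H) (hA : (Nat.card A : k) ≠ 0)
    {x : V} (hx : A ≤ fixer ρ x) : avg ρ A x = x := by
  let := Fintype.ofFinite A
  simp only [avg, LinearMap.smul_apply, LinearMap.sum_apply]
  rw [Finset.sum_congr rfl fun (b : A) _ => mem_fixer.1 (hx b.2), Finset.sum_const, Finset.card_univ,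
    ← Nat.card_eq_fintype_card, ← Nat.cast_smul_eq_nsmul k, smul_smul, inv_mul_cancel₀ hA, one_smul]

theorem avg_comm (ρ : Representation k H V) (A : Subgroup H) {g : H}
    (hg : g ∈ normalizer (A : Set H)) (x : V) : avg ρ A (ρ g x) = ρ g (avg ρ A x) := by
  let := Fintype.ofFinite A
  simp only [avg, LinearMap.smul_apply, LinearMap.sum_apply, map_smul, map_sum]
  congr 1
  refine Fintype.sum_equiv (M := V)
    { toFun := fun a => ⟨g⁻¹ * (a : H) * g, (mem_normalizer_iff''.1 hg _).1 a.2⟩
      invFun := fun a => ⟨g * (a : H) * g⁻¹, (mem_normalizer_iff.1 hg _).1 a.2⟩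
      left_inv := fun a => Subtype.ext (by simp [mul_assoc])
      right_inv := fun a => Subtype.ext (by simp [mul_assoc]) } _ _ fun a => ?_
  simp only [Equiv.coe_fn_mk, ← Module.End.mul_apply, ← map_mul]
  congr 2
  group

theorem avg_avg_of_le (ρ : Representation k H V) {A B : Subgroup H} (hBA : B ≤ A)
    (hB : (Nat.card B : k) ≠ 0) (x : V) : avg ρ A (avg ρ B x) = avg ρ A x := by
  let := Fintype.ofFinite B
  conv_lhs => rw [show avg ρ B x = (Nat.card B : k)⁻¹ • ∑ b : B, ρ (b : H) x by
    simp [avg, LinearMap.smul_apply, LinearMap.sum_apply]]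
  rw [map_smul, map_sum, Finset.sum_congr rfl fun (b : B) _ => avg_apply ρ A (hBA b.2) x,
    Finset.sum_const, Finset.card_univ, ← Nat.card_eq_fintype_card, ← Nat.cast_smul_eq_nsmul k,
    smul_smul, inv_mul_cancel₀ hB, one_smul]

omit [Finite H] in
theorem sum_eq_smul {G : Type*} [Group G] [Fintype G] (A : Subgroup G) [Fintype (G ⧸ A)]
    (F : G ⧸ A → V) : ∑ g : G, F (g : G ⧸ A) = Nat.card A • ∑ c, F c :=
  (CfsgLib.StructB.Baer.prod_eq_pow (N := Multiplicative V) A fun c =>
    Multiplicative.ofAdd (F c) :)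

/-- If `N = (N ⊓ B) (N ⊓ A)` by coprime indices and `A` fixes `x`, then averaging `x` over
`N ⊓ B` gives a fixed point of `N`. -/
theorem apply_avg_of_coprime (ρ : Representation k H V) (N A B : Subgroup H)
    (hcop : (A.subgroupOf N).index.Coprime (B.subgroupOf N).index) {x : V} (hA : A ≤ fixer ρ x)
    {n : H} (hn : n ∈ N) : ρ n (avg ρ (B ⊓ N) x) = avg ρ (B ⊓ N) x := by
  classical
  let := Fintype.ofFinite N
  let := Fintype.ofFinite (↥(B.subgroupOf N))
  let := Fintype.ofFinite (↥(B ⊓ N))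
  let := Fintype.ofFinite (↥N ⧸ A.subgroupOf N)
  let := Fintype.ofFinite (↥(B.subgroupOf N) ⧸ (A.subgroupOf N).subgroupOf (B.subgroupOf N))
  let F : ↥N ⧸ A.subgroupOf N → V := fun c => ρ ((c.out : N) : H) x
  have hF : ∀ g : N, F (g : ↥N ⧸ A.subgroupOf N) = ρ (g : H) x := by
    intro g
    obtain ⟨⟨s, hs⟩, hout⟩ := QuotientGroup.mk_out_eq_mul (A.subgroupOf N) g
    show ρ (((g : ↥N ⧸ A.subgroupOf N).out : N) : H) x = _
    rw [hout, Subgroup.coe_mul, map_mul, Module.End.mul_apply]
    exact congrArg (ρ (g : H)) (mem_fixer.1 (hA hs))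
  obtain ⟨f, hf, hfb⟩ := CfsgLib.StructB.Baer.coset_bijective_of_coprime _ _ hcop
  have hsum : ∑ b : ↥(B ⊓ N), ρ (b : H) x =
      Nat.card ((A.subgroupOf N).subgroupOf (B.subgroupOf N)) • ∑ c, F c := by
    rw [← Fintype.sum_bijective f hf (F ∘ f) F fun _ => rfl, ← sum_eq_smul]
    refine Fintype.sum_equiv
      { toFun := fun b => ⟨⟨(b : H), b.2.2⟩, b.2.1⟩
        invFun := fun b => ⟨((b : N) : H), b.2, (b : N).2⟩
        left_inv := fun b => rfl
        right_inv := fun b => rfl } _ _ fun b => ?_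
    rw [Function.comp_apply, hfb, hF]
    rfl
  have havg : avg ρ (B ⊓ N) x = (Nat.card ↥(B ⊓ N) : k)⁻¹ • ∑ b : ↥(B ⊓ N), ρ (b : H) x := by
    simp [avg, LinearMap.smul_apply, LinearMap.sum_apply]
  rw [havg, map_smul, hsum, map_nsmul, map_sum]
  congr 2
  refine Fintype.sum_equiv (MulAction.toPerm (⟨n, hn⟩ : N)) _ _ fun c => ?_
  induction c using QuotientGroup.induction_on with
  | H g =>
    show ρ n (F _) = F (((⟨n, hn⟩ : N) * g : N) : ↥N ⧸ A.subgroupOf N)
    rw [hF, hF, Subgroup.coe_mul, map_mul, Module.End.mul_apply]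

/-- The restriction to an invariant subspace. -/
noncomputable def subRep (ρ : Representation k H V) (W : Submodule k V)
    (hW : ∀ h : H, ∀ x ∈ W, ρ h x ∈ W) : Representation k H W where
  toFun h := (ρ h).restrict (hW h)
  map_one' := by
    ext x
    simp
  map_mul' a b := by
    ext x
    simp

theorem coe_subRep_apply (ρ : Representation k H V) (W : Submodule k V)
    (hW : ∀ h : H, ∀ x ∈ W, ρ h x ∈ W) (h : H) (x : W) :
    ((subRep ρ W hW h x : W) : V) = ρ h x := rfl

theorem isPSolvable_quotient {p : ℕ} [Fact p.Prime] (N : Subgroup H) [N.Normal]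
    (h : Cfsg.IsPSolvable p H) : Cfsg.IsPSolvable p (H ⧸ N) := by
  obtain ⟨n, M, h0, hl, hmono, hn, hfac⟩ := h
  refine ⟨n, fun i => (M i).map (QuotientGroup.mk' N), by simp [h0], ?_,
    fun i j hij => Subgroup.map_mono (hmono hij),
    fun i => (hn i).map _ (QuotientGroup.mk'_surjective N), fun i => ?_⟩
  · simp only [hl]
    rw [← MonoidHom.range_eq_map, QuotientGroup.range_mk']
  have hd : ((M i.castSucc).map (QuotientGroup.mk' N)).relIndex ((M i.succ).map (QuotientGroup.mk' N))
      ∣ (M i.castSucc).relIndex (M i.succ) := by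
    have hle : M i.castSucc ≤ M i.succ := hmono (Fin.castSucc_lt_succ (i := i)).le
    have e : ((M i.castSucc).map (QuotientGroup.mk' N)).subgroupOf
        ((M i.succ).map (QuotientGroup.mk' N)) =
        ((M i.castSucc).subgroupOf (M i.succ)).map ((QuotientGroup.mk' N).subgroupMap (M i.succ)) := by
      ext ⟨b, hb⟩
      simp only [Subgroup.mem_subgroupOf, Subgroup.mem_map]
      constructor
      · rintro ⟨a, ha, rfl⟩
        exact ⟨⟨a, hle ha⟩, ha, rfl⟩
      · rintro ⟨a, ha, he⟩
        exact ⟨a, ha, congrArg Subtype.val he⟩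
    rw [Subgroup.relIndex, Subgroup.relIndex, e]
    exact index_map_dvd _ ((QuotientGroup.mk' N).subgroupMap_surjective (M i.succ))
  rcases hfac i with ⟨m, hm⟩ | hc
  · obtain ⟨j, -, hj⟩ := (Nat.dvd_prime_pow (Fact.out : p.Prime)).1 (hm ▸ hd)
    exact Or.inl ⟨j, hj⟩
  · exact Or.inr (Nat.Coprime.coprime_dvd_left hd hc)

theorem exists_normal_of_isPSolvable {p : ℕ} [Fact p.Prime] [Nontrivial H]
    (h : Cfsg.IsPSolvable p H) :
    ∃ N : Subgroup H, N.Normal ∧ N ≠ ⊥ ∧ (IsPGroup p N ∨ (Nat.card N).Coprime p) := by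
  obtain ⟨n, M, h0, hl, -, hn, hfac⟩ := h
  suffices hex : ∃ i : Fin n, M i.castSucc = ⊥ ∧ M i.succ ≠ ⊥ by
    obtain ⟨i, hi, hi'⟩ := hex
    refine ⟨M i.succ, hn _, hi', ?_⟩
    have h1 := hfac i
    rw [hi, relIndex_bot_left] at h1
    exact h1.imp_left fun ⟨m, hm⟩ => IsPGroup.of_card hm
  by_contra hc
  push Not at hc
  have hall : ∀ j : Fin (n + 1), M j = ⊥ := by
    intro j
    induction j using Fin.induction with
    | zero => exact h0
    | succ i ih => exact hc i ih
  exact top_ne_bot (hl.symm.trans (hall _))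

variable {p : ℕ} [Fact p.Prime] [CharP k p]

theorem cast_card_ne_zero {A : Subgroup H} (hA : (Nat.card A).Coprime p) : (Nat.card A : k) ≠ 0 := by
  rw [Ne, CharP.cast_eq_zero_iff k p]
  exact fun hd => ((Fact.out : p.Prime).coprime_iff_not_dvd.1 hA.symm) hd

theorem main_aux (n : ℕ) : ∀ (H : Type u) [Group H] [Finite H] (V : Type v) [AddCommGroup V]
    [Module k V] (ρ : Representation k H V), Nat.card H ≤ n → Cfsg.IsPSolvable p H →
    ∀ a : V, (∃ P : Sylow p H, ∀ x ∈ (P : Subgroup H), ρ x a = a) →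
    Submodule.span k {u : V | ∃ h : H, ρ h a = u} = ⊤ →
    (∃ c : V, ∀ x : V, (∀ h : H, ρ h x = x) → x ∈ Submodule.span k {c}) ∧
      ∀ b : V, (fixer ρ a).index.Coprime (fixer ρ b).index → ∀ h : H, ρ h b = b := by
  induction n using Nat.strong_induction_on with
  | _ n ih =>
  intro H _ _ V _ _ ρ hn hsol a hfix hspan
  obtain ⟨P, hP⟩ := hfix
  rcases subsingleton_or_nontrivial H with hs | hs
  · refine ⟨⟨a, fun x _ => ?_⟩, fun b _ h => by
      rw [Subsingleton.elim h 1, map_one, Module.End.one_apply]⟩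
    have hx : x ∈ Submodule.span k {u : V | ∃ h : H, ρ h a = u} := hspan ▸ Submodule.mem_top
    refine Submodule.span_mono ?_ hx
    rintro u ⟨h, rfl⟩
    rw [Set.mem_singleton_iff, Subsingleton.elim h 1, map_one, Module.End.one_apply]
  obtain ⟨N, hNn, hN1, hN⟩ := exists_normal_of_isPSolvable hsol
  have hlt : Nat.card (H ⧸ N) < n := by
    refine lt_of_lt_of_le ?_ hn
    rw [← index_eq_card, ← N.card_mul_index]
    exact lt_mul_left (Nat.pos_of_ne_zero index_ne_zero_of_finite) (N.one_lt_card_iff_ne_bot.2 hN1)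
  have hnormN : ∀ g : H, g ∈ normalizer (N : Set H) := fun g => by
    rw [normalizer_eq_top]; exact mem_top g
  rcases hN with hNp | hNp'
  · -- a normal `p`-subgroup acts trivially
    have htriv : ∀ g ∈ N, ρ g = 1 := by
      intro g hg
      refine LinearMap.ext fun x => ?_
      have hx : x ∈ Submodule.span k {u : V | ∃ h : H, ρ h a = u} := hspan ▸ Submodule.mem_top
      rw [Module.End.one_apply]
      refine LinearMap.eqOn_span (g := LinearMap.id) ?_ hx
      rintro _ ⟨h, rfl⟩
      have hgP : h⁻¹ * g * h ∈ (P : Subgroup H) := by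
        obtain ⟨P', hP'⟩ := hNp.exists_le_sylow
        obtain ⟨u, hu⟩ := MulAction.exists_smul_eq H P' P
        have h1 : (P' : Subgroup H).map (MulAut.conj u).toMonoidHom = P :=
          congrArg (fun Q : Sylow p H => (Q : Subgroup H)) hu
        rw [← h1]
        refine ⟨u⁻¹ * (h⁻¹ * g * h) * u, hP' ?_, by simp [mul_assoc]⟩
        simpa [mul_assoc] using hNn.conj_mem _ (hNn.conj_mem _ hg h⁻¹) u⁻¹
      show ρ g (ρ h a) = ρ h a
      conv_rhs => rw [← hP _ hgP]
      rw [← Module.End.mul_apply, ← Module.End.mul_apply, ← map_mul, ← map_mul]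
      congr 2
      group
    let ρ' : Representation k (H ⧸ N) V := QuotientGroup.lift N ρ fun g hg => htriv g hg
    have hρ' : ∀ g : H, ρ' (g : H ⧸ N) = ρ g := fun g => rfl
    have hidx : ∀ x : V, (fixer ρ' x).index = (fixer ρ x).index := by
      intro x
      rw [← index_comap_of_surjective _ (QuotientGroup.mk'_surjective N)]
      congr 1
    have hsp : Submodule.span k {u : V | ∃ h : H ⧸ N, ρ' h a = u} = ⊤ := by
      rw [← hspan]
      congr 1
      ext u
      exact ⟨fun ⟨h, hh⟩ => ⟨h.out, by rw [← hρ', QuotientGroup.out_eq', hh]⟩,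
        fun ⟨h, hh⟩ => ⟨h, by rw [hρ', hh]⟩⟩
    obtain ⟨⟨c, hc⟩, hb⟩ := ih _ hlt (H ⧸ N) V ρ' le_rfl (isPSolvable_quotient N hsol) a
      ⟨P.mapSurjective (QuotientGroup.mk'_surjective N), by
        rintro _ ⟨y, hy, rfl⟩
        exact hP y hy⟩ hsp
    exact ⟨⟨c, fun x hx => hc x fun h => by
      induction h using QuotientGroup.induction_on with | H g => exact hx g⟩,
      fun b hab h => by
        rw [← hρ']
        exact hb b (by rwa [hidx, hidx]) _⟩
  · -- a normal `p'`-subgroup: split off its fixed points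
    have hNk : (Nat.card N : k) ≠ 0 := cast_card_ne_zero hNp'
    set e := avg ρ N with he
    let W : Submodule k V :=
      { carrier := {x | N ≤ fixer ρ x}
        zero_mem' := fun g _ => map_zero _
        add_mem' := fun {x y} hx hy g hg => by
          show ρ g (x + y) = x + y
          rw [map_add, mem_fixer.1 (hx hg), mem_fixer.1 (hy hg)]
        smul_mem' := fun c x hx g hg => by
          show ρ g (c • x) = c • x
          rw [map_smul, mem_fixer.1 (hx hg)] }
    have heW : ∀ x, e x ∈ W := fun x g hg => apply_avg ρ N hg x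
    have heq : ∀ x ∈ W, e x = x := fun x hx => avg_eq_self ρ N hNk hx
    have hecomm : ∀ g x, e (ρ g x) = ρ g (e x) := fun g x => avg_comm ρ N (hnormN g) x
    have hWinv : ∀ g : H, ∀ x ∈ W, ρ g x ∈ W := fun g x hx => by
      rw [← heq x hx, ← hecomm]
      exact heW _
    obtain ⟨σ, hσ⟩ : ∃ σ : Representation k H W, ∀ g (x : W), ((σ g x : W) : V) = ρ g x :=
      ⟨subRep ρ W hWinv, fun g x => coe_subRep_apply ρ W hWinv g x⟩
    let σ' : Representation k (H ⧸ N) W := QuotientGroup.lift N σ fun g hg =>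
      MonoidHom.mem_ker.2 (LinearMap.ext fun x => Subtype.ext (by
        rw [hσ, Module.End.one_apply]; exact x.2 hg))
    have hσ' : ∀ (g : H) (x : W), ((σ' (g : H ⧸ N) x : W) : V) = ρ g x := fun g x => hσ g x
    have hidx : ∀ x : W, (fixer σ' x).index = (fixer ρ (x : V)).index := by
      intro x
      rw [← index_comap_of_surjective _ (QuotientGroup.mk'_surjective N)]
      congr 1
      ext g
      rw [mem_comap, mem_fixer, mem_fixer, QuotientGroup.mk'_apply, Subtype.ext_iff, hσ']
    have hsp : Submodule.span k {u : W | ∃ h : H ⧸ N, σ' h ⟨e a, heW a⟩ = u} = ⊤ := by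
      rw [eq_top_iff]
      intro x _
      let e' : V →ₗ[k] W := e.codRestrict W heW
      have hx : e' (x : V) = x := Subtype.ext (heq _ x.2)
      rw [← hx]
      have hmem : (x : V) ∈ Submodule.span k {u : V | ∃ h : H, ρ h a = u} :=
        hspan ▸ Submodule.mem_top
      refine (?_ : (Submodule.span k {u : V | ∃ h : H, ρ h a = u}).map e' ≤ _)
        (Submodule.mem_map_of_mem hmem)
      rw [Submodule.map_span]
      refine Submodule.span_mono ?_
      rintro _ ⟨_, ⟨h, rfl⟩, rfl⟩
      exact ⟨(h : H ⧸ N), Subtype.ext (by rw [hσ']; exact (hecomm h a).symm)⟩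
    have hfe : ∀ x, fixer ρ x ≤ fixer ρ (e x) := fun x g hg => by
      rw [mem_fixer, ← hecomm, mem_fixer.1 hg]
    obtain ⟨⟨c, hc⟩, hb⟩ := ih _ hlt (H ⧸ N) W σ' le_rfl (isPSolvable_quotient N hsol)
      ⟨e a, heW a⟩ ⟨P.mapSurjective (QuotientGroup.mk'_surjective N), by
        rintro _ ⟨y, hy, rfl⟩
        exact Subtype.ext (by
          rw [QuotientGroup.mk'_apply, hσ', ← hecomm, hP y hy])⟩ hsp
    refine ⟨⟨(c : V), fun x hx => ?_⟩, fun b hab h => ?_⟩
    · have hxW : x ∈ W := fun g _ => hx g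
      have h1 := hc ⟨x, hxW⟩ fun h => by
        induction h using QuotientGroup.induction_on with
        | H g => exact Subtype.ext (by rw [hσ']; exact hx g)
      rw [Submodule.mem_span_singleton] at h1 ⊢
      obtain ⟨t, ht⟩ := h1
      exact ⟨t, congrArg Subtype.val ht⟩
    have hb0 : ∀ g, ρ g (e b) = e b := fun g => by
      have h1 := hb ⟨e b, heW b⟩ (by
        rw [hidx, hidx]
        exact Nat.Coprime.coprime_dvd_left (index_dvd_of_le (hfe a))
          (hab.coprime_dvd_right (index_dvd_of_le (hfe b)))) (g : H ⧸ N)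
      simpa [hσ'] using congrArg Subtype.val h1
    -- the complementary component vanishes
    set A := fixer ρ a with hA
    set B := fixer ρ b with hB
    have hcop : (A.subgroupOf N).index.Coprime (B.subgroupOf N).index :=
      Nat.Coprime.coprime_dvd_left (CfsgLib.StructB.Kazarin.relIndex_dvd_index_normal N A)
        (hab.coprime_dvd_right (CfsgLib.StructB.Kazarin.relIndex_dvd_index_normal N B))
    have hBNk : (Nat.card ↥(B ⊓ N) : k) ≠ 0 :=
      cast_card_ne_zero (hNp'.coprime_dvd_left (card_dvd_of_le inf_le_right))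
    have hA1 : A ≤ fixer ρ (a - e a) := fun g hg => by
      rw [mem_fixer, map_sub, mem_fixer.1 hg, mem_fixer.1 (hfe a hg)]
    have hE0 : avg ρ (B ⊓ N) (a - e a) = 0 := by
      have h1 : avg ρ (B ⊓ N) (a - e a) ∈ W := fun g hg =>
        apply_avg_of_coprime ρ N A B hcop hA1 hg
      rw [← heq _ h1, he, avg_avg_of_le ρ inf_le_right hBNk, map_sub, ← he, heq _ (heW a), sub_self]
    have hkill : ∀ x, avg ρ (B ⊓ N) (x - e x) = 0 := by
      intro x
      have hx : x ∈ Submodule.span k {u : V | ∃ h : H, ρ h a = u} := hspan ▸ Submodule.mem_top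
      have h1 : (avg ρ (B ⊓ N)).comp (LinearMap.id - e) x = (0 : V →ₗ[k] V) x := by
        refine LinearMap.eqOn_span ?_ hx
        rintro _ ⟨g, rfl⟩
        obtain ⟨β, hβ, α, hα, rfl⟩ := CfsgLib.StructB.Baer.exists_mul_of_coprime A B hab g
        have hβn : β ∈ normalizer ((B ⊓ N : Subgroup H) : Set H) := by
          refine mem_normalizer_iff.2 fun y => ?_
          constructor
          · rintro ⟨hy1, hy2⟩
            exact ⟨B.mul_mem (B.mul_mem hβ hy1) (B.inv_mem hβ), hNn.conj_mem _ hy2 β⟩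
          · rintro ⟨hy1, hy2⟩
            have e1 := B.mul_mem (B.mul_mem (B.inv_mem hβ) hy1) hβ
            have e2 := hNn.conj_mem _ hy2 β⁻¹
            simp only [mul_assoc, inv_mul_cancel_left, inv_mul_cancel, mul_one, inv_inv] at e1 e2
            exact ⟨e1, e2⟩
        show avg ρ (B ⊓ N) (ρ (β * α) a - e (ρ (β * α) a)) = 0
        rw [map_mul, Module.End.mul_apply, mem_fixer.1 hα, hecomm, ← map_sub, avg_comm ρ _ hβn, hE0,
          map_zero]
      exact h1
    have hb1 : b - e b = 0 := by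
      rw [← avg_eq_self ρ (B ⊓ N) hBNk (x := b - e b) fun g hg => by
        rw [mem_fixer, map_sub, mem_fixer.1 hg.1, hb0 g], hkill b]
    rw [sub_eq_zero] at hb1
    rw [hb1]
    exact hb0 h

end CfsgLib.StructB.CoprimeOrbit
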