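import Mathlib
import Cfsg.Agent.Lib.StructB.PGroupLinear

/-!
# Linear `p`-groups in coprime characteristic: derived length at most `log_p (n / d) + 1`
-/

set_option autoImplicit false

namespace CfsgLib.StructB.GLSylow

open Subgroup Module CfsgLib.StructB.PLinear
open scoped commutatorElement

universe u v w

/-- `j` images of an eigenspace in distinct eigenspaces. -/
theorem finrank_iSup_of_indep {K V : Type*} [Field K] [AddCommGroup V] [Module K V]
    [FiniteDimensional K V] (f : End K V) (E : ℕ → Submodule K V) (μ : ℕ → K) (m p : ℕ)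
    (hE : ∀ i, i < p → E i ≤ f.eigenspace (μ i)) (hdim : ∀ i, i < p → finrank K (E i) = m)
    (hμ : ∀ i, i < p → ∀ j, j < p → μ i = μ j → i = j) :
    ∀ j, j ≤ p → finrank K ↥(⨆ i ∈ Finset.range j, E i) = j * m := by
  intro j
  induction j with
  | zero => intro _; rw [show (⨆ i ∈ Finset.range 0, E i) = ⊥ from le_bot_iff.1 (iSup₂_le fun i hi => absurd (Finset.mem_range.1 hi) (Nat.not_lt_zero i)), finrank_bot, zero_mul]
  | succ j ih =>
    intro hj
    have hdisj : (E j) ⊓ (⨆ i ∈ Finset.range j, E i) = ⊥ := by
      refine le_bot_iff.1 (le_trans (inf_le_inf (hE j (by omega)) ?_)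
        ((End.eigenspaces_iSupIndep f (μ j)).le_bot))
      refine iSup₂_le fun i hi => ?_
      rw [Finset.mem_range] at hi
      refine le_trans (hE i (by omega)) ?_
      refine le_iSup₂_of_le (μ i) (fun h => ?_) le_rfl
      exact (Nat.ne_of_lt hi) (hμ i (by omega) j (by omega) h)
    have h := Submodule.finrank_sup_add_finrank_inf_eq (E j) (⨆ i ∈ Finset.range j, E i)
    rw [hdisj, finrank_bot, add_zero, hdim j (by omega), ih (by omega)] at h
    rw [Finset.range_add_one, Finset.iSup_insert, h]
    ring

variable {P : Type u} [Group P] {K : Type v} [Field K] {V : Type w} [AddCommGroup V] [Module K V]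
  (ρ : P →* Module.End K V)

theorem twist_pow {a : P} {W : Submodule K V} {g : P} {c : K} (hW : ∀ w ∈ W, ρ g w ∈ W)
    (hg : Twist ρ a W g c) : ∀ j, Twist ρ a W (g ^ j) (c ^ j) := by
  intro j
  induction j with
  | zero => exact ⟨by simp, fun w _ => by simp⟩
  | succ j ih =>
    rw [pow_succ g, pow_succ c]
    exact twist_mul ρ hW ih hg

/-- The coprime case over a field with enough roots of unity. -/
theorem dser_fixes [Finite P] {p : ℕ} [Fact p.Prime] (hP : IsPGroup p P) [IsAlgClosed K]
    [FiniteDimensional K V]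
    (hK : (Nat.card P : K) ≠ 0) : ∀ (n : ℕ) (W : Submodule K V), finrank K W = n →
      ∀ S : Subgroup P, (∀ g ∈ S, ∀ w ∈ W, ρ g w ∈ W) →
      ∀ x ∈ dser S (Nat.log p n + 1), ∀ w ∈ W, ρ x w = w := by
  classical
  haveI := hP.isNilpotent
  have hp : p.Prime := Fact.out
  intro n
  induction n using Nat.strong_induction_on with
  | _ n ih =>
    intro W hn S hS x hx w hw
    rcases Nat.eq_zero_or_pos n with rfl | hn0
    · rw [Submodule.finrank_eq_zero] at hn
      rw [hn, Submodule.mem_bot] at hw
      rw [hw, map_zero]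
    have : NeZero ((Nat.card P : ℕ) : K) := ⟨hK⟩
    obtain ⟨ζ, hζ⟩ := HasEnoughRootsOfUnity.exists_primitiveRoot K (Nat.card P)
    by_cases hA : ∀ a ∈ S, (∀ g ∈ S, ∀ u ∈ W, ρ g (ρ a u) = ρ a (ρ g u)) →
        ∃ c : K, ∀ u ∈ W, ρ a u = c • u
    swap
    · push Not at hA
      obtain ⟨a, haS, hac, hns⟩ := hA
      refine mem_of_eigenspaces ρ (hS a haS) (pow_card_eq_one' (x := a)) hK hζ (fun μ v hv => ?_) hw
      have hlt : eig ρ a W μ < W := by
        refine lt_of_le_of_ne inf_le_left fun e => ?_
        obtain ⟨u, hu, hne⟩ := hns μ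
        exact hne ((mem_eig ρ).1 (e.symm ▸ hu)).2
      have hm := Submodule.finrank_lt_finrank_of_lt hlt
      rw [hn] at hm
      refine ih _ hm _ rfl S (fun g hg u hu => ?_) x ?_ v hv
      · rw [mem_eig] at hu ⊢
        exact ⟨hS g hg u hu.1, by rw [← hac g hg u hu.1, hu.2, map_smul]⟩
      · exact dser_anti S (Nat.add_le_add_right (Nat.log_mono_right hm.le) 1) hx
    by_cases hcomm : ∀ a ∈ S, ∀ g ∈ S, ∀ u ∈ W, ρ g (ρ a u) = ρ a (ρ g u)
    · have hx1 : x ∈ ⁅S, S⁆ := dser_anti S (Nat.le_add_left 1 (Nat.log p n)) hx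
      let T : Subgroup P :=
        { carrier := {g | g ∈ S ∧ ∀ u ∈ W, ρ g u = u}
          one_mem' := ⟨one_mem S, fun u _ => by rw [map_one, Module.End.one_apply]⟩
          mul_mem' := fun {g h} hg hh => ⟨mul_mem hg.1 hh.1, fun u hu => by
            rw [rho_mul, hh.2 u hu, hg.2 u hu]⟩
          inv_mem' := fun {g} hg => ⟨inv_mem hg.1, fun u hu => by
            conv_lhs => rw [← hg.2 u hu]
            exact rho_inv_apply ρ g u⟩ }
      have hle : ⁅S, S⁆ ≤ T := commutator_le.2 fun g hg h hh =>
        ⟨commutator_le_self S (commutator_mem_commutator hg hh), fun u hu => by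
          have h1 : ρ h⁻¹ u ∈ W := hS _ (inv_mem hh) u hu
          have h2 : ρ g⁻¹ (ρ h⁻¹ u) ∈ W := hS _ (inv_mem hg) _ h1
          rw [commutatorElement_def, rho_mul, rho_mul, rho_mul, hcomm h hh g hg _ h2, rho_apply_inv,
            rho_apply_inv]⟩
      exact (hle hx1).2 w hw
    push Not at hcomm
    obtain ⟨a, haS, ⟨g₁, hg₁, u₁, hu₁, hne₁⟩, htw⟩ : ∃ a ∈ S,
        (∃ g ∈ S, ∃ u ∈ W, ρ g (ρ a u) ≠ ρ a (ρ g u)) ∧ ∀ g ∈ S, ∃ c, Twist ρ a W g c := by
      let L : ℕ → Subgroup P := fun i => Nat.rec S (fun _ T => ⁅S, T⁆) i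
      have hLS : ∀ i, L i ≤ S := fun i => by
        induction i with
        | zero => exact le_rfl
        | succ i ih => exact (commutator_mono le_rfl ih).trans (commutator_le_self S)
      have hLlow : ∀ i, L i ≤ Subgroup.lowerCentralSeries (⊤ : Subgroup P) i := fun i => by
        induction i with
        | zero => exact le_top
        | succ i ih =>
          show ⁅S, L i⁆ ≤ _
          rw [Subgroup.lowerCentralSeries_succ, commutator_comm S]
          exact commutator_mono ih le_top
      obtain ⟨c, hc⟩ := Subgroup.nilpotent_iff_lowerCentralSeries.1 (inferInstance : Group.IsNilpotent P)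
      let bad : ℕ → Prop := fun i => ∃ a ∈ L i, ∃ g ∈ S, ∃ u ∈ W, ρ g (ρ a u) ≠ ρ a (ρ g u)
      have hb0 : bad 0 := hcomm
      have hbc : ¬ bad c := by
        rintro ⟨a, ha, g, hg, u, hu, hne⟩
        have := hLlow c ha
        rw [hc, mem_bot] at this
        rw [this, map_one] at hne
        exact hne rfl
      have hex : ∃ i, bad i ∧ ¬ bad (i + 1) := by
        by_contra hh
        push Not at hh
        exact hbc (Nat.rec hb0 hh c)
      obtain ⟨i, ⟨a, ha, g₁, hg₁, u₁, hu₁, hne₁⟩, hi⟩ := hex
      refine ⟨a, hLS i ha, ⟨g₁, hg₁, u₁, hu₁, hne₁⟩, fun g hg => ?_⟩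
      have hd : ⁅g, a⁆ ∈ L (i + 1) := commutator_mem_commutator hg ha
      obtain ⟨c, hcs⟩ := hA _ (hLS (i + 1) hd) fun g' hg' u hu => by
        by_contra hne
        exact hi ⟨_, hd, g', hg', u, hu, hne⟩
      refine ⟨c, fun hc0 => ?_, fun u hu => ?_⟩
      · have h1 := hcs u₁ hu₁
        rw [hc0, zero_smul] at h1
        have h2 := congrArg (ρ ⁅g, a⁆⁻¹) h1
        rw [rho_inv_apply, map_zero] at h2
        exact hne₁ (by rw [h2, map_zero, map_zero, map_zero])
      · rw [← rho_mul, ← rho_mul, ← hcs _ (hS _ (mul_mem (hLS i ha) hg) u hu), ← rho_mul,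
          commutatorElement_def]
        congr 2
        group
    obtain ⟨c₁, hc₁⟩ := htw g₁ hg₁
    have hc₁1 : c₁ ≠ 1 := fun e => hne₁ (by rw [hc₁.2 u₁ hu₁, e, one_smul])
    refine mem_of_eigenspaces ρ (hS a haS) (pow_card_eq_one' (x := a)) hK hζ (fun μ v hv => ?_) hw
    by_cases hEbot : eig ρ a W μ = ⊥
    · rw [hEbot, Submodule.mem_bot] at hv
      rw [hv, map_zero]
    have hμ : μ ≠ 0 := by
      rintro rfl
      refine hEbot (eq_bot_iff.2 fun u hu => ?_)
      rw [mem_eig, zero_smul] at hu
      have h2 := congrArg (ρ a⁻¹) hu.2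
      rwa [rho_inv_apply, map_zero] at h2
    -- the twist is a root of unity of order a positive power of `p`
    have hinjc : ∀ i, i < p → ∀ j, j < p → c₁ ^ i = c₁ ^ j → i = j := by
      obtain ⟨e, he⟩ := hP g₁
      have h1 := (twist_pow ρ (hS g₁ hg₁) hc₁ (p ^ e)).2 u₁ hu₁
      rw [he, map_one, Module.End.one_apply, Module.End.one_apply] at h1
      have hne : ρ a u₁ ≠ 0 := fun h0 => by
        have h2 := congrArg (ρ a⁻¹) h0
        rw [rho_inv_apply, map_zero] at h2
        exact hne₁ (by rw [h2, map_zero, map_zero, map_zero])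
      have h3 : c₁ ^ p ^ e = 1 := smul_left_injective K hne (by simpa using h1.symm)
      obtain ⟨t, -, ht⟩ := (Nat.dvd_prime_pow hp).1 (orderOf_dvd_of_pow_eq_one h3)
      have ht0 : t ≠ 0 := fun h0 => hc₁1 (orderOf_eq_one_iff.1 (by rw [ht, h0, pow_zero]))
      intro i hi j hj hij
      exact pow_injOn_Iio_orderOf (show i < orderOf c₁ by rw [ht]; exact lt_of_lt_of_le hi (Nat.le_self_pow ht0 p))
        (show j < orderOf c₁ by rw [ht]; exact lt_of_lt_of_le hj (Nat.le_self_pow ht0 p)) hij
    set m := finrank K (eig ρ a W μ) with hm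
    let Ei : ℕ → Submodule K V := fun i => (eig ρ a W μ).map (ρ (g₁ ^ i))
    have hEi : ∀ i, i < p → Ei i ≤ (ρ a).eigenspace ((c₁ ^ i)⁻¹ * μ) := by
      rintro i - _ ⟨u', hu', rfl⟩
      rw [SetLike.mem_coe, mem_eig] at hu'
      have h1 := (twist_pow ρ (hS g₁ hg₁) hc₁ i).2 u' hu'.1
      rw [hu'.2, map_smul] at h1
      rw [End.mem_eigenspace_iff, mul_smul, h1, smul_smul, inv_mul_cancel₀ (pow_ne_zero i hc₁.1), one_smul]
    have hEdim : ∀ i, i < p → finrank K (Ei i) = m := fun i _ =>
      (Submodule.equivMapOfInjective _ (fun u u' h => by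
        rw [← rho_inv_apply ρ (g₁ ^ i) u, h, rho_inv_apply]) _).finrank_eq.symm
    have hsum := finrank_iSup_of_indep (ρ a) Ei (fun i => (c₁ ^ i)⁻¹ * μ) m p hEi hEdim
      (fun i hi j hj h => hinjc i hi j hj (inv_injective (mul_right_cancel₀ hμ h))) p le_rfl
    have hpm : p * m ≤ n := by
      rw [← hsum, ← hn]
      refine Submodule.finrank_mono (iSup₂_le fun i _ => ?_)
      rintro _ ⟨u', hu', rfl⟩
      exact hS _ (pow_mem hg₁ i) u' ((mem_eig ρ).1 hu').1
    have hm0 : m ≠ 0 := fun h => hEbot (Submodule.finrank_eq_zero.1 (hm ▸ h))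
    have hcomT : ⁅S, S⁆ ≤ S := commutator_le_self S
    have hpres : ∀ g ∈ ⁅S, S⁆, Twist ρ a W g 1 := by
      let T : Subgroup P :=
        { carrier := {g | g ∈ S ∧ Twist ρ a W g 1}
          one_mem' := ⟨one_mem S, one_ne_zero, fun u _ => by simp⟩
          mul_mem' := fun {g h} hg hh => ⟨mul_mem hg.1 hh.1, by
            simpa using twist_mul ρ (hS h hh.1) hg.2 hh.2⟩
          inv_mem' := fun {g} hg => ⟨inv_mem hg.1, by
            simpa using twist_inv ρ (hS _ (inv_mem hg.1)) hg.2⟩ }
      have hle : ⁅S, S⁆ ≤ T := commutator_le.2 fun g hg h hh => by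
        refine ⟨hcomT (commutator_mem_commutator hg hh), ?_⟩
        obtain ⟨c, hc⟩ := htw g hg
        obtain ⟨d, hd⟩ := htw h hh
        have hgi := twist_inv ρ (hS _ (inv_mem hg)) hc
        have hhi := twist_inv ρ (hS _ (inv_mem hh)) hd
        have := twist_mul ρ (hS _ (inv_mem hh)) (twist_mul ρ (hS _ (inv_mem hg))
          (twist_mul ρ (hS h hh) hc hd) hgi) hhi
        rw [commutatorElement_def]
        rwa [show c * d * c⁻¹ * d⁻¹ = 1 by
          rw [mul_comm c d, mul_inv_cancel_right₀ hc.1, mul_inv_cancel₀ hd.1]] at this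
      exact fun g hg => (hle hg).2
    have hmn : m < n := by
      have := hp.two_le
      nlinarith [Nat.pos_of_ne_zero hm0]
    refine ih m hmn _ hm.symm ⁅S, S⁆ (fun g hg u hu => ?_) x ?_ v hv
    · rw [mem_eig] at hu ⊢
      refine ⟨hS g (hcomT hg) u hu.1, ?_⟩
      have := (hpres g hg).2 u hu.1
      rw [one_smul, hu.2, map_smul] at this
      exact this.symm
    · rw [← dser_succ']
      refine dser_anti S ?_ hx
      have h1 : Nat.log p (m * p) ≤ Nat.log p n := Nat.log_mono_right (by rw [mul_comm]; exact hpm)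
      rw [Nat.log_mul_base hp.one_lt hm0] at h1
      omega

/-- `p`-groups acting in coprime characteristic on a space over a field of order `q`. -/
theorem derived_fixes {P : Type u} [Group P] [Finite P] {p : ℕ} [Fact p.Prime] (hP : IsPGroup p P)
    {F : Type v} [Field F] [Fintype F] (hpq : ¬ p ∣ Fintype.card F) (n : ℕ) :
    ∀ {V : Type w} [AddCommGroup V] [Module F V] [FiniteDimensional F V] (ρ : P →* Module.End F V),
      finrank F V = n → ∀ x ∈ derivedSeries P
        (Nat.log p (n / orderOf (Fintype.card F : ZMod p)) + 1), ρ x = 1 := by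
  classical
  have hp : p.Prime := Fact.out
  set q := Fintype.card F with hq
  set d := orderOf (q : ZMod p) with hd
  have hpF : ((p : ℕ) : F) ≠ 0 := by
    intro h
    obtain ⟨r, hr⟩ := CharP.exists F
    haveI := hr
    obtain ⟨k, hrp, hk⟩ := FiniteField.card F r
    have h1 : r ∣ p := (CharP.cast_eq_zero_iff F r p).1 h
    rw [(Nat.prime_dvd_prime_iff_eq hrp hp).1 h1] at hk
    exact hpq (by rw [hq, hk]; exact dvd_pow_self p k.ne_zero)
  induction n using Nat.strong_induction_on with
  | _ n ih =>
    intro V _ _ _ ρ hn x hx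
    by_cases hred : ∃ U : Submodule F V, U ≠ ⊥ ∧ U ≠ ⊤ ∧ ∀ g : P, ∀ u ∈ U, ρ g u ∈ U
    · obtain ⟨U, hU0, hU1, hinv⟩ := hred
      let ρU : P →* Module.End F U :=
        { toFun := fun g => (ρ g).restrict (hinv g)
          map_one' := by ext u; simp
          map_mul' := fun g h => by ext u; simp [LinearMap.restrict_apply] }
      let ρQ : P →* Module.End F (V ⧸ U) :=
        { toFun := fun g => U.mapQ U (ρ g) (fun u hu => hinv g u hu)
          map_one' := by ext u; simp
          map_mul' := fun g h => by ext u; simp }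
      have hUlt : finrank F U < n := hn ▸ Submodule.finrank_lt hU1
      have hQlt : finrank F (V ⧸ U) < n := by
        have h1 := Submodule.finrank_quotient_add_finrank U
        have h2 : finrank F U ≠ 0 := fun h => hU0 (Submodule.finrank_eq_zero.1 h)
        omega
      have hmono : ∀ m < n, x ∈ derivedSeries P (Nat.log p (m / d) + 1) := fun m hm =>
        derivedSeries_antitone P (Nat.add_le_add_right
          (Nat.log_mono_right (Nat.div_le_div_right hm.le)) 1) hx
      have hxU := ih _ hUlt ρU rfl x (hmono _ hUlt)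
      have hxQ := ih _ hQlt ρQ rfl x (hmono _ hQlt)
      have hU : ∀ u ∈ U, ρ x u = u := fun u hu => by
        have := congrArg (fun f : Module.End F U => ((f ⟨u, hu⟩ : U) : V)) hxU
        simpa [ρU, LinearMap.restrict_apply] using this
      refine LinearMap.ext fun w => ?_
      have hwU : ρ x w - w ∈ U := by
        have := congrArg (fun f : Module.End F (V ⧸ U) => f (Submodule.Quotient.mk w)) hxQ
        simp only [ρQ, MonoidHom.coe_mk, OneHom.coe_mk, Submodule.mapQ_apply,
          Module.End.one_apply] at this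
        exact (Submodule.Quotient.eq U).1 this
      have hpow : ∀ k : ℕ, ρ (x ^ k) w = w + k • (ρ x w - w) := fun k => by
        induction k with
        | zero => simp
        | succ k ihk =>
          rw [pow_succ', rho_mul, ihk, map_add, map_nsmul, hU _ hwU, succ_nsmul]
          abel
      obtain ⟨e, he⟩ := hP x
      have h1 := hpow (p ^ e)
      rw [he, map_one, Module.End.one_apply, left_eq_add, ← Nat.cast_smul_eq_nsmul F, smul_eq_zero] at h1
      rcases h1 with h1 | h1
      · rw [Nat.cast_pow] at h1
        exact absurd (eq_zero_of_pow_eq_zero h1) hpF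
      · exact sub_eq_zero.1 h1
    push Not at hred
    have hirr : ∀ U : Submodule F V, (∀ g : P, ∀ u ∈ U, ρ g u ∈ U) → U = ⊥ ∨ U = ⊤ := by
      intro U hU
      by_contra hh
      push Not at hh
      obtain ⟨g, u, hu, hgu⟩ := hred U hh.1 hh.2
      exact hgu (hU g u hu)
    by_cases htriv : ∀ g, ρ g = 1
    · exact htriv x
    push Not at htriv
    obtain ⟨g₀, hg₀⟩ := htriv
    set R := ρ.toHomUnits.range with hR
    have hRp : IsPGroup p R := hP.of_surjective ρ.toHomUnits.rangeRestrict
      ρ.toHomUnits.rangeRestrict_surjective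
    haveI : Finite R := Finite.of_surjective _ ρ.toHomUnits.rangeRestrict_surjective
    haveI : Nontrivial R := ⟨⟨⟨_, g₀, rfl⟩, 1, fun h => hg₀ (by
      have := congrArg (fun r : R => ((r : (Module.End F V)ˣ) : Module.End F V)) h
      simpa using this)⟩⟩
    haveI := hRp.center_nontrivial
    obtain ⟨z, hz⟩ := exists_prime_orderOf_dvd_card' p (by
      obtain ⟨j, hj, hj'⟩ := (hRp.to_subgroup (Subgroup.center R)).nontrivial_iff_card.1 inferInstance
      rw [hj']; exact dvd_pow_self p (by omega) : p ∣ Nat.card (Subgroup.center R))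
    obtain ⟨a, ha⟩ := ρ.toHomUnits.rangeRestrict_surjective (z : R)
    have hza : (((z : R) : (Module.End F V)ˣ) : Module.End F V) = ρ a := by rw [← ha]; rfl
    have hacomm : ∀ g : P, ρ g * ρ a = ρ a * ρ g := fun g => by
      have h := Subgroup.mem_center_iff.1 z.2 (ρ.toHomUnits.rangeRestrict g)
      have := congrArg (fun r : R => ((r : (Module.End F V)ˣ) : Module.End F V)) h
      simpa [hza] using this
    have hao : orderOf (ρ a) = p := by
      rw [← hza, orderOf_units, Subgroup.orderOf_coe, Subgroup.orderOf_coe, hz]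
    set A : Subalgebra F (Module.End F V) := Algebra.adjoin F {ρ a} with hA
    have haA : ρ a ∈ A := Algebra.self_mem_adjoin_singleton F (ρ a)
    have hcomA : ∀ f ∈ A, ∀ g : P, ρ g * f = f * ρ g := by
      intro f hf g
      have : A ≤ Subalgebra.centralizer F ({ρ g} : Set (Module.End F V)) :=
        Algebra.adjoin_le (Set.singleton_subset_iff.2 fun h hh => by
          rw [Set.mem_singleton_iff] at hh; subst hh; exact hacomm g)
      exact (this hf) _ rfl
    haveI : Nontrivial V := by
      by_contra h
      rw [not_nontrivial_iff_subsingleton] at h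
      exact hg₀ (LinearMap.ext fun v => Subsingleton.elim _ _)
    letI : CommRing A := { (inferInstance : Ring A) with
      mul_comm := fun f g => by
        have h : ∀ f ∈ A, f * ρ a = ρ a * f := fun f hf => (hcomA f hf a).symm
        have hle : A ≤ Subalgebra.centralizer F ({(g : Module.End F V)} : Set (Module.End F V)) :=
          Algebra.adjoin_le (Set.singleton_subset_iff.2 fun h' hh => by
            rw [Set.mem_singleton_iff] at hh; subst hh
            exact h _ g.2)
        exact Subtype.ext ((hle f.2) _ rfl).symm }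
    haveI : Finite (Module.End F V) := Module.finite_of_finite F
    haveI : IsDomain A := by
      haveI : Nontrivial A := ⟨⟨0, 1, fun h => zero_ne_one (congrArg Subtype.val h)⟩⟩
      haveI : NoZeroDivisors A := ⟨fun {f g} hfg => by
        by_contra hh
        push Not at hh
        have hker : LinearMap.ker (f : Module.End F V) = ⊥ := by
          refine (hirr _ fun h u hu => ?_).resolve_right fun htop => hh.1 (Subtype.ext
            (LinearMap.ker_eq_top.1 htop))
          rw [LinearMap.mem_ker] at hu ⊢
          have := LinearMap.congr_fun (hcomA f f.2 h) u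
          simp only [Module.End.mul_apply] at this
          rw [← this, hu, map_zero]
        refine hh.2 (Subtype.ext (LinearMap.ext fun v => ?_))
        have h1 := LinearMap.congr_fun (congrArg Subtype.val hfg) v
        exact LinearMap.ker_eq_bot.1 hker (by simpa using h1)⟩
      exact NoZeroDivisors.to_isDomain A
    letI : Field A := (Finite.isDomain_to_isField A).toField
    let za : A := ⟨ρ a, haA⟩
    have hzao : orderOf za = p := by
      rw [← orderOf_injective A.val.toMonoidHom Subtype.val_injective za]; exact hao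
    set e := finrank F A with he
    haveI : Fintype A := Fintype.ofFinite A
    have hcardA : Nat.card A = q ^ e := by
      rw [Nat.card_eq_fintype_card, Module.card_eq_pow_finrank (K := F)]
    have hde : d ∣ e := by
      have hza0 : za ≠ 0 := fun h => by
        have := pow_orderOf_eq_one za
        rw [hzao, h, zero_pow hp.ne_zero] at this
        exact zero_ne_one this
      have h1 : p ∣ Fintype.card A - 1 := hzao ▸ orderOf_dvd_of_pow_eq_one
        (FiniteField.pow_card_sub_one_eq_one za hza0)
      rw [← Nat.card_eq_fintype_card, hcardA, ← ZMod.natCast_eq_zero_iff] at h1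
      rw [hd, orderOf_dvd_iff_pow_eq_one]
      rw [Nat.cast_sub (Nat.one_le_pow _ _ Fintype.card_pos), Nat.cast_pow, Nat.cast_one, sub_eq_zero] at h1
      exact h1
    have he0 : 0 < e := Module.finrank_pos
    haveI : FiniteDimensional A V := Module.Finite.of_restrictScalars_finite F A V
    set nA := finrank A V with hnA
    have hmul : e * nA = n := by rw [← hn]; exact Module.finrank_mul_finrank F A V
    have hd0 : 0 < d := Nat.pos_of_dvd_of_pos hde he0
    have hle : nA ≤ n / d := by
      rw [Nat.le_div_iff_mul_le hd0, ← hmul, mul_comm nA]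
      exact Nat.mul_le_mul_right _ (Nat.le_of_dvd he0 hde)
    let ρA : P →* Module.End A V :=
      { toFun := fun g =>
          { toFun := ρ g
            map_add' := map_add _
            map_smul' := fun f v => LinearMap.congr_fun (hcomA f f.2 g) v }
        map_one' := LinearMap.ext fun v => LinearMap.congr_fun (map_one ρ) v
        map_mul' := fun g h => LinearMap.ext fun v => LinearMap.congr_fun (map_mul ρ g h) v }
    let L := AlgebraicClosure A
    let b := Module.finBasis A V
    let ρL : P →* Module.End L (Fin nA → L) :=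
      (((Matrix.toLinAlgEquiv' : Matrix (Fin nA) (Fin nA) L ≃ₐ[L] Module.End L (Fin nA → L)) :
        Matrix (Fin nA) (Fin nA) L →* Module.End L (Fin nA → L)).comp
        (algebraMap A L).mapMatrix.toMonoidHom).comp
        (((LinearMap.toMatrixAlgEquiv b) :
          Module.End A V →* Matrix (Fin nA) (Fin nA) A).comp ρA)
    have hL : (Nat.card P : L) ≠ 0 := by
      obtain ⟨i, hi⟩ := hP.exists_card_eq
      rw [hi, Nat.cast_pow]
      refine pow_ne_zero i fun h => hpF ?_
      apply (algebraMap A L).injective.comp (algebraMap F A).injective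
      simp [h]
    have hfix := dser_fixes ρL hP hL nA ⊤ (by rw [finrank_top, Module.finrank_fin_fun]) ⊤
      (fun _ _ _ _ => trivial) x (by
        rw [dser_top]
        exact derivedSeries_antitone P (Nat.add_le_add_right (Nat.log_mono_right hle) 1) hx)
    have h1 : ρL x = 1 := LinearMap.ext fun v => hfix v trivial
    have h2 : ρA x = 1 := by
      apply (LinearMap.toMatrixAlgEquiv b).injective
      rw [map_one]
      apply Matrix.map_injective (algebraMap A L).injective
      apply Matrix.toLinAlgEquiv'.injective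
      simp only []
      rw [Matrix.map_one _ (map_zero _) (map_one _), map_one]
      exact h1
    exact LinearMap.ext fun v => LinearMap.congr_fun h2 v

end CfsgLib.StructB.GLSylow
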