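import Cfsg.Prelude.Def_KGroupFacts
import Mathlib.GroupTheory.SemidirectProduct
import Mathlib.GroupTheory.PresentedGroup
import Mathlib.Algebra.Group.Equiv.TypeTags
import Mathlib.Algebra.Ring.GeomSum
import Mathlib.Tactic

/-!
# Covering groups of metacyclic groups
-/

set_option autoImplicit false

namespace CfsgLib.StructB

open scoped commutatorElement

/-- Defining relators of a metacyclic group. -/
def mcRels (m n r t : ℕ) : Set (FreeGroup Bool) :=
  {FreeGroup.of true ^ m, (FreeGroup.of false) ^ n * (FreeGroup.of true ^ t)⁻¹,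
    FreeGroup.of false * FreeGroup.of true * (FreeGroup.of false)⁻¹ * (FreeGroup.of true ^ r)⁻¹}

theorem exists_metacyclic_cover (m n r t q : ℕ) (α β : ℤ) (hm : 0 < m) (hn : 0 < n) (hq : 0 < q)
    (hΛ : (q : ℤ) ∣ α * ((r : ℤ) - 1) + β * m)
    (hpow : ∃ w : ℤ, (r : ℤ) ^ n - 1 = m * w ∧ (q : ℤ) ∣ α * w + β * (∑ i ∈ Finset.range n, (r : ℤ) ^ i))
    (hfix : ∃ w : ℤ, (t : ℤ) * ((r : ℤ) - 1) = m * w ∧ (q : ℤ) ∣ α * w + β * t)
    (hcomm : ∃ j w : ℤ, j * ((r : ℤ) - 1) = m * w ∧ α * w + β * j = 1) :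
    orderOf (PresentedGroup.of (rels := mcRels m n r t) true) = m ∧
      ∃ (Γ : Type) (_ : Group Γ) (_ : Finite Γ) (σ : Γ →* PresentedGroup (mcRels m n r t)),
        Cfsg.IsStemExtension σ ∧ Nat.card σ.ker = q := by
  classical
  let ψ : ℤ × ℤ →+ ℤ × ℤ := AddMonoidHom.mk' (fun v => ((m : ℤ) * v.1, (q : ℤ) * v.2 - α * v.1))
    (fun a b => by ext <;> simp <;> ring)
  let Λ : AddSubgroup (ℤ × ℤ) := ψ.range
  have memΛ : ∀ i j : ℤ, (i, j) ∈ Λ ↔ ∃ w u : ℤ, i = m * w ∧ j = q * u - α * w := by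
    intro i j
    constructor
    · rintro ⟨⟨w, u⟩, h⟩
      exact ⟨w, u, (congrArg Prod.fst h).symm, (congrArg Prod.snd h).symm⟩
    · rintro ⟨w, u, rfl, rfl⟩
      exact ⟨(w, u), rfl⟩
  let φ0 : ℤ × ℤ →+ ℤ × ℤ := AddMonoidHom.mk' (fun v => ((r : ℤ) * v.1, β * v.1 + v.2))
    (fun a b => by ext <;> simp <;> ring)
  have hφΛ : Λ ≤ Λ.comap φ0 := by
    rintro ⟨i, j⟩ hv
    obtain ⟨w, u, rfl, rfl⟩ := (memΛ i j).1 hv
    obtain ⟨e, he⟩ := hΛ
    refine (memΛ _ _).2 ⟨r * w, u + e * w, by ring, ?_⟩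
    show β * (m * w) + (q * u - α * w) = q * (u + e * w) - α * (r * w)
    linear_combination w * he
  let Ψ : (ℤ × ℤ) ⧸ Λ →+ (ℤ × ℤ) ⧸ Λ := QuotientAddGroup.map Λ Λ φ0 hφΛ
  have hiter : ∀ (k : ℕ) (i j : ℤ), Ψ^[k] (QuotientAddGroup.mk (i, j)) =
      QuotientAddGroup.mk ((r : ℤ) ^ k * i, β * (∑ u ∈ Finset.range k, (r : ℤ) ^ u) * i + j) := by
    intro k i j
    induction k with
    | zero => simp
    | succ k ih =>
      rw [Function.iterate_succ_apply', ih]
      show QuotientAddGroup.mk (φ0 _) = _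
      congr 1
      ext
      · simp only [φ0, AddMonoidHom.mk'_apply]; ring
      · simp only [φ0, AddMonoidHom.mk'_apply]; rw [geom_sum_succ']; ring
  have hiter_n : ∀ z, Ψ^[n] z = z := by
    intro z
    obtain ⟨⟨i, j⟩, rfl⟩ := QuotientAddGroup.mk_surjective z
    rw [hiter, QuotientAddGroup.eq]
    obtain ⟨w, hw, e, he⟩ := hpow
    refine (memΛ _ _).2 ⟨-(w * i), -(e * i), ?_, ?_⟩
    · show -((r : ℤ) ^ n * i) + i = m * -(w * i)
      linear_combination (-i) * hw
    · show -(β * (∑ u ∈ Finset.range n, (r : ℤ) ^ u) * i + j) + j = q * -(e * i) - α * -(w * i)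
      linear_combination (-i) * he
  obtain ⟨n', rfl⟩ : ∃ n', n = n' + 1 := ⟨n - 1, by omega⟩
  let Φ : MulAut (Multiplicative ((ℤ × ℤ) ⧸ Λ)) := AddEquiv.toMultiplicative
    { toFun := Ψ
      invFun := Ψ^[n']
      left_inv := fun z => by
        show Ψ^[n'] (Ψ z) = z
        rw [← Function.iterate_succ_apply]; exact hiter_n z
      right_inv := fun z => by
        show Ψ (Ψ^[n'] z) = z
        rw [← Function.iterate_succ_apply' Ψ n' z]; exact hiter_n z
      map_add' := map_add Ψ }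
  have hΦ : ∀ i j : ℤ, Φ (Multiplicative.ofAdd (QuotientAddGroup.mk (i, j))) =
      Multiplicative.ofAdd (QuotientAddGroup.mk ((r : ℤ) * i, β * i + j)) := fun i j => rfl
  have hΦn : Φ ^ (n' + 1) = 1 := by
    refine MulEquiv.ext fun z => ?_
    have : ∀ k : ℕ, ∀ z, (Φ ^ k) z = Multiplicative.ofAdd (Ψ^[k] (Multiplicative.toAdd z)) := by
      intro k
      induction k with
      | zero => intro z; simp
      | succ k ih =>
        intro z
        rw [pow_succ', MulAut.mul_apply, ih, Function.iterate_succ_apply']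
        rfl
    rw [this, hiter_n, MulAut.one_apply, ofAdd_toAdd]
  let φ : Multiplicative ℤ →* MulAut (Multiplicative ((ℤ × ℤ) ⧸ Λ)) := zpowersHom _ Φ
  let mk : ℤ → ℤ → Multiplicative ((ℤ × ℤ) ⧸ Λ) := fun i j => Multiplicative.ofAdd (QuotientAddGroup.mk (i, j))
  have mkpow : ∀ i j u : ℤ, (mk i j) ^ u = mk (u * i) (u * j) := by
    intro i j u
    simp only [mk]
    rw [← ofAdd_zsmul, ← QuotientAddGroup.mk_zsmul]
    simp
  have mkmul : ∀ i j i' j' : ℤ, mk i j * mk i' j' = mk (i + i') (j + j') := fun i j i' j' => rfl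
  have mkeq : ∀ i j i' j' : ℤ, mk i j = mk i' j' ↔ (-i + i', -j + j') ∈ Λ := fun i j i' j' => QuotientAddGroup.eq
  let w0 : (SemidirectProduct (Multiplicative ((ℤ × ℤ) ⧸ Λ)) (Multiplicative ℤ) φ) := SemidirectProduct.inl (mk (-(t : ℤ)) 0) * SemidirectProduct.inr (Multiplicative.ofAdd ((n' + 1 : ℕ) : ℤ))
  have hφn : φ (Multiplicative.ofAdd ((n' + 1 : ℕ) : ℤ)) = 1 := by
    rw [zpowersHom_apply, toAdd_ofAdd, zpow_natCast, hΦn]
  have hΦt : Φ (mk (-(t : ℤ)) 0) = mk (-(t : ℤ)) 0 := by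
    rw [hΦ]
    obtain ⟨w, hw, e, he⟩ := hfix
    refine (mkeq _ _ _ _).2 ((memΛ _ _).2 ⟨w, e, ?_, ?_⟩)
    · linear_combination hw
    · linear_combination he
  have hw0 : w0 ∈ Subgroup.center (SemidirectProduct (Multiplicative ((ℤ × ℤ) ⧸ Λ)) (Multiplicative ℤ) φ) := by
    refine Subgroup.mem_center_iff.2 fun g => ?_
    have hfixall : ∀ e : ℤ, (Φ ^ e) (mk (-(t : ℤ)) 0) = mk (-(t : ℤ)) 0 := fun e => by
      have : Φ ∈ MulAction.stabilizer (MulAut (Multiplicative ((ℤ × ℤ) ⧸ Λ))) (mk (-(t : ℤ)) 0) := hΦt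
      exact zpow_mem this e
    refine SemidirectProduct.ext ?_ ?_
    · simp only [w0, SemidirectProduct.mul_left, SemidirectProduct.mul_right, SemidirectProduct.left_inl,
        SemidirectProduct.right_inl, SemidirectProduct.left_inr, SemidirectProduct.right_inr, map_one,
        MulAut.one_apply, mul_one, one_mul, hφn]
      rw [show φ g.right = Φ ^ (Multiplicative.toAdd g.right) from rfl, hfixall, mul_comm]
    · simp only [SemidirectProduct.mul_right]
      exact mul_comm _ _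
  haveI hNn : (Subgroup.zpowers w0).Normal := ⟨fun x hx g => by
    have : x ∈ Subgroup.center (SemidirectProduct (Multiplicative ((ℤ × ℤ) ⧸ Λ)) (Multiplicative ℤ) φ) := (Subgroup.zpowers_le.2 hw0) hx
    rw [Subgroup.mem_center_iff.1 this g, mul_inv_cancel_right]; exact hx⟩
  let π : (SemidirectProduct (Multiplicative ((ℤ × ℤ) ⧸ Λ)) (Multiplicative ℤ) φ) →* (SemidirectProduct (Multiplicative ((ℤ × ℤ) ⧸ Λ)) (Multiplicative ℤ) φ) ⧸ Subgroup.zpowers w0 := QuotientGroup.mk' _
  let X := π (SemidirectProduct.inl (mk 1 0))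
  let K := π (SemidirectProduct.inl (mk 0 1))
  let Y := π (SemidirectProduct.inr (Multiplicative.ofAdd (1 : ℤ)))
  have hXK : ∀ i j : ℤ, π (SemidirectProduct.inl (mk i j)) = X ^ i * K ^ j := by
    intro i j
    simp only [X, K, ← map_zpow, ← map_mul, mkpow, mkmul, mul_one, mul_zero, add_zero, zero_add]
  have hXm : X ^ (m : ℤ) = K ^ α := by
    simp only [X, K, ← map_zpow, mkpow, mul_one, mul_zero]
    congr 2
    exact (mkeq _ _ _ _).2 ((memΛ _ _).2 ⟨-1, 0, by ring, by ring⟩)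
  have hYX : Y * X * Y⁻¹ = X ^ (r : ℤ) * K ^ β := by
    rw [← hXK]
    simp only [X, Y, ← map_inv, ← map_mul]
    congr 1
    rw [← SemidirectProduct.inl_aut]
    congr 1
    show (Φ ^ (1 : ℤ)) _ = _
    rw [zpow_one, hΦ]
    simp [mk]
  have hYn : Y ^ (n' + 1) = X ^ (t : ℤ) := by
    have h1 : π w0 = 1 := (QuotientGroup.eq_one_iff w0).2 (Subgroup.mem_zpowers w0)
    simp only [w0, map_mul, hXK, zpow_zero, mul_one, zpow_neg] at h1
    rw [inv_mul_eq_one] at h1
    rw [h1, ← map_pow π, ← map_pow SemidirectProduct.inr, ← ofAdd_nsmul, nsmul_eq_mul, mul_one]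
  have hKc : K ∈ Subgroup.center ((SemidirectProduct (Multiplicative ((ℤ × ℤ) ⧸ Λ)) (Multiplicative ℤ) φ) ⧸ Subgroup.zpowers w0) := by
    refine Subgroup.mem_center_iff.2 fun g => ?_
    obtain ⟨e, rfl⟩ := QuotientGroup.mk'_surjective _ g
    simp only [K, π, ← map_mul]
    congr 1
    have hfixK : ∀ e : ℤ, (Φ ^ e) (mk 0 1) = mk 0 1 := fun e => by
      have : Φ ∈ MulAction.stabilizer (MulAut (Multiplicative ((ℤ × ℤ) ⧸ Λ))) (mk 0 1) := by
        show Φ (mk 0 1) = mk 0 1
        rw [hΦ]; simp [mk]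
      exact zpow_mem this e
    refine SemidirectProduct.ext ?_ ?_
    · simp only [SemidirectProduct.mul_left, SemidirectProduct.left_inl,
        SemidirectProduct.right_inl, map_one, MulAut.one_apply]
      rw [show φ e.right = Φ ^ (Multiplicative.toAdd e.right) from rfl, hfixK, mul_comm]
    · simp
  -- intersections with `⟨K⟩`
  have hkey : ∀ i j : ℤ, X ^ i * K ^ j = 1 → (i, j) ∈ Λ := by
    intro i j h
    rw [← hXK] at h
    obtain ⟨u, hu⟩ := Subgroup.mem_zpowers_iff.1 ((QuotientGroup.eq_one_iff _).1 h)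
    have hr0 : u = 0 := by
      have := congrArg (fun g : (SemidirectProduct (Multiplicative ((ℤ × ℤ) ⧸ Λ)) (Multiplicative ℤ) φ) => Multiplicative.toAdd (SemidirectProduct.rightHom g)) hu
      simp only [w0, map_zpow, map_mul, SemidirectProduct.rightHom_inl, SemidirectProduct.rightHom_inr, one_mul,
        toAdd_zpow, toAdd_ofAdd, toAdd_one] at this
      rcases smul_eq_zero.1 this with e | e
      · exact e
      · exact absurd e (by positivity)
    subst hr0
    rw [zpow_zero] at hu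
    have h1 : mk i j = mk 0 0 := SemidirectProduct.inl_injective (hu.symm.trans (map_one _).symm)
    have h2 := neg_mem ((mkeq _ _ _ _).1 h1)
    simpa using h2
  let a : (PresentedGroup (mcRels m (n' + 1) r t)) := PresentedGroup.of true
  let b : (PresentedGroup (mcRels m (n' + 1) r t)) := PresentedGroup.of false
  have hrel : ∀ x ∈ mcRels m (n' + 1) r t, PresentedGroup.mk (mcRels m (n' + 1) r t) x = 1 := fun x hx =>
    PresentedGroup.one_of_mem hx
  have ham : a ^ m = 1 := by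
    have := hrel (FreeGroup.of true ^ m) (by simp [mcRels])
    rw [map_pow] at this
    exact this
  have hbn : b ^ (n' + 1) = a ^ t := by
    have := hrel (FreeGroup.of false ^ (n' + 1) * (FreeGroup.of true ^ t)⁻¹) (by simp [mcRels])
    rw [map_mul, map_inv, map_pow, map_pow, mul_inv_eq_one] at this
    exact this
  have hba : b * a * b⁻¹ = a ^ r := by
    have := hrel (FreeGroup.of false * FreeGroup.of true * (FreeGroup.of false)⁻¹ * (FreeGroup.of true ^ r)⁻¹)
      (by simp [mcRels])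
    rw [map_mul, map_mul, map_mul, map_inv, map_inv, map_pow, mul_inv_eq_one] at this
    exact this
  -- the projection
  let f0 : ℤ × ℤ →+ Additive (PresentedGroup (mcRels m (n' + 1) r t)) := (zmultiplesHom (Additive (PresentedGroup (mcRels m (n' + 1) r t))) (Additive.ofMul a)).comp (AddMonoidHom.fst ℤ ℤ)
  have hf0 : Λ ≤ f0.ker := by
    rintro ⟨i, j⟩ hv
    obtain ⟨w, u, rfl, -⟩ := (memΛ i j).1 hv
    show ((m : ℤ) * w) • Additive.ofMul a = 0
    rw [mul_comm, mul_zsmul, natCast_zsmul, ← ofMul_pow, ham, ofMul_one, smul_zero]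
  let f : Multiplicative ((ℤ × ℤ) ⧸ Λ) →* (PresentedGroup (mcRels m (n' + 1) r t)) := AddMonoidHom.toMultiplicativeLeft (QuotientAddGroup.lift Λ f0 hf0)
  have hf : ∀ i j : ℤ, f (mk i j) = a ^ i := fun i j => rfl
  have hconj1 : ∀ z, f (Φ z) = b * f z * b⁻¹ := by
    intro z
    obtain ⟨⟨i, j⟩, hij⟩ := QuotientAddGroup.mk_surjective (Multiplicative.toAdd z)
    have hz : z = mk i j := by simp [mk, hij]
    rw [hz, hΦ, hf, hf, ← conj_zpow, hba, ← zpow_natCast, ← zpow_mul]
  have hcond : ∀ e : Multiplicative ℤ, f.comp (φ e).toMonoidHom =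
      (MulAut.conj (zpowersHom (PresentedGroup (mcRels m (n' + 1) r t)) b e)).toMonoidHom.comp f := by
    suffices H : ∀ e : ℤ, ∀ z, f ((Φ ^ e) z) = b ^ e * f z * (b ^ e)⁻¹ from fun e => MonoidHom.ext fun z => H _ z
    intro e
    induction e using Int.induction_on with
    | zero => simp
    | succ k ih =>
      intro z
      rw [zpow_add_one, MulAut.mul_apply, ih, hconj1, zpow_add_one]; group
    | pred k ih =>
      intro z
      have := ih ((Φ ^ (-1 : ℤ)) z)
      rw [← MulAut.mul_apply, ← zpow_add, ← sub_eq_add_neg] at this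
      have h2 : f ((Φ ^ (-1 : ℤ)) z) = b⁻¹ * f z * b := by
        have := hconj1 ((Φ ^ (-1 : ℤ)) z)
        rw [zpow_neg_one, MulAut.inv_def, MulEquiv.apply_symm_apply] at this
        rw [zpow_neg_one, MulAut.inv_def, this]; group
      rw [this, h2]; group
  let σE : (SemidirectProduct (Multiplicative ((ℤ × ℤ) ⧸ Λ)) (Multiplicative ℤ) φ) →* (PresentedGroup (mcRels m (n' + 1) r t)) := SemidirectProduct.lift f (zpowersHom (PresentedGroup (mcRels m (n' + 1) r t)) b) hcond
  have hσw : Subgroup.zpowers w0 ≤ σE.ker := by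
    rw [Subgroup.zpowers_le, MonoidHom.mem_ker]
    simp only [w0, σE, map_mul, SemidirectProduct.lift_inl, SemidirectProduct.lift_inr, hf, zpowersHom_apply,
      toAdd_ofAdd, zpow_neg, zpow_natCast, hbn, inv_mul_cancel]
  let σ : (SemidirectProduct (Multiplicative ((ℤ × ℤ) ⧸ Λ)) (Multiplicative ℤ) φ) ⧸ Subgroup.zpowers w0 →* (PresentedGroup (mcRels m (n' + 1) r t)) := QuotientGroup.lift _ σE hσw
  have hσX : σ X = a := by show σE (SemidirectProduct.inl (mk 1 0)) = a; simp [σE, hf]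
  have hσK : σ K = 1 := by show σE (SemidirectProduct.inl (mk 0 1)) = 1; simp [σE, hf]
  have hσY : σ Y = b := by show σE (SemidirectProduct.inr _) = b; simp [σE]
  haveI hKn : (Subgroup.zpowers K).Normal := ⟨fun x hx g => by
    have : x ∈ Subgroup.center _ := (Subgroup.zpowers_le.2 hKc) hx
    rw [Subgroup.mem_center_iff.1 this g, mul_inv_cancel_right]; exact hx⟩
  let ρ := QuotientGroup.mk' (Subgroup.zpowers K)
  have hρK : ρ K = 1 := (QuotientGroup.eq_one_iff K).2 (Subgroup.mem_zpowers K)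
  let F : Bool → ((SemidirectProduct (Multiplicative ((ℤ × ℤ) ⧸ Λ)) (Multiplicative ℤ) φ) ⧸ Subgroup.zpowers w0) ⧸ Subgroup.zpowers K := fun c => bif c then ρ X else ρ Y
  have hF : ∀ x ∈ mcRels m (n' + 1) r t, FreeGroup.lift F x = 1 := by
    intro x hx
    simp only [mcRels, Set.mem_insert_iff, Set.mem_singleton_iff] at hx
    rcases hx with rfl | rfl | rfl
    · simp only [map_pow, FreeGroup.lift_apply_of, F, cond_true]
      rw [← map_pow, ← zpow_natCast, hXm, map_zpow, hρK, one_zpow]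
    · simp only [map_mul, map_inv, map_pow, FreeGroup.lift_apply_of, F, cond_true, cond_false]
      rw [← map_pow, hYn, zpow_natCast, map_pow, mul_inv_cancel]
    · simp only [map_mul, map_inv, map_pow, FreeGroup.lift_apply_of, F, cond_true, cond_false]
      rw [← map_inv, ← map_mul, ← map_mul, hYX, map_mul, map_zpow, map_zpow, hρK, one_zpow, mul_one,
        zpow_natCast, mul_inv_cancel]
  let τ : (PresentedGroup (mcRels m (n' + 1) r t)) →* ((SemidirectProduct (Multiplicative ((ℤ × ℤ) ⧸ Λ)) (Multiplicative ℤ) φ) ⧸ Subgroup.zpowers w0) ⧸ Subgroup.zpowers K := PresentedGroup.toGroup hF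
  have hτa : τ a = ρ X := PresentedGroup.toGroup.of hF
  have hτb : τ b = ρ Y := PresentedGroup.toGroup.of hF
  have horder : orderOf a = m := by
    refine Nat.dvd_antisymm (orderOf_dvd_of_pow_eq_one ham) ?_
    have h1 : ρ (X ^ orderOf a) = 1 := by rw [map_pow, ← hτa, ← map_pow, pow_orderOf_eq_one, map_one]
    obtain ⟨j, hj⟩ := Subgroup.mem_zpowers_iff.1 ((QuotientGroup.eq_one_iff _).1 h1)
    have h2 := hkey (orderOf a) (-j) (by rw [zpow_natCast, ← hj, ← zpow_add, add_neg_cancel, zpow_zero])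
    obtain ⟨w, u, h3, -⟩ := (memΛ _ _).1 h2
    exact Int.natCast_dvd_natCast.1 ⟨w, h3⟩
  have hτσ : τ.comp σ = ρ := by
    refine QuotientGroup.monoidHom_ext _ (SemidirectProduct.hom_ext (MonoidHom.ext fun z => ?_) ?_)
    · obtain ⟨⟨i, j⟩, hij⟩ := QuotientAddGroup.mk_surjective (Multiplicative.toAdd z)
      have hz : z = mk i j := by simp [mk, hij]
      subst hz
      show τ (σ (π (SemidirectProduct.inl (mk i j)))) = ρ (π (SemidirectProduct.inl (mk i j)))
      rw [hXK, map_mul, map_zpow, map_zpow, hσX, hσK, one_zpow, mul_one, map_zpow, hτa, map_mul, map_zpow,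
        map_zpow, hρK, one_zpow, mul_one]
    · refine MonoidHom.ext_mint ?_
      show τ (σ Y) = ρ Y
      rw [hσY, hτb]
  have hker : σ.ker = Subgroup.zpowers K := by
    refine le_antisymm (fun g hg => ?_) (Subgroup.zpowers_le.2 hσK)
    rw [← QuotientGroup.ker_mk' (Subgroup.zpowers K), MonoidHom.mem_ker]
    have := DFunLike.congr_fun hτσ g
    rw [MonoidHom.comp_apply, MonoidHom.mem_ker.1 hg, map_one] at this
    exact this.symm
  have hsurj : Function.Surjective σ := by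
    rw [← MonoidHom.range_eq_top, eq_top_iff, ← PresentedGroup.closure_range_of (mcRels m (n' + 1) r t),
      Subgroup.closure_le]
    rintro x ⟨c, rfl⟩
    cases c
    · exact ⟨Y, hσY⟩
    · exact ⟨X, hσX⟩
  have hKord : orderOf K = q := by
    refine Nat.dvd_antisymm (orderOf_dvd_of_pow_eq_one ?_) ?_
    · rw [← zpow_natCast]
      simp only [K, ← map_zpow, mkpow, mul_zero, mul_one]
      rw [show mk 0 (q : ℤ) = mk 0 0 from (mkeq _ _ _ _).2 ((memΛ _ _).2 ⟨0, -1, by ring, by ring⟩)]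
      exact map_one (π.comp SemidirectProduct.inl)
    · obtain ⟨w, u, h1, h2⟩ := (memΛ _ _).1 (hkey 0 (orderOf K) (by rw [zpow_zero, one_mul, zpow_natCast, pow_orderOf_eq_one]))
      have hw : w = 0 := by
        rcases mul_eq_zero.1 h1.symm with e | e
        · omega
        · exact e
      rw [hw, mul_zero, sub_zero] at h2
      exact Int.natCast_dvd_natCast.1 ⟨u, h2⟩
  have hfin : Finite ((SemidirectProduct (Multiplicative ((ℤ × ℤ) ⧸ Λ)) (Multiplicative ℤ) φ) ⧸ Subgroup.zpowers w0) := by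
    refine Finite.of_surjective (fun v : Fin m × Fin q × Fin (n' + 1) =>
      X ^ (v.1 : ℕ) * K ^ (v.2.1 : ℕ) * Y ^ (v.2.2 : ℕ)) fun g => ?_
    obtain ⟨e, rfl⟩ := QuotientGroup.mk'_surjective _ g
    obtain ⟨⟨i, j⟩, hij⟩ := QuotientAddGroup.mk_surjective (Multiplicative.toAdd e.left)
    have he : π e = X ^ i * K ^ j * Y ^ (Multiplicative.toAdd e.right) := by
      conv_lhs => rw [← SemidirectProduct.inl_left_mul_inr_right e]
      rw [map_mul, show e.left = mk i j by simp [mk, hij], hXK]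
      simp only [Y, ← map_zpow, ← ofAdd_zsmul, smul_eq_mul, mul_one, ofAdd_toAdd]
    have hYX' : Commute (Y ^ (n' + 1)) Y := (Commute.refl Y).pow_left _
    rw [hYn] at hYX'
    set u := Multiplicative.toAdd e.right with hu
    have hsplit : Y ^ u = X ^ ((t : ℤ) * (u / (n' + 1 : ℕ))) * Y ^ (u % (n' + 1 : ℕ)) := by
      conv_lhs => rw [← Int.mul_ediv_add_emod u (n' + 1 : ℕ), zpow_add, zpow_mul, zpow_natCast, hYn, ← zpow_mul]
    have hcX : ∀ x y : ℤ, Commute (K ^ x) (X ^ y) := fun x y =>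
      ((show Commute K X from (Subgroup.mem_center_iff.1 hKc X).symm).zpow_zpow x y)
    set i2 := i + (t : ℤ) * (u / (n' + 1 : ℕ)) with hi2
    have hv := Int.emod_nonneg u (b := ((n' + 1 : ℕ) : ℤ)) (by omega)
    have hv' := Int.emod_lt_of_pos u (b := ((n' + 1 : ℕ) : ℤ)) (by omega)
    have hi := Int.emod_nonneg i2 (b := (m : ℤ)) (by omega)
    have hi' := Int.emod_lt_of_pos i2 (b := (m : ℤ)) (by omega)
    set j2 := α * (i2 / m) + j with hj2
    have hj := Int.emod_nonneg j2 (b := (q : ℤ)) (by omega)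
    have hj' := Int.emod_lt_of_pos j2 (b := (q : ℤ)) (by omega)
    refine ⟨(⟨(i2 % m).toNat, by omega⟩, ⟨(j2 % q).toNat, by omega⟩, ⟨(u % (n' + 1 : ℕ)).toNat, by omega⟩), ?_⟩
    simp only
    rw [← zpow_natCast X, ← zpow_natCast K, ← zpow_natCast Y, Int.toNat_of_nonneg hi, Int.toNat_of_nonneg hj,
      Int.toNat_of_nonneg hv]
    show _ = π e
    rw [he, hsplit, ← mul_assoc, mul_assoc (X ^ i) (K ^ j), (hcX j _).eq, ← mul_assoc, ← zpow_add, ← hi2]
    congr 1
    have hKq : K ^ (q : ℤ) = 1 := by rw [zpow_natCast, ← hKord, pow_orderOf_eq_one]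
    conv_rhs => rw [← Int.emod_add_mul_ediv i2 m, zpow_add, zpow_mul, hXm, ← zpow_mul, mul_assoc, ← zpow_add,
      ← hj2, ← Int.emod_add_mul_ediv j2 q, zpow_add, zpow_mul, hKq, one_zpow, mul_one]
  refine ⟨horder, (SemidirectProduct (Multiplicative ((ℤ × ℤ) ⧸ Λ)) (Multiplicative ℤ) φ) ⧸ Subgroup.zpowers w0, inferInstance, hfin, σ, ⟨hsurj, ?_, ?_⟩, ?_⟩
  · rw [hker, Subgroup.zpowers_le]; exact hKc
  · rw [hker, Subgroup.zpowers_le]
    obtain ⟨j, w, h1, h2⟩ := hcomm
    have hc : ⁅Y, X⁆ = X ^ ((r : ℤ) - 1) * K ^ β := by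
      rw [commutatorElement_def, hYX, mul_assoc, ((show Commute K X from (Subgroup.mem_center_iff.1 hKc X).symm).zpow_left β).inv_right.eq,
        ← mul_assoc, zpow_sub_one]
    have hK : K = ⁅Y, X⁆ ^ j := by
      rw [hc, (((show Commute X K from Subgroup.mem_center_iff.1 hKc X).zpow_zpow _ _).mul_zpow j), ← zpow_mul,
        ← zpow_mul, mul_comm _ j, h1, zpow_mul, hXm, ← zpow_mul, ← zpow_add, mul_comm β j, mul_comm j β, h2, zpow_one]
    rw [hK]
    exact zpow_mem (Subgroup.commutator_mem_commutator (Subgroup.mem_top _) (Subgroup.mem_top _)) j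
  · rw [hker, Nat.card_zpowers, hKord]

end CfsgLib.StructB
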