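import Mathlib
import Cfsg.Agent.Lib.StructB.Ambivalent
import Cfsg.Agent.Lib.StructC.UniqueInvol
import Cfsg.Agent.Lib.Solvable.HallHigman
import Cfsg.Agent.Lib.Solvable.PCore
import Cfsg.Agent.Lib.FT.OddOrder

/-!
# Groups with an abelian Sylow 2-subgroup and a subgroup of odd order and 2-power index

Such a group is solvable.  In a simple counterexample the normalizer of the Sylow 2-subgroup
contains every centralizer of an involution, no element of odd order of it is real, and so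
every coset of it contains at most one involution outside it; counting conjugates of two
involutions of it gives a contradiction.
-/

set_option autoImplicit false
set_option linter.unusedSectionVars false

namespace CfsgLib.StructB.OddTwoComplement

open Subgroup

universe u

variable {G : Type u} [Group G] [Finite G]

theorem card_subgroupOf (A B : Subgroup G) : Nat.card (A.subgroupOf B) = Nat.card (A ⊓ B : Subgroup G) := by
  rw [← Subgroup.card_map_of_injective B.subtype_injective, Subgroup.subgroupOf_map_subtype]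

theorem comm_mem {G : Type*} [Group G] {K : Subgroup G} (hK : IsMulCommutative K) {a b : G}
    (ha : a ∈ K) (hb : b ∈ K) : a * b = b * a :=
  congrArg Subtype.val (hK.is_comm.comm (⟨a, ha⟩ : K) ⟨b, hb⟩)

theorem comm_of_isPGroup (S : Sylow 2 G) (hS : IsMulCommutative (S : Subgroup G)) {P : Subgroup G}
    (hP : IsPGroup 2 P) : IsMulCommutative P := by
  obtain ⟨T, hT⟩ := hP.exists_le_sylow
  obtain ⟨g, rfl⟩ := MulAction.exists_smul_eq G S T
  refine ⟨⟨fun a b => ?_⟩⟩
  obtain ⟨x, hx, ha⟩ := hT a.2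
  obtain ⟨y, hy, hb⟩ := hT b.2
  have hxy : x * y = y * x := congrArg Subtype.val (mul_comm' (⟨x, hx⟩ : (S : Subgroup G)) ⟨y, hy⟩)
  refine Subtype.ext ?_
  show (a : G) * b = b * a
  rw [← ha, ← hb]
  exact (map_mul _ x y).symm.trans ((congrArg _ hxy).trans (map_mul _ y x))

theorem card_sylow_eq (S : Sylow 2 G) (M : Subgroup G) {k : ℕ} (hM : Odd (Nat.card M))
    (hk : M.index = 2 ^ k) : Nat.card (S : Subgroup G) = 2 ^ k := by
  obtain ⟨n, hn⟩ := S.2.exists_card_eq
  have hc : Nat.Coprime 2 (Nat.card M) := Nat.coprime_two_left.2 hM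
  have hi : Nat.Coprime 2 (S : Subgroup G).index :=
    Nat.prime_two.coprime_iff_not_dvd.2 S.not_dvd_index
  refine Nat.dvd_antisymm ?_ ?_
  · rw [hn]
    have h1 : 2 ^ n ∣ Nat.card M * 2 ^ k := by
      rw [← hn, ← hk, M.card_mul_index]; exact card_subgroup_dvd_card _
    exact (hc.pow_left n).dvd_of_dvd_mul_left h1
  · have h1 : 2 ^ k ∣ Nat.card (S : Subgroup G) * (S : Subgroup G).index := by
      rw [(S : Subgroup G).card_mul_index, ← hk]; exact M.index_dvd_card
    exact (hi.pow_left k).dvd_of_dvd_mul_right h1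

theorem isComplement (S : Sylow 2 G) (M : Subgroup G) {k : ℕ} (hM : Odd (Nat.card M))
    (hk : M.index = 2 ^ k) : M.IsComplement' (S : Subgroup G) := by
  refine Subgroup.isComplement'_of_coprime ?_ ?_
  · rw [card_sylow_eq S M hM hk, ← hk, M.card_mul_index]
  · rw [card_sylow_eq S M hM hk]
    exact ((Nat.coprime_two_left.2 hM).pow_left k).symm

/-- The part inside a subgroup containing the Sylow 2-subgroup. -/
theorem index_subgroupOf (S : Sylow 2 G) (M H : Subgroup G) {k : ℕ} (hM : Odd (Nat.card M))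
    (hk : M.index = 2 ^ k) (hSH : (S : Subgroup G) ≤ H) : (M.subgroupOf H).index = 2 ^ k := by
  have hle : M.relIndex H ≤ 2 ^ k := by
    rw [← hk, ← Subgroup.relIndex_top_right M]
    exact Subgroup.relIndex_le_of_le_right le_top (by
      rw [Subgroup.relIndex_top_right]; exact M.index_ne_zero_of_finite)
  have h1 : 2 ^ k ∣ Nat.card (M.subgroupOf H) * (M.subgroupOf H).index := by
    rw [Subgroup.card_mul_index, ← card_sylow_eq S M hM hk]
    exact card_dvd_of_le hSH
  have hc : Nat.Coprime 2 (Nat.card (M.subgroupOf H)) := by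
    rw [card_subgroupOf]
    exact (Nat.coprime_two_left.2 hM).coprime_dvd_right (card_dvd_of_le inf_le_left)
  exact le_antisymm hle (Nat.le_of_dvd (Nat.pos_of_ne_zero (M.subgroupOf H).index_ne_zero_of_finite)
    ((hc.pow_left k).dvd_of_dvd_mul_left h1))

theorem odd_card_subgroupOf (M H : Subgroup G) (hM : Odd (Nat.card M)) :
    Odd (Nat.card (M.subgroupOf H)) := by
  rw [card_subgroupOf]
  exact hM.of_dvd_nat (card_dvd_of_le inf_le_left)

theorem relIndex_dvd_index_normal (M N : Subgroup G) [N.Normal] : M.relIndex N ∣ M.index := by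
  have e1 : N.relIndex (M ⊔ N) = N.relIndex M := Subgroup.relIndex_sup_right M N
  have a1 := Subgroup.relIndex_mul_relIndex (⊥ : Subgroup G) N (M ⊔ N) bot_le le_sup_right
  have a2 := Subgroup.relIndex_mul_relIndex (⊥ : Subgroup G) M (M ⊔ N) bot_le le_sup_left
  have a3 := Subgroup.relIndex_mul_relIndex (⊥ : Subgroup G) (M ⊓ N) N bot_le inf_le_right
  have a4 := Subgroup.relIndex_mul_relIndex (⊥ : Subgroup G) (M ⊓ N) M bot_le inf_le_left
  rw [Subgroup.inf_relIndex_right] at a3
  rw [inf_comm, Subgroup.inf_relIndex_right, inf_comm] at a4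
  simp only [Subgroup.relIndex_bot_left] at a1 a2 a3 a4
  rw [← a3, e1] at a1
  rw [← a4, ← a1] at a2
  have hpos : 0 < Nat.card (M ⊓ N : Subgroup G) * N.relIndex M :=
    Nat.mul_pos Nat.card_pos (Nat.pos_of_ne_zero fun h => by
      rw [h, mul_zero] at a4; exact Nat.card_pos.ne a4)
  have heq : M.relIndex (M ⊔ N) = M.relIndex N := by
    apply Nat.eq_of_mul_eq_mul_left hpos
    rw [a2]; ring
  rw [← heq, ← Subgroup.relIndex_mul_index (le_sup_left : M ≤ M ⊔ N)]
  exact dvd_mul_right _ _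

/-- A solvable group with abelian Sylow 2-subgroups and no normal subgroup of odd order has
normal Sylow 2-subgroup. -/
theorem sylow_normal_of_oddCore_trivial [Group.IsSolvable G] (S : Sylow 2 G)
    (hS : IsMulCommutative (S : Subgroup G))
    (hO : ∀ X : Subgroup G, X.Normal → Odd (Nat.card X) → X = ⊥) : (S : Subgroup G).Normal := by
  have hFS : Cfsg.fittingSubgroup G ≤ (S : Subgroup G) := by
    rw [CfsgLib.Solvable.fittingSubgroup_eq_iSup_pCore]
    refine iSup_le fun q => ?_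
    by_cases hq : (q : ℕ) = 2
    · rw [hq]; exact CfsgLib.Solvable.pCore_le_sylow S
    · have := Fact.mk q.2
      obtain ⟨n, hn⟩ := IsPGroup.iff_card.1 (CfsgLib.Solvable.pCore_isPGroup (G := G) q)
      rw [hO _ (CfsgLib.Solvable.pCore_normal q G)
        (hn ▸ (q.2.odd_of_ne_two hq).pow)]
      exact bot_le
  have hSF : (S : Subgroup G) ≤ Cfsg.fittingSubgroup G := by
    refine le_trans ?_ CfsgLib.Solvable.centralizer_fittingSubgroup_le
    intro s hs
    rw [Subgroup.mem_centralizer_iff]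
    intro f hf
    exact congrArg Subtype.val (mul_comm' (⟨f, hFS hf⟩ : (S : Subgroup G)) ⟨s, hs⟩)
  rw [le_antisymm hSF hFS]
  exact CfsgLib.Solvable.fittingSubgroup_normal G

/-- An element of odd order normalizing the abelian Sylow 2-subgroup is conjugate into `M` by
an element of the Sylow 2-subgroup. -/
theorem exists_conj_mem (S : Sylow 2 G) (hS : IsMulCommutative (S : Subgroup G)) (M : Subgroup G)
    (hc : M.IsComplement' (S : Subgroup G)) {h : G}
    (hn : h ∈ normalizer ((S : Subgroup G) : Set G)) (hodd : Odd (orderOf h)) :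
    ∃ c ∈ (S : Subgroup G), c⁻¹ * h * c ∈ M := by
  classical
  open scoped IsMulCommutative in
  obtain ⟨⟨⟨s, hs⟩, ⟨k, hk⟩⟩, hsk⟩ := (hc.symm).2 h
  change s * k = h at hsk
  set T := (S : Subgroup G)
  have hs' : h * k⁻¹ = s := by rw [← hsk, mul_inv_cancel_right]
  have hconj : ∀ a ∈ T, h * a * h⁻¹ ∈ T := fun a ha => (Subgroup.mem_normalizer_iff.1 hn a).1 ha
  have hmem : ∀ i : ℕ, h ^ i * (k ^ i)⁻¹ ∈ T := by
    intro i
    induction i with
    | zero => simp
    | succ i ih =>
      have h2 := T.mul_mem (hconj _ ih) (hs'.symm ▸ hs : h * k⁻¹ ∈ T)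
      convert h2 using 1
      rw [pow_succ' h, pow_succ k]
      group
  set n := orderOf h with hn'
  have hkn : k ^ n = 1 := by
    have h1 := hmem n
    rw [hn', pow_orderOf_eq_one, one_mul, inv_mem_iff, ← hn'] at h1
    have h2 : k ^ n ∈ M ⊓ T := ⟨M.pow_mem hk n, h1⟩
    rwa [hc.disjoint.eq_bot, Subgroup.mem_bot] at h2
  let a : ℕ → T := fun i => ⟨h ^ i * (k ^ i)⁻¹, hmem i⟩
  let ψ : T →* T :=
    { toFun := fun x => ⟨h * x * h⁻¹, hconj x x.2⟩
      map_one' := Subtype.ext (by simp)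
      map_mul' := fun x y => Subtype.ext (by simp [mul_assoc]) }
  let σ : T := ⟨s, hs⟩
  have hstep : ∀ i, ψ (a i) * σ = a (i + 1) := fun i => Subtype.ext (by
    show h * (h ^ i * (k ^ i)⁻¹) * h⁻¹ * s = h ^ (i + 1) * (k ^ (i + 1))⁻¹
    rw [← hs', pow_succ' h, pow_succ k]
    group)
  set b : T := ∏ i ∈ Finset.range n, a i with hb
  have hψb : ψ b * σ ^ n = b := by
    have h1 : ψ b * σ ^ n = ∏ i ∈ Finset.range n, a (i + 1) := by
      rw [hb, map_prod, ← Finset.card_range n, ← Finset.prod_const, Finset.card_range,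
        ← Finset.prod_mul_distrib]
      exact Finset.prod_congr rfl fun i _ => hstep i
    have h2 : (∏ i ∈ Finset.range n, a (i + 1)) * a 0 = (∏ i ∈ Finset.range n, a i) * a n := by
      rw [← Finset.prod_range_succ', Finset.prod_range_succ]
    have h0 : a 0 = 1 := Subtype.ext (by simp [a])
    have hn0 : a n = 1 := Subtype.ext (show h ^ n * (k ^ n)⁻¹ = 1 by
      rw [hkn, hn', pow_orderOf_eq_one, inv_one, mul_one])
    rw [h0, hn0, mul_one, mul_one] at h2
    rw [h1, h2]
  obtain ⟨e, he⟩ := S.2.exists_card_eq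
  have hcop : (Nat.card T).Coprime n := by
    rw [he]; exact (Nat.coprime_two_left.2 hodd).pow_left e
  obtain ⟨c, hc'⟩ := (powCoprime hcop).surjective b
  have hψc : ψ c * σ = c := (powCoprime hcop).injective (by
    show (ψ c * σ) ^ n = c ^ n
    rw [show c ^ n = b from hc', mul_pow, ← map_pow, show c ^ n = b from hc', hψb])
  refine ⟨c, c.2, ?_⟩
  have h3 : h * (c : G) * h⁻¹ * s = c := congrArg Subtype.val hψc
  have h4 : (c : G)⁻¹ * h * c = k := by
    calc (c : G)⁻¹ * h * c = (c : G)⁻¹ * (h * c * h⁻¹ * s) * (s⁻¹ * h) := by group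
      _ = k := by rw [h3, inv_mul_cancel, one_mul, ← hsk, inv_mul_cancel_left]
  rw [h4]; exact hk

theorem conj_eq_inv_odd {w k : G} (hw : Odd (orderOf w)) (hk : Odd (orderOf k))
    (h : w * k * w⁻¹ = k⁻¹) : k = 1 := by
  have h1 := CfsgLib.StructB.conj_odd_pow_eq_inv h hw
  rw [pow_orderOf_eq_one, one_mul, inv_one, mul_one] at h1
  have h2 : k ^ 2 = 1 := by rw [pow_two]; exact eq_inv_iff_mul_eq_one.1 h1
  exact orderOf_eq_one_iff.1 (Nat.eq_one_of_dvd_coprimes (Nat.coprime_two_left.2 hk)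
    (orderOf_dvd_of_pow_eq_one h2) dvd_rfl)

/-- The simple case. -/
theorem simple_case (S : Sylow 2 G) (hS : IsMulCommutative (S : Subgroup G)) (M : Subgroup G)
    {k : ℕ} (hM : Odd (Nat.card M)) (hk : M.index = 2 ^ k)
    (hsimple : ∀ N : Subgroup G, N.Normal → N = ⊥ ∨ N = ⊤)
    (hlt : ∀ H : Subgroup G, H ≠ ⊤ → (S : Subgroup G) ≤ H → Group.IsSolvable H) :
    Group.IsSolvable G := by
  classical
  set T := (S : Subgroup G) with hT
  by_contra hns
  have hSbot : T ≠ ⊥ := fun h => hns (CfsgLib.FT.odd_order_solvable (by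
    have h1 := card_sylow_eq S M hM hk
    rw [← hT, h, Subgroup.card_bot] at h1
    rw [← M.card_mul_index, hk, ← h1, mul_one]
    exact hM))
  have hnorm : normalizer (T : Set G) ≠ ⊤ := fun h => hns (by
    have hN := normalizer_eq_top_iff.1 h
    rcases hsimple T hN with h1 | h1
    · exact absurd h1 hSbot
    · exact Group.isSolvable_of_comm fun a b => congrArg Subtype.val
        (mul_comm' (⟨a, h1 ▸ mem_top a⟩ : T) ⟨b, h1 ▸ mem_top b⟩))
  have hcen : center G = ⊥ := (hsimple _ inferInstance).resolve_right fun h => hns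
    (Group.isSolvable_of_comm fun a b => (Subgroup.mem_center_iff.1 (h ▸ mem_top b) a))
  have hMS := isComplement S M hM hk
  -- no nontrivial subgroup of `M` is normalized by the Sylow 2-subgroup
  have hX : ∀ X : Subgroup G, X ≤ M → (∀ s ∈ T, ∀ x ∈ X, s * x * s⁻¹ ∈ X) → X = ⊥ := by
    intro X hXM hnormX
    have hle : normalClosure (X : Set G) ≤ M := by
      rw [normalClosure, closure_le]
      intro y hy
      obtain ⟨x, hx, hconj⟩ := Group.mem_conjugatesOfSet_iff.1 hy
      obtain ⟨g, rfl⟩ := isConj_iff.1 hconj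
      obtain ⟨⟨⟨m, hm⟩, ⟨s, hs⟩⟩, rfl⟩ := hMS.2 g
      show m * s * x * (m * s)⁻¹ ∈ M
      rw [show m * s * x * (m * s)⁻¹ = m * (s * x * s⁻¹) * m⁻¹ by group]
      exact M.mul_mem (M.mul_mem hm (hXM (hnormX s hs x hx))) (M.inv_mem hm)
    rcases hsimple _ normalClosure_normal with h | h
    · exact eq_bot_iff.2 ((le_normalClosure).trans h.le)
    · rw [h, top_le_iff] at hle
      exact absurd (CfsgLib.FT.odd_order_solvable (by rw [← Subgroup.card_top, ← hle]; exact hM)) hns
  -- every proper subgroup containing the Sylow 2-subgroup normalizes it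
  have hkey : ∀ H : Subgroup G, H ≠ ⊤ → T ≤ H → H ≤ normalizer (T : Set G) := by
    intro H hH hTH
    have := hlt H hH hTH
    let P : Sylow 2 H := S.subtype hTH
    have hPc : IsMulCommutative (P : Subgroup H) :=
      ⟨⟨fun a b => Subtype.ext (Subtype.ext (comm_mem hS a.2 b.2))⟩⟩
    have hP : (P : Subgroup H).Normal := by
      refine sylow_normal_of_oddCore_trivial P hPc fun X hXn hXodd => ?_
      set K := M.subgroupOf H with hK
      have hKodd := odd_card_subgroupOf M H hM
      have hKi : K.index = 2 ^ k := index_subgroupOf S M H hM hk hTH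
      have e1 := Subgroup.relIndex_mul_relIndex (⊥ : Subgroup H) X (K ⊔ X) bot_le le_sup_right
      rw [Subgroup.relIndex_bot_left, Subgroup.relIndex_bot_left, Subgroup.relIndex_sup_right] at e1
      have hd : Nat.card (K ⊔ X : Subgroup H) ∣ Nat.card X * Nat.card K := by
        rw [← e1]; exact mul_dvd_mul_left _ (Subgroup.relIndex_dvd_card ..)
      have hodd : Odd (Nat.card (K ⊔ X : Subgroup H)) := (hXodd.mul hKodd).of_dvd_nat hd
      have hd2 : Nat.card (K ⊔ X : Subgroup H) ∣ Nat.card K := by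
        have h1 : Nat.card (K ⊔ X : Subgroup H) ∣ Nat.card K * 2 ^ k := by
          rw [← hKi, K.card_mul_index]; exact card_subgroup_dvd_card _
        exact ((Nat.coprime_two_left.2 hodd).pow_left k).symm.dvd_of_dvd_mul_right h1
      have hXK : X ≤ K := by
        rw [Subgroup.eq_of_le_of_card_ge (le_sup_left : K ≤ K ⊔ X) (Nat.le_of_dvd Nat.card_pos hd2)]
        exact le_sup_right
      refine (Subgroup.map_eq_bot_iff_of_injective _ H.subtype_injective).1 (hX _ ?_ ?_)
      · rintro _ ⟨x, hx, rfl⟩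
        exact Subgroup.mem_subgroupOf.1 (hXK hx)
      · rintro s hs _ ⟨x, hx, rfl⟩
        exact ⟨⟨s, hTH hs⟩ * x * ⟨s, hTH hs⟩⁻¹, hXn.conj_mem x hx _, rfl⟩
    intro g hg
    rw [Subgroup.mem_normalizer_iff]
    intro y
    have hconj : ∀ g' : H, ∀ z ∈ T, (g' : G) * z * (g' : G)⁻¹ ∈ T := fun g' z hz =>
      hP.conj_mem ⟨z, hTH hz⟩ hz g'
    refine ⟨fun hy => hconj ⟨g, hg⟩ y hy, fun hy => ?_⟩
    have h := hconj ⟨g⁻¹, H.inv_mem hg⟩ _ hy
    simpa [mul_assoc] using h
  set H := normalizer (T : Set G) with hH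
  have hcent : ∀ t ∈ T, t ≠ 1 → centralizer ({t} : Set G) ≤ H := by
    intro t ht ht1
    refine hkey _ (fun h => ht1 ?_) fun s hs => ?_
    · rw [← Subgroup.mem_bot, ← hcen, Subgroup.mem_center_iff]
      intro g
      exact Subgroup.mem_centralizer_singleton_iff.1 (h ▸ mem_top g)
    · rw [Subgroup.mem_centralizer_singleton_iff]
      exact congrArg Subtype.val (mul_comm' (⟨s, hs⟩ : T) ⟨t, ht⟩)
  -- two involutions
  obtain ⟨t₁, t₂, ht₁, ht₂, ho₁, ho₂, hne⟩ : ∃ t₁ t₂, t₁ ∈ T ∧ t₂ ∈ T ∧ orderOf t₁ = 2 ∧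
      orderOf t₂ = 2 ∧ t₁ ≠ t₂ := by
    by_contra hcon
    push Not at hcon
    have hcyc : IsCyclic T := by
      refine (Subgroup.topEquiv (G := T)).isCyclic.1
        (CfsgLib.StructC.isCyclic_of_comm_of_unique (p := 2) S.2 (fun a b ha hb _ => ?_) ⊤
          ⟨⟨fun a b => Subtype.ext (mul_comm' (a : T) b)⟩⟩)
      have : a = b := Subtype.ext (hcon a b a.2 b.2 (by rw [Subgroup.orderOf_coe, ha])
        (by rw [Subgroup.orderOf_coe, hb]))
      rw [this]
      exact Subgroup.mem_zpowers b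
    have heven : 2 ∣ Nat.card G := by
      by_contra h
      exact hns (CfsgLib.FT.odd_order_solvable (Nat.odd_iff.2 (Nat.two_dvd_ne_zero.1 h)))
    have hmin : (Nat.card G).minFac = 2 := (Nat.minFac_eq_two_iff _).2 heven
    obtain ⟨K, hKn, hcomp⟩ : ∃ K : Subgroup G, K.Normal ∧ K.IsComplement' T :=
      ⟨_, inferInstance, IsCyclic.isComplement' hmin (P := S) hcyc⟩
    rcases hsimple K hKn with h | h
    · rw [h, Subgroup.isComplement'_bot_left] at hcomp
      exact hnorm (by rw [hH, hcomp, normalizer_eq_top_iff]; infer_instance)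
    · rw [h, Subgroup.isComplement'_top_left] at hcomp
      exact hSbot hcomp
  -- no element of odd order of `H` is real
  have hreal : ∀ h ∈ H, ∀ u : G, Odd (orderOf h) → u * h * u⁻¹ = h⁻¹ → h = 1 := by
    intro h hh u hodd hu
    obtain ⟨c, hcT, hcM⟩ := exists_conj_mem S hS M hMS hh hodd
    set k₀ := c⁻¹ * h * c with hk₀
    obtain ⟨⟨⟨m, hm⟩, ⟨s, hs⟩⟩, hg⟩ := hMS.2 (c⁻¹ * u * c)
    change m * s = c⁻¹ * u * c at hg
    have hinv : (m * s) * k₀ * (m * s)⁻¹ = k₀⁻¹ := by
      rw [hg, hk₀]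
      calc c⁻¹ * u * c * (c⁻¹ * h * c) * (c⁻¹ * u * c)⁻¹ = c⁻¹ * (u * h * u⁻¹) * c := by group
        _ = _ := by rw [hu]; group
    have hk₀H : k₀ ∈ H := H.mul_mem (H.mul_mem (H.inv_mem (le_normalizer hcT)) hh) (le_normalizer hcT)
    have hsM : s * k₀ * s⁻¹ ∈ M := by
      have h1 := M.mul_mem (M.mul_mem (M.inv_mem hm) (M.inv_mem hcM)) hm
      rwa [← hinv, show m⁻¹ * (m * s * k₀ * (m * s)⁻¹) * m = s * k₀ * s⁻¹ by group] at h1
    have hcomm : s * k₀ * s⁻¹ * k₀⁻¹ ∈ M ⊓ T := by
      refine ⟨M.mul_mem hsM (M.inv_mem hcM), ?_⟩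
      rw [show s * k₀ * s⁻¹ * k₀⁻¹ = s * (k₀ * s⁻¹ * k₀⁻¹) by group]
      exact T.mul_mem hs ((Subgroup.mem_normalizer_iff.1 hk₀H _).1 (T.inv_mem hs))
    rw [hMS.disjoint.eq_bot, Subgroup.mem_bot, mul_inv_eq_one] at hcomm
    have hm' : m * k₀ * m⁻¹ = k₀⁻¹ := by
      rw [← hinv]
      conv_lhs => rw [← hcomm]
      group
    have hko : Odd (orderOf k₀) := hM.of_dvd_nat (M.orderOf_dvd_natCard hcM)
    have hk1 := conj_eq_inv_odd (hM.of_dvd_nat (M.orderOf_dvd_natCard hm)) hko hm'
    rw [hk₀] at hk1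
    exact conj_eq_one_iff.1 (show c⁻¹ * h * (c⁻¹)⁻¹ = 1 by rw [inv_inv]; exact hk1)
  -- involutions of `H` lie in `T`
  have hinvT : ∀ w ∈ H, w * w = 1 → w ∈ T := fun w hw h1 =>
    CfsgLib.StructB.mem_sylow_of_mem_normalizer S (k := 1) (by rw [pow_one, pow_two, h1]) hw
  -- a coset of `H` has at most one involution outside `H`
  have hinj : ∀ w w' : G, w * w = 1 → w' * w' = 1 → w ∉ H → (w : G ⧸ H) = w' → w = w' := by
    intro w w' hw hw' hwH hq
    have hwi : w⁻¹ = w := inv_eq_of_mul_eq_one_right hw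
    have hw'i : w'⁻¹ = w' := inv_eq_of_mul_eq_one_right hw'
    have hhH : w * w' ∈ H := by rw [QuotientGroup.eq, hwi] at hq; exact hq
    have hinv : w * (w * w') * w⁻¹ = (w * w')⁻¹ := by
      rw [mul_inv_rev, hwi, hw'i, ← mul_assoc w w w', hw, one_mul]
    have hodd : Odd (orderOf (w * w')) := by
      rw [← Nat.not_even_iff_odd]
      intro he
      obtain ⟨j, hj⟩ := he
      have hj0 : j ≠ 0 := fun h => by
        have := orderOf_pos (w * w'); omega
      set t := (w * w') ^ j with ht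
      have ht1 : t ≠ 1 := pow_ne_one_of_lt_orderOf hj0 (by omega)
      have ht2 : t * t = 1 := by rw [ht, ← pow_add, ← hj, pow_orderOf_eq_one]
      have htT : t ∈ T := hinvT t (H.pow_mem hhH j) ht2
      refine hwH (hcent t htT ht1 ?_)
      rw [Subgroup.mem_centralizer_singleton_iff, ← mul_inv_eq_iff_eq_mul, ht, conj_pow.symm, hinv,
        inv_pow]
      exact inv_eq_of_mul_eq_one_right ht2
    have h1 := hreal _ hhH w hodd hinv
    rw [← inv_eq_of_mul_eq_one_right h1, hwi]
  -- counting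
  have hout : ∀ q : G, ∀ t ∈ T, t ≠ 1 → t * t = 1 → q ∉ H → q * t * q⁻¹ ∉ H := by
    intro q t ht ht1 ht2 hq hmem
    have hw : q * t * q⁻¹ ∈ T := hinvT _ hmem (by
      rw [show q * t * q⁻¹ * (q * t * q⁻¹) = q * (t * t) * q⁻¹ by group, ht2, mul_one,
        mul_inv_cancel])
    apply hq
    have hsub : T.map (MulAut.conj q).toMonoidHom ≤ H := by
      rintro _ ⟨s, hs, rfl⟩
      refine hcent _ hw (by simpa using ht1) ?_
      rw [Subgroup.mem_centralizer_singleton_iff]
      show q * s * q⁻¹ * (q * t * q⁻¹) = q * t * q⁻¹ * (q * s * q⁻¹)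
      have hst : s * t = t * s := congrArg Subtype.val (mul_comm' (⟨s, hs⟩ : T) ⟨t, ht⟩)
      calc q * s * q⁻¹ * (q * t * q⁻¹) = q * (s * t) * q⁻¹ := by group
        _ = _ := by rw [hst]; group
    have hle : T.map (MulAut.conj q).toMonoidHom ≤ T := fun y hy => by
      obtain ⟨e, he⟩ := (S.2.map (MulAut.conj q).toMonoidHom) ⟨y, hy⟩
      exact CfsgLib.StructB.mem_sylow_of_mem_normalizer S (k := e) (congrArg Subtype.val he) (hsub hy)
    have heq := Subgroup.eq_of_le_of_card_ge hle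
      (by rw [Subgroup.card_map_of_injective (MulAut.conj q).injective])
    rw [hH, Subgroup.mem_normalizer_iff]
    intro y
    conv_rhs => rw [← heq]
    exact (Subgroup.mem_map_iff_mem (MulAut.conj q).injective).symm
  let A := {q : G ⧸ H // q ≠ (1 : G)}
  let t : Bool → G := fun b => if b then t₁ else t₂
  have ht : ∀ b, t b ∈ T ∧ t b ≠ 1 ∧ t b * t b = 1 := by
    intro b
    have hinv : ∀ z : G, orderOf z = 2 → z ≠ 1 ∧ z * z = 1 := fun z hz =>
      ⟨fun h => by rw [h, orderOf_one] at hz; omega,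
        by rw [← pow_two, ← hz, pow_orderOf_eq_one]⟩
    cases b
    · exact ⟨ht₂, hinv _ ho₂⟩
    · exact ⟨ht₁, hinv _ ho₁⟩
  have hnotH : ∀ q : A, q.1.out ∉ H := fun q h => q.2 (by
    rw [← q.1.out_eq', QuotientGroup.eq, mul_one]; exact H.inv_mem h)
  let f : A × Bool → A := fun z => ⟨((z.1.1.out * t z.2 * z.1.1.out⁻¹ : G) : G ⧸ H), by
    rw [Ne, QuotientGroup.eq, mul_one, inv_mem_iff]
    exact hout _ _ (ht z.2).1 (ht z.2).2.1 (ht z.2).2.2 (hnotH z.1)⟩
  have hf : Function.Injective f := by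
    rintro ⟨q, b⟩ ⟨q', b'⟩ he
    have he' : ((q.1.out * t b * q.1.out⁻¹ : G) : G ⧸ H) = (q'.1.out * t b' * q'.1.out⁻¹ : G) :=
      congrArg Subtype.val he
    have hsq : ∀ g : G, ∀ b, g * t b * g⁻¹ * (g * t b * g⁻¹) = 1 := fun g b => by
      rw [show g * t b * g⁻¹ * (g * t b * g⁻¹) = g * (t b * t b) * g⁻¹ by group, (ht b).2.2, mul_one,
        mul_inv_cancel]
    have hw := hinj _ _ (hsq _ b) (hsq _ b') (hout _ _ (ht b).1 (ht b).2.1 (ht b).2.2 (hnotH q)) he'
    set d := q'.1.out⁻¹ * q.1.out with hd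
    have hd' : d * t b * d⁻¹ = t b' := by
      calc d * t b * d⁻¹ = q'.1.out⁻¹ * (q.1.out * t b * q.1.out⁻¹) * q'.1.out := by rw [hd]; group
        _ = _ := by rw [hw]; group
    have hdH : d ∈ H := by
      by_contra h
      exact hout d _ (ht b).1 (ht b).2.1 (ht b).2.2 h (hd'.symm ▸ le_normalizer (ht b').1)
    have hq : q = q' := Subtype.ext (by
      rw [← q.1.out_eq', ← q'.1.out_eq']
      exact (QuotientGroup.eq.2 hdH).symm)
    subst hq
    rw [hd, inv_mul_cancel, one_mul, inv_one, mul_one] at hd'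
    refine Prod.ext rfl ?_
    cases b <;> cases b'
    · rfl
    · exact absurd hd'.symm hne
    · exact absurd hd' hne
    · rfl
  have hA : Nonempty A := by
    obtain ⟨g, hg⟩ : ∃ g, g ∉ H := by
      by_contra h; push Not at h; exact hnorm (eq_top_iff.2 fun g _ => h g)
    exact ⟨⟨(g : G ⧸ H), by rw [Ne, QuotientGroup.eq, mul_one, inv_mem_iff]; exact hg⟩⟩
  have hcard := Nat.card_le_card_of_injective f hf
  rw [Nat.card_prod, Nat.card_eq_fintype_card (α := Bool), Fintype.card_bool] at hcard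
  have := Nat.card_pos (α := A)
  omega

/-- A finite group with an abelian Sylow 2-subgroup and a subgroup of odd order and 2-power
index is solvable. -/
theorem isSolvable_of_abelian_sylow (n : ℕ) : ∀ (G : Type u) [Group G] [Finite G],
    Nat.card G = n → ∀ (S : Sylow 2 G), IsMulCommutative (S : Subgroup G) → ∀ (M : Subgroup G)
      (k : ℕ), Odd (Nat.card M) → M.index = 2 ^ k → Group.IsSolvable G := by
  induction n using Nat.strong_induction_on with
  | _ n ih =>
  intro G _ _ hn S hS M k hM hk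
  have hsub : ∀ H : Subgroup G, H ≠ ⊤ → Nat.card H < n := fun H hH => by
    refine hn ▸ lt_of_le_of_ne (Nat.le_of_dvd Nat.card_pos (card_subgroup_dvd_card H)) fun h => ?_
    exact hH (Subgroup.eq_top_of_card_eq H h)
  have hcommSub : ∀ (H : Subgroup G) (P : Sylow 2 H), IsMulCommutative (P : Subgroup H) := by
    intro H P
    have h1 := comm_of_isPGroup S hS (P.2.map H.subtype)
    exact ⟨⟨fun a b => Subtype.ext (Subtype.ext
      (comm_mem h1 (mem_map_of_mem H.subtype a.2) (mem_map_of_mem H.subtype b.2)))⟩⟩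
  by_cases hN : ∃ N : Subgroup G, N.Normal ∧ N ≠ ⊥ ∧ N ≠ ⊤
  · obtain ⟨N, hNn, hN1, hN2⟩ := hN
    obtain ⟨P⟩ : Nonempty (Sylow 2 N) := inferInstance
    obtain ⟨a, ha, hak⟩ := (Nat.dvd_prime_pow Nat.prime_two).1 (hk ▸ relIndex_dvd_index_normal M N)
    have h1 := ih _ (hsub N hN2) N rfl P (hcommSub N P) (M.subgroupOf N) a
      (odd_card_subgroupOf M N hM) hak
    have hlt : Nat.card (G ⧸ N) < n := by
      rw [← hn, ← N.index_eq_card, ← N.card_mul_index]
      exact lt_mul_of_one_lt_left (Nat.pos_of_ne_zero N.index_ne_zero_of_finite)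
        (N.one_lt_card_iff_ne_bot.2 hN1)
    obtain ⟨b, hb, hbk⟩ := (Nat.dvd_prime_pow Nat.prime_two).1
      (hk ▸ M.index_map_dvd (f := QuotientGroup.mk' N) (QuotientGroup.mk'_surjective N))
    let Q : Sylow 2 (G ⧸ N) := S.mapSurjective (QuotientGroup.mk'_surjective N)
    have hQ : IsMulCommutative (Q : Subgroup (G ⧸ N)) := by
      refine ⟨⟨fun x y => Subtype.ext ?_⟩⟩
      obtain ⟨x', hx', hx⟩ := Subgroup.mem_map.1 (show (x : G ⧸ N) ∈
        (S : Subgroup G).map (QuotientGroup.mk' N) from x.2)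
      obtain ⟨y', hy', hy⟩ := Subgroup.mem_map.1 (show (y : G ⧸ N) ∈
        (S : Subgroup G).map (QuotientGroup.mk' N) from y.2)
      show (x : G ⧸ N) * y = y * x
      rw [← hx, ← hy, ← map_mul, ← map_mul]
      exact congrArg _ (congrArg Subtype.val (mul_comm' (⟨x', hx'⟩ : (S : Subgroup G)) ⟨y', hy'⟩))
    have h2 := ih _ hlt (G ⧸ N) rfl Q hQ (M.map (QuotientGroup.mk' N)) b
      (hM.of_dvd_nat (Subgroup.card_map_dvd _ _)) hbk
    exact Group.isSolvable_of_ker_le_range N.subtype (QuotientGroup.mk' N)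
      (by rw [QuotientGroup.ker_mk', Subgroup.range_subtype])
  · push Not at hN
    exact simple_case S hS M hM hk (fun N hNn => or_iff_not_imp_left.2 (hN N hNn)) fun H hH hSH =>
      ih _ (hsub H hH) H rfl (S.subtype hSH) (hcommSub H _) (M.subgroupOf H) k
        (odd_card_subgroupOf M H hM) (index_subgroupOf S M H hM hk hSH)

end CfsgLib.StructB.OddTwoComplement
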