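import Mathlib.Data.Fintype.Card
import Mathlib.Algebra.BigOperators.Ring.Finset
import Mathlib.Algebra.Order.BigOperators.Group.Finset
import Mathlib.Data.Int.Interval
import Mathlib.Tactic

/-!
# Integer vectors of norm three pairwise sharing two coordinates
-/

set_option autoImplicit false

namespace CfsgLib.StructB

open Finset

/-- Vectors of norm `3` with entry `-1` at `o`, constant on orbits of the pairing `σ`, and with inner product `2`
for unrelated indices, all share one more coordinate if there are at least four orbits. -/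
theorem star_of_norm_three {ι J : Type*} [Fintype ι] [DecidableEq ι] [Fintype J] [DecidableEq J]
    (v : J → ι → ℤ) (o : ι) (σ : J → J) (hσ2 : ∀ L, σ (σ L) = L) (hσ : ∀ L, v (σ L) = v L)
    (hJ : 8 ≤ Fintype.card J) (hnorm : ∀ L, ∑ i, v L i * v L i = 3) (ho : ∀ L, v L o = -1)
    (hinner : ∀ L M, M ≠ L → M ≠ σ L → ∑ i, v L i * v M i = 2) :
    ∃ (D : ι) (X : J → ι) (ε : ℤ), D ≠ o ∧ (ε = 1 ∨ ε = -1) ∧
      (∀ L, v L D = ε ∧ X L ≠ o ∧ X L ≠ D ∧ (v L (X L) = 1 ∨ v L (X L) = -1) ∧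
        ∀ i, i ≠ o → i ≠ D → i ≠ X L → v L i = 0) ∧
      ∀ L M, X M = X L → M = L ∨ M = σ L := by
  classical
  let s : J → Finset ι := fun L => (univ.erase o).filter fun i => v L i ≠ 0
  have hmem : ∀ L i, i ∈ s L ↔ i ≠ o ∧ v L i ≠ 0 := fun L i => by simp [s]
  have hsum : ∀ L, ∑ i ∈ s L, v L i * v L i = 2 := by
    intro L
    have h1 := hnorm L
    rw [← add_sum_erase univ _ (mem_univ o), ho L] at h1
    have h2 : ∑ i ∈ s L, v L i * v L i = ∑ i ∈ univ.erase o, v L i * v L i :=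
      sum_filter_of_ne fun i _ h h0 => h (by rw [h0, mul_zero])
    rw [h2]
    linarith
  have hone : ∀ L, ∀ i ∈ s L, v L i = 1 ∨ v L i = -1 := by
    intro L i hi
    have h1 : v L i * v L i ≤ 2 := (hsum L) ▸ single_le_sum (f := fun j => v L j * v L j) (fun j _ => mul_self_nonneg (v L j)) hi
    have h2 := ((hmem L i).1 hi).2
    have h3 : v L i ≤ 1 := by nlinarith
    have h4 : -1 ≤ v L i := by nlinarith
    omega
  have hcard : ∀ L, (s L).card = 2 := by
    intro L
    have h1 : ∑ i ∈ s L, v L i * v L i = ((s L).card : ℤ) := by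
      rw [card_eq_sum_ones, Nat.cast_sum]
      exact sum_congr rfl fun i hi => by rcases hone L i hi with h | h <;> simp [h]
    have := hsum L
    omega
  have hinter : ∀ L M, M ≠ L → M ≠ σ L →
      ∃ i, (∀ j, j ∈ s L → j ∈ s M → j = i) ∧ i ∈ s L ∧ i ∈ s M ∧ v L i = v M i := by
    intro L M hne hne'
    have h1 := hinner L M hne hne'
    rw [← add_sum_erase univ _ (mem_univ o), ho L, ho M] at h1
    have h2 : ∑ i ∈ s L ∩ s M, v L i * v M i = ∑ i ∈ univ.erase o, v L i * v M i := by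
      refine (sum_subset (fun i hi => mem_erase.2 ⟨((hmem L i).1 (mem_inter.1 hi).1).1, mem_univ _⟩) ?_)
      intro i hi hi'
      by_contra h
      rw [mul_eq_zero, not_or] at h
      exact hi' (mem_inter.2 ⟨(hmem L i).2 ⟨(mem_erase.1 hi).1, h.1⟩, (hmem M i).2 ⟨(mem_erase.1 hi).1, h.2⟩⟩)
    have h3 : ∑ i ∈ s L ∩ s M, v L i * v M i = 1 := by linarith
    have h4 : (s L ∩ s M).card ≤ 2 := (card_le_card inter_subset_left).trans (hcard L).le
    rcases (show (s L ∩ s M).card = 0 ∨ (s L ∩ s M).card = 1 ∨ (s L ∩ s M).card = 2 by omega) with h5 | h5 | h5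
    · rw [card_eq_zero.1 h5, sum_empty] at h3; omega
    · obtain ⟨i, hi⟩ := card_eq_one.1 h5
      have hi' : i ∈ s L ∩ s M := hi ▸ mem_singleton_self i
      rw [mem_inter] at hi'
      refine ⟨i, fun j hj hj' => mem_singleton.1 (hi ▸ mem_inter.2 ⟨hj, hj'⟩), hi'.1, hi'.2, ?_⟩
      rw [hi, sum_singleton] at h3
      rcases hone L i hi'.1 with e | e <;> rcases hone M i hi'.2 with e' | e' <;> simp [e, e'] at h3 ⊢
    · obtain ⟨i, j, hij, hs⟩ := card_eq_two.1 h5
      have hi : i ∈ s L ∩ s M := by rw [hs]; simp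
      have hj : j ∈ s L ∩ s M := by rw [hs]; simp
      rw [mem_inter] at hi hj
      rw [hs, sum_pair hij] at h3
      rcases hone L i hi.1 with e | e <;> rcases hone M i hi.2 with e' | e' <;>
        rcases hone L j hj.1 with f | f <;> rcases hone M j hj.2 with f' | f' <;> simp [e, e', f, f'] at h3
  have avoid : ∀ T : Finset J, T.card < 8 → ∃ R, R ∉ T := fun T hT => by
    by_contra hh
    push Not at hh
    have : Fintype.card J ≤ T.card := card_le_card fun R _ => hh R
    omega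
  have pair_of : ∀ L a b, a ∈ s L → b ∈ s L → a ≠ b → ∀ c ∈ s L, c = a ∨ c = b := by
    intro L a b ha hb hab c hc
    by_contra hh
    push Not at hh
    have h1 : ({a, b, c} : Finset ι) ⊆ s L := by
      intro z hz
      simp at hz
      rcases hz with rfl | rfl | rfl <;> assumption
    have h2 := card_le_card h1
    rw [card_insert_of_notMem (by simp [hab, hh.1.symm]), card_pair hh.2.symm, hcard] at h2
    omega
  have hJne : Nonempty J := Fintype.card_pos_iff.1 (by omega)
  obtain ⟨L0⟩ := hJne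
  obtain ⟨M0, hM0⟩ := avoid {L0, σ L0} ((card_insert_le _ _).trans_lt (by simp))
  simp only [mem_insert, mem_singleton, not_or] at hM0
  obtain ⟨D, hDu, hD0, hD1, hDv⟩ := hinter L0 M0 hM0.1 hM0.2
  have rel_symm : ∀ L M, M = σ L → L = σ M := fun L M h => by rw [h, hσ2]
  have hall : ∀ N, D ∈ s N := by
    intro N
    by_contra hN
    have hsame : ∀ L, D ∈ s L → N ≠ L ∧ N ≠ σ L := fun L hL => ⟨fun e => hN (e ▸ hL), fun e => hN (by
      rw [e, hmem, hσ]; exact (hmem L D).1 hL)⟩
    obtain ⟨a, -, haL, haN, -⟩ := hinter L0 N (hsame L0 hD0).1 (hsame L0 hD0).2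
    obtain ⟨b, -, hbM, hbN, -⟩ := hinter M0 N (hsame M0 hD1).1 (hsame M0 hD1).2
    have haD : a ≠ D := fun e => hN (e ▸ haN)
    have hbD : b ≠ D := fun e => hN (e ▸ hbN)
    have hab : a ≠ b := fun e => haD (hDu a haL (e ▸ hbM))
    obtain ⟨R, hR⟩ := avoid {L0, σ L0, M0, σ M0, N, σ N} (by
      refine ((card_insert_le _ _).trans (Nat.add_le_add_right ((card_insert_le _ _).trans (Nat.add_le_add_right
        ((card_insert_le _ _).trans (Nat.add_le_add_right ((card_insert_le _ _).trans (Nat.add_le_add_right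
        ((card_insert_le _ _)) 1)) 1)) 1)) 1)).trans_lt ?_
      simp)
    simp only [mem_insert, mem_singleton, not_or] at hR
    obtain ⟨c0, hc0u, hc0L, hc0R, -⟩ := hinter L0 R hR.1 hR.2.1
    obtain ⟨c1, hc1u, hc1M, hc1R, -⟩ := hinter M0 R hR.2.2.1 hR.2.2.2.1
    obtain ⟨c2, hc2u, hc2N, hc2R, -⟩ := hinter N R hR.2.2.2.2.1 hR.2.2.2.2.2
    rcases pair_of L0 D a hD0 haL haD.symm c0 hc0L with e0 | e0
    · rcases pair_of N a b haN hbN hab c2 hc2N with e2 | e2
      · exact haD ((hc0u a haL (e2 ▸ hc2R)).trans e0)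
      · have h1 := hc1u D hD1 (e0 ▸ hc0R)
        have h2 := hc1u b hbM (e2 ▸ hc2R)
        exact hbD (h2.trans h1.symm)
    · rcases pair_of M0 D b hD1 hbM hbD.symm c1 hc1M with e1 | e1
      · exact haD ((hc0u D hD0 (e1 ▸ hc1R)).trans e0).symm
      · have h1 := hc2u a haN (e0 ▸ hc0R)
        have h2 := hc2u b hbN (e1 ▸ hc1R)
        exact hab (h1.trans h2.symm)
  have hsign : ∀ L M, M ≠ L → M ≠ σ L → v M D = v L D := by
    intro L M h h'
    obtain ⟨i, hiu, -, -, hv⟩ := hinter L M h h'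
    rw [← hiu D (hall L) (hall M)] at hv
    exact hv.symm
  have hsign' : ∀ N, v N D = v L0 D := by
    intro N
    by_cases h1 : N = L0
    · rw [h1]
    by_cases h2 : N = σ L0
    · rw [h2, hσ]
    exact hsign L0 N h1 h2
  have hX : ∀ L, ∃ x, x ∈ s L ∧ x ≠ D := fun L => by
    obtain ⟨i, j, hij, hs⟩ := card_eq_two.1 (hcard L)
    by_cases h : i = D
    · exact ⟨j, by rw [hs]; simp, fun e => hij (h.trans e.symm)⟩
    · exact ⟨i, by rw [hs]; simp, h⟩
  choose X hXs hXD using hX
  refine ⟨D, X, v L0 D, ((hmem L0 D).1 hD0).1, hone L0 D hD0, fun L => ⟨hsign' L, ((hmem L _).1 (hXs L)).1,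
    hXD L, hone L _ (hXs L), fun i hio hiD hiX => ?_⟩, fun L M hXM => ?_⟩
  · by_contra h
    rcases pair_of L D (X L) (hall L) (hXs L) (hXD L).symm i ((hmem L i).2 ⟨hio, h⟩) with e | e
    · exact hiD e
    · exact hiX e
  · by_contra hh
    push Not at hh
    obtain ⟨i, hiu, -, -, -⟩ := hinter L M hh.1 hh.2
    exact hXD L ((hiu _ (hXs L) (hXM ▸ hXs M)).trans (hiu D (hall L) (hall M)).symm)

end CfsgLib.StructB
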