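import Cfsg.Agent.Lib.StructB.Order4pCount
import Cfsg.Agent.Lib.StructB.StarLemma
import Cfsg.Agent.Lib.Char.Induce
import Cfsg.Agent.Lib.Char.Linear
import Cfsg.Agent.Lib.Char.Integral

/-!
# Exceptional characters for a group with `|C(t)| = 4p`
-/

set_option autoImplicit false
set_option maxHeartbeats 1000000

namespace CfsgLib.StructB

open CfsgLib.Char
open scoped ComplexConjugate

variable {G : Type*} [Group G] {p : ℕ} {C : Subgroup G} {t : G}

theorem conj_linear_val {H : Type*} [Group H] [Finite H] (lam : H →* ℂˣ) (h : H) :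
    conj (lam h : ℂ) = ((lam h)⁻¹ : ℂˣ) := by
  rw [Units.val_inv_eq_inv_val]
  have hp : (lam h : ℂ) ^ orderOf h = 1 := by
    rw [← Units.val_pow_eq_pow_val, ← map_pow, pow_orderOf_eq_one, map_one, Units.val_one]
  rw [Complex.inv_eq_conj (norm_eigen_eq_one (orderOf_pos h) hp)]

open scoped Classical in
theorem classInner_linear {H : Type*} [Group H] [Fintype H] (a b : H →* ℂˣ) :
    Cfsg.classInner (fun h => (a h : ℂ)) (fun h => (b h : ℂ)) = if a = b then 1 else 0 := by
  rw [irr_classInner (isIrrCharacter_linear a) (isIrrCharacter_linear b)]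
  by_cases h : a = b
  · simp [h]
  · rw [if_neg h, if_neg]
    exact fun e => h (MonoidHom.ext fun x => Units.ext (congr_fun e x))

/-- The degree, and the value at `t`, of a character with given multiplicities on the linear characters of `C`. -/
theorem char_value_eq_sum {H : Type*} [Group H] [Fintype H] (hcomm : ∀ a b : H, a * b = b * a)
    [Fintype (H →* ℂˣ)] {χ : H → ℂ} (hχ : Cfsg.IsClassFunction H χ) (x : H) :
    χ x = ∑ lam : H →* ℂˣ, Cfsg.classInner χ (fun h => (lam h : ℂ)) * (lam x : ℂ) := by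
  have := Fintype.ofFinite (Cfsg.IrrCharacter H)
  rw [classFunction_apply_eq_sum hχ x]
  let e : (H →* ℂˣ) ≃ Cfsg.IrrCharacter H :=
    linearIrrEquiv.trans (Equiv.subtypeUnivEquiv fun χ => irr_degree_one_of_comm hcomm χ.2)
  rw [← Equiv.sum_comp e]
  rfl

/-- For `p ≥ 9` the configuration is impossible. -/
theorem Cfg4p.false_of_large [Fintype G] (h : Cfg4p p C t) (hp9 : 9 ≤ p) : False := by
  classical
  haveI := h.simple
  obtain ⟨n, hn, hn'⟩ := h.count
  have := Fintype.ofFinite C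
  have := Fintype.ofFinite (Cfsg.IrrCharacter G)
  have hcomm : ∀ a b : C, a * b = b * a := fun a b => Subtype.ext (h.comm a a.2 b b.2)
  have : Finite (C →* ℂˣ) := Finite.of_equiv _ (linearIrrEquiv (G := C)).symm
  have := Fintype.ofFinite (C →* ℂˣ)
  have hpodd : Odd p := by
    obtain ⟨a, -, rfl⟩ := h.pow3
    exact (Odd.pow (by decide))
  have hcardH : Fintype.card (C →* ℂˣ) = 2 * p := by
    rw [← Nat.card_eq_fintype_card, natCard_linear]
    have hbot : commutator C = ⊥ := by
      rw [commutator_def, Subgroup.commutator_eq_bot_iff_le_centralizer]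
      exact fun a _ => Subgroup.mem_centralizer_iff.2 fun b _ => hcomm b a
    rw [hbot, Subgroup.index_bot, h.cardC]
  set tC : C := ⟨t, h.tmem⟩ with htC
  have htC1 : tC ≠ 1 := fun e => h.tne (congrArg Subtype.val e)
  have htC2 : tC * tC = 1 := Subtype.ext h.tsq
  have hpow : ∀ c : C, c ^ p * c ^ p = 1 := fun c => by
    rw [← pow_add, ← two_mul, ← h.cardC, pow_card_eq_one']
  have hLt : ∀ L : C →* ℂˣ, L tC = 1 ∨ L tC = -1 := fun L => by
    have h1 : L tC * L tC = 1 := by rw [← map_mul, htC2, map_one]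
    have h2 : (L tC : ℂ) * (L tC : ℂ) = 1 := by rw [← Units.val_mul, h1, Units.val_one]
    rcases mul_self_eq_one_iff.1 h2 with e | e
    · exact Or.inl (Units.ext e)
    · exact Or.inr (Units.ext (by simpa using e))
  obtain ⟨lam, hlam⟩ := exists_linear_ne_one hcomm htC1
  set e0 : C →* ℂˣ := lam ^ p with he0def
  have he0t : e0 tC = -1 := by
    rw [he0def, MonoidHom.pow_apply, (hLt lam).resolve_left hlam, hpodd.neg_one_pow]
  have he0sq : e0⁻¹ = e0 := by
    ext c : 1
    rw [MonoidHom.inv_apply, inv_eq_iff_mul_eq_one, he0def, MonoidHom.pow_apply, ← map_pow, ← map_mul,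
      hpow, map_one]
  have hneg : ((-1 : ℂˣ)) ≠ 1 := fun e => by
    have := congrArg (Units.val) e
    norm_num at this
  have he0ne : e0 ≠ 1 := fun e => hneg (by rw [← he0t, e]; rfl)
  have he0mul : ∀ L : C →* ℂˣ, e0 * (e0 * L) = L := fun L => MonoidHom.ext fun c => by
    have h1 : e0 c * e0 c = 1 := by
      rw [← inv_eq_iff_mul_eq_one, ← MonoidHom.inv_apply, he0sq]
    simp only [MonoidHom.mul_apply]
    rw [← mul_assoc, h1, one_mul]
  let K : Finset (C →* ℂˣ) := Finset.univ.filter fun L => L tC = 1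
  have hK : ∀ L, L ∈ K ↔ L tC = 1 := fun L => by simp [K]
  have hmulK : ∀ L, L ∈ K → e0 * L ∉ K := fun L hL hL' => hneg (by
    have := (hK _).1 hL'
    rwa [MonoidHom.mul_apply, he0t, (hK L).1 hL, mul_one] at this)
  have hsplit : ∀ f : (C →* ℂˣ) → ℂ, ∑ L, f L = ∑ L ∈ K, f L + ∑ L ∈ K, f (e0 * L) := by
    intro f
    rw [← Finset.sum_filter_add_sum_filter_not Finset.univ (fun L : C →* ℂˣ => L tC = 1)]
    congr 1
    refine Finset.sum_bij' (fun L _ => e0 * L) (fun L _ => e0 * L) ?_ ?_ ?_ ?_ ?_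
    · intro L hL
      rw [hK, MonoidHom.mul_apply, he0t, (hLt L).resolve_left (Finset.mem_filter.1 hL).2]
      simp
    · intro L hL
      simp only [Finset.mem_filter, Finset.mem_univ, true_and]
      exact fun e => hmulK L hL ((hK _).2 e)
    · intro L _
      rw [he0mul]
    · intro L _
      rw [he0mul]
    · intro L _
      rw [he0mul]
  have hKcard : K.card = p := by
    have h1 := hsplit (fun _ => 1)
    simp only [Finset.sum_const, Finset.card_univ, hcardH, nsmul_eq_mul, mul_one] at h1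
    have : 2 * p = K.card + K.card := by exact_mod_cast h1
    omega
  have hKodd : ∀ L ∈ K, L⁻¹ = L → L = 1 := by
    intro L hL e
    ext c : 1
    rw [MonoidHom.one_apply]
    have h2 : L c * L c = 1 := by
      have := DFunLike.congr_fun e c
      rw [MonoidHom.inv_apply, inv_eq_iff_mul_eq_one] at this
      exact this
    have h3 : (L c) ^ p = 1 := by
      have hc : ((c ^ p : C) : G) * ((c ^ p : C) : G) = 1 := by rw [← Subgroup.coe_mul, hpow, Subgroup.coe_one]
      rw [← map_pow]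
      rcases h.tuniq _ (c ^ p).2 hc with e' | e'
      · rw [show c ^ p = 1 from Subtype.ext e', map_one]
      · rw [show c ^ p = tC from Subtype.ext e', (hK L).1 hL]
    obtain ⟨k, hk⟩ := hpodd
    rwa [hk, pow_succ, pow_mul, pow_two, h2, one_pow, one_mul] at h3
  have hinv2 : ∀ L : C →* ℂˣ, L⁻¹⁻¹ = L := fun L => inv_inv L
  have hone_mul : ∀ L : C →* ℂˣ, 1 * L = L := fun L => one_mul L
  have hmul_one : ∀ L : C →* ℂˣ, L * 1 = L := fun L => mul_one L
  have h1inv : (1 : C →* ℂˣ)⁻¹ = 1 := @inv_one (C →* ℂˣ) _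
  have hcancel : ∀ e L M : C →* ℂˣ, e * L = e * M ↔ L = M := fun e L M => mul_right_inj e
  have hmeq : ∀ e L : C →* ℂˣ, e * L = e ↔ L = 1 := fun e L =>
    ⟨fun he => mul_left_cancel (he.trans (hmul_one e).symm), fun he => by rw [he, hmul_one]⟩
  have hmeq' : ∀ e L : C →* ℂˣ, e = e * L ↔ L = 1 := fun e L => eq_comm.trans (hmeq e L)
  have hinveq : ∀ L : C →* ℂˣ, L⁻¹ = 1 ↔ L = 1 := fun L =>
    ⟨fun he => by rw [← hinv2 L, he, h1inv], fun he => by rw [he, h1inv]⟩
  -- the virtual characters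
  let θ : (C →* ℂˣ) → (C →* ℂˣ) → C → ℂ := fun e L =>
    (fun c => ((e * L) c : ℂ)) - (fun c => (e c : ℂ))
  let Θ : (C →* ℂˣ) → (C →* ℂˣ) → G → ℂ := fun e L => Cfsg.indFun C (θ e L)
  have hθ1 : ∀ e L, θ e L 1 = 0 := fun e L => by simp [θ]
  have hθt : ∀ e, ∀ L ∈ K, θ e L tC = 0 := fun e L hL => by simp [θ, (hK L).1 hL]
  have hΘ1 : ∀ e L, Θ e L 1 = 0 := fun e L => by simp [Θ, indFun_apply_one, hθ1]
  have hgen : ∀ e L, Cfsg.IsGeneralizedCharacter G (Θ e L) := fun e L =>
    isGeneralized_indFun C (isGeneralized_sub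
      (isGeneralized_of_isCharacter (irr_isCharacter (isIrrCharacter_linear _)))
      (isGeneralized_of_isCharacter (irr_isCharacter (isIrrCharacter_linear _))))
  have hres : ∀ e, e⁻¹ = e → ∀ L ∈ K, ∀ c : C, Θ e L (c : G) = θ e L c + θ e L⁻¹ c := by
    intro e he L hL c
    have hrev : ∀ d : C, θ e L⁻¹ d = θ e L d⁻¹ := fun d => by
      have h1 : e d⁻¹ = e d := by rw [map_inv, ← MonoidHom.inv_apply, he]
      simp only [θ, Pi.sub_apply, MonoidHom.mul_apply, MonoidHom.inv_apply, h1, map_inv L]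
    have hNclass : ∀ x : G, x⁻¹ * (c : G) * x ∈ C → (c : G) ≠ 1 → x ∈ Subgroup.centralizer ({t} : Set G) := by
      intro x hx hc1
      have := h.fusion x⁻¹ c c.2 hc1 (by rwa [inv_inv])
      simpa using Subgroup.inv_mem _ this
    by_cases hc1 : (c : G) = 1
    · have : c = 1 := Subtype.ext hc1
      subst this
      rw [hθ1, hθ1, add_zero, Subgroup.coe_one, hΘ1]
    let Nf : Finset G := Finset.univ.filter fun x => x ∈ Subgroup.centralizer ({t} : Set G)
    let Cf : Finset G := Finset.univ.filter fun x => x ∈ C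
    have cardfilter : ∀ H : Subgroup G, (Finset.univ.filter fun g => g ∈ H).card = Nat.card H := fun H => by
      rw [Nat.card_eq_fintype_card, Fintype.card_subtype]
    have hCN : Cf ⊆ Nf := fun x hx => by
      simp only [Cf, Nf, Finset.mem_filter, Finset.mem_univ, true_and] at hx ⊢
      exact h.CleN hx
    have hin : ∀ x ∈ Cf, Cfsg.extendByZero C (θ e L) (x⁻¹ * c * x) = θ e L c := by
      intro x hx
      simp only [Cf, Finset.mem_filter, Finset.mem_univ, true_and] at hx
      rw [show x⁻¹ * (c : G) * x = c by rw [mul_assoc, h.comm _ c.2 _ hx, inv_mul_cancel_left], extendByZero_coe]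
    have hout : ∀ x ∈ Nf \ Cf, Cfsg.extendByZero C (θ e L) (x⁻¹ * c * x) = θ e L⁻¹ c := by
      intro x hx
      simp only [Nf, Cf, Finset.mem_sdiff, Finset.mem_filter, Finset.mem_univ, true_and] at hx
      obtain ⟨hxx, -, -, hinv⟩ := h.outside x hx.1 hx.2
      have hx' : x⁻¹ = x := inv_eq_of_mul_eq_one_right hxx
      have := hinv c c.2
      rw [hx'] at this ⊢
      rw [this, hrev, show (c : G)⁻¹ = ((c⁻¹ : C) : G) from rfl, extendByZero_coe]
    show Cfsg.indFun C (θ e L) c = _
    rw [indFun_def, ← Finset.sum_subset (Finset.subset_univ Nf) (fun x _ hx => extendByZero_of_not_mem _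
      (fun hm => hx (by simp [Nf, hNclass x hm hc1]))), ← Finset.sum_sdiff hCN, Finset.sum_congr rfl hout,
      Finset.sum_congr rfl hin, Finset.sum_const, Finset.sum_const,
      Finset.card_sdiff_of_subset hCN, cardfilter, cardfilter, h.cardN, h.cardC,
      show 4 * p - 2 * p = 2 * p by omega, nsmul_eq_mul, nsmul_eq_mul]
    have : ((2 * p : ℕ) : ℂ) ≠ 0 := by exact_mod_cast (show 2 * p ≠ 0 by omega)
    field_simp
    ring
  have hΘinv : ∀ e, e⁻¹ = e → ∀ L ∈ K, Θ e L⁻¹ = Θ e L := by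
    intro e he L hL
    funext g
    -- both are determined by their restrictions to `C`
    have hL' : L⁻¹ ∈ K := (hK _).2 (by rw [MonoidHom.inv_apply, (hK L).1 hL, inv_one])
    by_cases hg : ∃ x : G, x⁻¹ * g * x ∈ C
    · obtain ⟨x, hx⟩ := hg
      have hc : ∀ M, Θ e M g = Θ e M (x⁻¹ * g * x) := fun M => by
        have := indFun_isClassFunction C (θ e M) g x⁻¹
        rw [inv_inv] at this
        exact this.symm
      rw [hc, hc, hres e he _ hL' ⟨_, hx⟩, hres e he L hL ⟨_, hx⟩, hinv2 L, add_comm]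
    · push Not at hg
      simp only [Θ, indFun_def]
      rw [Finset.sum_eq_zero (fun x _ => extendByZero_of_not_mem _ (hg x)),
        Finset.sum_eq_zero (fun x _ => extendByZero_of_not_mem _ (hg x))]
  -- inner products
  have hθinner : ∀ a L b M, Cfsg.classInner (θ a L) (θ b M) =
      (if a * L = b * M then 1 else 0) - (if a * L = b then 1 else 0) - (if a = b * M then 1 else 0)
        + (if a = b then 1 else 0) := by
    intro a L b M
    simp only [θ, classInner_sub_left, classInner_sub_right, classInner_linear]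
    ring
  have hinn : ∀ a b, b⁻¹ = b → ∀ L, ∀ M ∈ K,
      Cfsg.classInner (Θ a L) (Θ b M) = Cfsg.classInner (θ a L) (θ b M) + Cfsg.classInner (θ a L) (θ b M⁻¹) := by
    intro a b hb L M hM
    show Cfsg.classInner (Cfsg.indFun C (θ a L)) (Θ b M) = _
    rw [frobenius_reciprocity C (θ a L) (Θ b M) (indFun_isClassFunction C _), ← classInner_add_right]
    congr 1
    funext c
    exact hres b hb M hM c
  have hKinv : ∀ L ∈ K, L⁻¹ ∈ K := fun L hL => (hK _).2 (by rw [MonoidHom.inv_apply, (hK L).1 hL, inv_one])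
  have hne_e0 : ∀ L ∈ K, e0 * L ≠ 1 ∧ ∀ M ∈ K, e0 * L ≠ M := fun L hL =>
    ⟨fun e => hmulK L hL (e ▸ (hK 1).2 rfl), fun M hM e => hmulK L hL (e ▸ hM)⟩
  have hcross : ∀ L ∈ K, ∀ M ∈ K, Cfsg.classInner (Θ e0 L) (Θ 1 M) = 0 := by
    intro L hL M hM
    rw [hinn e0 1 h1inv L M hM, hθinner, hθinner]
    simp only [hone_mul, if_neg ((hne_e0 L hL).2 M hM), if_neg ((hne_e0 L hL).2 _ (hKinv M hM)),
      if_neg (hne_e0 L hL).1, if_neg he0ne]
    have h1 : e0 ≠ M := fun e => (hne_e0 1 ((hK 1).2 rfl)).2 M hM ((hmul_one e0).trans e)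
    have h2 : e0 ≠ M⁻¹ := fun e => (hne_e0 1 ((hK 1).2 rfl)).2 _ (hKinv M hM) ((hmul_one e0).trans e)
    simp [h1, h2]
  have hsame : ∀ e, e⁻¹ = e → ∀ L ∈ K, L ≠ 1 → ∀ M ∈ K, M ≠ 1 → Cfsg.classInner (Θ e L) (Θ e M) =
      (if L = M then 1 else 0) + (if L = M⁻¹ then 1 else 0) + 2 := by
    intro e he L hL hL1 M hM hM1
    rw [hinn e e he L M hM, hθinner, hθinner]
    simp only [hcancel, hmeq, hmeq', hinveq, hL1, hM1, if_false, if_true]
    ring
  have hone : ∀ a L, Cfsg.classInner (Θ a L) (fun _ => (1 : ℂ)) =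
      (if a * L = 1 then 1 else 0) - (if a = 1 then 1 else 0) := by
    intro a L
    have h1 : (fun _ : C => (1 : ℂ)) = fun c => ((1 : C →* ℂˣ) c : ℂ) := by simp
    show Cfsg.classInner (Cfsg.indFun C (θ a L)) _ = _
    rw [frobenius_reciprocity C (θ a L) _ (fun _ _ => rfl), h1]
    simp only [θ, classInner_sub_left, classInner_linear]
  -- coefficient vectors
  let J := {L : C →* ℂˣ // L ∈ K ∧ L ≠ 1}
  choose k hk using fun (e : C →* ℂˣ) (L : C →* ℂˣ) (χ : Cfsg.IrrCharacter G) =>
    classInner_isGeneralized_int (hgen e L) (isGeneralized_of_isCharacter (irr_isCharacter χ.2))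
  have hexp : ∀ e L g, Θ e L g = ∑ χ : Cfsg.IrrCharacter G, (k e L χ : ℂ) * (χ : G → ℂ) g := fun e L g => by
    rw [classFunction_apply_eq_sum (isGeneralized_isClassFunction (hgen e L)) g]
    simp only [hk]
  have hkk : ∀ a L b M, Cfsg.classInner (Θ a L) (Θ b M) = ((∑ χ, k a L χ * k b M χ : ℤ) : ℂ) := by
    intro a L b M
    rw [classInner_eq_sum_mul (isGeneralized_isClassFunction (hgen a L)) (Θ b M)]
    push_cast
    simp only [hk, map_intCast]
  set o : Cfsg.IrrCharacter G := ⟨fun _ => 1, isIrrCharacter_one⟩ with ho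
  let σ : J → J := fun L => ⟨L.1⁻¹, hKinv _ L.2.1, fun e => L.2.2 ((hinveq _).1 e)⟩
  have hJ : Fintype.card J = p - 1 := by
    rw [Fintype.card_subtype, show (Finset.univ.filter fun L => L ∈ K ∧ L ≠ 1) = K.erase 1 by ext L; simp [and_comm],
      Finset.card_erase_of_mem ((hK 1).2 rfl), hKcard]
  have hσne : ∀ L : J, L.1 ≠ L.1⁻¹ := fun L e => L.2.2 (hKodd _ L.2.1 e.symm)
  have hnorm : ∀ e, e⁻¹ = e → ∀ L : J, ∑ χ, k e L.1 χ * k e L.1 χ = 3 := by
    intro e he L
    have h1 := hkk e L.1 e L.1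
    rw [hsame e he _ L.2.1 L.2.2 _ L.2.1 L.2.2, if_pos rfl, if_neg (hσne L)] at h1
    exact_mod_cast (h1.symm.trans (by norm_num) : ((∑ χ, k e L.1 χ * k e L.1 χ : ℤ) : ℂ) = 3)
  obtain ⟨D, X, ε, hDo, hε, hX, hXinj⟩ := star_of_norm_three (fun L : J => k 1 L.1) o σ
    (fun L => Subtype.ext (hinv2 L.1))
    (fun L => funext fun χ => by
      have e1 := hk 1 (σ L).1 χ
      have e2 := hk 1 L.1 χ
      rw [show Θ 1 (σ L).1 = Θ 1 L.1 from hΘinv 1 h1inv _ L.2.1, e2] at e1
      exact_mod_cast e1.symm)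
    (by rw [hJ]; omega) (hnorm 1 h1inv)
    (fun L => by
      have e1 := hk 1 L.1 o
      rw [ho, hone, hone_mul, if_neg L.2.2, if_pos rfl, zero_sub] at e1
      exact_mod_cast e1.symm)
    (fun L M h1 h2 => by
      have e1 := hkk 1 L.1 1 M.1
      rw [hsame 1 h1inv _ L.2.1 L.2.2 _ M.2.1 M.2.2, if_neg (fun e => h1 (Subtype.ext e.symm)),
        if_neg (fun e => h2 (Subtype.ext (by show M.1 = L.1⁻¹; rw [e, hinv2])))] at e1
      exact_mod_cast (e1.symm.trans (by norm_num) : ((∑ χ, k 1 L.1 χ * k 1 M.1 χ : ℤ) : ℂ) = 2))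
  have hsum3 : ∀ (L : J) (f : Cfsg.IrrCharacter G → ℂ), ∑ χ, (k 1 L.1 χ : ℂ) * f χ =
      (k 1 L.1 o : ℂ) * f o + (ε : ℂ) * f D + (k 1 L.1 (X L) : ℂ) * f (X L) := by
    intro L f
    obtain ⟨hD, hXo, hXD, -, hz⟩ := hX L
    rw [← Finset.sum_subset (Finset.subset_univ {o, D, X L}) (fun χ _ hχ => by
      simp only [Finset.mem_insert, Finset.mem_singleton, not_or] at hχ
      rw [hz χ hχ.1 hχ.2.1 hχ.2.2, Int.cast_zero, zero_mul]),
      Finset.sum_insert (by simp [hDo.symm, hXo.symm]), Finset.sum_pair hXD.symm, hD]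
    ring
  have hko : ∀ L : J, k 1 L.1 o = -1 := fun L => by
    have e1 := hk 1 L.1 o
    rw [ho, hone, hone_mul, if_neg L.2.2, if_pos rfl, zero_sub] at e1
    exact_mod_cast e1.symm
  obtain ⟨L0⟩ : Nonempty J := Fintype.card_pos_iff.1 (by omega)
  -- the second family vanishes on `D` and the `X L`
  have himg : p - 1 ≤ 2 * (Finset.univ.image X).card := by
    rw [← hJ, ← Finset.card_univ]
    refine Finset.card_le_mul_card_image Finset.univ 2 fun χ hχ => ?_
    obtain ⟨L, -, rfl⟩ := Finset.mem_image.1 hχ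
    refine (Finset.card_le_card (t := {L, σ L}) fun M hM => ?_).trans (by
      exact (Finset.card_insert_le _ _).trans (by simp))
    simp only [Finset.mem_insert, Finset.mem_singleton]
    exact hXinj L M (Finset.mem_filter.1 hM).2
  have hu0 : ∀ M : J, ∀ L : J, k e0 M.1 (X L) = 0 := by
    intro M
    have hu : ∀ L : J, (ε : ℂ) * k e0 M.1 D + (k 1 L.1 (X L) : ℂ) * k e0 M.1 (X L) = 0 := by
      intro L
      have e1 := hkk e0 M.1 1 L.1
      rw [hcross _ M.2.1 _ L.2.1] at e1
      push_cast at e1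
      have e2 := hsum3 L (fun χ => (k e0 M.1 χ : ℂ))
      have e3 : k e0 M.1 o = 0 := by
        have e4 := hk e0 M.1 o
        rw [ho, hone, if_neg (hne_e0 _ M.2.1).1, if_neg he0ne, sub_zero] at e4
        exact_mod_cast e4.symm
      rw [e3, Int.cast_zero, mul_zero, zero_add] at e2
      rw [← e2, e1]
      exact Finset.sum_congr rfl fun χ _ => mul_comm _ _
    have hD0 : k e0 M.1 D = 0 := by
      by_contra hD0
      have hsupp : ∀ χ ∈ Finset.univ.image X, 1 ≤ k e0 M.1 χ * k e0 M.1 χ := by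
        intro χ hχ
        obtain ⟨L, -, rfl⟩ := Finset.mem_image.1 hχ
        have : k e0 M.1 (X L) ≠ 0 := fun e => by
          have := hu L
          rw [e, Int.cast_zero, mul_zero, add_zero, mul_eq_zero, Int.cast_eq_zero, Int.cast_eq_zero] at this
          rcases this with h' | h'
          · rcases hε with e | e <;> omega
          · exact hD0 h'
        have := mul_self_pos.2 this
        omega
      have h3 := (Finset.card_nsmul_le_sum _ _ _ hsupp).trans
        (Finset.sum_le_univ_sum_of_nonneg fun χ => mul_self_nonneg (k e0 M.1 χ))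
      rw [hnorm e0 he0sq M, nsmul_eq_mul, mul_one] at h3
      have : (Finset.univ.image X).card ≤ 3 := by exact_mod_cast h3
      omega
    intro L
    have := hu L
    rw [hD0, Int.cast_zero, mul_zero, zero_add, mul_eq_zero, Int.cast_eq_zero, Int.cast_eq_zero] at this
    obtain ⟨-, -, -, hδ, -⟩ := hX L
    rcases this with h' | h'
    · omega
    · exact h'
  -- values of the exceptional characters
  have hint : ∀ χ : Cfsg.IrrCharacter G, ∀ lam : C →* ℂˣ,
      ∃ a : ℤ, Cfsg.classInner (fun c : C => (χ : G → ℂ) c) (fun c => (lam c : ℂ)) = a := fun χ lam =>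
    classInner_isGeneralized_int (isGeneralized_of_isCharacter (isCharacter_restrict (irr_isCharacter χ.2) C))
      (isGeneralized_of_isCharacter (irr_isCharacter (isIrrCharacter_linear lam)))
  choose m hm using hint
  have hdiff : ∀ χ e L, (k e L χ : ℂ) = (m χ (e * L) : ℂ) - (m χ e : ℂ) := by
    intro χ e L
    rw [← hk e L χ]
    show Cfsg.classInner (Cfsg.indFun C (θ e L)) _ = _
    rw [frobenius_reciprocity C (θ e L) _ (irr_isClassFunction χ.2), ← classInner_conj_symm]
    simp only [θ, classInner_sub_right, hm, map_sub, map_intCast]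
  have hvals : ∀ L : J, ∃ a b : ℤ, (X L : G → ℂ) 1 = (p * a + p * b + 2 * k 1 L.1 (X L) : ℤ) ∧
      (X L : G → ℂ) t = (p * a - p * b + 2 * k 1 L.1 (X L) : ℤ) := by
    intro L
    refine ⟨m (X L) 1, m (X L) e0, ?_⟩
    have hcl : Cfsg.IsClassFunction C (fun c : C => (X L : G → ℂ) c) :=
      isCharacter_isClassFunction (isCharacter_restrict (irr_isCharacter (X L).2) C)
    have hS1 : ∑ M ∈ K, (m (X L) M : ℂ) = p * m (X L) 1 + 2 * k 1 L.1 (X L) := by
      have h1 : ∑ M ∈ K, (k 1 M (X L) : ℂ) = 2 * k 1 L.1 (X L) := by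
        have hLσ : L.1 ≠ (σ L).1 := hσne L
        rw [← Finset.sum_subset (show {L.1, (σ L).1} ⊆ K by
          intro M hM; simp at hM; rcases hM with rfl | rfl
          exacts [L.2.1, (σ L).2.1]) ?_, Finset.sum_pair hLσ]
        · have e1 := hk 1 (σ L).1 (X L)
          have e2 := hk 1 L.1 (X L)
          rw [show Θ 1 (σ L).1 = Θ 1 L.1 from hΘinv 1 h1inv _ L.2.1, e2] at e1
          rw [← e1]
          ring
        · intro M hM hM'
          simp only [Finset.mem_insert, Finset.mem_singleton, not_or] at hM'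
          by_cases hM1 : M = 1
          · subst hM1
            rw [hdiff, hmul_one, sub_self]
          · obtain ⟨-, -, -, -, hz⟩ := hX ⟨M, hM, hM1⟩
            rw [hz (X L) (hX L).2.1 (hX L).2.2.1 fun e => ?_, Int.cast_zero]
            rcases hXinj L ⟨M, hM, hM1⟩ e.symm with e' | e'
            · exact hM'.1 (congrArg Subtype.val e')
            · exact hM'.2 (congrArg Subtype.val e')
      rw [← h1, ← hKcard, ← nsmul_eq_mul, ← Finset.sum_const, ← Finset.sum_add_distrib]
      refine Finset.sum_congr rfl fun M _ => ?_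
      rw [hdiff, hone_mul]; ring
    have hS2 : ∑ M ∈ K, (m (X L) (e0 * M) : ℂ) = p * m (X L) e0 := by
      rw [← hKcard, ← nsmul_eq_mul, ← Finset.sum_const]
      refine Finset.sum_congr rfl fun M hM => ?_
      by_cases hM1 : M = 1
      · rw [hM1, hmul_one]
      · have h1 := hdiff (X L) e0 M
        rw [hu0 ⟨M, hM, hM1⟩ L, Int.cast_zero] at h1
        linear_combination -h1
    constructor
    · have h1 := char_value_eq_sum hcomm hcl 1
      simp only [hm, map_one, Units.val_one, mul_one, Subgroup.coe_one] at h1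
      rw [h1, hsplit, hS1, hS2]
      push_cast; ring
    · have h1 := char_value_eq_sum hcomm hcl tC
      simp only [hm] at h1
      rw [show (X L : G → ℂ) t = _ from h1, hsplit]
      have e1 : ∀ M ∈ K, (m (X L) M : ℂ) * (M tC : ℂ) = m (X L) M := fun M hM => by
        rw [(hK M).1 hM, Units.val_one, mul_one]
      have e2 : ∀ M ∈ K, (m (X L) (e0 * M) : ℂ) * ((e0 * M) tC : ℂ) = -(m (X L) (e0 * M) : ℂ) := fun M hM => by
        rw [MonoidHom.mul_apply, he0t, (hK M).1 hM]; simp
      rw [Finset.sum_congr rfl e1, Finset.sum_congr rfl e2, Finset.sum_neg_distrib, hS1, hS2]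
      push_cast; ring
  choose a b hX1 hXt using hvals
  -- the four group
  have heven : ∀ L : J, 2 ∣ b L := by
    intro L
    obtain ⟨S, hS4, htS, hSinv⟩ := h.four
    have := Fintype.ofFinite S
    obtain ⟨N, hN⟩ := classInner_isCharacter_nat (isCharacter_restrict (irr_isCharacter (X L).2) S)
      (isCharacter_one (G := S))
    rw [classInner_def, hS4] at hN
    simp only [map_one, mul_one] at hN
    rw [← Finset.add_sum_erase Finset.univ _ (Finset.mem_univ 1), Finset.sum_congr rfl (g := fun _ => (X L : G → ℂ) t)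
      (fun s hs => isClassFunction_isConj (irr_isClassFunction (X L).2)
        (h.invconj _ (hSinv _ s.2 fun e => (Finset.mem_erase.1 hs).1 (Subtype.ext e))).symm),
      Finset.sum_const, Finset.card_erase_of_mem (Finset.mem_univ _), Finset.card_univ, ← Nat.card_eq_fintype_card,
      hS4, nsmul_eq_mul, Subgroup.coe_one, hX1 L, hXt L] at hN
    push_cast at hN
    have : (4 * a L * p - 2 * b L * p + 8 * k 1 L.1 (X L) : ℤ) = 4 * N := by
      have h1 : ((4 * a L * p - 2 * b L * p + 8 * k 1 L.1 (X L) : ℤ) : ℂ) = ((4 * N : ℤ) : ℂ) := by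
        push_cast; linear_combination 4 * hN
      exact_mod_cast h1
    have h2 : (2 : ℤ) ∣ b L * p := ⟨a L * p + 2 * k 1 L.1 (X L) - N, by linarith⟩
    refine (Int.prime_two.dvd_mul.1 h2).resolve_right fun h' => ?_
    obtain ⟨j, hj⟩ := hpodd
    omega
  set δ : J → ℤ := fun L => k 1 L.1 (X L) with hδdef
  have hδ : ∀ L, δ L * δ L = 1 := fun L => by
    rcases (hX L).2.2.2.1 with e | e <;> simp [hδdef, e]
  -- the common values
  obtain ⟨d, hd, hd1⟩ := irr_apply_one_pos D.2
  have hW : ∀ L : J, δ L * (p * a L + p * b L + 2 * δ L) = 1 - ε * d := by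
    intro L
    have e1 := hsum3 L (fun χ => (χ : G → ℂ) 1)
    rw [← hexp, hΘ1, hko, hd1, hX1 L] at e1
    have e2 : ((δ L * (p * a L + p * b L + 2 * δ L) : ℤ) : ℂ) = ((1 - ε * d : ℤ) : ℂ) := by
      simp only [hδdef, ho] at e1 ⊢
      push_cast at e1 ⊢; linear_combination -e1
    exact_mod_cast e2
  have hT : ∀ L : J, ((δ L * (p * a L - p * b L + 2 * δ L) : ℤ) : ℂ) = 1 - ε * (D : G → ℂ) t := by
    intro L
    have e1 := hsum3 L (fun χ => (χ : G → ℂ) t)
    rw [← hexp, show Θ 1 L.1 t = θ 1 L.1 tC + θ 1 L.1⁻¹ tC from hres 1 h1inv _ L.2.1 tC,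
      hθt 1 _ L.2.1, hθt 1 _ (hKinv _ L.2.1), hko, hXt L] at e1
    simp only [hδdef, ho] at e1 ⊢
    push_cast at e1 ⊢
    linear_combination -e1
  -- second orthogonality
  have hcol : ∀ g : G, ∀ v : ℤ, (∀ L : J, ∃ x : ℤ, (X L : G → ℂ) g = x ∧ x * x = v * v) →
      (p - 1 : ℤ) * (v * v) ≤ 2 * Nat.card (Subgroup.centralizer ({g} : Set G)) := by
    intro g v hv
    have h1 := column_orthogonality g g
    rw [if_pos (IsConj.refl g)] at h1
    simp only [Complex.mul_conj'] at h1
    have h2 : ∑ χ : Cfsg.IrrCharacter G, ‖(χ : G → ℂ) g‖ ^ 2 = (Nat.card (Subgroup.centralizer ({g} : Set G)) : ℝ) := by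
      exact_mod_cast h1
    have h3 : ((Finset.univ.image X).card : ℝ) * ((v * v : ℤ) : ℝ) ≤ Nat.card (Subgroup.centralizer ({g} : Set G)) := by
      rw [← h2, ← nsmul_eq_mul]
      refine le_trans (Finset.card_nsmul_le_sum _ _ _ ?_) (Finset.sum_le_univ_sum_of_nonneg fun χ => by positivity)
      intro χ hχ
      obtain ⟨L, -, rfl⟩ := Finset.mem_image.1 hχ
      obtain ⟨x, hx, hxx⟩ := hv L
      rw [hx, ← hxx, Complex.norm_intCast, sq_abs]
      push_cast; rw [sq]
    have h4 : ((Finset.univ.image X).card : ℤ) * (v * v) ≤ Nat.card (Subgroup.centralizer ({g} : Set G)) := by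
      exact_mod_cast h3
    have h5 : (p : ℤ) - 1 ≤ 2 * ((Finset.univ.image X).card : ℤ) := by omega
    have := mul_le_mul_of_nonneg_right h5 (mul_self_nonneg v)
    linarith
  set T : ℤ := δ L0 * (p * a L0 - p * b L0 + 2 * δ L0) with hTdef
  have hTall : ∀ L, δ L * (p * a L - p * b L + 2 * δ L) = T := fun L => by
    have := (hT L).trans (hT L0).symm
    exact_mod_cast this
  have hTbound := hcol t T fun L => ⟨_, hXt L, by
    have := hδ L
    rw [← hTall L]; simp only [hδdef] at this ⊢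
    linear_combination (-(p * a L - p * b L + 2 * k 1 L.1 (X L)) ^ 2) * this⟩
  rw [h.cardN] at hTbound
  have hk0 : a L0 = b L0 := by
    obtain ⟨j, hj⟩ : ∃ j : ℤ, j = δ L0 * (a L0 - b L0) := ⟨_, rfl⟩
    have hTj : T = p * j + 2 := by rw [hTdef, hj]; linear_combination 2 * hδ L0
    by_cases hj0 : j = 0
    · rw [hj] at hj0
      rcases mul_eq_zero.1 hj0 with e | e
      · have := hδ L0; rw [e] at this; omega
      · linarith
    · exfalso
      have hp9' : (9 : ℤ) ≤ p := by exact_mod_cast hp9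
      have h7 : 49 ≤ T * T := by
        rcases lt_or_gt_of_ne hj0 with hj' | hj'
        · nlinarith [hTj, mul_le_mul_of_nonneg_left (show j ≤ -1 by omega) (show (0 : ℤ) ≤ p by omega)]
        · nlinarith [hTj, mul_le_mul_of_nonneg_left (show 1 ≤ j by omega) (show (0 : ℤ) ≤ p by omega)]
      push_cast at hTbound
      nlinarith [mul_le_mul_of_nonneg_left h7 (show (0 : ℤ) ≤ p - 1 by omega)]
  obtain ⟨i, hi⟩ := heven L0
  set j : ℤ := δ L0 * i with hjdef
  set w : ℤ := 2 * p * j + 1 with hw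
  have hWw : δ L0 * (p * a L0 + p * b L0 + 2 * δ L0) = 2 * w := by
    rw [hw, hjdef, hk0, hi]; linear_combination 2 * hδ L0
  have hWbound := hcol 1 (2 * w) fun L => ⟨_, hX1 L, by
    have := hδ L
    rw [← hWw, hW L0, ← hW L]; simp only [hδdef] at this ⊢
    linear_combination (-(p * a L + p * b L + 2 * k 1 L.1 (X L)) ^ 2) * this⟩
  rw [show Subgroup.centralizer ({(1 : G)} : Set G) = ⊤ from Subgroup.centralizer_eq_top_iff_subset.mpr (by simp),
    Subgroup.card_top, hn] at hWbound
  push_cast at hWbound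
  have hnZ : (n : ℤ) + 2 * p = 4 * p * p + 1 := by exact_mod_cast hn'
  have hp9' : (9 : ℤ) ≤ p := by exact_mod_cast hp9
  have hjb : -1 ≤ j ∧ j ≤ 1 := by
    by_contra hh
    have hw2 : (4 * (p : ℤ) - 1) * (4 * p - 1) ≤ w * w := by
      rcases (show j ≤ -2 ∨ 2 ≤ j by omega) with hj' | hj'
      · have := mul_le_mul_of_nonneg_left hj' (show (0 : ℤ) ≤ 2 * p by omega)
        nlinarith
      · have := mul_le_mul_of_nonneg_left hj' (show (0 : ℤ) ≤ 2 * p by omega)
        nlinarith
    nlinarith [mul_le_mul_of_nonneg_left hw2 (show (0 : ℤ) ≤ p - 1 by omega)]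
  -- the degree divides the group order
  have hdvd : w ∣ 4 * p * n := by
    obtain ⟨dX, ρ, hρ, hρX⟩ := (X L0).2
    haveI := hρ
    have h1 := degree_dvd_card ρ
    have h2 := hX1 L0
    rw [← hρX, Representation.char_one] at h2
    have h3 : ((Module.finrank ℂ (Fin dX → ℂ) : ℕ) : ℤ) = p * a L0 + p * b L0 + 2 * δ L0 := by
      simp only [hδdef]
      exact_mod_cast h2
    rw [hn] at h1
    have h4 : (p * a L0 + p * b L0 + 2 * δ L0 : ℤ) ∣ 4 * p * n := by rw [← h3]; exact_mod_cast h1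
    exact (dvd_mul_left w 2).trans ((hWw ▸ (IsUnit.of_mul_eq_one _ (hδ L0)).mul_left_dvd.2 h4 : (2 * w) ∣ 4 * (p : ℤ) * n))
  rcases (show j = -1 ∨ j = 0 ∨ j = 1 by omega) with e | e | e
  · have hw' : w = -(2 * p - 1) := by rw [hw, e]; ring
    rw [hw', neg_dvd] at hdvd
    have hcop : IsCoprime (2 * (p : ℤ) - 1) (4 * p) := ⟨2 * (p : ℤ) - 1, -(p - 1), by ring⟩
    have h1 := hcop.dvd_of_dvd_mul_left hdvd
    have h2 : 2 * (p : ℤ) - 1 ∣ 1 := by
      have h3 := dvd_sub h1 (dvd_mul_right (2 * (p : ℤ) - 1) (2 * p))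
      rwa [show (n : ℤ) - (2 * p - 1) * (2 * p) = 1 by linarith] at h3
    have := Int.le_of_dvd one_pos h2
    omega
  · -- `D` is a nontrivial linear character
    have hd' : ε * (d : ℤ) = -1 := by
      have := (hW L0).symm.trans hWw
      rw [hw, e] at this
      linarith
    have hd2 : d = 1 := by rcases hε with e | e <;> rw [e] at hd' <;> omega
    obtain ⟨μ, hμ⟩ := exists_hom_of_degree_one (irr_isCharacter D.2) (by rw [hd1, hd2, Nat.cast_one])
    rcases (MonoidHom.normal_ker μ).eq_bot_or_eq_top with hb | hb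
    · refine h.not_abelian fun x y => (MonoidHom.ker_eq_bot_iff μ).1 hb ?_
      rw [map_mul, map_mul, mul_comm]
    · refine hDo (Subtype.ext ?_)
      rw [hμ, ho]
      funext g
      have : g ∈ μ.ker := hb ▸ Subgroup.mem_top g
      rw [MonoidHom.mem_ker] at this
      simp [this]
  · have hw' : w = 2 * p + 1 := by rw [hw, e]; ring
    rw [hw'] at hdvd
    have hcop : IsCoprime (2 * (p : ℤ) + 1) (4 * p) := ⟨2 * (p : ℤ) + 1, -(p + 1), by ring⟩
    have h1 := hcop.dvd_of_dvd_mul_left hdvd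
    have h2 : 2 * (p : ℤ) + 1 ∣ 3 := by
      have h3 := dvd_sub h1 (dvd_mul_right (2 * (p : ℤ) + 1) (2 * p - 2))
      rwa [show (n : ℤ) - (2 * p + 1) * (2 * p - 2) = 3 by linarith] at h3
    have := Int.le_of_dvd (by norm_num) h2
    omega

end CfsgLib.StructB
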