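import Cfsg.Agent.Lib.StructB.Order4pStructure
import Cfsg.Agent.Lib.Char.Column

/-!
# Counting involutions in a group with `|C(t)| = 4p`
-/

set_option autoImplicit false

namespace CfsgLib.StructB

variable {G : Type*} [Group G] [Finite G] {p : ℕ} {C : Subgroup G} {t : G}

theorem Cfg4p.three_le (h : Cfg4p p C t) : 3 ≤ p := by
  obtain ⟨a, ha, rfl⟩ := h.pow3
  exact Nat.le_self_pow (by omega) 3

theorem Cfg4p.tsq (h : Cfg4p p C t) : t * t = 1 := by
  rw [← pow_two, ← h.tord, pow_orderOf_eq_one]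

theorem Cfg4p.tne (h : Cfg4p p C t) : t ≠ 1 := fun e => by
  have := h.tord
  rw [e, orderOf_one] at this
  omega

theorem Cfg4p.exists_not_sq_one (h : Cfg4p p C t) : ∃ c ∈ C, c * c ≠ 1 := by
  by_contra hh
  push Not at hh
  have hsub : (C : Set G) ⊆ {1, t} := fun c hc => by
    rcases h.tuniq c hc (hh c hc) with e | e <;> simp [e]
  have h1 := (Set.ncard_le_ncard hsub (Set.toFinite _)).trans (Set.ncard_insert_le 1 {t})
  rw [Set.ncard_singleton, ← Nat.card_coe_set_eq] at h1
  have h2 : 2 * p ≤ 2 := h.cardC ▸ h1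
  have := h.three_le
  omega

theorem Cfg4p.not_abelian (h : Cfg4p p C t) : ¬ ∀ a b : G, a * b = b * a := by
  intro hab
  obtain ⟨c, hc, hcc⟩ := h.exists_not_sq_one
  have hN : Subgroup.centralizer ({t} : Set G) ≤ C := fun g hg => by
    by_contra hgC
    obtain ⟨-, -, -, hinv⟩ := h.outside g hg hgC
    have h1 := hinv c hc
    rw [hab g c, mul_inv_cancel_right] at h1
    exact hcc (mul_eq_one_iff_eq_inv.2 h1)
  have := Subgroup.card_le_of_le hN
  rw [h.cardN, h.cardC] at this
  have := h.three_le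
  omega

theorem Cfg4p.out_mul (h : Cfg4p p C t) {a b : G}
    (ha : a ∈ Subgroup.centralizer ({t} : Set G)) (ha' : a ∉ C)
    (hb : b ∈ Subgroup.centralizer ({t} : Set G)) (hb' : b ∉ C) : a * b ∈ C := by
  by_contra hab
  obtain ⟨c, hc, hcc⟩ := h.exists_not_sq_one
  obtain ⟨-, -, -, ia⟩ := h.outside a ha ha'
  obtain ⟨-, -, -, ib⟩ := h.outside b hb hb'
  obtain ⟨-, -, -, iab⟩ := h.outside _ (Subgroup.mul_mem _ ha hb) hab
  have h1 := iab c hc
  rw [show a * b * c * (a * b)⁻¹ = a * (b * c * b⁻¹) * a⁻¹ by group, ib c hc, ia _ (C.inv_mem hc), inv_inv] at h1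
  exact hcc (mul_eq_one_iff_eq_inv.2 h1)

/-- For an involution `u` not commuting with `t`, some conjugate of `C(t)` contains both outside its `C`. -/
theorem Cfg4p.exists_common (h : Cfg4p p C t) {u : G} (hu : orderOf u = 2) (hne : u * t ≠ t * u) :
    ∃ g : G, (g⁻¹ * t * g ∈ Subgroup.centralizer ({t} : Set G) ∧ g⁻¹ * t * g ∉ C) ∧
      (g⁻¹ * u * g ∈ Subgroup.centralizer ({t} : Set G) ∧ g⁻¹ * u * g ∉ C) := by
  haveI := h.simple
  have htt := h.tsq
  have huu : u * u = 1 := by rw [← pow_two, ← hu, pow_orderOf_eq_one]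
  have ht' : t⁻¹ = t := inv_eq_of_mul_eq_one_right htt
  have hu' : u⁻¹ = u := inv_eq_of_mul_eq_one_right huu
  obtain ⟨x, hx⟩ : ∃ x, x = t * u := ⟨_, rfl⟩
  have htx : t * x * t⁻¹ = x⁻¹ := by
    rw [hx, mul_inv_rev, ht', hu', ← mul_assoc t t u, htt, one_mul]
  have hux : u * x * u⁻¹ = x⁻¹ := by
    rw [hx, mul_inv_rev, ht', hu', show u * (t * u) * u = u * t * (u * u) by group, huu, mul_one]
  have hx1 : x ≠ 1 := fun e => hne (by
    have hut : u = t := (inv_eq_of_mul_eq_one_right (hx.symm.trans e)).symm.trans ht'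
    rw [hut])
  rcases Nat.even_or_odd (orderOf x) with ⟨k, hk⟩ | hodd
  · have hkpos : 0 < k := by have := orderOf_pos x; omega
    set z := x ^ k with hz
    have hzo : orderOf z = 2 := by
      rw [hz, orderOf_pow_of_dvd hkpos.ne' ⟨2, by omega⟩]
      rw [show orderOf x = 2 * k by omega, Nat.mul_div_cancel _ hkpos]
    have hzz : z⁻¹ = z := inv_eq_of_mul_eq_one_right (by rw [← pow_two, ← hzo, pow_orderOf_eq_one])
    have htz : t * z = z * t := by
      refine mul_inv_eq_iff_eq_mul.1 ?_
      rw [hz, ← conj_pow, htx, inv_pow, ← hz, hzz]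
    have huz : u * z = z * u := by
      refine mul_inv_eq_iff_eq_mul.1 ?_
      rw [hz, ← conj_pow, hux, inv_pow, ← hz, hzz]
    obtain ⟨g, hg⟩ := isConj_iff.1 (h.invconj z hzo)
    have hmem : ∀ w : G, w * z = z * w → g⁻¹ * w * g ∈ Subgroup.centralizer ({t} : Set G) := by
      intro w hw
      refine Subgroup.mem_centralizer_singleton_iff.2 ?_
      rw [← hg] at hw
      calc g⁻¹ * w * g * t = g⁻¹ * (w * (g * t * g⁻¹)) * g := by group
        _ = g⁻¹ * (g * t * g⁻¹ * w) * g := by rw [hw]
        _ = t * (g⁻¹ * w * g) := by group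
    have hnot : ∀ w : G, w * w = 1 → w ≠ 1 → w ≠ z → g⁻¹ * w * g ∉ C := by
      intro w hww hw1 hwz hC
      rcases h.tuniq _ hC (by
        rw [show g⁻¹ * w * g * (g⁻¹ * w * g) = g⁻¹ * (w * w) * g by group, hww, mul_one, inv_mul_cancel]) with e | e
      · exact hw1 (by rw [show w = g * (g⁻¹ * w * g) * g⁻¹ by group, e, mul_one, mul_inv_cancel])
      · refine hwz ?_
        rw [← hg, ← e]
        group
    have hu1 : u ≠ 1 := fun e => by rw [e, orderOf_one] at hu; omega
    exact ⟨g, ⟨hmem t htz, hnot t htt h.tne fun e => hne (by rw [e]; exact huz)⟩,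
      hmem u huz, hnot u huu hu1 fun e => hne (by rw [e]; exact htz.symm)⟩
  · set K := Subgroup.normalizer ((Subgroup.zpowers x : Subgroup G) : Set G) with hK
    have hKtop : K ≠ ⊤ := by
      intro e
      haveI : (Subgroup.zpowers x).Normal := Subgroup.normalizer_eq_top_iff.1 (hK ▸ e)
      rcases (inferInstance : (Subgroup.zpowers x).Normal).eq_bot_or_eq_top with e' | e'
      · exact hx1 (Subgroup.zpowers_eq_bot.1 e')
      · refine h.not_abelian fun a b => ?_
        obtain ⟨i, rfl⟩ : a ∈ Subgroup.zpowers x := e' ▸ Subgroup.mem_top a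
        obtain ⟨j, rfl⟩ : b ∈ Subgroup.zpowers x := e' ▸ Subgroup.mem_top b
        rw [← zpow_add, ← zpow_add, add_comm]
    have htK : t ∈ K := by
      rw [hK, Subgroup.mem_normalizer_iff]
      intro y
      have hconj : ∀ y ∈ Subgroup.zpowers x, t * y * t⁻¹ ∈ Subgroup.zpowers x := by
        rintro y ⟨i, rfl⟩
        exact ⟨-i, by rw [← conj_zpow, htx, inv_zpow']⟩
      refine ⟨hconj y, fun hy => ?_⟩
      have := hconj _ hy
      rw [ht', show t * (t * y * t) * t = t * t * y * (t * t) by group, htt, one_mul, mul_one] at this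
      exact this
    have hdiv := h.maxeven K hKtop (by rw [← h.tord]; exact Subgroup.orderOf_dvd_natCard _ htK)
    have hxK : x ∈ K := Subgroup.le_normalizer (Subgroup.mem_zpowers x)
    have hop : orderOf x ∣ p := by
      have h4 : Nat.Coprime (orderOf x) 4 := by
        rw [show (4 : ℕ) = 2 ^ 2 by norm_num]
        exact Nat.Coprime.pow_right 2 (Nat.coprime_two_right.2 hodd)
      exact h4.dvd_of_dvd_mul_left ((Subgroup.orderOf_dvd_natCard _ hxK).trans hdiv)
    obtain ⟨a, -, rfl⟩ := h.pow3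
    obtain ⟨j, -, hj⟩ := (Nat.dvd_prime_pow Nat.prime_three).1 hop
    obtain ⟨g, hg⟩ := h.threeconj x ⟨j, hj⟩
    have hg1 : g * x * g⁻¹ ≠ 1 := fun e => hx1 (conj_eq_one_iff.1 e)
    have key : ∀ w : G, w * x * w⁻¹ = x⁻¹ →
        g * w * g⁻¹ ∈ Subgroup.centralizer ({t} : Set G) ∧ g * w * g⁻¹ ∉ C := by
      intro w hw
      have e : g * w * g⁻¹ * (g * x * g⁻¹) * (g * w * g⁻¹)⁻¹ = (g * x * g⁻¹)⁻¹ := by
        rw [show g * w * g⁻¹ * (g * x * g⁻¹) * (g * w * g⁻¹)⁻¹ = g * (w * x * w⁻¹) * g⁻¹ by group, hw]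
        group
      refine ⟨h.fusion _ _ hg hg1 (by rw [e]; exact C.inv_mem hg), fun hC => ?_⟩
      rw [h.comm _ hC _ hg, mul_inv_cancel_right] at e
      have hsq : (g * x * g⁻¹) ^ 2 = 1 := by rw [pow_two]; exact mul_eq_one_iff_eq_inv.2 e
      rw [conj_pow, conj_eq_one_iff] at hsq
      have := Nat.le_of_dvd two_pos (orderOf_dvd_of_pow_eq_one hsq)
      have := orderOf_pos x
      rcases (show orderOf x = 1 ∨ orderOf x = 2 by omega) with h' | h'
      · exact hx1 (orderOf_eq_one_iff.1 h')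
      · rw [h'] at hodd; exact absurd hodd (by decide)
    refine ⟨g⁻¹, ?_⟩
    rw [inv_inv]
    exact ⟨key t htx, key u hux⟩

/-- The number of involutions is `4p² - 2p + 1`. -/
theorem Cfg4p.count (h : Cfg4p p C t) : ∃ n : ℕ, Nat.card G = 4 * p * n ∧ n + 2 * p = 4 * p * p + 1 := by
  classical
  have := Fintype.ofFinite G
  set N := Subgroup.centralizer ({t} : Set G) with hN
  let O : Finset G := Finset.univ.filter fun g => g ∈ N ∧ g ∉ C
  let U : Finset G := Finset.univ.filter fun u => orderOf u = 2 ∧ u * t ≠ t * u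
  let A : Finset G := Finset.univ.filter fun g => g⁻¹ * t * g ∈ O
  let I : Finset G := Finset.univ.filter fun u => orderOf u = 2
  have h3 := h.three_le
  have memO : ∀ g, g ∈ O ↔ g ∈ N ∧ g ∉ C := fun g => by simp [O]
  have cardfilter : ∀ H : Subgroup G, (Finset.univ.filter fun g => g ∈ H).card = Nat.card H := fun H => by
    rw [Nat.card_eq_fintype_card, Fintype.card_subtype]
  have hOcard : O.card = 2 * p := by
    have e : O = (Finset.univ.filter fun g => g ∈ N) \ (Finset.univ.filter fun g => g ∈ C) := by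
      ext g; simp [O]
    rw [e, Finset.card_sdiff_of_subset (fun g hg => by
      simp only [Finset.mem_filter, Finset.mem_univ, true_and] at hg ⊢; exact h.CleN hg),
      cardfilter, cardfilter, h.cardN, h.cardC]
    omega
  have hO2 : ∀ g ∈ O, orderOf g = 2 := fun g hg => by
    obtain ⟨h1, h2, -, -⟩ := h.outside g ((memO g).1 hg).1 ((memO g).1 hg).2
    exact orderOf_eq_two_of_mul_self h1 h2
  -- translates of a centraliser
  have hconjO : ∀ g ∈ N, ∀ s ∈ O, g * s * g⁻¹ ∈ O := fun g hg s hs => by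
    obtain ⟨hs1, hs2⟩ := (memO s).1 hs
    refine (memO _).2 ⟨N.mul_mem (N.mul_mem hg hs1) (N.inv_mem hg), fun hc => hs2 ?_⟩
    have := h.conjC g⁻¹ (N.inv_mem hg) _ hc
    rwa [show g⁻¹ * (g * s * g⁻¹) * g⁻¹⁻¹ = s by group] at this
  have hA : A.card = 2 * p * (4 * p) := by
    rw [← hOcard, Finset.card_eq_sum_card_fiberwise (s := A) (f := fun g => g⁻¹ * t * g) (t := O)
      (fun g hg => (Finset.mem_filter.1 (Finset.mem_coe.1 hg)).2), ← smul_eq_mul, ← Finset.sum_const]
    refine Finset.sum_congr rfl fun s hs => ?_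
    obtain ⟨g0, hg0⟩ := isConj_iff.1 (h.invconj s (hO2 s hs))
    rw [← h.cardN, ← cardfilter]
    refine Finset.card_bij' (fun g _ => g * g0) (fun b _ => b * g0⁻¹) ?_ ?_ ?_ ?_
    · intro g hg
      simp only [Finset.mem_filter, A] at hg
      simp only [Finset.mem_filter, Finset.mem_univ, true_and, Subgroup.mem_centralizer_singleton_iff]
      obtain ⟨-, hg⟩ := hg
      have : g * g0 * t = t * (g * g0) := by
        rw [← hg0] at hg
        calc g * g0 * t = g * (g0 * t * g0⁻¹) * g0 := by group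
          _ = g * (g⁻¹ * t * g) * g0 := by rw [hg]
          _ = t * (g * g0) := by group
      exact this
    · intro b hb
      simp only [Finset.mem_filter, Finset.mem_univ, true_and, Subgroup.mem_centralizer_singleton_iff] at hb
      simp only [Finset.mem_filter, A, Finset.mem_univ, true_and]
      have : (b * g0⁻¹)⁻¹ * t * (b * g0⁻¹) = s := by
        rw [show (b * g0⁻¹)⁻¹ * t * (b * g0⁻¹) = g0 * (b⁻¹ * (t * b)) * g0⁻¹ by group, ← hb, inv_mul_cancel_left, hg0]
      exact ⟨by rw [this]; exact hs, this⟩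
    · intro g _; group
    · intro b _; group
  have habove : ∀ u ∈ U, (A.filter fun g => g⁻¹ * u * g ∈ O).card = 4 * p := by
    intro u hu
    obtain ⟨hu2, hune⟩ := (Finset.mem_filter.1 hu).2
    obtain ⟨g0, hg0t, hg0u⟩ := h.exists_common hu2 hune
    rw [← h.cardN, ← cardfilter]
    refine Finset.card_bij' (fun g _ => g0⁻¹ * g) (fun b _ => g0 * b) ?_ ?_ ?_ ?_
    · intro g hg
      simp only [Finset.mem_filter, A, Finset.mem_univ, true_and, memO] at hg
      simp only [Finset.mem_filter, Finset.mem_univ, true_and]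
      obtain ⟨⟨h1, h2⟩, h3, h4⟩ := hg
      have hm := h.out_mul hg0t.1 hg0t.2 hg0u.1 hg0u.2
      have hm' := h.out_mul h1 h2 h3 h4
      have htt := h.tsq
      have hne1 : g⁻¹ * t * g * (g⁻¹ * u * g) ≠ 1 := by
        intro e
        rw [show g⁻¹ * t * g * (g⁻¹ * u * g) = g⁻¹ * (t * u) * g by group] at e
        have e' : t * u = 1 := by rw [show t * u = g * (g⁻¹ * (t * u) * g) * g⁻¹ by group, e, mul_one, mul_inv_cancel]
        exact hune (by rw [← inv_eq_of_mul_eq_one_right e', inv_mul_cancel, mul_inv_cancel])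
      refine h.fusion _ _ hm' hne1 ?_
      rw [show g0⁻¹ * g * (g⁻¹ * t * g * (g⁻¹ * u * g)) * (g0⁻¹ * g)⁻¹ = g0⁻¹ * t * g0 * (g0⁻¹ * u * g0) by group]
      exact hm
    · intro b hb
      simp only [Finset.mem_filter, Finset.mem_univ, true_and] at hb
      simp only [Finset.mem_filter, A, Finset.mem_univ, true_and]
      rw [show (g0 * b)⁻¹ * t * (g0 * b) = b⁻¹ * (g0⁻¹ * t * g0) * b⁻¹⁻¹ by group,
        show (g0 * b)⁻¹ * u * (g0 * b) = b⁻¹ * (g0⁻¹ * u * g0) * b⁻¹⁻¹ by group]
      exact ⟨hconjO _ (N.inv_mem hb) _ ((memO _).2 hg0t), hconjO _ (N.inv_mem hb) _ ((memO _).2 hg0u)⟩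
    · intro g _; group
    · intro b _; group
  have hbelow : ∀ g ∈ A, (U.filter fun u => g⁻¹ * u * g ∈ O).card = 2 * p - 2 := by
    intro g hg
    obtain ⟨s, hs, hsdef⟩ : ∃ s ∈ O, g⁻¹ * t * g = s := ⟨_, (Finset.mem_filter.1 hg).2, rfl⟩
    obtain ⟨hsN, hsC⟩ := (memO s).1 hs
    obtain ⟨hss, -, -, hsinv⟩ := h.outside s hsN hsC
    have htsO : t * s ∈ O := (memO _).2 ⟨N.mul_mem (h.CleN h.tmem) hsN,
      fun hc => hsC (by simpa using C.mul_mem (C.inv_mem h.tmem) hc)⟩
    have hcomm : ∀ s' ∈ O, (s' * s = s * s' ↔ s' = s ∨ s' = t * s) := by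
      intro s' hs'
      have hts : t * s = s * t := (Subgroup.mem_centralizer_singleton_iff.1 hsN).symm
      constructor
      · intro e
        obtain ⟨h1', h2'⟩ := (memO s').1 hs'
        have hc := h.out_mul h1' h2' hsN hsC
        obtain ⟨hs's', -, -, -⟩ := h.outside s' h1' h2'
        have hcc : s' * s * (s' * s) = 1 := by
          calc s' * s * (s' * s) = s' * (s * s') * s := by group
            _ = s' * (s' * s) * s := by rw [e]
            _ = (s' * s') * (s * s) := by group
            _ = 1 := by rw [hs's', hss, one_mul]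
        rcases h.tuniq _ hc hcc with e' | e'
        · left
          exact mul_right_cancel (e'.trans hss.symm)
        · right
          rw [← e', mul_assoc, hss, mul_one]
      · rintro (rfl | rfl)
        · rfl
        · rw [← mul_assoc s t s, ← hts]
    have e : (U.filter fun u => g⁻¹ * u * g ∈ O).card = (O \ {s, t * s}).card := by
      refine Finset.card_bij' (fun u _ => g⁻¹ * u * g) (fun v _ => g * v * g⁻¹) ?_ ?_ ?_ ?_
      · intro u hu
        simp only [Finset.mem_filter, U, Finset.mem_univ, true_and] at hu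
        obtain ⟨⟨-, hune⟩, huO⟩ := hu
        simp only [Finset.mem_sdiff, Finset.mem_insert, Finset.mem_singleton]
        refine ⟨huO, fun e => hune ?_⟩
        have := (hcomm _ huO).2 e
        rw [← hsdef] at this
        calc u * t = g * (g⁻¹ * u * g * (g⁻¹ * t * g)) * g⁻¹ := by group
          _ = g * (g⁻¹ * t * g * (g⁻¹ * u * g)) * g⁻¹ := by rw [this]
          _ = t * u := by group
      · intro v hv
        simp only [Finset.mem_sdiff, Finset.mem_insert, Finset.mem_singleton] at hv
        simp only [Finset.mem_filter, U, Finset.mem_univ, true_and]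
        refine ⟨⟨?_, fun e => hv.2 ((hcomm v hv.1).1 ?_)⟩, by simpa [mul_assoc] using hv.1⟩
        · rw [← hO2 v hv.1]
          exact (MulAut.conj g).orderOf_eq v
        · rw [← hsdef]
          calc v * (g⁻¹ * t * g) = g⁻¹ * (g * v * g⁻¹ * t) * g := by group
            _ = g⁻¹ * (t * (g * v * g⁻¹)) * g := by rw [e]
            _ = g⁻¹ * t * g * v := by group
      · intro u _; group
      · intro v _; group
    rw [e, Finset.card_sdiff_of_subset (by intro y hy; simp at hy; rcases hy with rfl | rfl <;> assumption),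
      Finset.card_pair (fun e => h.tne (by simpa using e.symm)), hOcard]
  have hdc : U.card * (4 * p) = A.card * (2 * p - 2) :=
    Finset.card_mul_eq_card_mul (fun u g => g⁻¹ * u * g ∈ O) habove hbelow
  have hI : I = U ∪ insert t O := by
    ext u
    simp only [I, U, Finset.mem_union, Finset.mem_insert, Finset.mem_filter, Finset.mem_univ, true_and, memO]
    refine ⟨fun hu => ?_, ?_⟩
    · by_cases e : u * t = t * u
      · right
        by_cases hc : u ∈ C
        · left
          refine (h.tuniq u hc (by rw [← pow_two, ← hu, pow_orderOf_eq_one])).resolve_left fun h1 => ?_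
          rw [h1, orderOf_one] at hu; omega
        · exact Or.inr ⟨Subgroup.mem_centralizer_singleton_iff.2 e, hc⟩
      · exact Or.inl ⟨hu, e⟩
    · rintro (h' | rfl | h')
      · exact h'.1
      · exact h.tord
      · exact hO2 u ((memO u).2 h')
  have hIcard : I.card = U.card + (1 + 2 * p) := by
    rw [hI, Finset.card_union_of_disjoint, Finset.card_insert_of_notMem, hOcard, add_comm (2 * p)]
    · simp only [memO]; exact fun e => e.2 h.tmem
    · rw [Finset.disjoint_left]
      intro u hu hu'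
      obtain ⟨-, hune⟩ := (Finset.mem_filter.1 hu).2
      rcases Finset.mem_insert.1 hu' with rfl | hu'
      · exact hune rfl
      · exact hune (Subgroup.mem_centralizer_singleton_iff.1 ((memO u).1 hu').1)
  refine ⟨I.card, ?_, ?_⟩
  · rw [← CfsgLib.Char.natCard_carrier_mul_centralizer t, h.cardN, mul_comm (4 * p)]
    congr 1
    rw [Nat.card_eq_fintype_card, ← Set.toFinset_card]
    congr 1
    ext u
    simp only [Set.mem_toFinset, ConjClasses.mem_carrier_iff_mk_eq, ConjClasses.mk_eq_mk_iff_isConj, I,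
      Finset.mem_filter, Finset.mem_univ, true_and]
    refine ⟨fun e => ?_, fun e => (h.invconj u e).symm⟩
    obtain ⟨g, rfl⟩ := isConj_iff.1 e.symm
    rw [← h.tord]
    exact (MulAut.conj g).orderOf_eq t
  · rw [hA] at hdc
    have hU : U.card = 2 * p * (2 * p - 2) :=
      Nat.eq_of_mul_eq_mul_left (show 0 < 4 * p by omega) (by rw [mul_comm, hdc]; ring)
    rw [hIcard, hU]
    obtain ⟨q, rfl⟩ : ∃ q, p = q + 1 := ⟨p - 1, by omega⟩
    rw [show 2 * (q + 1) - 2 = 2 * q by omega]
    ring

end CfsgLib.StructB
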