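import Mathlib
import Cfsg.Prelude.Def_OddOrderLocal

/-!
# Local structure for a group with `|N(P)| = 4|P|`, `|C(P)| = 2|P|`, `C(P)` TI
-/

set_option autoImplicit false

namespace CfsgLib.StructB

open scoped Pointwise

/-- The data extracted from the hypotheses: `C` is abelian of order `2p` with involution `t`, every element of
`N = C(t)` outside `C` is an involution inverting `C`, fusion in `C` is controlled by `N`, and all involutions
are conjugate to `t`. -/
structure Cfg4p {G : Type*} [Group G] (p : ℕ) (C : Subgroup G) (t : G) : Prop where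
  simple : IsSimpleGroup G
  pow3 : ∃ a : ℕ, 1 ≤ a ∧ p = 3 ^ a
  threeconj : ∀ x : G, (∃ k : ℕ, orderOf x = 3 ^ k) → ∃ g : G, g * x * g⁻¹ ∈ C
  comm : ∀ a ∈ C, ∀ b ∈ C, a * b = b * a
  cardC : Nat.card C = 2 * p
  tmem : t ∈ C
  tord : orderOf t = 2
  tuniq : ∀ c ∈ C, c * c = 1 → c = 1 ∨ c = t
  cardN : Nat.card (Subgroup.centralizer ({t} : Set G)) = 4 * p
  conjC : ∀ g ∈ Subgroup.centralizer ({t} : Set G), ∀ c ∈ C, g * c * g⁻¹ ∈ C
  CleN : C ≤ Subgroup.centralizer ({t} : Set G)
  outside : ∀ g ∈ Subgroup.centralizer ({t} : Set G), g ∉ C →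
    g * g = 1 ∧ g ≠ 1 ∧ g ≠ t ∧ ∀ c ∈ C, g * c * g⁻¹ = c⁻¹
  fusion : ∀ g : G, ∀ c ∈ C, c ≠ 1 → g * c * g⁻¹ ∈ C → g ∈ Subgroup.centralizer ({t} : Set G)
  invconj : ∀ u : G, orderOf u = 2 → IsConj t u
  four : ∃ S : Subgroup G, Nat.card S = 4 ∧ t ∈ S ∧ ∀ g ∈ S, g ≠ 1 → orderOf g = 2
  maxeven : ∀ H : Subgroup G, H ≠ ⊤ → 2 ∣ Nat.card H → Nat.card H ∣ 4 * p

variable {G : Type*} [Group G] [Finite G]

theorem orderOf_eq_two_of_mul_self {g : G} (h : g * g = 1) (h1 : g ≠ 1) : orderOf g = 2 :=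
  orderOf_eq_prime (by rw [pow_two]; exact h) h1

theorem cfg4p_of_hyps [IsSimpleGroup G] (P : Sylow 3 G) (hab : IsMulCommutative P)
    (hN : Nat.card (Subgroup.normalizer ((P : Subgroup G) : Set G)) = 4 * Nat.card P)
    (hC : Nat.card (Subgroup.centralizer (P : Set G)) = 2 * Nat.card P)
    (hTI : Cfsg.IsTISubset (Subgroup.centralizer (P : Set G) : Set G))
    (heven : ∀ H : Subgroup G, H ≠ ⊤ → 2 ∣ Nat.card H → Nat.card H ∣ 4 * Nat.card P) :
    ∃ t : G, Cfg4p (Nat.card P) (Subgroup.centralizer (P : Set G)) t := by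
  classical
  haveI : Fact (Nat.Prime 3) := ⟨Nat.prime_three⟩
  haveI : Fact (Nat.Prime 2) := ⟨Nat.prime_two⟩
  set p := Nat.card P with hp
  set C := Subgroup.centralizer (P : Set G) with hCdef
  set N := Subgroup.normalizer ((P : Subgroup G) : Set G) with hNdef
  obtain ⟨a, ha⟩ := IsPGroup.iff_card.1 P.isPGroup'
  have hppos : 0 < p := Nat.card_pos
  have hcomm : ∀ x ∈ (P : Subgroup G), ∀ y ∈ (P : Subgroup G), x * y = y * x := fun x hx y hy =>
    congrArg Subtype.val (hab.is_comm.comm ⟨x, hx⟩ ⟨y, hy⟩)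
  have hPC : (P : Subgroup G) ≤ C := fun x hx => Subgroup.mem_centralizer_iff.2 fun y hy => hcomm y hy x hx
  have hCN : C ≤ N := Subgroup.centralizer_le_normalizer _
  have hPntop : (P : Subgroup G) ≠ ⊤ := by
    intro h
    have h1 : Nat.card (Subgroup.normalizer ((P : Subgroup G) : Set G)) ≤ Nat.card G := Subgroup.card_le_card_group _
    have h2 : p = Nat.card G := (congrArg (fun K : Subgroup G => Nat.card K) h).trans Subgroup.card_top
    rw [← hNdef] at h1
    omega
  have hPbot : (P : Subgroup G) ≠ ⊥ := by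
    intro h
    have h1 : N = ⊤ := by rw [hNdef, h]; exact Subgroup.normalizer_eq_top _
    have h2 : C = ⊤ := eq_top_iff.2 fun g _ => Subgroup.mem_centralizer_iff.2 fun y hy => by
      have : y = 1 := Subgroup.mem_bot.1 (h ▸ (hy : y ∈ (P : Subgroup G)))
      rw [this, one_mul, mul_one]
    rw [h1, Subgroup.card_top] at hN
    rw [h2, Subgroup.card_top] at hC
    omega
  have hPnn : ¬ (P : Subgroup G).Normal := fun h => (h.eq_bot_or_eq_top).elim hPbot hPntop
  have ha1 : 1 ≤ a := by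
    by_contra h0
    exact hPbot (Subgroup.card_eq_one.1 (by rw [ha, show a = 0 by omega, pow_zero]))
  have hodd : ¬ 2 ∣ p := by
    rw [hp, ha]; intro h
    exact absurd ((Nat.prime_dvd_prime_iff_eq Nat.prime_two Nat.prime_three).1 (Nat.prime_two.dvd_of_dvd_pow h)) (by norm_num)
  have h3G : 3 ∣ Nat.card G :=
    (dvd_pow_self 3 (by omega : a ≠ 0)).trans (ha ▸ Subgroup.card_subgroup_dvd_card _)
  -- 3-elements normalising P lie in P
  have hinP : ∀ g ∈ N, (∃ k : ℕ, orderOf g = 3 ^ k) → g ∈ (P : Subgroup G) := by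
    intro g hg ⟨k, hk⟩
    have hz : IsPGroup 3 (Subgroup.zpowers g) := IsPGroup.of_card (n := k) (by rw [Nat.card_zpowers, hk])
    have h1 : IsPGroup 3 (Subgroup.zpowers g ⊔ P : Subgroup G) :=
      hz.to_sup_of_normal_right' P.isPGroup' (by rw [Subgroup.zpowers_le]; exact hg)
    rw [← P.is_maximal' h1 le_sup_right]
    exact Subgroup.mem_sup_left (Subgroup.mem_zpowers g)
  obtain ⟨⟨t, htC⟩, ht⟩ := exists_prime_orderOf_dvd_card' (G := C) 2 (hC ▸ dvd_mul_right 2 _)
  rw [Subgroup.orderOf_mk] at ht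
  have ht1 : t ≠ 1 := fun h => by rw [h, orderOf_one] at ht; omega
  -- C = P ⟨t⟩ is abelian
  have hPt : C ≤ (P : Subgroup G) ⊔ Subgroup.zpowers t := by
    have hle : (P : Subgroup G) ⊔ Subgroup.zpowers t ≤ C := sup_le hPC (Subgroup.zpowers_le.2 htC)
    refine le_of_eq (Subgroup.eq_of_le_of_card_ge hle ?_).symm
    rw [hC]
    refine Nat.le_of_dvd Nat.card_pos (Nat.Coprime.mul_dvd_of_dvd_of_dvd
      ((Nat.prime_two.coprime_iff_not_dvd).2 hodd) ?_ (Subgroup.card_dvd_of_le le_sup_left))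
    calc 2 = Nat.card (Subgroup.zpowers t) := by rw [Nat.card_zpowers, ht]
      _ ∣ _ := Subgroup.card_dvd_of_le le_sup_right
  have hCcomm : ∀ x ∈ C, ∀ y ∈ C, x * y = y * x := by
    have h2 : (P : Subgroup G) ⊔ Subgroup.zpowers t ≤ Subgroup.centralizer (C : Set G) := by
      refine sup_le (fun x hx => Subgroup.mem_centralizer_iff.2 fun y hy =>
        ((Subgroup.mem_centralizer_iff.1 hy) x hx).symm) ?_
      rw [Subgroup.zpowers_le, Subgroup.mem_centralizer_iff]
      intro y hy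
      have h3 : (P : Subgroup G) ⊔ Subgroup.zpowers t ≤ Subgroup.centralizer ({t} : Set G) := by
        refine sup_le (fun x hx => Subgroup.mem_centralizer_singleton_iff.2
          ((Subgroup.mem_centralizer_iff.1 htC) x hx)) ?_
        rw [Subgroup.zpowers_le, Subgroup.mem_centralizer_singleton_iff]
      exact Subgroup.mem_centralizer_singleton_iff.1 (h3 (hPt hy))
    intro x hx y hy
    exact Subgroup.mem_centralizer_iff.1 (h2 (hPt hy)) x hx
  have htu : ∀ c ∈ C, c * c = 1 → c = 1 ∨ c = t := by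
    intro c hc hcc
    by_contra hh
    push Not at hh
    have hc2 : orderOf c = 2 := orderOf_eq_two_of_mul_self hcc hh.1
    haveI : IsMulCommutative C := ⟨⟨fun x y => Subtype.ext (hCcomm x x.2 y y.2)⟩⟩
    have hd : Nat.card (Subgroup.zpowers t ⊔ Subgroup.zpowers c : Subgroup G) ∣ 2 * p :=
      hC ▸ Subgroup.card_dvd_of_le (sup_le (Subgroup.zpowers_le.2 htC) (Subgroup.zpowers_le.2 hc))
    have hp2 : IsPGroup 2 (Subgroup.zpowers t ⊔ Subgroup.zpowers c : Subgroup G) := by
      refine (IsPGroup.of_card (n := 1) (by rw [Nat.card_zpowers, ht, pow_one])).to_sup_of_normal_left'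
        (IsPGroup.of_card (n := 1) (by rw [Nat.card_zpowers, hc2, pow_one])) ?_
      rw [Subgroup.zpowers_le]
      refine Subgroup.centralizer_le_normalizer _ (Subgroup.mem_centralizer_iff.2 ?_)
      intro y hy
      exact hCcomm y (Subgroup.zpowers_le.2 htC hy) c hc
    obtain ⟨k, hk⟩ := IsPGroup.iff_card.1 hp2
    have hk2 : k ≤ 1 := by
      by_contra hk2
      apply hodd
      have : 2 ^ 2 ∣ 2 * p := (pow_dvd_pow 2 (by omega : 2 ≤ k)).trans (hk ▸ hd)
      omega
    have h1 : Subgroup.zpowers t = Subgroup.zpowers t ⊔ Subgroup.zpowers c := by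
      refine Subgroup.eq_of_le_of_card_ge le_sup_left ?_
      rw [hk, Nat.card_zpowers, ht]
      exact (Nat.pow_le_pow_right two_pos hk2).trans (le_of_eq (pow_one 2))
    have h2 : c ∈ Subgroup.zpowers t := h1 ▸ Subgroup.mem_sup_right (Subgroup.mem_zpowers c)
    obtain ⟨j, hj, rfl⟩ : ∃ j, j < 2 ∧ t ^ j = c := by
      obtain ⟨j, hj⟩ := (isOfFinOrder_of_finite t).mem_powers_iff_mem_zpowers.2 h2
      exact ⟨j % 2, Nat.mod_lt _ two_pos, by rw [← ht, pow_mod_orderOf]; exact hj⟩
    rcases (show j = 0 ∨ j = 1 by omega) with rfl | rfl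
    · exact hh.1 (pow_zero t)
    · exact hh.2 (pow_one t)
  have hconjC : ∀ g ∈ N, ∀ c ∈ C, g * c * g⁻¹ ∈ C := by
    intro g hg c hc
    refine Subgroup.mem_centralizer_iff.2 fun y hy => ?_
    have hy' : g⁻¹ * y * g ∈ (P : Subgroup G) := by
      have := (Subgroup.mem_normalizer_iff.1 (N.inv_mem hg) y).1 hy
      simpa using this
    have := Subgroup.mem_centralizer_iff.1 hc _ hy'
    calc y * (g * c * g⁻¹) = g * (g⁻¹ * y * g * c) * g⁻¹ := by group
      _ = g * (c * (g⁻¹ * y * g)) * g⁻¹ := by rw [this]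
      _ = g * c * g⁻¹ * y := by group
  have hnonab : Subgroup.center G = ⊥ := by
    refine ((inferInstance : (Subgroup.center G).Normal).eq_bot_or_eq_top).resolve_right fun h => hPnn ⟨fun x hx g => ?_⟩
    rw [(Subgroup.mem_center_iff.1 (h ▸ Subgroup.mem_top x : x ∈ Subgroup.center G) g), mul_inv_cancel_right]
    exact hx
  set Ct := Subgroup.centralizer ({t} : Set G) with hCt
  have hNle : N ≤ Ct := by
    intro g hg
    have h1 := hconjC g hg t htC
    rcases htu _ h1 (by rw [show g * t * g⁻¹ * (g * t * g⁻¹) = g * (t * t) * g⁻¹ by group,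
      ← pow_two t, ← ht, pow_orderOf_eq_one]; group) with h | h
    · exact absurd (conj_eq_one_iff.1 h) ht1
    · exact Subgroup.mem_centralizer_singleton_iff.2 (mul_inv_eq_iff_eq_mul.1 h)
  have hCtne : Ct ≠ ⊤ := fun h => ht1 (Subgroup.mem_bot.1 (hnonab ▸ Subgroup.mem_center_iff.2 fun g =>
    Subgroup.mem_centralizer_singleton_iff.1 (h ▸ Subgroup.mem_top g : g ∈ Ct)))
  have hCtN : Ct = N := by
    refine (Subgroup.eq_of_le_of_card_ge hNle ?_).symm
    rw [hN]
    refine Nat.le_of_dvd (by omega) (heven Ct hCtne ?_)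
    calc 2 = orderOf t := ht.symm
      _ ∣ Nat.card Ct := Subgroup.orderOf_dvd_natCard _ (Subgroup.mem_centralizer_singleton_iff.2 rfl)
  have hfus : ∀ g : G, ∀ c ∈ C, c ≠ 1 → g * c * g⁻¹ ∈ C → g ∈ N := by
    intro g c hc hc1 hgc
    have hn : g ∈ Subgroup.normalizer (C : Set G) := by
      by_contra hn
      exact hc1 (hTI g hn c hc hgc)
    rw [hNdef, Subgroup.mem_normalizer_iff]
    have key : ∀ h ∈ Subgroup.normalizer (C : Set G), ∀ x ∈ (P : Subgroup G), h * x * h⁻¹ ∈ (P : Subgroup G) := by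
      intro h hh x hx
      refine hinP _ (hCN ((Subgroup.mem_normalizer_iff.1 hh x).1 (hPC hx))) ?_
      obtain ⟨k, hk⟩ := IsPGroup.iff_orderOf.1 P.isPGroup' ⟨x, hx⟩
      exact ⟨k, by rw [← hk, Subgroup.orderOf_mk]; exact (MulAut.conj h).orderOf_eq x⟩
    intro x
    refine ⟨key g hn x, fun h => ?_⟩
    have := key g⁻¹ (Subgroup.inv_mem _ hn) _ h
    simpa [mul_assoc] using this
  -- the Sylow 2-subgroup
  obtain ⟨S, hS⟩ := (IsPGroup.of_card (n := 1) (by rw [Nat.card_zpowers, ht, pow_one]) :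
    IsPGroup 2 (Subgroup.zpowers t)).exists_le_sylow
  have htS : t ∈ (S : Subgroup G) := hS (Subgroup.mem_zpowers t)
  have hSne : (S : Subgroup G) ≠ ⊤ := by
    intro h
    obtain ⟨k, hk⟩ := IsPGroup.iff_card.1 S.isPGroup'
    rw [h, Subgroup.card_top] at hk
    exact absurd ((Nat.prime_dvd_prime_iff_eq Nat.prime_three Nat.prime_two).1
      (Nat.prime_three.dvd_of_dvd_pow (hk ▸ h3G))) (by norm_num)
  have hS2 : 2 ∣ Nat.card (S : Subgroup G) :=
    (dvd_of_eq ht.symm).trans (Subgroup.orderOf_dvd_natCard _ htS)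
  have hScard : Nat.card (S : Subgroup G) = 4 := by
    obtain ⟨k, hk⟩ := IsPGroup.iff_card.1 S.isPGroup'
    have h4 : 4 ∣ Nat.card G := (dvd_mul_right 4 _).trans (hN ▸ Subgroup.card_subgroup_dvd_card _)
    have h4S : 2 ^ 2 ∣ Nat.card (S : Subgroup G) := S.pow_dvd_card_of_pow_dvd_card h4
    have hd := heven _ hSne hS2
    rw [hk] at hd h4S ⊢
    have : 2 ^ k ∣ 4 := (Nat.Coprime.pow_left k ((Nat.prime_two.coprime_iff_not_dvd).2 hodd)).dvd_of_dvd_mul_right hd
    exact le_antisymm (Nat.le_of_dvd (by norm_num) this) (Nat.le_of_dvd (by positivity) h4S)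
  have hmin : (Nat.card G).minFac = 2 := by
    rw [Nat.minFac_eq_two_iff]; exact hS2.trans (Subgroup.card_subgroup_dvd_card _)
  have hnocompl : ∀ (hle : Subgroup.normalizer ((S : Subgroup G) : Set G) ≤ Subgroup.centralizer (S : Set G)), False := by
    intro hle
    have hc := MonoidHom.ker_transferSylow_isComplement' S hle
    have hcm := hc.card_mul
    rcases ((MonoidHom.transferSylow S hle).normal_ker).eq_bot_or_eq_top with h | h
    · rw [h, Subgroup.card_bot, one_mul] at hcm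
      exact hSne (Subgroup.eq_top_of_card_eq _ hcm)
    · rw [h, Subgroup.card_top] at hcm
      have := Nat.card_pos (α := G)
      rw [hScard] at hcm; omega
  have hS4 : ∀ g ∈ (S : Subgroup G), g ≠ 1 → orderOf g = 2 := by
    intro g hg hg1
    have hd : orderOf g ∣ 2 ^ 2 := by
      have := Subgroup.orderOf_dvd_natCard _ hg; rw [hScard] at this; simpa using this
    obtain ⟨j, hj2, hj⟩ := (Nat.dvd_prime_pow Nat.prime_two).1 hd
    rcases (show j = 0 ∨ j = 1 ∨ j = 2 by omega) with rfl | rfl | rfl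
    · exact absurd (orderOf_eq_one_iff.1 (by simpa using hj)) hg1
    · simpa using hj
    · exfalso
      have hc : IsCyclic S := isCyclic_of_orderOf_eq_card (⟨g, hg⟩ : (S : Subgroup G))
        (by rw [Subgroup.orderOf_mk, hj, hScard]; norm_num)
      exact hnocompl (IsCyclic.normalizer_le_centralizer hmin hc)
  have hprod : ∀ x ∈ (S : Subgroup G), ∀ y ∈ (S : Subgroup G), x * y = y * x := by
    intro x hx y hy
    have hsq : ∀ z ∈ (S : Subgroup G), z⁻¹ = z := fun z hz => by
      rcases eq_or_ne z 1 with rfl | h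
      · simp
      · exact inv_eq_of_mul_eq_one_right (by rw [← pow_two, ← hS4 z hz h, pow_orderOf_eq_one])
    rw [← hsq _ (Subgroup.mul_mem _ hx hy), mul_inv_rev, hsq x hx, hsq y hy]
  -- all involutions of S are conjugate to t
  have hconjS : ∀ b ∈ (S : Subgroup G), b ≠ 1 → IsConj t b := by
    obtain ⟨f, hfN, hfC⟩ := SetLike.not_le_iff_exists.1 hnocompl
    obtain ⟨m, o, ho, hfo⟩ := Nat.exists_eq_pow_mul_and_not_dvd (orderOf_pos f).ne' 2 (by norm_num)
    -- the odd part of f
    set g := f ^ (2 ^ m) with hg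
    have hgo : orderOf g = o := by
      rw [hg, orderOf_pow_of_dvd (by positivity) (Dvd.intro _ hfo.symm), hfo, Nat.mul_div_cancel_left _ (by positivity)]
    have hgN : g ∈ Subgroup.normalizer ((S : Subgroup G) : Set G) := Subgroup.pow_mem _ hfN _
    have hgC : g ∉ Subgroup.centralizer ((S : Subgroup G) : Set G) := by
      intro h
      apply hfC
      -- the 2-part of f lies in S
      have h2 : f ^ o ∈ (S : Subgroup G) := by
        have hz : IsPGroup 2 (Subgroup.zpowers (f ^ o)) := by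
          refine IsPGroup.of_card (n := m) ?_
          rw [Nat.card_zpowers, orderOf_pow_of_dvd (by intro h0; rw [h0] at ho; exact ho (dvd_zero 2))
            (Dvd.intro_left _ hfo.symm), hfo, Nat.mul_div_cancel _ (Nat.pos_of_ne_zero (by intro h0; rw [h0] at ho; exact ho (dvd_zero 2)))]
        have h1 := hz.to_sup_of_normal_right' S.isPGroup' (by rw [Subgroup.zpowers_le]; exact Subgroup.pow_mem _ hfN _)
        rw [← S.is_maximal' h1 le_sup_right]
        exact Subgroup.mem_sup_left (Subgroup.mem_zpowers _)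
      have h3 : f ^ o ∈ Subgroup.centralizer ((S : Subgroup G) : Set G) :=
        Subgroup.mem_centralizer_iff.2 fun y hy => hprod y hy _ h2
      have hcop : Nat.Coprime (2 ^ m) o := (Nat.Coprime.pow_left m ((Nat.prime_two.coprime_iff_not_dvd).2 ho))
      obtain ⟨u, v, huv⟩ : ∃ u v : ℤ, (2 ^ m : ℕ) * u + (o : ℤ) * v = 1 := ⟨_, _, ((Nat.gcd_eq_gcd_ab _ _).symm.trans (by rw [hcop.gcd_eq_one]; rfl))⟩
      have : f = g ^ u * (f ^ o) ^ v := by
        rw [hg, ← zpow_natCast, ← zpow_natCast f o, ← zpow_mul, ← zpow_mul, ← zpow_add, huv, zpow_one]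
      rw [this]
      exact Subgroup.mul_mem _ (Subgroup.zpow_mem _ h _) (Subgroup.zpow_mem _ h3 _)
    have hgS : ∀ x ∈ (S : Subgroup G), g * x * g⁻¹ ∈ (S : Subgroup G) := fun x hx =>
      (Subgroup.mem_normalizer_iff.1 hgN x).1 hx
    have hmem4 : ∀ a b : G, a ∈ (S : Subgroup G) → b ∈ (S : Subgroup G) → a ≠ 1 → b ≠ 1 → a ≠ b →
        ∀ c ∈ (S : Subgroup G), c ≠ 1 → c = a ∨ c = b ∨ c = a * b := by
      intro a b ha hb ha1 hb1 hab' c hc hc1
      have hinv : ∀ z ∈ (S : Subgroup G), z ≠ 1 → z * z = 1 := fun z hz h => by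
        rw [← pow_two, ← hS4 z hz h, pow_orderOf_eq_one]
      by_contra hh
      push Not at hh
      let T : Finset G := {1, a, b, a * b, c}
      have hab1 : a * b ≠ 1 := fun h => hab' (mul_right_cancel (h.trans (hinv b hb hb1).symm))
      have hT : T.card = 5 := by
        simp only [T]
        rw [Finset.card_insert_of_notMem, Finset.card_insert_of_notMem, Finset.card_insert_of_notMem,
          Finset.card_insert_of_notMem, Finset.card_singleton]
        · simpa using hh.2.2.symm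
        · simp only [Finset.mem_insert, Finset.mem_singleton, not_or]
          exact ⟨fun h => ha1 (by simpa using h), hh.2.1.symm⟩
        · simp only [Finset.mem_insert, Finset.mem_singleton, not_or]
          exact ⟨hab', fun h => hb1 (by simpa using h), hh.1.symm⟩
        · simp only [Finset.mem_insert, Finset.mem_singleton, not_or]
          exact ⟨ha1.symm, hb1.symm, hab1.symm, hc1.symm⟩
      have hTS : (T : Set G) ⊆ (S : Subgroup G) := by
        intro z hz
        simp only [T, Finset.coe_insert, Finset.coe_singleton, Set.mem_insert_iff, Set.mem_singleton_iff] at hz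
        rcases hz with rfl | rfl | rfl | rfl | rfl
        exacts [Subgroup.one_mem _, ha, hb, Subgroup.mul_mem _ ha hb, hc]
      have := Set.ncard_le_ncard hTS (Set.toFinite _)
      rw [Set.ncard_coe_finset, hT, ← Nat.card_coe_set_eq] at this
      exact absurd (this.trans (le_of_eq hScard)) (by norm_num)
    have hnofix : ∀ x ∈ (S : Subgroup G), x ≠ 1 → g * x * g⁻¹ ≠ x := by
      intro x hx hx1 hfx
      apply hgC
      refine Subgroup.mem_centralizer_iff.2 fun y hy => ?_
      by_contra hne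
      have hy1 : y ≠ 1 := fun h => hne (by rw [h, one_mul, mul_one])
      have hyx : y ≠ x := fun h => hne (by rw [h, ← mul_inv_eq_iff_eq_mul.1 hfx])
      have hgy1 : g * y * g⁻¹ ≠ 1 := fun h => hy1 (conj_eq_one_iff.1 h)
      have hgy : g * y * g⁻¹ = x * y := by
        rcases hmem4 x y hx hy hx1 hy1 hyx.symm _ (hgS y hy) hgy1 with h | h | h
        · exact absurd (mul_left_cancel (mul_right_cancel (h.trans hfx.symm))) hyx
        · exact absurd (mul_inv_eq_iff_eq_mul.1 h).symm hne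
        · exact h
      have hsq : g ^ 2 * y = y * g ^ 2 := by
        rw [← mul_inv_eq_iff_eq_mul, pow_two,
          show g * g * y * (g * g)⁻¹ = g * (g * y * g⁻¹) * g⁻¹ by group, hgy,
          show g * (x * y) * g⁻¹ = g * x * g⁻¹ * (g * y * g⁻¹) by group, hfx, hgy, ← mul_assoc,
          show x * x = 1 by rw [← pow_two, ← hS4 x hx hx1, pow_orderOf_eq_one], one_mul]
      obtain ⟨r, hr⟩ : ∃ r, o = 2 * r + 1 := ⟨o / 2, by have := Nat.two_dvd_ne_zero.1 ho; omega⟩
      have hgp : g = (g ^ 2) ^ (r + 1) := by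
        rw [← pow_mul, show 2 * (r + 1) = o + 1 by omega, pow_succ, ← hgo, pow_orderOf_eq_one, one_mul]
      refine hne ?_
      rw [hgp]
      exact ((Commute.pow_left (show Commute (g ^ 2) y from hsq) _).eq).symm
    intro b hb hb1
    have ht' : g * t * g⁻¹ ∈ (S : Subgroup G) := hgS t htS
    have ht'1 : g * t * g⁻¹ ≠ 1 := fun h => ht1 (conj_eq_one_iff.1 h)
    rcases hmem4 t (g * t * g⁻¹) htS ht' ht1 ht'1 (hnofix t htS ht1).symm b hb hb1 with h | h | h
    · rw [h]
    · exact h ▸ isConj_iff.2 ⟨g, rfl⟩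
    · -- the third involution is the image of the second
      have h2 : g * (g * t * g⁻¹) * g⁻¹ = t * (g * t * g⁻¹) := by
        rcases hmem4 t (g * t * g⁻¹) htS ht' ht1 ht'1 (hnofix t htS ht1).symm _ (hgS _ ht')
          (fun h => ht'1 (conj_eq_one_iff.1 h)) with h' | h' | h'
        · exfalso
          have hfix2 : g ^ 2 * t = t * g ^ 2 := by
            rw [← mul_inv_eq_iff_eq_mul, pow_two]
            rw [show g * g * t * (g * g)⁻¹ = g * (g * t * g⁻¹) * g⁻¹ by group, h']
          obtain ⟨r, hr⟩ : ∃ r, o = 2 * r + 1 := ⟨o / 2, by have := Nat.two_dvd_ne_zero.1 ho; omega⟩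
          have hgp : g = (g ^ 2) ^ (r + 1) := by
            rw [← pow_mul, show 2 * (r + 1) = o + 1 by omega, pow_succ, ← hgo, pow_orderOf_eq_one, one_mul]
          refine hnofix t htS ht1 ?_
          rw [mul_inv_eq_iff_eq_mul, hgp]
          exact (Commute.pow_left (show Commute (g ^ 2) t from hfix2) _).eq
        · exact absurd h' (hnofix _ ht' ht'1)
        · exact h'
      rw [h, ← h2]
      exact (isConj_iff.2 ⟨g, rfl⟩).trans (isConj_iff.2 ⟨g, rfl⟩)
  have hinvconj : ∀ u : G, orderOf u = 2 → IsConj t u := by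
    intro u hu
    obtain ⟨T, hT⟩ := (IsPGroup.of_card (n := 1) (by rw [Nat.card_zpowers, hu, pow_one]) :
      IsPGroup 2 (Subgroup.zpowers u)).exists_le_sylow
    obtain ⟨g, hg⟩ := MulAction.exists_smul_eq G T S
    have hu' : g * u * g⁻¹ ∈ (S : Subgroup G) := by
      rw [← hg]
      show g * u * g⁻¹ ∈ MulAut.conj g • (T : Subgroup G)
      exact ⟨u, hT (Subgroup.mem_zpowers u), rfl⟩
    refine (hconjS _ hu' ?_).trans (isConj_iff.2 ⟨g⁻¹, by group⟩)
    intro h
    rw [conj_eq_one_iff.1 h, orderOf_one] at hu; omega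
  -- an involution of N inverting C
  obtain ⟨s, hsS, hs1, hst⟩ : ∃ s ∈ (S : Subgroup G), s ≠ 1 ∧ s ≠ t := by
    by_contra hh
    push Not at hh
    have hsub : ((S : Subgroup G) : Set G) ⊆ {1, t} := fun z hz => by
      by_cases h : z = 1
      · simp [h]
      · simp [hh z hz h]
    have := (Set.ncard_le_ncard hsub (Set.toFinite _)).trans (Set.ncard_insert_le 1 {t})
    rw [Set.ncard_singleton, ← Nat.card_coe_set_eq] at this
    exact absurd ((le_of_eq hScard.symm).trans this) (by norm_num)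
  have hsN : s ∈ N := hCtN ▸ Subgroup.mem_centralizer_singleton_iff.2 (hprod s hsS t htS)
  obtain ⟨g0, hg0⟩ := isConj_iff.1 (hconjS s hsS hs1)
  have hsP : ∀ x ∈ (P : Subgroup G), s * x * s⁻¹ = x⁻¹ := by
    have hfree : ∀ x ∈ (P : Subgroup G), s * x * s⁻¹ = x → x = 1 := by
      intro x hx hfx
      have hsx : s * x = x * s := mul_inv_eq_iff_eq_mul.1 hfx
      by_contra hx1
      have hx' : g0⁻¹ * x * g0 ∈ C := by
        refine hPC (hinP _ (hCtN ▸ Subgroup.mem_centralizer_singleton_iff.2 ?_) ?_)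
        · rw [← hg0] at hsx
          calc g0⁻¹ * x * g0 * t = g0⁻¹ * (x * (g0 * t * g0⁻¹)) * g0 := by group
            _ = g0⁻¹ * (g0 * t * g0⁻¹ * x) * g0 := by rw [hsx]
            _ = t * (g0⁻¹ * x * g0) := by group
        · obtain ⟨k, hk⟩ := IsPGroup.iff_orderOf.1 P.isPGroup' ⟨x, hx⟩
          refine ⟨k, ?_⟩
          rw [← hk, Subgroup.orderOf_mk]
          have := (MulAut.conj g0⁻¹).orderOf_eq x
          rwa [MulAut.conj_apply, inv_inv] at this
      have hgN := hfus g0⁻¹ x (hPC hx) hx1 (by simpa using hx')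
      refine hst ?_
      rw [← hg0]
      have := Subgroup.mem_centralizer_singleton_iff.1 (hNle (Subgroup.inv_mem _ hgN))
      rw [inv_inv] at this
      rw [this, mul_inv_cancel_right]
    intro x hx
    have hxs : s * x * s⁻¹ ∈ (P : Subgroup G) := (Subgroup.mem_normalizer_iff.1 hsN x).1 hx
    have hss : s * s = 1 := by rw [← pow_two, ← hS4 s hsS hs1, pow_orderOf_eq_one]
    have := hfree _ (Subgroup.mul_mem _ hx hxs) (by
      calc s * (x * (s * x * s⁻¹)) * s⁻¹ = s * x * s⁻¹ * ((s * s) * x * (s * s)⁻¹) := by group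
        _ = s * x * s⁻¹ * x := by rw [hss]; group
        _ = x * (s * x * s⁻¹) := hcomm _ hxs _ hx)
    exact eq_inv_of_mul_eq_one_right this
  have hsC : ∀ c ∈ C, s * c * s⁻¹ = c⁻¹ := by
    intro c hc
    have hc' := hPt hc
    rw [Subgroup.sup_eq_closure] at hc'
    induction hc' using Subgroup.closure_induction with
    | mem z hz =>
      rcases hz with hz | hz
      · exact hsP z hz
      · obtain ⟨j, rfl⟩ := hz
        have h2 : s * t ^ j * s⁻¹ = t ^ j := by
          rw [((show Commute s t from hprod s hsS t htS).zpow_right j).eq, mul_inv_cancel_right]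
        have h3 : (t ^ j)⁻¹ = t ^ j := by
          rw [← inv_zpow, inv_eq_of_mul_eq_one_right (by rw [← pow_two, ← ht, pow_orderOf_eq_one] : t * t = 1)]
        rw [h2, h3]
    | one => simp
    | mul x y hx hy ihx ihy =>
      have hxC : x ∈ C := (Subgroup.sup_eq_closure (P : Subgroup G) (Subgroup.zpowers t) ▸
        sup_le hPC (Subgroup.zpowers_le.2 htC) : Subgroup.closure _ ≤ C) hx
      have hyC : y ∈ C := (Subgroup.sup_eq_closure (P : Subgroup G) (Subgroup.zpowers t) ▸
        sup_le hPC (Subgroup.zpowers_le.2 htC) : Subgroup.closure _ ≤ C) hy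
      rw [show s * (x * y) * s⁻¹ = s * x * s⁻¹ * (s * y * s⁻¹) by group, ihx hxC, ihy hyC, mul_inv_rev]
      exact hCcomm _ (Subgroup.inv_mem _ hxC) _ (Subgroup.inv_mem _ hyC)
    | inv x hx ihx =>
      have hxC : x ∈ C := (Subgroup.sup_eq_closure (P : Subgroup G) (Subgroup.zpowers t) ▸
        sup_le hPC (Subgroup.zpowers_le.2 htC) : Subgroup.closure _ ≤ C) hx
      rw [← conj_inv, ihx hxC]
  have hsnC : s ∉ C := fun h =>
    (htu s h (by rw [← pow_two, ← hS4 s hsS hs1, pow_orderOf_eq_one])).elim hs1 hst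
  have hout : ∀ g ∈ Ct, g ∉ C → g * g = 1 ∧ g ≠ 1 ∧ g ≠ t ∧ ∀ c ∈ C, g * c * g⁻¹ = c⁻¹ := by
    intro g hg hgC
    rw [hCtN] at hg
    have hCinN : (C.subgroupOf N).index = 2 := by
      have h1 := Subgroup.card_mul_index (C.subgroupOf N)
      rw [Nat.card_congr (Subgroup.subgroupOfEquivOfLe hCN).toEquiv, hC, hN] at h1
      have : (2 * p) * (C.subgroupOf N).index = (2 * p) * 2 := by rw [h1]; ring
      exact Nat.eq_of_mul_eq_mul_left (by omega) this
    have hgs : g * s⁻¹ ∈ C := by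
      have := (Subgroup.mul_mem_iff_of_index_two hCinN (a := (⟨g, hg⟩ : N)) (b := ⟨s, hsN⟩⁻¹))
      simp only [Subgroup.mem_subgroupOf, Subgroup.coe_mul, InvMemClass.coe_inv] at this
      exact this.2 (iff_of_false hgC (fun h => hsnC (by simpa using C.inv_mem h)))
    obtain ⟨c0, hc0, rfl⟩ : ∃ c0 ∈ C, g = c0 * s := ⟨g * s⁻¹, hgs, by group⟩
    have hss : s * s = 1 := by rw [← pow_two, ← hS4 s hsS hs1, pow_orderOf_eq_one]
    have hinv : s⁻¹ = s := inv_eq_of_mul_eq_one_right hss
    refine ⟨?_, fun h => hgC (h ▸ C.one_mem), fun h => hgC (h ▸ htC), fun c hc => ?_⟩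
    · calc c0 * s * (c0 * s) = c0 * (s * c0 * s) := by group
        _ = c0 * (s * c0 * s⁻¹) := by rw [hinv]
        _ = 1 := by rw [hsC c0 hc0, mul_inv_cancel]
    · calc c0 * s * c * (c0 * s)⁻¹ = c0 * (s * c * s⁻¹) * c0⁻¹ := by group
        _ = c⁻¹ := by rw [hsC c hc, hCcomm c0 hc0 _ (C.inv_mem hc), mul_inv_cancel_right]
  have hthree : ∀ x : G, (∃ k : ℕ, orderOf x = 3 ^ k) → ∃ g : G, g * x * g⁻¹ ∈ C := by
    intro x ⟨k, hk⟩
    obtain ⟨Q, hQ⟩ := (IsPGroup.of_card (n := k) (by rw [Nat.card_zpowers, hk]) :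
      IsPGroup 3 (Subgroup.zpowers x)).exists_le_sylow
    obtain ⟨g, hg⟩ := MulAction.exists_smul_eq G Q P
    refine ⟨g, hPC ?_⟩
    rw [← hg]
    show g * x * g⁻¹ ∈ MulAut.conj g • (Q : Subgroup G)
    exact ⟨x, hQ (Subgroup.mem_zpowers x), rfl⟩
  have hCtN' : Subgroup.centralizer ({t} : Set G) = N := hCtN
  have hcN : Nat.card (Subgroup.centralizer ({t} : Set G)) = 4 * p := by rw [hCtN']; exact hN
  have hccC : ∀ g ∈ Subgroup.centralizer ({t} : Set G), ∀ c ∈ C, g * c * g⁻¹ ∈ C := by rw [hCtN']; exact hconjC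
  have hcle : C ≤ Subgroup.centralizer ({t} : Set G) := by rw [hCtN']; exact hCN
  have hmemN : ∀ g : G, g ∈ N → g ∈ Subgroup.centralizer ({t} : Set G) := by rw [hCtN']; exact fun g h => h
  exact ⟨t, inferInstance, ⟨a, ha1, ha⟩, hthree, hCcomm, hC, htC, ht, htu,
    hcN, hccC, hcle, hout, fun g c hc hc1 h => hmemN g (hfus g c hc hc1 h),
    hinvconj, ⟨S, hScard, htS, hS4⟩, heven⟩

end CfsgLib.StructB
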