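import Cfsg.Agent.Lib.Invol.Dihedral
import Mathlib.GroupTheory.Sylow
import Mathlib.GroupTheory.SpecificGroups.Cyclic
import Mathlib.GroupTheory.SpecificGroups.Dihedral
import Mathlib.GroupTheory.QuotientGroup.Basic

/-!
# Groups with a normal Sylow subgroup and cyclic quotient
-/

set_option autoImplicit false

namespace CfsgLib.StructB.PByCyclic

open Subgroup

variable {G : Type*} [Group G]

theorem isCyclic_of_normal_mk {H : Type*} [Group H] (A : Subgroup H) [A.Normal] [Finite H] {p : ℕ}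
    [Fact p.Prime] (hA : IsPGroup p A) (hc : IsCyclic (H ⧸ A)) (S : Sylow p H) :
    (S : Subgroup H).Normal ∧ ∀ [(S : Subgroup H).Normal], IsCyclic (H ⧸ (S : Subgroup H)) := by
  have hAS : A ≤ (S : Subgroup H) := by
    have h := S.3 (IsPGroup.to_sup_of_normal_right S.2 hA) le_sup_left
    exact h ▸ le_sup_right
  have hn : (S : Subgroup H).Normal := by
    have : IsMulCommutative (H ⧸ A) := hc.isMulCommutative
    have h2 : ((S : Subgroup H).map (QuotientGroup.mk' A)).Normal :=
      ⟨fun x hx g => by rwa [mul_comm' g x, mul_inv_cancel_right]⟩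
    have h3 : (S : Subgroup H) = ((S : Subgroup H).map (QuotientGroup.mk' A)).comap (QuotientGroup.mk' A) := by
      rw [comap_map_eq, QuotientGroup.ker_mk', sup_eq_left.2 hAS]
    rw [h3]
    exact h2.comap _
  refine ⟨hn, fun {_} => ?_⟩
  let f : H ⧸ A →* H ⧸ (S : Subgroup H) := QuotientGroup.map A (S : Subgroup H) (MonoidHom.id H)
    (by simpa using hAS)
  refine isCyclic_of_surjective f fun y => ?_
  obtain ⟨y, rfl⟩ := QuotientGroup.mk'_surjective _ y
  exact ⟨(y : H ⧸ A), rfl⟩

/-- `Q ⊔ ⟨x⟩` is `p`-by-cyclic when `x` normalises the `p`-group `Q`. -/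
theorem sup_zpowers [Finite G] {p : ℕ} [Fact p.Prime] {Q : Subgroup G} (hQ : IsPGroup p Q) {x : G}
    (hx : x ∈ normalizer (Q : Set G)) :
    (∀ S : Sylow p ↥(Q ⊔ zpowers x), (S : Subgroup ↥(Q ⊔ zpowers x)).Normal) ∧
      ∀ (S : Sylow p ↥(Q ⊔ zpowers x)) [(S : Subgroup ↥(Q ⊔ zpowers x)).Normal],
        IsCyclic (↥(Q ⊔ zpowers x) ⧸ (S : Subgroup ↥(Q ⊔ zpowers x))) := by
  set H := Q ⊔ zpowers x with hH
  have hle : H ≤ normalizer (Q : Set G) := sup_le le_normalizer (zpowers_le.2 hx)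
  have hn : (Q.subgroupOf H).Normal := normal_subgroupOf_of_le_normalizer hle
  have hQ' : IsPGroup p (Q.subgroupOf H) :=
    hQ.of_equiv (subgroupOfEquivOfLe (le_sup_left : Q ≤ H)).symm
  set x' : H := ⟨x, (le_sup_right : zpowers x ≤ H) (mem_zpowers x)⟩
  have htop : Q.subgroupOf H ⊔ zpowers x' = ⊤ := by
    apply map_injective H.subtype_injective
    rw [Subgroup.map_sup, map_subgroupOf_eq_of_le le_sup_left, MonoidHom.map_zpowers,
      ← MonoidHom.range_eq_map, range_subtype]
    rfl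
  have hc : IsCyclic (↥H ⧸ Q.subgroupOf H) := by
    refine ⟨⟨(x' : ↥H ⧸ Q.subgroupOf H), fun y => ?_⟩⟩
    obtain ⟨y, rfl⟩ := QuotientGroup.mk'_surjective _ y
    have h : y ∈ Q.subgroupOf H ⊔ zpowers x' := htop ▸ mem_top y
    rw [mem_sup_of_normal_left] at h
    obtain ⟨a, ha, b, hb, rfl⟩ := h
    rw [map_mul, QuotientGroup.mk'_apply, (QuotientGroup.eq_one_iff a).2 ha, one_mul]
    obtain ⟨k, rfl⟩ := mem_zpowers_iff.1 hb
    exact mem_zpowers_iff.2 ⟨k, (QuotientGroup.mk_zpow _ _ _).symm⟩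
  exact ⟨fun S => (isCyclic_of_normal_mk _ hQ' hc S).1, fun S _ => (isCyclic_of_normal_mk _ hQ' hc S).2⟩

/-- A central cyclic Sylow subgroup with cyclic quotient gives a cyclic group. -/
theorem isCyclic_of_central {H : Type*} [Group H] [Finite H] {p : ℕ} [Fact p.Prime] (S : Sylow p H)
    [(S : Subgroup H).Normal] (hS : IsCyclic (S : Subgroup H)) (hq : IsCyclic (H ⧸ (S : Subgroup H)))
    (hc : (S : Subgroup H) ≤ center H) : IsCyclic H := by
  obtain ⟨⟨a, ha⟩, hag⟩ := hS.exists_generator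
  obtain ⟨q, hqg⟩ := hq.exists_generator
  obtain ⟨b, rfl⟩ := QuotientGroup.mk'_surjective _ q
  have hord : orderOf a = Nat.card (S : Subgroup H) := by
    rw [← Nat.card_zpowers]
    refine congrArg (fun K : Subgroup H => Nat.card K) (le_antisymm (zpowers_le.2 ha) fun y hy => ?_)
    obtain ⟨k, hk⟩ := mem_zpowers_iff.1 (hag ⟨y, hy⟩)
    exact mem_zpowers_iff.2 ⟨k, congrArg Subtype.val hk⟩
  have hidx : orderOf (QuotientGroup.mk' (S : Subgroup H) b) = (S : Subgroup H).index := by
    rw [index_eq_card, orderOf_eq_card_of_forall_mem_zpowers hqg]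
  obtain ⟨b', -, hb'⟩ : ∃ b', b' ∈ zpowers b ∧ orderOf b' = (S : Subgroup H).index :=
    ⟨b ^ (orderOf b / (S : Subgroup H).index), pow_mem (mem_zpowers b) _,
      orderOf_pow_orderOf_div (orderOf_pos b).ne' (hidx ▸ orderOf_map_dvd _ b)⟩
  have hcop : (orderOf a).Coprime (orderOf b') := by
    rw [hord, hb']
    obtain ⟨k, hk⟩ := S.2.exists_card_eq
    rw [hk]
    exact Nat.Coprime.pow_left k ((Fact.out : p.Prime).coprime_iff_not_dvd.2 S.not_dvd_index)
  exact isCyclic_of_orderOf_eq_card (a * b') (by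
    rw [(show Commute a b' from (mem_center_iff.1 (hc ha) b').symm).orderOf_mul_eq_mul_orderOf_of_coprime hcop,
      hord, hb', card_mul_index])

/-- In a dihedral group a non-commuting pair with the first of order at least three consists of a
rotation and an inverting reflection. -/
theorem dihedral_inverts {H : Type*} [Group H] {m : ℕ} (f : H ≃* DihedralGroup m) {q x : H}
    (hq : q ^ 2 ≠ 1) (hne : x * q ≠ q * x) : orderOf x = 2 ∧ x * q * x⁻¹ = q⁻¹ := by
  rw [← orderOf_injective f.toMonoidHom f.injective x]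
  have hq' : f q ^ 2 ≠ 1 := fun h => hq (f.injective (by rw [map_pow, h, map_one]))
  have hne' : f x * f q ≠ f q * f x := fun h => hne (f.injective (by rw [map_mul, map_mul, h]))
  suffices h : orderOf (f x) = 2 ∧ f x * f q * (f x)⁻¹ = (f q)⁻¹ from
    ⟨h.1, f.injective (by rw [map_mul, map_mul, map_inv, map_inv, h.2])⟩
  generalize f x = X at hne' ⊢
  generalize f q = Q at hq' hne' ⊢
  rcases Q with i | i
  · rcases X with j | j
    · exact absurd (by rw [DihedralGroup.r_mul_r, DihedralGroup.r_mul_r, add_comm]) hne'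
    · refine ⟨DihedralGroup.orderOf_sr j, ?_⟩
      rw [DihedralGroup.inv_sr, DihedralGroup.sr_mul_r, DihedralGroup.sr_mul_sr, DihedralGroup.inv_r]
      congr 1
      ring
  · refine absurd ?_ hq'
    rw [pow_two, DihedralGroup.sr_mul_self]

/-- Every Sylow cyclic case: transfer of a subgroup into a fixed Sylow subgroup. -/
theorem exists_embedding [Finite G] {p : ℕ} [Fact p.Prime] (P : Sylow p G) (H : Subgroup G)
    (S : Sylow p H) :
    ∃ ι : H →* G, Function.Injective ι ∧ (S : Subgroup H).map ι ≤ (P : Subgroup G) := by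
  obtain ⟨Q, hQ⟩ := (S.2.map H.subtype).exists_le_sylow
  obtain ⟨g, hg⟩ := MulAction.exists_smul_eq G Q P
  refine ⟨(MulAut.conj g).toMonoidHom.comp H.subtype, (MulAut.conj g).injective.comp H.subtype_injective, ?_⟩
  rw [← map_map, ← hg]
  exact map_mono hQ

end CfsgLib.StructB.PByCyclic
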