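import Cfsg.Agent.Lib.Transfer.UniqueOrderP
import Cfsg.Agent.Lib.Coprime.Basic
import Cfsg.Agent.Lib.Coprime.Abelian
import Cfsg.Agent.Lib.StructB.Kazarin

/-!
Coprime linear groups all of whose orbits have size a power of `p`: a Sylow `p`-subgroup has the
same orbits, so invariance under it is invariance under the group. Block systems, and the
exclusion of normal elementary subgroups of order `p ^ 2` of the Sylow subgroup.
-/

set_option autoImplicit false

namespace CfsgLib.StructB.PPowerOrbit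

open Subgroup

universe u v

variable {H : Type u} [Group H] {q : ℕ} {V : Type v} [AddCommGroup V] [Module (ZMod q) V]

/-- The stabiliser of a vector. -/
def fixer (ρ : Representation (ZMod q) H V) (w : V) : Subgroup H where
  carrier := {h | ρ h w = w}
  one_mem' := by simp
  mul_mem' := by
    intro a b (ha : ρ a w = w) (hb : ρ b w = w)
    show ρ (a * b) w = w
    rw [map_mul, Module.End.mul_apply, hb, ha]
  inv_mem' := by
    intro a (ha : ρ a w = w)
    show ρ a⁻¹ w = w
    conv_lhs => rw [← ha]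
    rw [← Module.End.mul_apply, ← map_mul, inv_mul_cancel, map_one, Module.End.one_apply]

theorem mem_fixer {ρ : Representation (ZMod q) H V} {w : V} {h : H} :
    h ∈ fixer ρ w ↔ ρ h w = w := Iff.rfl

/-- The vectors fixed by a set of elements. -/
def fixedSub (ρ : Representation (ZMod q) H V) (A : Set H) : Submodule (ZMod q) V where
  carrier := {w | ∀ a ∈ A, ρ a w = w}
  zero_mem' := by simp
  add_mem' := by
    intro x y hx hy a ha
    rw [map_add, hx a ha, hy a ha]
  smul_mem' := by
    intro c x hx a ha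
    rw [map_smul, hx a ha]

theorem mem_fixedSub {ρ : Representation (ZMod q) H V} {A : Set H} {w : V} :
    w ∈ fixedSub ρ A ↔ ∀ a ∈ A, ρ a w = w := Iff.rfl

variable [Finite H]

/-- The average over a subgroup. -/
noncomputable def avg (ρ : Representation (ZMod q) H V) (A : Subgroup H) : V →ₗ[ZMod q] V :=
  letI := Fintype.ofFinite A
  (Nat.card A : ZMod q)⁻¹ • ∑ a : A, ρ (a : H)

variable [Fact q.Prime]

theorem natCast_ne_zero {n : ℕ} (hn : ¬ q ∣ n) : (n : ZMod q) ≠ 0 :=
  fun h => hn ((ZMod.natCast_eq_zero_iff n q).1 h)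

theorem not_dvd_card_subgroup (hq : ¬ q ∣ Nat.card H) (A : Subgroup H) : ¬ q ∣ Nat.card A :=
  fun h => hq (h.trans A.card_subgroup_dvd_card)

theorem apply_avg (ρ : Representation (ZMod q) H V) (A : Subgroup H) {a : H} (ha : a ∈ A) (w : V) :
    ρ a (avg ρ A w) = avg ρ A w := by
  let := Fintype.ofFinite A
  simp only [avg, LinearMap.smul_apply, LinearMap.sum_apply, map_smul, map_sum]
  congr 1
  refine Fintype.sum_equiv (M := V) (Equiv.mulLeft (⟨a, ha⟩ : A)) _ _ fun b => ?_
  rw [Equiv.coe_mulLeft, Subgroup.coe_mul, map_mul, Module.End.mul_apply]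

theorem avg_eq_self (ρ : Representation (ZMod q) H V) (A : Subgroup H) (hA : ¬ q ∣ Nat.card A)
    {w : V} (hw : w ∈ fixedSub ρ (A : Set H)) : avg ρ A w = w := by
  let := Fintype.ofFinite A
  simp only [avg, LinearMap.smul_apply, LinearMap.sum_apply]
  rw [Finset.sum_congr rfl fun (b : A) _ => hw (b : H) b.2, Finset.sum_const, Finset.card_univ,
    ← Nat.card_eq_fintype_card, ← Nat.cast_smul_eq_nsmul (ZMod q), smul_smul,
    inv_mul_cancel₀ (natCast_ne_zero hA), one_smul]

theorem avg_mem (ρ : Representation (ZMod q) H V) (A : Subgroup H) (w : V) :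
    avg ρ A w ∈ fixedSub ρ (A : Set H) := fun _ ha => apply_avg ρ A ha w

/-- The average commutes with elements normalising the subgroup. -/
theorem avg_comm (ρ : Representation (ZMod q) H V) (A : Subgroup H) {g : H}
    (hg : g ∈ normalizer (A : Set H)) (w : V) : avg ρ A (ρ g w) = ρ g (avg ρ A w) := by
  let := Fintype.ofFinite A
  simp only [avg, LinearMap.smul_apply, LinearMap.sum_apply, map_smul, map_sum]
  congr 1
  refine Fintype.sum_equiv (M := V)
    { toFun := fun a => ⟨g⁻¹ * (a : H) * g, (mem_normalizer_iff''.1 hg _).1 a.2⟩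
      invFun := fun a => ⟨g * (a : H) * g⁻¹, (mem_normalizer_iff.1 hg _).1 a.2⟩
      left_inv := fun a => Subtype.ext (by simp [mul_assoc])
      right_inv := fun a => Subtype.ext (by simp [mul_assoc]) } _ _ fun a => ?_
  simp only [Equiv.coe_fn_mk, ← Module.End.mul_apply, ← map_mul]
  congr 2
  group

variable {p : ℕ} [Fact p.Prime] {ρ : Representation (ZMod q) H V}

/-- A Sylow subgroup has the whole group's orbits. -/
theorem relIndex_sylow (horb : ∀ w, ∃ a, (fixer ρ w).index = p ^ a) (P : Sylow p H) (w : V) :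
    (fixer ρ w).relIndex (P : Subgroup H) = (fixer ρ w).index := by
  obtain ⟨a, ha⟩ := horb w
  refine le_antisymm ((relIndex_le_of_le_right le_top (by rw [relIndex_top_right]; exact index_ne_zero_of_finite)).trans_eq (relIndex_top_right _)) ?_
  set S := fixer ρ w
  have hdvd : Nat.card ↥(S ⊓ (P : Subgroup H)) ∣ Nat.card S := card_dvd_of_le inf_le_left
  obtain ⟨b, hb⟩ := (P.2.to_le (inf_le_right : S ⊓ (P : Subgroup H) ≤ _)).exists_card_eq
  obtain ⟨c, hc⟩ := P.2.exists_card_eq
  have h1 : p ^ (b + a) ∣ Nat.card H := by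
    rw [pow_add, ← hb, ← ha, ← S.card_mul_index]
    exact mul_dvd_mul_right hdvd _
  have h2 : p ^ (b + a) ∣ p ^ c := by
    rw [← hc, P.card_eq_multiplicity]
    exact pow_dvd_pow p ((Fact.out : p.Prime).pow_dvd_iff_le_factorization Nat.card_pos.ne' |>.1 h1)
  have h3 := CfsgLib.StructB.Kazarin.card_mul_relIndex_of_le (H := S ⊓ (P : Subgroup H))
    (K := (P : Subgroup H)) inf_le_right
  rw [inf_relIndex_right, hb, hc] at h3
  have h4 : p ^ b * p ^ a ≤ p ^ b * S.relIndex (P : Subgroup H) := by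
    rw [h3, ← pow_add]
    exact Nat.le_of_dvd (pow_pos (Fact.out : p.Prime).pos c) h2
  rw [ha]
  exact Nat.le_of_mul_le_mul_left h4 (pow_pos (Fact.out : p.Prime).pos b)

theorem exists_sylow_apply (horb : ∀ w, ∃ a, (fixer ρ w).index = p ^ a) (P : Sylow p H) (w : V)
    (h : H) : ∃ u ∈ P, ρ h w = ρ u w := by
  set S := fixer ρ w
  let f : (P : Subgroup H) ⧸ S.subgroupOf (P : Subgroup H) → H ⧸ S :=
    Quotient.map' (fun x => (x : H)) fun a b hab => by
      rw [QuotientGroup.leftRel_apply] at hab ⊢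
      exact hab
  have hinj : Function.Injective f := by
    intro x y
    refine Quotient.inductionOn₂' x y fun a b hab => ?_
    exact Quotient.sound' (by
      have := Quotient.exact' hab
      rw [QuotientGroup.leftRel_apply] at this ⊢
      exact this)
  have hcard : Nat.card ((P : Subgroup H) ⧸ S.subgroupOf (P : Subgroup H)) = Nat.card (H ⧸ S) := by
    rw [← index_eq_card, ← index_eq_card]
    exact relIndex_sylow horb P w
  have hsurj : Function.Surjective f :=
    (hinj.bijective_of_nat_card_le hcard.ge).2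
  obtain ⟨x, hx⟩ := hsurj (h : H ⧸ S)
  induction x using Quotient.inductionOn' with
  | h a =>
    have hx' : ((a : H) : H ⧸ S) = (h : H ⧸ S) := hx
    rw [QuotientGroup.eq] at hx'
    refine ⟨a, a.2, ?_⟩
    have h1 : ρ ((a : H)⁻¹ * h) w = w := hx'
    conv_rhs => rw [← h1]
    rw [← Module.End.mul_apply, ← map_mul, mul_inv_cancel_left]

/-- A set invariant under the Sylow subgroup is invariant under the group. -/
theorem inv_of_sylow (horb : ∀ w, ∃ a, (fixer ρ w).index = p ^ a) (P : Sylow p H) {X : Set V}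
    (hX : ∀ u ∈ P, ∀ w ∈ X, ρ u w ∈ X) (h : H) {w : V} (hw : w ∈ X) : ρ h w ∈ X := by
  obtain ⟨u, hu, e⟩ := exists_sylow_apply horb P w h
  exact e ▸ hX u hu w hw

theorem eq_bot_or_top_of_sylow
    (horb : ∀ w, ∃ a, (fixer ρ w).index = p ^ a)
    (hirr : ∀ W : Submodule (ZMod q) V, (∀ h : H, ∀ w ∈ W, ρ h w ∈ W) → W = ⊥ ∨ W = ⊤)
    (P : Sylow p H) (W : Submodule (ZMod q) V) (hW : ∀ u ∈ P, ∀ w ∈ W, ρ u w ∈ W) :
    W = ⊥ ∨ W = ⊤ :=
  hirr W fun h _ hw => inv_of_sylow horb P (X := (W : Set V)) hW h hw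

theorem eq_one_of_apply_eq (hinj : Function.Injective ρ) {h : H} (hh : ∀ w, ρ h w = w) : h = 1 :=
  hinj (by rw [map_one]; exact LinearMap.ext hh)

/-- A nontrivial normal subgroup of the Sylow subgroup fixes no nonzero vector. -/
theorem fixedSub_eq_bot
    (hinj : Function.Injective ρ) (horb : ∀ w, ∃ a, (fixer ρ w).index = p ^ a)
    (hirr : ∀ W : Submodule (ZMod q) V, (∀ h : H, ∀ w ∈ W, ρ h w ∈ W) → W = ⊥ ∨ W = ⊤)
    (P : Sylow p H) (A : Subgroup H) (hA : A ≠ ⊥) (hn : (P : Subgroup H) ≤ normalizer (A : Set H)) :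
    fixedSub ρ (A : Set H) = ⊥ := by
  refine (eq_bot_or_top_of_sylow horb hirr P _ fun u hu w hw => mem_fixedSub.2 fun a ha => ?_).resolve_right fun h => hA ?_
  · have h1 : u⁻¹ * a * u ∈ A := (mem_normalizer_iff''.1 (hn hu) a).1 ha
    conv_rhs => rw [← hw _ h1]
    rw [← Module.End.mul_apply, ← Module.End.mul_apply, ← map_mul, ← map_mul]
    congr 2
    group
  · rw [eq_bot_iff]
    intro a ha
    rw [mem_bot]
    exact eq_one_of_apply_eq hinj fun w => (h ▸ Submodule.mem_top : w ∈ fixedSub ρ (A : Set H)) a ha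

/-- A homomorphism into a solvable group is trivial when every proper normal subgroup is solvable
and the group is not. -/
theorem hom_eq_one {K : Type*} [Group K] [Group.IsSolvable K]
    (hnormal : ∀ N : Subgroup H, N.Normal → N ≠ ⊤ → Group.IsSolvable N)
    (hns : ¬ Group.IsSolvable H) (f : H →* K) (h : H) : f h = 1 := by
  by_contra hne
  have hk : f.ker ≠ ⊤ := fun e => hne (MonoidHom.mem_ker.1 (e ▸ mem_top h))
  have := hnormal f.ker inferInstance hk
  exact hns (Group.isSolvable_of_ker_le_range f.ker.subtype f (by rw [range_subtype]))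

omit [Finite H] [Fact q.Prime] in
/-- A subgroup of index two cannot exist. -/
theorem false_of_index_two
    (hnormal : ∀ N : Subgroup H, N.Normal → N ≠ ⊤ → Group.IsSolvable N)
    (hns : ¬ Group.IsSolvable H) {K : Subgroup H} (hK : K.index = 2) : False := by
  have := normal_of_index_eq_two hK
  have hc : Group.IsSolvable (H ⧸ K) := by
    have : Fact (Nat.Prime 2) := ⟨Nat.prime_two⟩
    have : IsCyclic (H ⧸ K) := isCyclic_of_prime_card (p := 2) (by rw [← index_eq_card, hK])
    exact Group.isSolvable_of_comm fun a b => IsCyclic.commGroup.mul_comm a b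
  have := hnormal K inferInstance (fun e => by rw [e, index_top] at hK; omega)
  exact hns (Group.isSolvable_of_ker_le_range K.subtype (QuotientGroup.mk' K) (by simp))

omit [Finite H] in
/-- An element mapping a union of two independent subspaces into itself maps each into one. -/
theorem map_le_of_union (W W' : Submodule (ZMod q) V) (hd : W ⊓ W' = ⊥) (U : Submodule (ZMod q) V)
    (hU : (U : Set V) ⊆ (W : Set V) ∪ W') : U ≤ W ∨ U ≤ W' := by
  by_contra h
  push Not at h
  obtain ⟨⟨a, ha, haW⟩, b, hb, hbW'⟩ := SetLike.not_le_iff_exists.1 h.1, SetLike.not_le_iff_exists.1 h.2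
  have haW' := (hU ha).resolve_left haW
  have hbW := (hU hb).resolve_right hbW'
  rcases hU (add_mem ha hb) with hab | hab
  · exact haW (by simpa using sub_mem hab hbW)
  · exact hbW' (by simpa using sub_mem hab haW')

/-- The group does not stabilise a pair of independent subspaces. -/
theorem false_of_pair [Finite V]
    (hirr : ∀ W : Submodule (ZMod q) V, (∀ h : H, ∀ w ∈ W, ρ h w ∈ W) → W = ⊥ ∨ W = ⊤)
    (hnormal : ∀ N : Subgroup H, N.Normal → N ≠ ⊤ → Group.IsSolvable N)
    (hns : ¬ Group.IsSolvable H) (W W' : Submodule (ZMod q) V) (hW : W ≠ ⊥) (hW' : W' ≠ ⊥)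
    (hd : W ⊓ W' = ⊥)
    (hinv : ∀ h : H, ∀ w : V, w ∈ W ∨ w ∈ W' → ρ h w ∈ W ∨ ρ h w ∈ W') : False := by
  have hstep : ∀ h : H, ∀ U : Submodule (ZMod q) V, (U ≤ W ∨ U ≤ W') →
      U.map (ρ h) ≤ W ∨ U.map (ρ h) ≤ W' := by
    intro h U hU
    refine map_le_of_union W W' hd _ ?_
    rintro _ ⟨w, hw, rfl⟩
    exact hinv h w (hU.imp (fun l => l hw) fun l => l hw)
  have hne : ∀ h : H, ∀ U : Submodule (ZMod q) V, U ≠ ⊥ → U.map (ρ h) ≠ ⊥ := by
    intro h U hU e
    apply hU
    rw [eq_bot_iff]
    intro w hw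
    have h1 : ρ h w ∈ (⊥ : Submodule (ZMod q) V) := e ▸ Submodule.mem_map_of_mem hw
    rw [Submodule.mem_bot] at h1 ⊢
    simpa [← Module.End.mul_apply, ← map_mul] using congrArg (ρ h⁻¹) h1
  have hexcl : ∀ U : Submodule (ZMod q) V, U ≠ ⊥ → U ≤ W → U ≤ W' → False :=
    fun U hU h1 h2 => hU (le_bot_iff.1 ((le_inf h1 h2).trans hd.le))
  -- the two images are different
  have hdiff : ∀ h : H, ∀ X : Submodule (ZMod q) V, (X = W ∨ X = W') →
      W.map (ρ h) ≤ X → W'.map (ρ h) ≤ X → False := by
    intro h X hX h1 h2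
    have hback := fun Y (hY : Y ≤ X) => hstep h⁻¹ Y (hX.imp (fun e => hY.trans_eq e) fun e => hY.trans_eq e)
    have hid : ∀ U : Submodule (ZMod q) V, (U.map (ρ h)).map (ρ h⁻¹) = U := by
      intro U
      rw [← Submodule.map_comp, ← Module.End.mul_eq_comp, ← map_mul, inv_mul_cancel, map_one,
        Module.End.one_eq_id, Submodule.map_id]
    rcases hback X le_rfl with h3 | h3
    · exact hexcl W' hW' ((hid W').ge.trans ((Submodule.map_mono h2).trans h3)) le_rfl
    · exact hexcl W hW le_rfl ((hid W).ge.trans ((Submodule.map_mono h1).trans h3))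
  let K : Subgroup H :=
    { carrier := {h | W.map (ρ h) ≤ W}
      one_mem' := by
        show W.map (ρ (1 : H)) ≤ W
        rw [map_one, Module.End.one_eq_id, Submodule.map_id]
      mul_mem' := by
        intro a b (ha : W.map (ρ a) ≤ W) (hb : W.map (ρ b) ≤ W)
        show W.map (ρ (a * b)) ≤ W
        rw [map_mul, Module.End.mul_eq_comp, Submodule.map_comp]
        exact (Submodule.map_mono hb).trans ha
      inv_mem' := by
        intro a (ha : W.map (ρ a) ≤ W)
        show W.map (ρ a⁻¹) ≤ W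
        refine (hstep a⁻¹ W (Or.inl le_rfl)).resolve_right fun h => ?_
        have h1 := Submodule.map_mono (f := ρ a) h
        rw [← Submodule.map_comp, ← Module.End.mul_eq_comp, ← map_mul, mul_inv_cancel, map_one,
          Module.End.one_eq_id, Submodule.map_id] at h1
        exact hdiff a W (Or.inl rfl) ha ((hstep a W' (Or.inr le_rfl)).resolve_right fun h2 =>
          hexcl W hW le_rfl (h1.trans h2)) }
  by_cases hK : ∀ h : H, h ∈ K
  · rcases hirr W (fun h w hw => hK h (Submodule.mem_map_of_mem hw)) with e | e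
    · exact hW e
    · exact hW' (by rw [← hd, e, top_inf_eq])
  push Not at hK
  obtain ⟨a, ha⟩ := hK
  have key : ∀ x : H, x ∉ K → W.map (ρ x) ≤ W' ∧ W'.map (ρ x) ≤ W := by
    intro x hx
    have h1 := (hstep x W (Or.inl le_rfl)).resolve_left hx
    exact ⟨h1, (hstep x W' (Or.inr le_rfl)).resolve_right fun h2 => hdiff x W' (Or.inr rfl) h1 h2⟩
  refine false_of_index_two hnormal hns (K := K) (index_eq_two_iff.2 ⟨a, fun b => ?_⟩)
  by_cases hb : b ∈ K
  · exact Or.inr ⟨hb, fun hba => ha ((K.mul_mem_cancel_left hb).1 hba)⟩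
  · refine Or.inl ⟨?_, hb⟩
    show W.map (ρ (b * a)) ≤ W
    rw [map_mul, Module.End.mul_eq_comp, Submodule.map_comp]
    exact (Submodule.map_mono (key a ha).1).trans (key b hb).2

end CfsgLib.StructB.PPowerOrbit
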