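import Cfsg.Agent.Lib.Char.TI
import Cfsg.Agent.Lib.Char.LinearSum
import Cfsg.Agent.Lib.Char.Burnside
import Mathlib.GroupTheory.GroupAction.Quotient

/-!
A simple group with a self-centralising trivial intersection abelian subgroup `P` which has a
complement `S` (of index `|P|`): if `|N(P) : P| ^ 2 ≤ |P|` then `S` has two orbits on its cosets.
Otherwise a constituent of the permutation character has degree `e = |N(P) : P|` and the
decomposition of the product with its conjugate is too small.
-/

set_option autoImplicit false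

namespace CfsgLib.StructB.PPowerChar

open Subgroup CfsgLib.Char
open scoped ComplexConjugate

universe u

variable {H : Type u} [Group H]

/-- Conjugation by a normalising element, as an endomorphism of the subgroup. -/
def conjHom (P : Subgroup H) (x : normalizer (P : Set H)) : P →* P where
  toFun u := ⟨(x : H) * u * (x : H)⁻¹, (mem_normalizer_iff.1 x.2 u).1 u.2⟩
  map_one' := Subtype.ext (by simp)
  map_mul' a b := Subtype.ext (by simp [mul_assoc])

/-- A linear character twisted by a normalising element. -/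
def twist (P : Subgroup H) (l : P →* ℂˣ) (x : normalizer (P : Set H)) : P →* ℂˣ :=
  l.comp (conjHom P x)

theorem twist_twist (P : Subgroup H) (l : P →* ℂˣ) (x y : normalizer (P : Set H)) :
    twist P (twist P l x) y = twist P l (x * y) := by
  ext u
  simp [twist, conjHom, mul_assoc]

theorem twist_one (P : Subgroup H) (l : P →* ℂˣ) : twist P l 1 = l := by
  ext u
  simp [twist, conjHom]

/-- The multiplicity of a linear character of `P` in the restriction of a function. -/
noncomputable def mult (P : Subgroup H) [Fintype P] (f : H → ℂ) (l : P →* ℂˣ) : ℂ :=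
  Cfsg.classInner (fun u : P => f u) (fun u : P => (l u : ℂ))

theorem exists_nat_mult (P : Subgroup H) [Fintype P] {f : H → ℂ} (hf : Cfsg.IsCharacter H f)
    (l : P →* ℂˣ) : ∃ k : ℕ, mult P f l = k :=
  classInner_isCharacter_nat (isCharacter_restrict hf P) (irr_isCharacter (isIrrCharacter_linear l))

theorem linear_classInner (P : Subgroup H) [Fintype P] (l μ : P →* ℂˣ) [Decidable (l = μ)] :
    Cfsg.classInner (fun u : P => (l u : ℂ)) (fun u : P => (μ u : ℂ)) =
      if l = μ then 1 else 0 := by
  rw [irr_classInner (isIrrCharacter_linear l) (isIrrCharacter_linear μ)]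
  have hiff : ((fun u : P => (l u : ℂ)) = fun u : P => (μ u : ℂ)) ↔ l = μ :=
    ⟨fun h => MonoidHom.ext fun u => Units.ext (congr_fun h u), fun h => by rw [h]⟩
  split_ifs <;> simp_all

variable [Fintype H]

theorem mult_twist (P : Subgroup H) [Fintype P] {f : H → ℂ} (hf : Cfsg.IsClassFunction H f)
    (l : P →* ℂˣ) (x : normalizer (P : Set H)) : mult P f (twist P l x) = mult P f l := by
  simp only [mult, classInner_def]
  congr 1
  refine Fintype.sum_equiv
    { toFun := conjHom P x
      invFun := conjHom P x⁻¹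
      left_inv := fun u => Subtype.ext (by simp [conjHom, mul_assoc])
      right_inv := fun u => Subtype.ext (by simp [conjHom, mul_assoc]) } _ _ fun u => ?_
  simp only [Equiv.coe_fn_mk, twist, MonoidHom.comp_apply]
  congr 1
  exact (hf u x).symm

theorem apply_eq_sum_mult (P : Subgroup H) [Fintype P] [Fintype (P →* ℂˣ)]
    (hPc : ∀ a ∈ P, ∀ b ∈ P, a * b = b * a) (f : H → ℂ) (u : P) :
    f u = ∑ l : P →* ℂˣ, mult P f l * (l u : ℂ) := by
  classical
  have hbot : commutator P = ⊥ := by
    rw [_root_.commutator_def, eq_bot_iff, commutator_le]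
    intro a _ b _
    rw [mem_bot, commutatorElement_eq_one_iff_mul_comm]
    exact Subtype.ext (hPc a a.2 b b.2)
  simp only [mult, classInner_def, Finset.sum_mul, Finset.mul_sum]
  rw [Finset.sum_comm]
  have h1 : ∀ v : P, ∑ l : P →* ℂˣ, (Nat.card P : ℂ)⁻¹ * (f v * conj (l v : ℂ)) * (l u : ℂ) =
      if v = u then f v else 0 := by
    intro v
    have e : ∀ l : P →* ℂˣ, (Nat.card P : ℂ)⁻¹ * (f v * conj (l v : ℂ)) * (l u : ℂ) =
        (Nat.card P : ℂ)⁻¹ * f v * ((l (v⁻¹ * u) : ℂˣ) : ℂ) := by
      intro l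
      rw [conj_linear_apply, map_mul, map_inv, Units.val_mul, MonoidHom.inv_apply]
      ring
    rw [Finset.sum_congr rfl fun l _ => e l, ← Finset.mul_sum, sum_linear_apply, hbot,
      index_bot]
    simp only [mem_bot, inv_mul_eq_one]
    split_ifs
    · field_simp [natCard_ne_zero]
    · rw [mul_zero]
  rw [Finset.sum_congr rfl fun v _ => h1 v, Finset.sum_ite_eq', if_pos (Finset.mem_univ _)]

/-- A finite family of natural numbers with sum `1`. -/
theorem exists_unique_of_sum_eq_one {ι : Type*} [Fintype ι] (f : ι → ℕ) (h : ∑ i, f i = 1) :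
    ∃ i, f i = 1 ∧ ∀ j, f j ≠ 0 → j = i := by
  classical
  obtain ⟨i, -, hi⟩ : ∃ i ∈ Finset.univ, f i ≠ 0 := Finset.exists_ne_zero_of_sum_ne_zero (by omega)
  have hle : f i ≤ 1 := h ▸ Finset.single_le_sum (fun j _ => Nat.zero_le (f j)) (Finset.mem_univ i)
  refine ⟨i, by omega, fun j hj => ?_⟩
  by_contra hne
  have h2 : ({i, j} : Finset ι).sum f ≤ 1 :=
    h ▸ Finset.sum_le_sum_of_subset (Finset.subset_univ _)
  rw [Finset.sum_pair (Ne.symm hne)] at h2
  omega

theorem exists_mem_smul_eq [IsSimpleGroup H] (P : Subgroup H)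
    (hC : ∀ u ∈ P, u ≠ 1 → centralizer ({u} : Set H) = P)
    (he : 2 ≤ P.relIndex (normalizer (P : Set H)))
    (he2 : P.relIndex (normalizer (P : Set H)) * P.relIndex (normalizer (P : Set H)) ≤ Nat.card P)
    (S : Subgroup H) (hSi : S.index = Nat.card P)
    (hS : ∀ u ∈ P, u ≠ 1 → ∀ x : H, x⁻¹ * u * x ∉ S) :
    ∀ x y : H, x ∉ S → y ∉ S → ∃ s ∈ S, y⁻¹ * s * x ∈ S := by
  classical
  obtain ⟨e, hedef⟩ : ∃ e, P.relIndex (normalizer (P : Set H)) = e := ⟨_, rfl⟩
  rw [hedef] at he he2
  set N := normalizer (P : Set H) with hN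
  have hP4 : 4 ≤ Nat.card P := le_trans (Nat.mul_le_mul he he) he2
  have hPc : ∀ a ∈ P, ∀ b ∈ P, a * b = b * a := by
    intro a ha b hb
    rcases eq_or_ne b 1 with rfl | hb1
    · simp
    · rw [← hC b hb hb1] at ha
      exact mem_centralizer_singleton_iff.1 ha
  have hTI : ∀ u ∈ P, u ≠ 1 → ∀ x : H, x⁻¹ * u * x ∈ P → x ∈ N := by
    intro u hu hu1 x hx
    have hx1 : x⁻¹ * u * x ≠ 1 := by
      intro h0
      apply hu1
      calc u = x * (x⁻¹ * u * x) * x⁻¹ := by group
        _ = 1 := by rw [h0]; group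
    rw [hN, mem_normalizer_iff]
    intro w
    conv_lhs => rw [← hC _ hx hx1]
    conv_rhs => rw [← hC u hu hu1]
    rw [mem_centralizer_singleton_iff, mem_centralizer_singleton_iff]
    constructor
    · intro h
      calc x * w * x⁻¹ * u = x * (w * (x⁻¹ * u * x)) * x⁻¹ := by group
        _ = x * ((x⁻¹ * u * x) * w) * x⁻¹ := by rw [h]
        _ = u * (x * w * x⁻¹) := by group
    · intro h
      calc w * (x⁻¹ * u * x) = x⁻¹ * ((x * w * x⁻¹) * u) * x := by group
        _ = x⁻¹ * (u * (x * w * x⁻¹)) * x := by rw [h]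
        _ = x⁻¹ * u * x * w := by group
  -- twisting is semiregular modulo `P`
  have htw : ∀ (l : P →* ℂˣ), l ≠ 1 → ∀ x : N, twist P l x = l ↔ (x : H) ∈ P := by
    intro l hl x
    constructor
    · intro hx
      by_contra hxP
      have hinj : Function.Injective fun u : P => conjHom P x u * u⁻¹ := by
        intro a b hab
        have hab' : (x : H) * a * (x : H)⁻¹ * (a : H)⁻¹ = (x : H) * b * (x : H)⁻¹ * (b : H)⁻¹ :=
          congrArg Subtype.val hab
        by_contra hne
        have hd1 : (a : H) * (b : H)⁻¹ ≠ 1 := fun h => hne (Subtype.ext (mul_inv_eq_one.1 h))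
        apply hxP
        rw [← hC _ (mul_mem a.2 (inv_mem b.2)) hd1, mem_centralizer_singleton_iff]
        have hc := hPc _ (inv_mem b.2) _ a.2
        have hd : (x : H) * (a * (b : H)⁻¹) * (x : H)⁻¹ = a * (b : H)⁻¹ := by
          calc (x : H) * (a * (b : H)⁻¹) * (x : H)⁻¹
              = ((x : H) * a * (x : H)⁻¹ * (a : H)⁻¹) * a *
                  ((x : H) * b * (x : H)⁻¹)⁻¹ := by group
            _ = ((x : H) * b * (x : H)⁻¹ * (b : H)⁻¹) * a * ((x : H) * b * (x : H)⁻¹)⁻¹ := by
                rw [hab']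
            _ = ((x : H) * b * (x : H)⁻¹) * ((b : H)⁻¹ * a) * ((x : H) * b * (x : H)⁻¹)⁻¹ := by
                group
            _ = ((x : H) * b * (x : H)⁻¹) * (a * (b : H)⁻¹) * ((x : H) * b * (x : H)⁻¹)⁻¹ := by
                rw [hc]
            _ = a * (b : H)⁻¹ := by
                have hm : (x : H) * b * (x : H)⁻¹ ∈ P := (mem_normalizer_iff.1 x.2 _).1 b.2
                rw [hPc _ hm _ (mul_mem a.2 (inv_mem b.2)), mul_inv_cancel_right]
        exact mul_inv_eq_iff_eq_mul.1 hd
      apply hl
      ext v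
      obtain ⟨u, rfl⟩ := (Finite.injective_iff_surjective.1 hinj) v
      have h1 : l (conjHom P x u) = l u := DFunLike.congr_fun hx u
      simp [map_mul, h1]
    · intro hx
      ext u
      have h1 : conjHom P x u = u := Subtype.ext (show (x : H) * u * (x : H)⁻¹ = u by
        rw [hPc _ hx _ u.2, mul_inv_cancel_right])
      simp [twist, h1]
  have htw2 : ∀ (l : P →* ℂˣ), l ≠ 1 → ∀ x y : N, twist P l x = twist P l y ↔
      (x : H) * (y : H)⁻¹ ∈ P := by
    intro l hl x y
    constructor
    · intro h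
      have := (htw l hl (x * y⁻¹)).1 (by
        rw [← twist_twist, h, twist_twist, mul_inv_cancel, twist_one])
      simpa using this
    · intro h
      have := (htw l hl (x * y⁻¹)).2 (by simpa using h)
      rw [← twist_twist] at this
      conv_rhs => rw [← this]
      rw [twist_twist, inv_mul_cancel, twist_one]
  -- the permutation character
  set π := Cfsg.indFun S (fun _ => (1 : ℂ)) with hπ
  have hπc : Cfsg.IsCharacter H π := isCharacter_indFun S isCharacter_one
  have hπ1 : π 1 = (Nat.card P : ℂ) := by rw [hπ, indFun_apply_one, mul_one, hSi]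
  have hπu : ∀ u ∈ P, u ≠ 1 → π u = 0 := by
    intro u hu hu1
    rw [hπ, indFun_def, Finset.sum_eq_zero fun x _ => extendByZero_of_not_mem _ (hS u hu hu1 x),
      mul_zero]
  have hπm : ∀ l : P →* ℂˣ, mult P π l = 1 := by
    intro l
    rw [mult, classInner_def, Finset.sum_eq_single (1 : P)]
    · simp [hπ1]
    · intro u _ hu
      rw [hπu u u.2 fun h => hu (Subtype.ext h), zero_mul]
    · simp
  have := Fintype.ofFinite (Cfsg.IrrCharacter H)
  have : Finite (P →* ℂˣ) := Nat.finite_of_card_ne_zero (by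
    rw [natCard_linear]; exact index_ne_zero_of_finite)
  have := Fintype.ofFinite (P →* ℂˣ)
  choose k hk using fun ψ : Cfsg.IrrCharacter H =>
    classInner_isCharacter_nat hπc (irr_isCharacter ψ.2)
  choose m hm using fun (ψ : Cfsg.IrrCharacter H) (l : P →* ℂˣ) =>
    exists_nat_mult P (irr_isCharacter ψ.2) l
  have hdecomp : ∀ (f : H → ℂ), Cfsg.IsClassFunction H f → ∀ l : P →* ℂˣ, mult P f l =
      ∑ ψ : Cfsg.IrrCharacter H, Cfsg.classInner f (ψ : H → ℂ) * mult P (ψ : H → ℂ) l := by
    intro f hf l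
    have e : (fun u : P => f u) = ∑ ψ : Cfsg.IrrCharacter H,
        Cfsg.classInner f (ψ : H → ℂ) • (fun u : P => (ψ : H → ℂ) u) := by
      ext u
      rw [classFunction_apply_eq_sum hf (u : H), Finset.sum_apply]
      rfl
    rw [mult, e, classInner_sum_left]
    simp only [classInner_smul_left, mult]
  have hsum : ∀ l : P →* ℂˣ, ∑ ψ, k ψ * m ψ l = 1 := by
    intro l
    have h := hdecomp π (isCharacter_isClassFunction hπc) l
    rw [hπm] at h
    simp only [hk, hm] at h
    exact_mod_cast h.symm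
  choose Ψ hΨ1 hΨ2 using fun l => exists_unique_of_sum_eq_one (fun ψ => k ψ * m ψ l) (hsum l)
  let one' : Cfsg.IrrCharacter H := ⟨fun _ => 1, isIrrCharacter_one⟩
  have hk1 : k one' = 1 := by
    have := Fintype.ofFinite S
    have h := hk one'
    rw [hπ, frobenius_reciprocity S _ _ (irr_isClassFunction isIrrCharacter_one),
      irr_classInner isIrrCharacter_one isIrrCharacter_one, if_pos rfl] at h
    exact_mod_cast h.symm
  have hm1 : ∀ l, m one' l = if (1 : P →* ℂˣ) = l then 1 else 0 := by
    intro l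
    have h := hm one' l
    have e : (fun u : P => ((one' : Cfsg.IrrCharacter H) : H → ℂ) u) =
        fun u : P => (((1 : P →* ℂˣ) u : ℂˣ) : ℂ) := rfl
    rw [mult, e, linear_classInner] at h
    split_ifs with h1 <;> simp [h1] at h ⊢ <;> exact_mod_cast h.symm
  have hΨone : Ψ 1 = one' := (hΨ2 1 one' (by simp [hk1, hm1])).symm
  have hk_of : ∀ l, k (Ψ l) = 1 ∧ m (Ψ l) l = 1 := fun l =>
    mul_eq_one.1 (hΨ1 l)
  have hm_other : ∀ l μ, Ψ μ ≠ Ψ l → m (Ψ l) μ = 0 := by
    intro l μ hne
    by_contra h0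
    exact hne (hΨ2 μ (Ψ l) (by simp [(hk_of l).1, h0])).symm
  have hΨne : ∀ l, l ≠ 1 → Ψ l ≠ one' := by
    intro l hl e
    have := (hk_of l).2
    rw [e, hm1, if_neg (Ne.symm hl)] at this
    exact zero_ne_one this
  have hmtw : ∀ ψ l (x : N), m ψ (twist P l x) = m ψ l := by
    intro ψ l x
    have := mult_twist P (irr_isClassFunction ψ.2) l x
    rw [hm, hm] at this
    exact_mod_cast this
  -- inequivalent characters: their multiplicities differ at exactly two irreducible characters
  have hpair : ∀ l μ : P →* ℂˣ, l ≠ 1 → μ ≠ 1 → (∀ x : N, twist P l x ≠ μ) →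
      ∃ a b : Cfsg.IrrCharacter H, a ≠ b ∧ ∀ ψ, (m ψ l : ℤ) - m ψ μ =
        (if ψ = a then 1 else 0) - (if ψ = b then 1 else 0) := by
    intro l μ hl hμ hne
    set θ : P → ℂ := (fun u : P => (l u : ℂ)) - (fun u : P => (μ u : ℂ)) with hθ
    have hgen : Cfsg.IsGeneralizedCharacter P θ :=
      isGeneralized_sub (isGeneralized_of_isCharacter (irr_isCharacter (isIrrCharacter_linear l)))
        (isGeneralized_of_isCharacter (irr_isCharacter (isIrrCharacter_linear μ)))
    set D := Cfsg.indFun P θ with hD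
    have hDc : Cfsg.IsClassFunction H D := indFun_isClassFunction P θ
    have hDres : ∀ u : P, D u = (Nat.card P : ℂ)⁻¹ *
        ∑ x : N, ((twist P l x u : ℂ) - (twist P μ x u : ℂ)) := by
      intro u
      rw [hD, indFun_def]
      congr 1
      by_cases hu : (u : H) = 1
      · have hu' : u = 1 := Subtype.ext hu
        subst hu'
        rw [Finset.sum_eq_zero, Finset.sum_eq_zero]
        · intro x _; simp
        · intro x _
          rw [show x⁻¹ * ((1 : P) : H) * x = 1 by simp, extendByZero_of_mem θ (one_mem P)]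
          exact (show θ (1 : P) = 0 by simp [hθ])
      · symm
        refine (Finset.sum_bij' (fun (x : N) _ => ((x⁻¹ : N) : H))
          (fun (y : H) hy => (⟨y, (Finset.mem_filter.1 hy).2⟩ : N)⁻¹)
          (fun x _ => Finset.mem_filter.2 ⟨Finset.mem_univ _, (x⁻¹).2⟩)
          (fun y _ => Finset.mem_univ _) (fun x _ => Subtype.ext (inv_inv _)) (fun y _ => inv_inv _)
          (g := fun y : H => Cfsg.extendByZero P θ (y⁻¹ * u * y)) (fun x _ => ?_)).trans
          (Finset.sum_filter_of_ne fun y _ hy => ?_)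
        · rw [show ((x⁻¹ : N) : H)⁻¹ * u * ((x⁻¹ : N) : H) = (conjHom P x u : H) by
            simp [conjHom, mul_assoc], extendByZero_coe]
          rfl
        · refine hTI u u.2 hu y ?_
          by_contra hc
          exact hy (extendByZero_of_not_mem θ hc)
    have hnorm : Cfsg.classInner D D = 2 := by
      rw [hD, frobenius_reciprocity P θ _ hDc, ← classInner_conj_symm]
      have e : (fun u : P => D u) = (Nat.card P : ℂ)⁻¹ • ∑ x : N,
          ((fun u : P => (twist P l x u : ℂ)) - fun u : P => (twist P μ x u : ℂ)) := by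
        ext u
        rw [hDres u, Pi.smul_apply, Finset.sum_apply, smul_eq_mul]
        rfl
      rw [e, classInner_smul_left, classInner_sum_left]
      have hx : ∀ x : N, Cfsg.classInner
          ((fun u : P => (twist P l x u : ℂ)) - fun u : P => (twist P μ x u : ℂ)) θ =
            if (x : H) ∈ P then 2 else 0 := by
        intro x
        rw [hθ]
        simp only [classInner_sub_left, classInner_sub_right, linear_classInner]
        have h1 : ∀ y : N, twist P l y = μ ↔ False := fun y => iff_false_intro (hne y)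
        have h2 : ∀ y : N, twist P μ y = l ↔ False := fun y => iff_false_intro fun h => hne y⁻¹ (by
          rw [← h, twist_twist, mul_inv_cancel, twist_one])
        simp only [h1, h2, htw l hl, htw μ hμ, if_false]
        split_ifs <;> norm_num
      rw [Finset.sum_congr rfl fun x _ => hx x, ← Finset.sum_filter, Finset.sum_const,
        nsmul_eq_mul]
      have hc : ((Finset.univ : Finset N).filter fun x : N => (x : H) ∈ P).card = Nat.card P := by
        rw [← Fintype.card_subtype, ← Nat.card_eq_fintype_card]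
        exact Nat.card_congr (subgroupOfEquivOfLe (le_normalizer : P ≤ N)).toEquiv
      rw [hc, ← mul_assoc, inv_mul_cancel₀ natCard_ne_zero, one_mul, map_ofNat]
    obtain ⟨a, b, hab, hDab⟩ := exists_irr_sub (isGeneralized_indFun P hgen)
      (by rw [indFun_apply_one]; simp [hθ]) hnorm
    refine ⟨a, b, hab, fun ψ => ?_⟩
    have h1 : Cfsg.classInner D (ψ : H → ℂ) = ((m ψ l : ℤ) : ℂ) - ((m ψ μ : ℤ) : ℂ) := by
      rw [hD, frobenius_reciprocity P θ _ (irr_isClassFunction ψ.2), hθ, classInner_sub_left,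
        ← classInner_conj_symm (fun h : P => (ψ : H → ℂ) h) (fun u : P => (l u : ℂ)),
        ← classInner_conj_symm (fun h : P => (ψ : H → ℂ) h) (fun u : P => (μ u : ℂ))]
      change conj (mult P _ l) - conj (mult P _ μ) = _
      rw [hm, hm]
      simp
    rw [show D = _ from hDab, classInner_sub_left, irr_classInner a.2 ψ.2,
      irr_classInner b.2 ψ.2] at h1
    simp only [Subtype.coe_inj, eq_comm (b := ψ)] at h1
    apply Int.cast_injective (α := ℂ)
    push_cast
    simpa using h1.symm
  -- two classes of characters with different constituents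
  have hpair' : ∀ l ν : P →* ℂˣ, l ≠ 1 → ν ≠ 1 → Ψ l ≠ Ψ ν → ∀ ψ, (m ψ l : ℤ) - m ψ ν =
      (if ψ = Ψ l then 1 else 0) - (if ψ = Ψ ν then 1 else 0) := by
    intro l ν hl hν hne
    have hneq : ∀ x : N, twist P l x ≠ ν := by
      intro x h
      have h1 := hmtw (Ψ l) l x
      rw [h, hm_other l ν (Ne.symm hne), (hk_of l).2] at h1
      exact zero_ne_one h1
    obtain ⟨a, b, hab, hd⟩ := hpair l ν hl hν hneq
    have ha : Ψ l = a := by
      have h1 := hd (Ψ l)
      rw [(hk_of l).2, hm_other l ν (Ne.symm hne)] at h1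
      by_contra hc
      rw [if_neg hc] at h1
      split_ifs at h1 <;> norm_num at h1
    have hb : Ψ ν = b := by
      have h1 := hd (Ψ ν)
      rw [(hk_of ν).2, hm_other ν l hne] at h1
      by_contra hc
      rw [if_neg hc] at h1
      split_ifs at h1 <;> norm_num at h1
    intro ψ
    rw [hd ψ, ha, hb]
  have hclaim : ∀ l μ ν : P →* ℂˣ, l ≠ 1 → μ ≠ 1 → ν ≠ 1 → Ψ l = Ψ μ → Ψ l ≠ Ψ ν →
      ∃ x : N, twist P l x = μ := by
    intro l μ ν hl hμ hν he' hne
    by_contra hc
    push Not at hc
    obtain ⟨a, b, hab, hd⟩ := hpair l μ hl hμ hc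
    have h1 := hd a
    have e1 := hpair' l ν hl hν hne a
    have e2 := hpair' μ ν hμ hν (he' ▸ hne) a
    rw [← he'] at e2
    rw [if_pos rfl, if_neg hab] at h1
    omega
  by_cases hall : ∀ l μ : P →* ℂˣ, l ≠ 1 → μ ≠ 1 → Ψ l = Ψ μ
  · -- two orbits
    obtain ⟨l0, hl0⟩ : ∃ l : P →* ℂˣ, l ≠ 1 := by
      by_contra h
      push Not at h
      have : Subsingleton (P →* ℂˣ) := ⟨fun a b => (h a).trans (h b).symm⟩
      have hc := natCard_linear (G := P)
      have hbot : commutator P = ⊥ := by
        rw [_root_.commutator_def, eq_bot_iff, commutator_le]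
        intro a _ b _
        rw [mem_bot, commutatorElement_eq_one_iff_mul_comm]
        exact Subtype.ext (hPc a a.2 b b.2)
      rw [hbot, index_bot, Nat.card_of_subsingleton (1 : P →* ℂˣ)] at hc
      omega
    have hzero : ∀ ψ, ψ ≠ one' → ψ ≠ Ψ l0 → k ψ = 0 := by
      intro ψ h1 h2
      by_contra hk0
      obtain ⟨d, hd, hd1⟩ := irr_apply_one_pos ψ.2
      have hs := apply_eq_sum_mult P hPc (ψ : H → ℂ) 1
      simp only [hm, map_one, Units.val_one, mul_one, OneMemClass.coe_one, hd1] at hs
      have hs' : d = ∑ l, m ψ l := by exact_mod_cast hs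
      obtain ⟨l, -, hl⟩ := Finset.exists_ne_zero_of_sum_ne_zero (hs' ▸ hd.ne' : ∑ l, m ψ l ≠ 0)
      have := hΨ2 l ψ (mul_ne_zero hk0 hl)
      rcases eq_or_ne l 1 with rfl | hl1
      · exact h1 (this.trans hΨone)
      · exact h2 (this.trans (hall l l0 hl1 hl0))
    have hππ : Cfsg.classInner π π = 2 := by
      rw [classInner_eq_sum_mul (isCharacter_isClassFunction hπc) π]
      simp only [hk, map_natCast]
      rw [Finset.sum_eq_add (Ψ l0) one' (hΨne l0 hl0)
        (fun ψ _ h => by simp [hzero ψ h.2 h.1]) (fun h => absurd (Finset.mem_univ _) h)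
        (fun h => absurd (Finset.mem_univ _) h), hk1, (hk_of l0).1]
      norm_num
    have := Fintype.ofFinite S
    have := Fintype.ofFinite (H ⧸ S)
    have := Fintype.ofFinite (MulAction.orbitRel.Quotient S (H ⧸ S))
    have horb : Nat.card (MulAction.orbitRel.Quotient S (H ⧸ S)) = 2 := by
      rw [hπ, frobenius_reciprocity S _ _ (indFun_isClassFunction _ _), classInner_def] at hππ
      have hf : ∀ s : S, Cfsg.indFun S (fun _ => (1 : ℂ)) (s : H) =
          (Fintype.card (MulAction.fixedBy (H ⧸ S) s) : ℂ) := by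
        intro s
        have h := natCard_fixedBy_eq_indFun (H ⧸ S) ((1 : H) : H ⧸ S) (s : H)
        rw [MulAction.stabilizer_quotient] at h
        rw [← h, ← Nat.card_eq_fintype_card]
        rfl
      simp only [one_mul, hf, map_natCast, ← Nat.cast_sum,
        MulAction.sum_card_fixedBy_eq_card_orbits_mul_card_group] at hππ
      rw [Nat.card_eq_fintype_card (α := S), Nat.cast_mul, mul_comm (_ : ℂ) (Fintype.card S : ℂ),
        ← mul_assoc, inv_mul_cancel₀ (by exact_mod_cast Fintype.card_pos.ne'), one_mul] at hππ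
      rw [Nat.card_eq_fintype_card]
      exact_mod_cast hππ
    intro x y hx hy
    obtain ⟨A, B, hAB, huniv⟩ := Nat.card_eq_two_iff.1 horb
    let q : H → MulAction.orbitRel.Quotient S (H ⧸ S) := fun z => Quotient.mk'' (z : H ⧸ S)
    have hbase : ∀ z : H, z ∉ S → q z ≠ q 1 := by
      intro z hz h
      obtain ⟨s, hs⟩ := Quotient.exact' h
      have hs' : (((s : H) * 1 : H) : H ⧸ S) = ((z : H) : H ⧸ S) := hs
      rw [mul_one, QuotientGroup.eq] at hs'
      exact hz (by simpa using mul_mem s.2 hs')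
    have hxy : q y = q x := by
      have hmem : ∀ w, w = A ∨ w = B := fun w => by
        simpa using (huniv.symm ▸ Set.mem_univ w : w ∈ ({A, B} : Set _))
      rcases hmem (q 1) with h | h <;> rcases hmem (q x) with h' | h' <;>
        rcases hmem (q y) with h'' | h'' <;>
        first
        | exact h''.trans h'.symm
        | exact absurd (h'.trans h.symm) (hbase x hx)
        | exact absurd (h''.trans h.symm) (hbase y hy)
    obtain ⟨s, hs⟩ := Quotient.exact' hxy
    have hs' : (((s : H) * x : H) : H ⧸ S) = ((y : H) : H ⧸ S) := hs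
    rw [eq_comm, QuotientGroup.eq] at hs'
    exact ⟨s, s.2, by rwa [mul_assoc]⟩
  -- otherwise a constituent of degree `e`
  exfalso
  have hother : ∀ l, l ≠ 1 → ∃ ν, ν ≠ 1 ∧ Ψ l ≠ Ψ ν := by
    intro l hl
    by_contra h
    push Not at h
    exact hall fun a b ha hb => (h a ha).symm.trans (h b hb)
  push Not at hall
  obtain ⟨l0, -, hl0, -, -⟩ := hall
  have hsame : ∀ l μ, l ≠ 1 → μ ≠ 1 → Ψ l = Ψ μ → ∃ x : N, twist P l x = μ := by
    intro l μ hl hμ h
    obtain ⟨ν, hν, hne⟩ := hother l hl
    exact hclaim l μ ν hl hμ hν h hne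
  set χ := Ψ l0 with hχ
  have hχsupp : ∀ μ, m χ μ = if ∃ x : N, twist P l0 x = μ then 1 else 0 := by
    intro μ
    split_ifs with h
    · obtain ⟨x, rfl⟩ := h
      rw [hmtw]; exact (hk_of l0).2
    · refine hm_other l0 μ fun h' => h ?_
      rcases eq_or_ne μ 1 with rfl | hμ
      · exact absurd (h'.symm.trans hΨone) (hΨne l0 hl0)
      · exact hsame l0 μ hl0 hμ h'.symm
  set O := (Finset.univ : Finset N).image (twist P l0) with hO
  have hOiff : ∀ μ, μ ∈ O ↔ ∃ x : N, twist P l0 x = μ := fun μ => by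
    rw [hO, Finset.mem_image]
    exact ⟨fun ⟨x, _, h⟩ => ⟨x, h⟩, fun ⟨x, h⟩ => ⟨x, Finset.mem_univ _, h⟩⟩
  have hOcard : O.card = e := by
    have hfib : ∀ μ ∈ O, ((Finset.univ : Finset N).filter fun x => twist P l0 x = μ).card =
        Nat.card P := by
      intro μ hμ
      obtain ⟨x0, rfl⟩ := (hOiff μ).1 hμ
      rw [← Fintype.card_subtype, ← Nat.card_eq_fintype_card]
      refine Nat.card_congr
        ⟨fun x => ⟨(x.1 : H) * (x0 : H)⁻¹, (htw2 l0 hl0 _ _).1 x.2⟩,
          fun u => ⟨⟨(u : H) * x0, mul_mem (le_normalizer u.2) x0.2⟩,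
            (htw2 l0 hl0 _ _).2 (by simp)⟩,
          fun x => Subtype.ext (Subtype.ext (by simp)), fun u => Subtype.ext (by simp)⟩
    have h1 := Finset.card_eq_sum_card_image (twist P l0) (Finset.univ : Finset N)
    rw [← hO, Finset.sum_congr rfl hfib, Finset.sum_const, smul_eq_mul, Finset.card_univ,
      ← Nat.card_eq_fintype_card] at h1
    have h2 := card_mul_index (P.subgroupOf N)
    rw [Nat.card_congr (subgroupOfEquivOfLe (le_normalizer : P ≤ N)).toEquiv, h1] at h2
    have h3 : Nat.card P * e = O.card * Nat.card P := by rw [← hedef]; exact h2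
    rw [mul_comm] at h3
    exact (Nat.eq_of_mul_eq_mul_right Nat.card_pos h3).symm
  have hmO : ∀ μ, m χ μ = if μ ∈ O then 1 else 0 := fun μ => by
    rw [hχsupp]; simp only [hOiff]
  have hχ1 : (χ : H → ℂ) 1 = (e : ℂ) := by
    have hs := apply_eq_sum_mult P hPc (χ : H → ℂ) 1
    simp only [hm, map_one, Units.val_one, mul_one, OneMemClass.coe_one, hmO] at hs
    simpa [hOcard] using hs
  set Θ : H → ℂ := (χ : H → ℂ) * fun h => conj ((χ : H → ℂ) h) with hΘ
  have hΘc : Cfsg.IsCharacter H Θ :=
    isCharacter_mul (irr_isCharacter χ.2) (isCharacter_conj (irr_isCharacter χ.2))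
  have hΘcl := isCharacter_isClassFunction hΘc
  choose j hj using fun φ : Cfsg.IrrCharacter H =>
    classInner_isCharacter_nat hΘc (irr_isCharacter φ.2)
  have hj1 : j one' = 1 := by
    have h := hj one'
    have e1 : Cfsg.classInner Θ ((one' : Cfsg.IrrCharacter H) : H → ℂ) =
        Cfsg.classInner (χ : H → ℂ) (χ : H → ℂ) := by
      simp [classInner_def, hΘ, one']
    rw [e1, irr_classInner χ.2 χ.2, if_pos rfl] at h
    exact_mod_cast h.symm
  have hje : ∑ φ, j φ * m φ 1 = e := by
    have h := hdecomp Θ hΘcl 1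
    have e1 : mult P Θ 1 = (e : ℂ) := by
      have e2 : mult P Θ 1 =
          Cfsg.classInner (fun u : P => (χ : H → ℂ) u) (fun u : P => (χ : H → ℂ) u) := by
        simp [mult, classInner_def, hΘ]
      have e3 : (fun u : P => (χ : H → ℂ) u) =
          ∑ μ : P →* ℂˣ, (m χ μ : ℂ) • fun u : P => (μ u : ℂ) := by
        ext u
        rw [apply_eq_sum_mult P hPc (χ : H → ℂ) u, Finset.sum_apply]
        simp [hm]
      rw [e2]
      conv_lhs => arg 1; rw [e3]
      rw [classInner_sum_left]
      have e4 : ∀ μ : P →* ℂˣ, Cfsg.classInner ((m χ μ : ℂ) • fun u : P => (μ u : ℂ))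
          (fun u : P => (χ : H → ℂ) u) = if μ ∈ O then 1 else 0 := by
        intro μ
        rw [classInner_smul_left, ← classInner_conj_symm]
        change (m χ μ : ℂ) * conj (mult P _ μ) = _
        rw [hm, map_natCast, hmO]
        split_ifs <;> simp
      rw [Finset.sum_congr rfl fun μ _ => e4 μ]
      simp [hOcard]
    rw [e1] at h
    simp only [hj, hm] at h
    exact_mod_cast h.symm
  choose d hdpos hd using fun φ : Cfsg.IrrCharacter H => irr_apply_one_pos φ.2
  have hdeg : ∑ φ, j φ * d φ = e * e := by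
    have h := classFunction_apply_eq_sum hΘcl (1 : H)
    simp only [hj, hd] at h
    rw [hΘ, Pi.mul_apply, hχ1, map_natCast] at h
    exact_mod_cast h.symm
  -- a further constituent with a trivial constituent on `P`
  obtain ⟨φ, hφ1, hφ⟩ : ∃ φ, φ ≠ one' ∧ j φ * m φ 1 ≠ 0 := by
    by_contra hc
    push Not at hc
    rw [Finset.sum_eq_single one' (fun b _ hb => hc b hb) (by simp), hj1, hm1, if_pos rfl] at hje
    omega
  have hjφ : 1 ≤ j φ := Nat.pos_of_ne_zero (left_ne_zero_of_mul hφ)
  have hmφ : m φ 1 ≠ 0 := right_ne_zero_of_mul hφ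
  have hnotΨ : ∀ l, l ≠ 1 → φ ≠ Ψ l := by
    intro l hl h
    rw [h] at hmφ
    exact hmφ (hm_other l 1 (by rw [hΨone]; exact (hΨne l hl).symm))
  have hconst : ∀ l, l ≠ 1 → m φ l = m φ l0 := by
    intro l hl
    by_cases h : Ψ l = Ψ l0
    · obtain ⟨x, hx⟩ := hsame l l0 hl hl0 h
      rw [← hx, hmtw]
    · have h1 := hpair' l l0 hl hl0 h φ
      rw [if_neg (hnotΨ l hl), if_neg (hnotΨ l0 hl0)] at h1
      omega
  have hmc : m φ l0 ≠ 0 := by
    intro h0
    apply hφ1
    have hval : ∀ u : P, (φ : H → ℂ) u = (m φ 1 : ℂ) := by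
      intro u
      rw [apply_eq_sum_mult P hPc (φ : H → ℂ) u, Finset.sum_eq_single (1 : P →* ℂˣ)]
      · simp [hm]
      · intro l _ hl
        rw [hm, hconst l hl, h0]; simp
      · simp
    obtain ⟨n, ρ, hρ, hρφ⟩ := φ.2
    have hPk : P ≤ (MonoidHom.ker ρ : Subgroup H) := by
      intro u hu
      rw [mem_ker_iff_char, hρφ]
      exact (hval ⟨u, hu⟩).trans (hval 1).symm
    have hker : (MonoidHom.ker ρ : Subgroup H) = ⊤ := by
      refine ((MonoidHom.normal_ker ρ).eq_bot_or_eq_top).resolve_left fun hb => ?_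
      rw [hb, le_bot_iff] at hPk
      rw [hPk, card_bot] at hP4
      omega
    apply Subtype.ext
    rw [← hρφ]
    exact char_eq_one_of_trivial ρ fun x => MonoidHom.mem_ker.mp (hker ▸ mem_top x)
  have hdφ : Nat.card P ≤ d φ := by
    have hs := apply_eq_sum_mult P hPc (φ : H → ℂ) 1
    simp only [hm, map_one, Units.val_one, mul_one, OneMemClass.coe_one, hd] at hs
    have hs' : d φ = ∑ l, m φ l := by exact_mod_cast hs
    have hbot : commutator P = ⊥ := by
      rw [_root_.commutator_def, eq_bot_iff, commutator_le]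
      intro a _ b _
      rw [mem_bot, commutatorElement_eq_one_iff_mul_comm]
      exact Subtype.ext (hPc a a.2 b b.2)
    have hc : Fintype.card (P →* ℂˣ) = Nat.card P := by
      rw [← Nat.card_eq_fintype_card, natCard_linear, hbot, index_bot]
    rw [hs']
    calc Nat.card P = ∑ _l : P →* ℂˣ, 1 := by simp [hc]
      _ ≤ ∑ l, m φ l := Finset.sum_le_sum fun l _ => by
        rcases eq_or_ne l 1 with rfl | hl
        · omega
        · rw [hconst l hl]; omega
  have h2 : j one' * d one' + j φ * d φ ≤ e * e := by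
    rw [← hdeg, ← Finset.sum_pair (f := fun ψ => j ψ * d ψ) hφ1.symm]
    exact Finset.sum_le_sum_of_subset (Finset.subset_univ _)
  have h3 : 1 ≤ j one' * d one' := by rw [hj1, one_mul]; exact hdpos one'
  have h4 : Nat.card P ≤ j φ * d φ := le_trans hdφ (Nat.le_mul_of_pos_left _ hjφ)
  omega

end CfsgLib.StructB.PPowerChar
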