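import Cfsg.Agent.Lib.StructB.PPowerBasic
import Cfsg.Agent.Lib.Solvable.Nilpotent
import Mathlib.GroupTheory.GroupAction.Quotient

/-!
In a minimal non-solvable coprime linear group with orbits of `p`-power size, a Sylow `p`-subgroup
has no normal elementary abelian subgroup of order `p ^ 2`: the fixed spaces of its lines would be
`p` blocks whose graph of neighbours is a cycle.
-/

set_option autoImplicit false

namespace CfsgLib.StructB.PPowerOrbit

open Subgroup

universe u v

variable {H : Type u} [Group H] [Finite H] {q : ℕ} [Fact q.Prime]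
variable {V : Type v} [AddCommGroup V] [Module (ZMod q) V] {p : ℕ} [Fact p.Prime]
variable {ρ : Representation (ZMod q) H V}

/-- Edges of an `n`-cycle are determined by one of them. -/
theorem apply_zpow_eq {Ω : Type*} (s f : Equiv.Perm Ω) (h2 : ∀ a, s a ≠ s.symm a)
    (hadj : ∀ a, f (s a) = s (f a) ∨ f a = s (f (s a))) (i : Ω) (hi : f (s i) = s (f i)) :
    ∀ n : ℕ, f ((s ^ n) i) = (s ^ n) (f i) := by
  intro n
  induction n using Nat.twoStepInduction with
  | zero => simp
  | one => simpa using hi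
  | more n ih1 ih2 =>
    have e1 : (s ^ (n + 1)) i = s ((s ^ n) i) := by rw [pow_succ', Equiv.Perm.mul_apply]
    have e2 : (s ^ (n + 2)) i = s ((s ^ (n + 1)) i) := by rw [pow_succ', Equiv.Perm.mul_apply]
    have e3 : (s ^ (n + 2)) (f i) = s ((s ^ (n + 1)) (f i)) := by
      rw [pow_succ', Equiv.Perm.mul_apply]
    have e4 : (s ^ (n + 1)) (f i) = s ((s ^ n) (f i)) := by rw [pow_succ', Equiv.Perm.mul_apply]
    rcases hadj ((s ^ (n + 1)) i) with h | h
    · rw [e2, h, ih2, e3]
    · exfalso
      have h3 : f ((s ^ (n + 2)) i) = (s ^ n) (f i) := by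
        rw [e2]
        apply s.injective
        rw [← h, ih2, e4]
      rw [← ih1] at h3
      have h4 := f.injective h3
      rw [e2, e1] at h4
      apply h2 (s ((s ^ n) i))
      rw [h4, Equiv.symm_apply_apply]

set_option maxHeartbeats 800000 in
theorem not_elementary_sq [Finite V] (hq : ¬ q ∣ Nat.card H) (hinj : Function.Injective ρ)
    (horb : ∀ w, ∃ a, (fixer ρ w).index = p ^ a)
    (hirr : ∀ W : Submodule (ZMod q) V, (∀ h : H, ∀ w ∈ W, ρ h w ∈ W) → W = ⊥ ∨ W = ⊤)
    (hnormal : ∀ N : Subgroup H, N.Normal → N ≠ ⊤ → Group.IsSolvable N)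
    (hns : ¬ Group.IsSolvable H) (P : Sylow p H) (E : Subgroup (P : Subgroup H)) [E.Normal]
    (hEc : ∀ a ∈ E, ∀ b ∈ E, a * b = b * a) (hEe : ∀ a ∈ E, a ^ p = 1)
    (hE : Nat.card E = p ^ 2) : False := by
  classical
  have hp : p.Prime := Fact.out
  set E' : Subgroup H := E.map (P : Subgroup H).subtype with hE'
  have hE'card : Nat.card E' = p ^ 2 := by
    rw [hE', card_map_of_injective (P : Subgroup H).subtype_injective, hE]
  have hE'e : ∀ a ∈ E', a ^ p = 1 := by
    rintro _ ⟨a, ha, rfl⟩
    rw [← map_pow, hEe a ha, map_one]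
  have hE'c : ∀ a ∈ E', ∀ b ∈ E', a * b = b * a := by
    rintro _ ⟨a, ha, rfl⟩ _ ⟨b, hb, rfl⟩
    rw [← map_mul, ← map_mul, hEc a ha b hb]
  have hE'P : E' ≤ (P : Subgroup H) := map_subtype_le E
  have hPn : (P : Subgroup H) ≤ normalizer (E' : Set H) := by
    have := le_normalizer_map (f := (P : Subgroup H).subtype) (H := E)
    rwa [normalizer_eq_top, ← MonoidHom.range_eq_map, range_subtype] at this
  have hEne : E' ≠ ⊥ := by
    intro e
    rw [e, card_bot] at hE'card
    exact (Nat.one_lt_pow two_ne_zero hp.one_lt).ne hE'card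
  have hEfix := fixedSub_eq_bot hinj horb hirr P E' hEne hPn
  -- a central line
  obtain ⟨z, hzE, hz1, hzc⟩ : ∃ z ∈ E', z ≠ 1 ∧ ∀ u ∈ P, u * z = z * u := by
    have hne : E ≠ ⊥ := by
      rintro rfl
      rw [card_bot] at hE
      exact (Nat.one_lt_pow two_ne_zero hp.one_lt).ne hE
    have hE2 : E ⊓ center (P : Subgroup H) ≠ ⊥ := by
      have := P.2.isNilpotent
      exact CfsgLib.Solvable.normal_inf_center_ne_bot E hne
    obtain ⟨⟨z, hz⟩, hzne⟩ := ne_bot_iff_exists_ne_one.1 hE2
    exact ⟨z, mem_map_of_mem _ hz.1, fun e => hzne (Subtype.ext (Subtype.ext e)),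
      fun u hu => congrArg Subtype.val (mem_center_iff.1 hz.2 ⟨u, hu⟩)⟩
  have hzfix : fixedSub ρ (zpowers z : Set H) = ⊥ := by
    refine fixedSub_eq_bot hinj horb hirr P _ (by rwa [Ne, zpowers_eq_bot]) fun u hu => ?_
    rw [mem_normalizer_iff]
    intro w
    have hcw : ∀ i : ℤ, u * z ^ i * u⁻¹ = z ^ i := fun i => by
      rw [((show Commute u z from hzc u hu).zpow_right i).eq, mul_inv_cancel_right]
    constructor
    · intro hw
      obtain ⟨i, rfl⟩ := mem_zpowers_iff.1 hw
      rw [hcw]; exact zpow_mem (mem_zpowers z) i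
    · intro hw
      obtain ⟨i, hi⟩ := mem_zpowers_iff.1 hw
      rw [← hcw i] at hi
      have : z ^ i = w := mul_left_cancel (mul_right_cancel hi)
      rw [← this]; exact zpow_mem (mem_zpowers z) i
  -- the lines with fixed points
  let Ω := {B : Subgroup H // B ≤ E' ∧ Nat.card B = p ∧ fixedSub ρ (B : Set H) ≠ ⊥}
  let U : Ω → Submodule (ZMod q) V := fun B => fixedSub ρ ((B.1 : Subgroup H) : Set H)
  have hUne : ∀ B, U B ≠ ⊥ := fun B => B.2.2.2
  have hgen : ∀ B C : Ω, B ≠ C → B.1 ⊔ C.1 = E' := by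
    intro B C hne
    refine eq_of_le_of_card_ge (sup_le B.2.1 C.2.1) ?_
    rw [hE'card]
    have hlt : B.1 < B.1 ⊔ C.1 := lt_of_le_of_ne le_sup_left fun e => hne (Subtype.ext (
      (eq_of_le_of_card_ge (e.symm ▸ le_sup_right : C.1 ≤ B.1) (by rw [B.2.2.1, C.2.2.1])).symm))
    have hd : Nat.card ↥(B.1 ⊔ C.1) ∣ p ^ 2 := hE'card ▸ card_dvd_of_le (sup_le B.2.1 C.2.1)
    obtain ⟨i, hi, he⟩ := (Nat.dvd_prime_pow hp).1 hd
    have hlt' : p < Nat.card ↥(B.1 ⊔ C.1) := by
      have := lt_of_le_of_ne (card_le_of_le hlt.le) fun e => hlt.ne (eq_of_le_of_card_ge hlt.le e.ge)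
      rwa [B.2.2.1] at this
    rw [he] at hlt' ⊢
    refine Nat.pow_le_pow_right hp.pos ?_
    by_contra hi2
    have := Nat.pow_le_pow_right hp.pos (show i ≤ 1 by omega)
    rw [pow_one] at this
    omega
  have hmeet : ∀ B C : Ω, B ≠ C → ∀ w, w ∈ U B → w ∈ U C → w = 0 := by
    intro B C hne w hB hC
    have h1 : w ∈ fixedSub ρ (E' : Set H) := by
      intro a ha
      have hle : B.1 ⊔ C.1 ≤ fixer ρ w := sup_le (fun b hb => hB b hb) (fun c hc => hC c hc)
      rw [hgen B C hne] at hle
      exact hle ha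
    rwa [hEfix, Submodule.mem_bot] at h1
  have hnB : ∀ B C : Ω, ∀ b ∈ B.1, b ∈ normalizer ((C.1 : Subgroup H) : Set H) := by
    intro B C b hb
    rw [mem_normalizer_iff]
    intro w
    constructor
    · intro hw
      rwa [hE'c b (B.2.1 hb) w (C.2.1 hw), mul_inv_cancel_right]
    · intro hw
      have h1 : b⁻¹ * (b * w * b⁻¹) * b = b * w * b⁻¹ := by
        rw [hE'c _ (inv_mem (B.2.1 hb)) _ (C.2.1 hw), inv_mul_cancel_right]
      rw [← h1] at hw
      simpa [mul_assoc] using hw
  have havg0 : ∀ B C : Ω, B ≠ C → ∀ w ∈ U B, avg ρ C.1 w = 0 := by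
    intro B C hne w hw
    refine hmeet B C hne _ ?_ (avg_mem ρ C.1 w)
    intro b hb
    rw [← avg_comm ρ C.1 (hnB B C b hb), hw b hb]
  have hcopC : ∀ C : Ω, ¬ q ∣ Nat.card C.1 := fun C => not_dvd_card_subgroup hq C.1
  -- a subspace inside the union lies in one member
  have hstep : ∀ h : H, ∀ B : Ω, ∃ C : Ω, (U B).map (ρ h) ≤ U C := by
    intro h B
    have hun : ∀ w ∈ U B, ∃ C : Ω, ρ h w ∈ U C := by
      intro w hw
      refine inv_of_sylow horb P (X := {w | ∃ C : Ω, w ∈ U C}) ?_ h ⟨B, hw⟩
      rintro u hu x ⟨C, hC⟩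
      refine ⟨⟨C.1.map (MulAut.conj u).toMonoidHom, ?_, ?_, ?_⟩, ?_⟩
      · rintro _ ⟨c, hc, rfl⟩
        exact (mem_normalizer_iff.1 (hPn hu) c).1 (C.2.1 hc)
      · rw [card_map_of_injective (MulAut.conj u).injective, C.2.2.1]
      · intro e
        apply hUne C
        rw [eq_bot_iff]
        intro y hy
        have h1 : ρ u y ∈ fixedSub ρ ((C.1.map (MulAut.conj u).toMonoidHom : Subgroup H) : Set H) := by
          rintro _ ⟨c, hc, rfl⟩
          rw [MulEquiv.coe_toMonoidHom, MulAut.conj_apply, ← Module.End.mul_apply, ← map_mul,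
            inv_mul_cancel_right, map_mul, Module.End.mul_apply, hy c hc]
        rw [e, Submodule.mem_bot] at h1
        rw [Submodule.mem_bot]
        simpa [← Module.End.mul_apply, ← map_mul] using congrArg (ρ u⁻¹) h1
      · rintro _ ⟨c, hc, rfl⟩
        rw [MulEquiv.coe_toMonoidHom, MulAut.conj_apply, ← Module.End.mul_apply, ← map_mul,
          inv_mul_cancel_right, map_mul, Module.End.mul_apply, hC c hc]
    obtain ⟨w0, hw0, hw0ne⟩ := (Submodule.ne_bot_iff _).1 (hUne B)
    obtain ⟨C, hC⟩ := hun w0 hw0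
    have hρ0 : ρ h w0 ≠ 0 := fun e => hw0ne (by
      simpa [← Module.End.mul_apply, ← map_mul] using congrArg (ρ h⁻¹) e)
    refine ⟨C, ?_⟩
    rintro _ ⟨w, hw, rfl⟩
    obtain ⟨D, hD⟩ := hun w hw
    obtain ⟨L, hL⟩ := hun (w0 + w) (add_mem hw0 hw)
    by_contra hcon
    have hDC : D ≠ C := fun e => hcon (e ▸ hD)
    have hLC : L ≠ C := by
      intro e
      subst e
      rw [map_add] at hL
      exact hcon ((Submodule.add_mem_iff_right _ hC).1 hL)
    have h1 : avg ρ C.1 (ρ h (w0 + w)) = ρ h w0 := by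
      rw [map_add, map_add, avg_eq_self ρ C.1 (hcopC C) hC, havg0 D C hDC _ hD, add_zero]
    rw [havg0 L C hLC _ hL] at h1
    exact hρ0 h1.symm
  choose σ hσ using hstep
  have huniq : ∀ (h : H) (B C : Ω), (U B).map (ρ h) ≤ U C → σ h B = C := by
    intro h B C hle
    by_contra hne
    obtain ⟨w0, hw0, hw0ne⟩ := (Submodule.ne_bot_iff _).1 (hUne B)
    have e := hmeet _ _ hne _ (hσ h B (Submodule.mem_map_of_mem hw0))
      (hle (Submodule.mem_map_of_mem hw0))
    exact hw0ne (by simpa [← Module.End.mul_apply, ← map_mul] using congrArg (ρ h⁻¹) e)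
  let _ : SMul H Ω := ⟨σ⟩
  have hsmul : ∀ (h : H) (B : Ω), h • B = σ h B := fun _ _ => rfl
  let _ : MulAction H Ω :=
    { one_smul := fun B => huniq 1 B B (by rw [map_one, Module.End.one_eq_id, Submodule.map_id])
      mul_smul := fun a b B => huniq (a * b) B _ (by
        rw [map_mul, Module.End.mul_eq_comp, Submodule.map_comp]
        exact (Submodule.map_mono (hσ b B)).trans (hσ a _)) }
  set f := MulAction.toPermHom H Ω with hf
  -- fixed blocks are invariant subspaces
  have hnofix : ∀ B : Ω, ∃ u ∈ P, u • B ≠ B := by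
    intro B
    by_contra hc
    push Not at hc
    have hinvB : ∀ u ∈ P, ∀ w ∈ U B, ρ u w ∈ U B := fun u hu w hw =>
      (show σ u B = B from hc u hu) ▸ hσ u B (Submodule.mem_map_of_mem hw)
    rcases eq_bot_or_top_of_sylow horb hirr P (U B) hinvB with e | e
    · exact hUne B e
    · have hb : B.1 = ⊥ := by
        rw [eq_bot_iff]
        intro b hb
        rw [mem_bot]
        exact eq_one_of_apply_eq hinj fun w => (e ▸ Submodule.mem_top : w ∈ U B) b hb
      have := B.2.2.1
      rw [hb, card_bot] at this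
      exact hp.ne_one this.symm
  -- at most `p` blocks
  have hcard : Nat.card Ω ≤ p := by
    let g : (Σ B : Ω, {b : B.1 // b ≠ 1}) → {e : E' // (e : H) ∉ zpowers z} := fun x =>
      ⟨⟨(x.2.1 : H), x.1.2.1 x.2.1.2⟩, fun hmem => by
        have hb1 : zpowers (x.2.1 : H) = x.1.1 := by
          refine eq_of_le_of_card_ge (by rw [zpowers_le]; exact x.2.1.2) ?_
          rw [Nat.card_zpowers, x.1.2.2.1]
          refine (orderOf_eq_prime (hE'e _ (x.1.2.1 x.2.1.2)) fun e => x.2.2 (Subtype.ext e)).ge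
        apply x.1.2.2.2
        have hle : zpowers z ≤ x.1.1 := by
          have h1 : zpowers (x.2.1 : H) ≤ zpowers z := zpowers_le.2 hmem
          have h2 : Nat.card (zpowers z) = p := by
            rw [Nat.card_zpowers]
            exact orderOf_eq_prime (hE'e _ hzE) hz1
          have h3 := eq_of_le_of_card_ge (H := zpowers (x.2.1 : H)) (K := zpowers z) h1
            (by rw [h2, hb1, x.1.2.2.1])
          rw [← h3, hb1]
        exact le_bot_iff.1 (fun w hw => hzfix.le fun a ha => hw a (hle ha))⟩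
    have hg : Function.Injective g := by
      rintro ⟨B, b, hb⟩ ⟨C, c, hc⟩ e
      have e' : (b : H) = c := congrArg (fun y => ((y.1 : E') : H)) e
      have hBC : B = C := by
        by_contra hne
        obtain ⟨w, hw, hw0⟩ := (Submodule.ne_bot_iff _).1 (hUne B)
        have hb1 : zpowers (b : H) = B.1 := eq_of_le_of_card_ge (by rw [zpowers_le]; exact b.2) (by
          rw [Nat.card_zpowers, B.2.2.1]
          exact (orderOf_eq_prime (hE'e _ (B.2.1 b.2)) fun e => hb (Subtype.ext e)).ge)
        have hc1 : zpowers (c : H) = C.1 := eq_of_le_of_card_ge (by rw [zpowers_le]; exact c.2) (by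
          rw [Nat.card_zpowers, C.2.2.1]
          exact (orderOf_eq_prime (hE'e _ (C.2.1 c.2)) fun e => hc (Subtype.ext e)).ge)
        exact hne (Subtype.ext (hb1.symm.trans ((congrArg zpowers e').trans hc1)))
      subst hBC
      exact congrArg (Sigma.mk B) (Subtype.ext (Subtype.ext e'))
    have h := Nat.card_le_card_of_injective g hg
    have := Fintype.ofFinite Ω
    rw [Nat.card_sigma] at h
    have h1 : ∀ B : Ω, Nat.card {b : B.1 // b ≠ 1} = p - 1 := by
      intro B
      have := Fintype.ofFinite B.1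
      rw [Nat.card_eq_fintype_card, Fintype.card_subtype_compl, ← Nat.card_eq_fintype_card,
        B.2.2.1, Fintype.card_subtype_eq]
    rw [Finset.sum_congr rfl fun B _ => h1 B, Finset.sum_const, Finset.card_univ, smul_eq_mul,
      ← Nat.card_eq_fintype_card] at h
    have h2 : Nat.card {e : E' // (e : H) ∉ zpowers z} = p ^ 2 - p := by
      have := Fintype.ofFinite E'
      rw [Nat.card_eq_fintype_card, Fintype.card_subtype_compl, ← Nat.card_eq_fintype_card,
        hE'card, ← Nat.card_eq_fintype_card]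
      congr 1
      rw [← orderOf_eq_prime (hE'e _ hzE) hz1, ← Nat.card_zpowers]
      exact Nat.card_congr
        { toFun := fun e => ⟨(e.1 : H), e.2⟩
          invFun := fun w => ⟨⟨(w : H), zpowers_le.2 hzE w.2⟩, w.2⟩
          left_inv := fun _ => rfl
          right_inv := fun _ => rfl }
    rw [h2] at h
    refine Nat.le_of_mul_le_mul_right (h.trans ?_) (by have := hp.two_le; omega : 0 < p - 1)
    rw [Nat.mul_sub, mul_one, sq]
  have := Fintype.ofFinite Ω
  have hne : Nonempty Ω := by
    -- some line has a fixed point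
    by_contra hc
    rw [not_nonempty_iff] at hc
    have hnone : ∀ e ∈ E', e ≠ 1 → fixedSub ρ (zpowers e : Set H) = ⊥ := by
      intro e he he1
      by_contra hb
      exact hc.false ⟨zpowers e, zpowers_le.2 he, by
        rw [Nat.card_zpowers]; exact orderOf_eq_prime (hE'e e he) he1, hb⟩
    have := Fintype.ofFinite E'
    -- every line sums to zero
    have hsumline : ∀ (e : H), e ∈ E' → e ≠ 1 → ∀ w : V,
        ∑ i ∈ Finset.range p, ρ (e ^ i) w = 0 := by
      intro e he he1 w
      have ho : orderOf e = p := orderOf_eq_prime (hE'e e he) he1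
      have h1 : ∑ i ∈ Finset.range p, ρ (e ^ i) w ∈ fixedSub ρ (zpowers e : Set H) := by
        intro a ha
        have hfixe : ρ e (∑ i ∈ Finset.range p, ρ (e ^ i) w) = ∑ i ∈ Finset.range p, ρ (e ^ i) w := by
          have h2 := Finset.sum_range_succ' (fun i => ρ (e ^ i) w) p
          rw [Finset.sum_range_succ, ← ho, pow_orderOf_eq_one, pow_zero, ho] at h2
          have h2' := add_right_cancel h2
          conv_rhs => rw [h2']
          rw [map_sum]
          refine Finset.sum_congr rfl fun i _ => ?_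
          rw [← Module.End.mul_apply, ← map_mul, pow_succ']
        exact (zpowers_le.2 (show e ∈ fixer ρ _ from hfixe)) ha
      rwa [hnone e he he1, Submodule.mem_bot] at h1
    obtain ⟨c, hcE, hcz⟩ : ∃ c ∈ E', c ∉ zpowers z := by
      by_contra hh
      push Not at hh
      have h1 := card_le_of_le (hh : E' ≤ zpowers z)
      rw [hE'card, Nat.card_zpowers, orderOf_eq_prime (hE'e _ hzE) hz1] at h1
      have := Nat.pow_lt_pow_right hp.one_lt (show 1 < 2 by norm_num)
      rw [pow_one] at this
      omega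
    have hc1 : c ≠ 1 := fun e => hcz (e ▸ one_mem _)
    obtain ⟨w, hw⟩ : ∃ w : V, w ≠ 0 := by
      by_contra hh
      push Not at hh
      exact hz1 (eq_one_of_apply_eq hinj fun w => by rw [hh w, map_zero])
    -- sum over all lines through `c` and their translates
    have hA : ∑ i ∈ Finset.range p, ∑ j ∈ Finset.range p, ρ ((c * z ^ i) ^ j) w = 0 :=
      Finset.sum_eq_zero fun i _ => hsumline _ (mul_mem hcE (pow_mem hzE i)) (fun e => hcz (by
        rw [mul_eq_one_iff_eq_inv] at e
        rw [e]; exact inv_mem (pow_mem (mem_zpowers z) i))) w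
    rw [Finset.sum_comm, ← Finset.add_sum_erase _ _ (Finset.mem_range.2 hp.pos)] at hA
    have h0 : ∑ j ∈ (Finset.range p).erase 0, ∑ i ∈ Finset.range p, ρ ((c * z ^ i) ^ j) w = 0 := by
      refine Finset.sum_eq_zero fun j hj => ?_
      rw [Finset.mem_erase, Finset.mem_range] at hj
      have hcz' : Commute c z := hE'c c hcE z hzE
      have e : ∀ i, ρ ((c * z ^ i) ^ j) w = ρ ((z ^ j) ^ i) (ρ (c ^ j) w) := by
        intro i
        rw [← Module.End.mul_apply, ← map_mul, (hcz'.pow_right i).mul_pow, ← pow_mul, ← pow_mul,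
          mul_comm i j, ((hcz'.pow_pow j (j * i))).eq]
      rw [Finset.sum_congr rfl fun i _ => e i]
      refine hsumline _ (pow_mem hzE j) (fun e' => ?_) _
      have := orderOf_dvd_of_pow_eq_one e'
      rw [orderOf_eq_prime (hE'e _ hzE) hz1] at this
      exact absurd (Nat.le_of_dvd (Nat.pos_of_ne_zero hj.1) this) (not_le.2 hj.2)
    rw [h0, add_zero] at hA
    simp only [pow_zero, map_one, Module.End.one_apply, Finset.sum_const, Finset.card_range] at hA
    rw [← Nat.cast_smul_eq_nsmul (ZMod q)] at hA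
    rcases smul_eq_zero.1 hA with h | h
    · refine hq ?_
      have hqp : q = p := (Nat.prime_dvd_prime_iff_eq Fact.out hp).1 ((ZMod.natCast_eq_zero_iff p q).1 h)
      rw [hqp]
      exact (dvd_pow_self p two_ne_zero).trans (hE'card ▸ E'.card_subgroup_dvd_card)
    · exact hw h
  obtain ⟨B0⟩ := hne
  -- the Sylow subgroup is transitive
  have hfull : ∀ B : Ω, MulAction.orbit (P : Subgroup H) B = Set.univ := by
    intro B
    obtain ⟨n, hn⟩ := P.2.card_orbit B
    have hn1 : n ≠ 0 := by
      rintro rfl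
      obtain ⟨u, hu, hne⟩ := hnofix B
      have h1 : (MulAction.orbit (P : Subgroup H) B).Subsingleton :=
        Set.ncard_le_one_iff_subsingleton.1 (by rw [← Nat.card_coe_set_eq, hn, pow_zero])
      exact hne (h1 ⟨⟨u, hu⟩, rfl⟩ (MulAction.mem_orbit_self B))
    refine Set.eq_of_subset_of_ncard_le (Set.subset_univ _) ?_
    rw [Set.ncard_univ, ← Nat.card_coe_set_eq, hn]
    exact hcard.trans (Nat.le_self_pow hn1 p)
  have hcardeq : Nat.card Ω = p := by
    refine le_antisymm hcard ?_
    obtain ⟨n, hn⟩ := P.2.card_orbit B0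
    obtain ⟨u, hu, hne⟩ := hnofix B0
    have hn1 : n ≠ 0 := by
      rintro rfl
      have h1 : (MulAction.orbit (P : Subgroup H) B0).Subsingleton :=
        Set.ncard_le_one_iff_subsingleton.1 (by rw [← Nat.card_coe_set_eq, hn, pow_zero])
      exact hne (h1 ⟨⟨u, hu⟩, rfl⟩ (MulAction.mem_orbit_self B0))
    rw [hfull B0, Nat.card_congr (Equiv.Set.univ Ω)] at hn
    rw [hn]
    exact Nat.le_self_pow hn1 p
  have hf_ne : ∀ h : H, f h = 1 → ∀ B : Ω, h • B = B := fun h e B => Equiv.Perm.ext_iff.1 e B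
  have hp5 : 5 ≤ p := by
    by_contra hc
    have hsol : Group.IsSolvable (Equiv.Perm Ω) := by
      rw [← hcardeq] at hc
      have hle : Nat.card (Equiv.Perm Ω) ∣ Nat.factorial 4 := by
        rw [Nat.card_perm]; exact Nat.factorial_dvd_factorial (by omega)
      refine CfsgLib.StructB.Kazarin.isSolvable_of_forall_prime_dvd Nat.prime_two Nat.prime_three
        fun r hr hd => ?_
      have h24 : r ∣ 2 ^ 3 * 3 := hd.trans (hle.trans (by norm_num [Nat.factorial]))
      rcases hr.dvd_mul.1 h24 with h | h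
      · exact Or.inl ((Nat.prime_dvd_prime_iff_eq hr Nat.prime_two).1 (hr.dvd_of_dvd_pow h))
      · exact Or.inr ((Nat.prime_dvd_prime_iff_eq hr Nat.prime_three).1 h)
    obtain ⟨u, hu, hne⟩ := hnofix B0
    exact hne (hf_ne u (hom_eq_one hnormal hns f u) B0)
  -- the cycle
  obtain ⟨u0, hu0, hu0ne⟩ := hnofix B0
  set s := f u0 with hs
  set I := f.range
  have hPrange : ∀ u ∈ P, f u ∈ zpowers s := by
    have hImg : IsPGroup p ((P : Subgroup H).map f) := P.2.map f
    obtain ⟨m, hm⟩ := hImg.exists_card_eq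
    have hdvd : p ^ m ∣ p.factorial := by
      have h := card_subgroup_dvd_card ((P : Subgroup H).map f)
      rw [Nat.card_perm, hcardeq, hm] at h
      exact h
    have hm1 : m ≤ 1 := by
      by_contra hm1
      have h2 : p ^ 2 ∣ p.factorial := (pow_dvd_pow p (by omega)).trans hdvd
      rw [sq, ← Nat.mul_factorial_pred hp.ne_zero] at h2
      have h3 := Nat.dvd_of_mul_dvd_mul_left hp.pos h2
      have := (hp.dvd_factorial).1 h3
      have := hp.two_le
      omega
    have hle : zpowers s ≤ (P : Subgroup H).map f := zpowers_le.2 (mem_map_of_mem f hu0)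
    have heq := eq_of_le_of_card_ge hle (by
      rw [hm, Nat.card_zpowers]
      have h1 : orderOf s ∣ p ^ m := hm ▸ orderOf_dvd_natCard _ (mem_map_of_mem f hu0)
      have h2 : orderOf s ≠ 1 := fun e => hu0ne (hf_ne u0 (orderOf_eq_one_iff.1 e) B0)
      interval_cases m
      · simp only [pow_zero, Nat.dvd_one] at h1; exact absurd h1 h2
      · rw [pow_one] at h1 ⊢; exact ((Nat.dvd_prime hp).1 h1).resolve_left h2 |>.ge)
    intro u hu
    rw [heq]
    exact mem_map_of_mem f hu
  have htrans : ∀ B : Ω, ∃ i : ℕ, (s ^ i) B0 = B := by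
    intro B
    obtain ⟨⟨u, hu⟩, e⟩ : B ∈ MulAction.orbit (P : Subgroup H) B0 := hfull B0 ▸ Set.mem_univ B
    obtain ⟨i, hi⟩ := mem_powers_iff_mem_zpowers.2 (hPrange u hu)
    exact ⟨i, by
      have hi' : s ^ i = f u := hi
      rw [hi']; exact e⟩
  have hsp : ∀ B, s B ≠ B := by
    intro B hfix
    have hall : ∀ i : ℕ, (s ^ i) B = B := fun i => by
      induction i with
      | zero => simp
      | succ i ih => rw [pow_succ, Equiv.Perm.mul_apply, hfix, ih]
    obtain ⟨i, hi⟩ := htrans B
    apply hu0ne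
    have hB : B0 = B := (s ^ i).injective (hi.trans (hall i).symm)
    show s B0 = B0
    rw [hB]; exact hfix
  have h2 : ∀ B, s B ≠ s.symm B := by
    intro B e
    have hss : s (s B) = B := by rw [e, Equiv.apply_symm_apply]
    have hall : ∀ i : ℕ, (s ^ i) B = B ∨ (s ^ i) B = s B := fun i => by
      induction i with
      | zero => simp
      | succ i ih =>
        rw [pow_succ', Equiv.Perm.mul_apply]
        rcases ih with h | h <;> rw [h]
        · exact Or.inr rfl
        · exact Or.inl hss
    have hsub : (Set.univ : Set Ω) ⊆ {B, s B} := by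
      intro C _
      obtain ⟨i, hi⟩ := htrans C
      obtain ⟨j, hj⟩ := htrans B
      obtain ⟨k, hk⟩ : ∃ k : ℕ, (s ^ k) B = C := by
        refine ⟨i + (orderOf s * j - j), ?_⟩
        conv_lhs => rw [← hj, ← Equiv.Perm.mul_apply, ← pow_add]
        have hle : j ≤ orderOf s * j := Nat.le_mul_of_pos_left _ (orderOf_pos s)
        rw [add_assoc, Nat.sub_add_cancel hle, pow_add, pow_mul, pow_orderOf_eq_one, one_pow,
          mul_one, hi]
      rcases hall k with h | h <;> rw [hk] at h <;> simp [h]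
    have := Set.ncard_le_ncard hsub
    rw [Set.ncard_univ, hcardeq, Set.ncard_pair (Ne.symm (hsp B))] at this
    omega
  -- adjacency is preserved
  have hadj : ∀ (h : H) (B : Ω), f h (s B) = s (f h B) ∨ f h B = s (f h (s B)) := by
    intro h B
    obtain ⟨x, hx, hx0⟩ := (Submodule.ne_bot_iff _).1 (hUne B)
    obtain ⟨y, hy, hy0⟩ := (Submodule.ne_bot_iff _).1 (hUne (s B))
    obtain ⟨u, hu, e⟩ := exists_sylow_apply horb P (x + y) h
    obtain ⟨k, hk⟩ := mem_powers_iff_mem_zpowers.2 (hPrange u hu)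
    have hk' : s ^ k = f u := hk
    rw [map_add, map_add] at e
    have hBs : B ≠ s B := Ne.symm (hsp B)
    have key : ∀ C : Ω, (C = u • B ∨ C = u • (s B)) ↔ (C = h • B ∨ C = h • (s B)) := by
      intro C
      have hval : ∀ g : H, avg ρ C.1 (ρ g x) + avg ρ C.1 (ρ g y) ≠ 0 ↔
          (C = g • B ∨ C = g • (s B)) := by
        intro g
        have hρne : ∀ w : V, w ≠ 0 → ρ g w ≠ 0 := fun w hw e => hw (by
          simpa [← Module.End.mul_apply, ← map_mul] using congrArg (ρ g⁻¹) e)
        have hgne : g • B ≠ g • (s B) := fun e => hBs (MulAction.injective g e)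
        have hgx : ρ g x ∈ U (g • B) := hσ g B (Submodule.mem_map_of_mem hx)
        have hgy : ρ g y ∈ U (g • (s B)) := hσ g _ (Submodule.mem_map_of_mem hy)
        constructor
        · intro hne
          by_contra hc
          push Not at hc
          exact hne (by rw [havg0 _ C (Ne.symm hc.1) _ hgx, havg0 _ C (Ne.symm hc.2) _ hgy, add_zero])
        · rintro (rfl | rfl)
          · rw [avg_eq_self ρ _ (hcopC _) hgx, havg0 _ _ hgne.symm _ hgy, add_zero]
            exact hρne x hx0
          · rw [avg_eq_self ρ _ (hcopC _) hgy, havg0 _ _ hgne _ hgx, zero_add]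
            exact hρne y hy0
      rw [← hval u, ← hval h, ← map_add (avg ρ C.1) (ρ u x), ← map_add (avg ρ C.1) (ρ h x), e]
    have hu1 : u • B = (s ^ k) B := by rw [hk']; rfl
    have hu2 : u • (s B) = s ((s ^ k) B) := by
      rw [show u • (s B) = (s ^ k) (s B) by rw [hk']; rfl, ← Equiv.Perm.mul_apply, ← pow_succ,
        pow_succ', Equiv.Perm.mul_apply]
    have hne' : h • B ≠ h • (s B) := fun e' => hBs (MulAction.injective h e')
    show h • (s B) = s (h • B) ∨ h • B = s (h • (s B))
    rcases (key (h • B)).2 (Or.inl rfl) with e1 | e1 <;>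
      rcases (key (h • (s B))).2 (Or.inr rfl) with e2 | e2
    · exact absurd (e1.trans e2.symm) hne'
    · left; rw [e2, hu2, e1, hu1]
    · right; rw [e1, hu2, e2, hu1]
    · exact absurd (e1.trans e2.symm) hne'
  -- the image has order at most `2p`
  let g : I → Ω × Bool := fun t => (t.1 B0, decide (t.1 (s B0) = s (t.1 B0)))
  have hginj : Function.Injective g := by
    rintro ⟨_, a, rfl⟩ ⟨_, b, rfl⟩ e
    have e1 : f a B0 = f b B0 := congrArg Prod.fst e
    have e2 : (f a (s B0) = s (f a B0)) ↔ (f b (s B0) = s (f b B0)) := by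
      simpa [g] using congrArg Prod.snd e
    apply Subtype.ext
    show f a = f b
    -- compose with the inverse
    set t := (f b)⁻¹ * f a with ht
    have ht0 : t B0 = B0 := by
      rw [ht, Equiv.Perm.mul_apply, e1]
      exact (f b).symm_apply_apply B0
    have htadj : ∀ B, t (s B) = s (t B) ∨ t B = s (t (s B)) := by
      intro B
      have := hadj (b⁻¹ * a) B
      rwa [map_mul, map_inv] at this
    have ht1 : t (s B0) = s (t B0) := by
      rw [ht0, ht, Equiv.Perm.mul_apply, Equiv.Perm.inv_eq_iff_eq]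
      by_cases hb : f b (s B0) = s (f b B0)
      · rw [e2.2 hb, hb, e1]
      · have ha1 := (hadj a B0).resolve_left (fun h => hb (e2.1 h))
        have hb1 := (hadj b B0).resolve_left hb
        exact s.injective (ha1.symm.trans (e1.trans hb1))
    have hall := apply_zpow_eq s t h2 htadj B0 ht1
    have : t = 1 := by
      ext C
      obtain ⟨i, rfl⟩ := htrans C
      rw [hall i, ht0]; rfl
    exact (inv_mul_eq_one.1 this).symm
  have hI : Nat.card I ≤ 2 * p := by
    calc Nat.card I ≤ Nat.card (Ω × Bool) := Nat.card_le_card_of_injective g hginj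
      _ = 2 * p := by rw [Nat.card_prod, hcardeq, Nat.card_eq_fintype_card (α := Bool),
          Fintype.card_bool, mul_comm]
  have hpI : p ∣ Nat.card I := by
    have h1 : orderOf s ∣ Nat.card I := orderOf_dvd_natCard _ ⟨u0, rfl⟩
    refine dvd_trans ?_ h1
    obtain ⟨c, hc⟩ := IsPGroup.iff_orderOf.1 (P.2.map f) ⟨s, mem_map_of_mem f hu0⟩
    rw [Subgroup.orderOf_mk] at hc
    rw [hc]
    refine dvd_pow_self p fun e => hu0ne (hf_ne u0 (orderOf_eq_one_iff.1 (?_ : orderOf s = 1)) B0)
    rw [hc, e, pow_zero]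
  have hIsol : Group.IsSolvable I := by
    obtain ⟨c, hc⟩ := hpI
    refine CfsgLib.StructB.Kazarin.isSolvable_of_forall_prime_dvd hp Nat.prime_two fun r hr hd => ?_
    rw [hc] at hd hI
    have hc2 : c ≤ 2 := Nat.le_of_mul_le_mul_left (by linarith) hp.pos
    rcases (hr.dvd_mul).1 hd with h | h
    · exact Or.inl ((Nat.prime_dvd_prime_iff_eq hr hp).1 h)
    · right
      have hcpos : 0 < c := Nat.pos_of_ne_zero fun e => by
        rw [e, mul_zero] at hc; exact Nat.card_pos.ne' hc
      have := Nat.le_of_dvd hcpos h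
      have := hr.two_le
      omega
  have h1 := hom_eq_one hnormal hns f.rangeRestrict u0
  exact hu0ne (hf_ne u0 (congrArg Subtype.val h1) B0)

end CfsgLib.StructB.PPowerOrbit
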