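import Cfsg.Agent.Lib.StructB.PPowerE
import Cfsg.Agent.Lib.StructB.PPowerChar
import Cfsg.Agent.Lib.Invol.CyclicSylow
import Cfsg.Agent.Lib.Solvable.MinNormal
import Mathlib.RingTheory.ZMod.UnitsCyclic
import Mathlib.LinearAlgebra.Vandermonde
import Mathlib.FieldTheory.Finiteness

/-!
Minimal coprime linear groups with orbits of `p`-power size, `p` odd: the Sylow subgroup is cyclic,
self-centralising and of trivial intersection, and the count of vectors fixed by a normalising
element contradicts the character theory of such a group.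
-/

set_option autoImplicit false

namespace CfsgLib.StructB.PPowerOrbit

open Subgroup

universe u v

variable {H : Type u} [Group H] [Finite H] {q : ℕ} [Fact q.Prime]
variable {V : Type v} [AddCommGroup V] [Module (ZMod q) V] {p : ℕ} [Fact p.Prime]
variable {ρ : Representation (ZMod q) H V}

/-- Normal subgroups of order prime to `p` are trivial. -/
theorem eq_bot_of_normal_coprime (hinj : Function.Injective ρ)
    (horb : ∀ w, ∃ a, (fixer ρ w).index = p ^ a) (A : Subgroup H) [A.Normal]
    (hA : ¬ p ∣ Nat.card A) : A = ⊥ := by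
  rw [eq_bot_iff]
  intro a ha
  rw [mem_bot]
  refine eq_one_of_apply_eq hinj fun w => ?_
  obtain ⟨i, hi⟩ := horb w
  have h1 := CfsgLib.StructB.Kazarin.relIndex_dvd_index_normal A (fixer ρ w)
  rw [hi] at h1
  have h2 : (fixer ρ w).relIndex A = 1 :=
    Nat.eq_one_of_dvd_coprimes
      (((Fact.out : p.Prime).coprime_iff_not_dvd.2 hA).pow_left i) h1 (relIndex_dvd_card _ _)
  exact relIndex_eq_one.1 h2 ha

/-- Conjugation of a subgroup by its normaliser, evaluated. -/
theorem normalizerMonoidHom_apply {A : Subgroup H} (g : normalizer (A : Set H)) (a : A) :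
    ((A.normalizerMonoidHom g a : A) : H) = (g : H) * a * (g : H)⁻¹ := rfl

/-- Arithmetic of the fixed point count. -/
theorem sq_le_of_count {q c e n N : ℕ} (hc2 : 2 ≤ c) (he : 2 ≤ e) (hn : Odd n)
    (hcq : q ≤ c) (hq2 : q = 2 → Odd e) (hq2' : 2 ≤ q)
    (h : N = n * (c - 1) + 1) (hpow : c ^ e ≤ N) (hN : q = 2 → N ≠ 8) (hNq : ∃ d, N = q ^ d) :
    e * e ≤ n := by
  obtain ⟨c1, rfl⟩ : ∃ c1, c = c1 + 1 := ⟨c - 1, by omega⟩
  rw [Nat.add_sub_cancel] at h
  have hgeo : ∀ k : ℕ, (∑ i ∈ Finset.range k, (c1 + 1) ^ i) * c1 + 1 = (c1 + 1) ^ k := by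
    intro k
    induction k with
    | zero => simp
    | succ k ih => rw [Finset.sum_range_succ, pow_succ, add_mul]; nlinarith
  have hlow : ∑ i ∈ Finset.range e, (c1 + 1) ^ i ≤ n := by
    by_contra hlt
    push Not at hlt
    have := Nat.mul_lt_mul_of_pos_right hlt (show 0 < c1 by omega)
    have := hgeo e
    omega
  have h2pow : ∀ k : ℕ, 5 ≤ k → k * k + 1 ≤ 2 ^ k := by
    intro k hk
    induction k, hk using Nat.le_induction with
    | base => norm_num
    | succ k hk ih => rw [pow_succ]; nlinarith
  by_cases hq : q = 2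
  · obtain ⟨j, hj⟩ := hq2 hq
    rcases Nat.lt_or_ge e 5 with he5 | he5
    · obtain rfl : e = 3 := by omega
      simp [Finset.sum_range_succ] at hlow
      by_cases hc : c1 = 1
      · subst hc
        obtain ⟨d, rfl⟩ := hNq
        subst hq
        have hd : 3 ≤ d := by
          by_contra hd
          have : (2 : ℕ) ^ d ≤ 2 ^ 2 := Nat.pow_le_pow_right (by norm_num) (by omega)
          norm_num at this hpow
          omega
        have hd3 : d ≠ 3 := fun e => hN rfl (by rw [e]; norm_num)
        have : (2 : ℕ) ^ 4 ≤ 2 ^ d := Nat.pow_le_pow_right (by norm_num) (by omega)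
        norm_num at this
        omega
      · have : 2 ≤ c1 := by omega
        nlinarith
    · refine le_trans ?_ hlow
      have h1 : ∑ i ∈ Finset.range e, (2 : ℕ) ^ i ≤ ∑ i ∈ Finset.range e, (c1 + 1) ^ i :=
        Finset.sum_le_sum fun i _ => Nat.pow_le_pow_left (by omega) i
      refine le_trans ?_ h1
      rw [Nat.geomSum_eq le_rfl, show 2 - 1 = 1 from rfl, Nat.div_one]
      have := h2pow e he5
      omega
  · have h1 : ∑ i ∈ Finset.range e, (3 : ℕ) ^ i ≤ ∑ i ∈ Finset.range e, (c1 + 1) ^ i :=
      Finset.sum_le_sum fun i _ => Nat.pow_le_pow_left (by omega) i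
    refine le_trans ?_ (h1.trans hlow)
    clear hlow h1 hN hNq hpow
    induction e, he using Nat.le_induction with
    | base => simp [Finset.sum_range_succ]
    | succ k hk ih =>
      have h3 : 2 * k + 1 ≤ 3 ^ k := by
        clear ih hq2
        induction k, hk using Nat.le_induction with
        | base => norm_num
        | succ k hk ih => rw [pow_succ]; omega
      have hle : k * k ≤ ∑ i ∈ Finset.range k, (3 : ℕ) ^ i := ih (fun e' => absurd e' hq)
      rw [Finset.sum_range_succ]
      nlinarith

theorem false_of_odd [Finite V] (hp2 : p ≠ 2) (hq : ¬ q ∣ Nat.card H) (hinj : Function.Injective ρ)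
    (horb : ∀ w, ∃ a, (fixer ρ w).index = p ^ a)
    (hirr : ∀ W : Submodule (ZMod q) V, (∀ h : H, ∀ w ∈ W, ρ h w ∈ W) → W = ⊥ ∨ W = ⊤)
    (hnormal : ∀ N : Subgroup H, N.Normal → N ≠ ⊤ → Group.IsSolvable N)
    (hns : ¬ Group.IsSolvable H) : False := by
  classical
  have hp : p.Prime := Fact.out
  have hqp : q.Prime := Fact.out
  obtain ⟨P⟩ := (inferInstance : Nonempty (Sylow p H))
  have hPne : (P : Subgroup H) ≠ ⊥ := by
    intro e
    refine hns (Group.isSolvable_of_comm fun a b => ?_)
    have : ∀ h : H, h = 1 := fun h => eq_one_of_apply_eq hinj fun w => by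
      obtain ⟨u, hu, e'⟩ := exists_sylow_apply horb P w h
      rw [e', (mem_bot.1 (e ▸ hu : u ∈ (⊥ : Subgroup H))), map_one, Module.End.one_apply]
    rw [this a, this b]
  -- the Sylow subgroup is cyclic
  have hcyc : IsCyclic (P : Subgroup H) := by
    by_contra hnc
    obtain ⟨E, hEn, hEc, hEe, hE⟩ := CfsgLib.Transfer.exists_normal_elementary_sq hp2 P.2 hnc
    exact not_elementary_sq hq hinj horb hirr hnormal hns P E
      (fun a ha b hb => congrArg Subtype.val (hEc.is_comm.comm ⟨a, ha⟩ ⟨b, hb⟩)) hEe hE
  have hnotcompl : ¬ Cfsg.HasNormalPComplement p H := by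
    intro h
    obtain ⟨N, hN, hNc⟩ := (CfsgLib.Transfer.hasNormalPComplement_iff_exists_isComplement' P).1 h
    have hNt : N ≠ ⊤ := by
      intro e
      have h1 := hNc.card_mul
      rw [e, card_top] at h1
      have h2 : 1 < Nat.card (P : Subgroup H) := (one_lt_card_iff_ne_bot _).2 hPne
      nlinarith [Nat.card_pos (α := H)]
    have := hnormal N hN hNt
    have hq' : Group.IsSolvable (H ⧸ N) := by
      have hpg : IsPGroup p (H ⧸ N) := P.2.of_surjective ((QuotientGroup.mk' N).domRestrict (P : Subgroup H)) (by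
        intro w
        obtain ⟨h, rfl⟩ := QuotientGroup.mk'_surjective N w
        obtain ⟨⟨n, u⟩, hnu, -⟩ := hNc.existsUnique h
        refine ⟨⟨(u : H), u.2⟩, ?_⟩
        rw [MonoidHom.domRestrict_apply, ← show (n : H) * u = h from hnu, map_mul]
        have : (QuotientGroup.mk' N) (n : H) = 1 := (QuotientGroup.eq_one_iff _).2 n.2
        rw [this, one_mul])
      have := hpg.isNilpotent
      infer_instance
    exact hns (Group.isSolvable_of_ker_le_range N.subtype (QuotientGroup.mk' N) (by simp))
  -- simplicity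
  have hsimple : IsSimpleGroup H := by
    have : Nontrivial H := by
      by_contra hh
      rw [not_nontrivial_iff_subsingleton] at hh
      exact hns (Group.isSolvable_of_comm fun a b => Subsingleton.elim _ _)
    refine ⟨fun N hN => ?_⟩
    by_contra hc
    push Not at hc
    obtain ⟨A, hAn, hAne, hAN, hAmin⟩ := CfsgLib.Solvable.exists_minimal_normal_le hN hc.1
    have := CfsgLib.Coprime.isSolvable_of_le (hnormal N hN hc.2) hAN
    obtain ⟨r, hr, hAr, -, -⟩ := CfsgLib.Solvable.exists_isPGroup_of_minimal_normal hAne hAmin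
    have : Fact r.Prime := ⟨hr⟩
    rcases eq_or_ne r p with rfl | hrp
    swap
    · refine hAne (eq_bot_of_normal_coprime hinj horb A fun hd => hrp ?_)
      obtain ⟨i, hi⟩ := hAr.exists_card_eq
      rw [hi] at hd
      exact ((Nat.prime_dvd_prime_iff_eq hp hr).1 (hp.dvd_of_dvd_pow hd)).symm
    have hAP : A ≤ (P : Subgroup H) := by
      obtain ⟨Q, hQ⟩ := hAr.exists_le_sylow
      obtain ⟨u, hu⟩ := MulAction.exists_smul_eq H Q P
      intro x hx
      rw [← hu, Sylow.coe_subgroup_smul, mem_pointwise_smul_iff_inv_smul_mem]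
      refine hQ ?_
      simpa [MulAut.smul_def] using hAn.conj_mem x hx u⁻¹
    have hAcyc : IsCyclic A := CfsgLib.Invol.isCyclic_of_le hcyc hAP
    have hcent : ∀ h : H, h ∈ centralizer (A : Set H) := by
      intro h
      have hAh : h ∈ normalizer (A : Set H) := by rw [normalizer_eq_top]; exact mem_top h
      let f : H →* MulAut A := A.normalizerMonoidHom.comp
        ((MonoidHom.id H).codRestrict (normalizer (A : Set H)) fun x => by
          rw [normalizer_eq_top]; exact mem_top x)
      have : IsMulCommutative (MulAut A) := ⟨⟨fun a b => (IsCyclic.mulAutMulEquiv A).injective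
        (by rw [map_mul, map_mul, mul_comm])⟩⟩
      have : Group.IsSolvable (MulAut A) :=
        Group.isSolvable_of_comm fun a b => mul_comm' a b
      have hf := hom_eq_one hnormal hns f h
      rw [mem_centralizer_iff]
      intro a ha
      have h1 := congrArg (fun φ : MulAut A => ((φ ⟨a, ha⟩ : A) : H)) hf
      have h1' : h * a * h⁻¹ = a := h1
      exact (mul_inv_eq_iff_eq_mul.1 h1').symm
    obtain ⟨⟨a, ha⟩, ha1⟩ := ne_bot_iff_exists_ne_one.1 hAne
    refine hnotcompl (CfsgLib.Invol.hasNormalPComplement_of_central hcyc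
      (hAr.to_le (zpowers_le.2 ha)) ?_ fun e => ha1 (Subtype.ext e))
    rw [mem_center_iff]
    intro g
    exact (mem_centralizer_iff.1 (hcent g) a ha).symm
  have hcz : center H = ⊥ := by
    refine ((inferInstance : (center H).Normal).eq_bot_or_eq_top).resolve_right fun e => hns ?_
    exact Group.isSolvable_of_comm fun a b => (mem_center_iff.1 (e ▸ mem_top b : b ∈ center H) a)
  -- centralisers of Sylow elements
  have hPcomm : ∀ a ∈ P, ∀ b ∈ P, a * b = b * a := fun a ha b hb => by
    let _ := IsCyclic.commGroup (α := (P : Subgroup H))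
    exact congrArg Subtype.val (mul_comm (⟨a, ha⟩ : (P : Subgroup H)) ⟨b, hb⟩)
  have hC : ∀ u ∈ (P : Subgroup H), u ≠ 1 → centralizer ({u} : Set H) = (P : Subgroup H) := by
    intro u hu hu1
    set M := centralizer ({u} : Set H) with hM
    have hPM : (P : Subgroup H) ≤ M := fun w hw =>
      mem_centralizer_singleton_iff.2 (hPcomm w hw u hu)
    have hcM : Cfsg.HasNormalPComplement p M := by
      refine CfsgLib.Invol.hasNormalPComplement_of_central (P := P.subtype hPM)
        ((subgroupOfEquivOfLe hPM).isCyclic.2 hcyc) (x := (⟨u, hPM hu⟩ : M)) ?_ ?_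
        (fun e => hu1 (congrArg Subtype.val e))
      · refine IsPGroup.to_le ?_ (zpowers_le.2 (show (⟨u, hPM hu⟩ : M) ∈
          ((P.subtype hPM : Sylow p M) : Subgroup M) from hu))
        exact (P.subtype hPM).2
      · rw [mem_center_iff]
        intro w
        exact Subtype.ext (mem_centralizer_singleton_iff.1 w.2)
    obtain ⟨N, hN, hNc, hNq⟩ := CfsgLib.Transfer.hasNormalPComplement_iff_exists.1 hcM
    have hN' : N.map M.subtype = ⊥ := by
      rw [eq_bot_iff]
      intro a ha
      rw [mem_bot]
      refine eq_one_of_apply_eq hinj fun w => ?_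
      obtain ⟨i, hi⟩ := horb w
      have hn : M ≤ normalizer ((N.map M.subtype : Subgroup H) : Set H) := by
        have := le_normalizer_map (f := M.subtype) (H := N)
        rwa [normalizer_eq_top, ← MonoidHom.range_eq_map, range_subtype] at this
      have h1 := CfsgLib.StructB.Kazarin.relIndex_dvd_relIndex_of_le_normalizer (fixer ρ w)
        (map_subtype_le N) hn
      have h2 : (fixer ρ w).relIndex M = p ^ i := by
        refine le_antisymm ?_ ?_
        · rw [← hi, ← relIndex_top_right]
          exact relIndex_le_of_le_right le_top (by rw [relIndex_top_right]; exact index_ne_zero_of_finite)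
        · rw [← hi, ← relIndex_sylow horb P w]
          exact relIndex_le_of_le_right hPM index_ne_zero_of_finite
      rw [h2] at h1
      have h3 : (fixer ρ w).relIndex (N.map M.subtype) = 1 := by
        refine Nat.eq_one_of_dvd_coprimes ?_ h1 (relIndex_dvd_card _ _)
        rw [card_map_of_injective M.subtype_injective]
        exact (hNc.symm).pow_left i
      exact relIndex_eq_one.1 h3 ha
    have hN0 : N = ⊥ := map_injective M.subtype_injective (by rw [hN', Subgroup.map_bot])
    refine le_antisymm ?_ hPM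
    have hMp : IsPGroup p M := by
      intro w
      obtain ⟨i, hi⟩ := hNq (QuotientGroup.mk w)
      refine ⟨i, ?_⟩
      rw [← QuotientGroup.mk_pow, QuotientGroup.eq_one_iff, hN0, mem_bot] at hi
      exact hi
    exact (P.3 hMp hPM).le
  obtain ⟨u1, hu1P, hu1⟩ : ∃ u ∈ (P : Subgroup H), u ≠ 1 := by
    obtain ⟨⟨u, hu⟩, hu1⟩ := ne_bot_iff_exists_ne_one.1 hPne
    exact ⟨u, hu, fun e => hu1 (Subtype.ext e)⟩
  have hCP : centralizer ((P : Subgroup H) : Set H) = (P : Subgroup H) := by
    refine le_antisymm (fun w hw => ?_) (fun w hw => mem_centralizer_iff.2 fun b hb => hPcomm b hb w hw)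
    rw [← hC u1 hu1P hu1, mem_centralizer_singleton_iff]
    exact (mem_centralizer_iff.1 hw u1 hu1P).symm
  -- a generator of the automiser
  set N := normalizer ((P : Subgroup H) : Set H) with hN
  set F := (P : Subgroup H).normalizerMonoidHom with hF
  have hker : F.ker = (P : Subgroup H).subgroupOf N := by
    ext ⟨w, hw⟩
    rw [MonoidHom.mem_ker, mem_subgroupOf]
    constructor
    · intro h
      show w ∈ (P : Subgroup H)
      rw [← hCP, mem_centralizer_iff]
      intro b hb
      have h1 := congrArg (fun φ : MulAut (P : Subgroup H) => ((φ ⟨b, hb⟩ : (P : Subgroup H)) : H)) h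
      have h1' : w * b * w⁻¹ = b := h1
      exact (mul_inv_eq_iff_eq_mul.1 h1').symm
    · intro h
      ext b
      show w * b * w⁻¹ = b
      rw [hPcomm w h b b.2, mul_inv_cancel_right]
  obtain ⟨e, hedef⟩ : ∃ e, (P : Subgroup H).relIndex N = e := ⟨_, rfl⟩
  have hrange : Nat.card F.range = e := by rw [← index_ker, hker]; exact hedef
  have hFcyc : IsCyclic F.range := by
    have h1 : IsCyclic (MulAut (P : Subgroup H)) := by
      obtain ⟨n, hn⟩ := P.2.exists_card_eq
      have := ZMod.isCyclic_units_of_prime_pow p hp hp2 n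
      have e := IsCyclic.mulAutMulEquiv (P : Subgroup H)
      rw [hn] at e
      exact e.isCyclic.2 this
    exact Subgroup.isCyclic F.range
  obtain ⟨⟨_, g, rfl⟩, hgen⟩ := IsCyclic.exists_generator (α := F.range)
  have hgord : orderOf (F g) = e := by
    rw [← hrange, ← orderOf_eq_card_of_forall_mem_zpowers hgen, ← Subgroup.orderOf_coe]
  have he2 : 2 ≤ e := by
    by_contra hh
    have he1 : e = 1 := by
      have : 0 < e := hrange ▸ Nat.card_pos
      omega
    apply hnotcompl
    refine CfsgLib.Transfer.hasNormalPComplement_of_normalizer_le_centralizer P ?_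
    intro w hw
    rw [hCP]
    have h1 : F ⟨w, hw⟩ = 1 := by
      have hs : Subsingleton F.range := (Nat.card_eq_one_iff_unique.1 (hrange.trans he1)).1
      exact congrArg Subtype.val (Subsingleton.elim (⟨F ⟨w, hw⟩, ⟨_, rfl⟩⟩ : F.range) 1)
    have h2 : (⟨w, hw⟩ : N) ∈ F.ker := h1
    rwa [hker, mem_subgroupOf] at h2
  have hgP : ∀ j : ℕ, ((g : H)) ^ j ∈ (P : Subgroup H) ↔ e ∣ j := by
    intro j
    rw [← hgord, orderOf_dvd_iff_pow_eq_one, ← map_pow, ← MonoidHom.mem_ker, hker, mem_subgroupOf]
    simp
  -- FPF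
  have hfpf : ∀ u ∈ (P : Subgroup H), (g : H) * u * (g : H)⁻¹ = u → u = 1 := by
    intro u hu hgu
    by_contra hu1
    have h1 : (g : H) ∈ centralizer ({u} : Set H) :=
      mem_centralizer_singleton_iff.2 (mul_inv_eq_iff_eq_mul.1 hgu)
    rw [hC u hu hu1] at h1
    have := (hgP 1).1 (by rwa [pow_one])
    have := Nat.le_of_dvd one_pos this
    omega
  have hreg : ∀ u ∈ (P : Subgroup H), ∀ w : V, w ≠ 0 → ρ u w = w → u = 1 := by
    intro u hu w hw huw
    by_contra hu1
    have hz : fixedSub ρ (zpowers u : Set H) = ⊥ := by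
      refine fixedSub_eq_bot hinj horb hirr P _ (by rwa [Ne, zpowers_eq_bot]) fun t ht => ?_
      rw [mem_normalizer_iff]
      intro b
      constructor
      · intro hb
        rwa [hPcomm t ht b ((zpowers_le.2 hu) hb), mul_inv_cancel_right]
      · intro hb
        have hbP := (zpowers_le.2 hu) hb
        have hbP' : b ∈ (P : Subgroup H) := by
          simpa [mul_assoc] using mul_mem (mul_mem (inv_mem ht) hbP) ht
        rwa [hPcomm t ht b hbP', mul_inv_cancel_right] at hb
    have : w ∈ fixedSub ρ (zpowers u : Set H) :=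
      fun a ha => (zpowers_le.2 (show u ∈ fixer ρ w from huw)) ha
    rw [hz, Submodule.mem_bot] at this
    exact hw this
  -- the count of fixed vectors
  set C := fixedSub ρ ({(g : H)} : Set H) with hCdef
  have hCmem : ∀ w, w ∈ C ↔ ρ (g : H) w = w := fun w => by simp [hCdef, mem_fixedSub]
  have hexu : ∀ w : V, w ≠ 0 → ∃ t ∈ (P : Subgroup H), ρ t w ∈ C := by
    intro w hw
    obtain ⟨u0, hu0, e0⟩ := exists_sylow_apply horb P w (g : H)
    let d : ↥(P : Subgroup H) → ↥(P : Subgroup H) := fun t =>
      ⟨((g : H) * t * (g : H)⁻¹)⁻¹ * t, mul_mem (inv_mem ((mem_normalizer_iff.1 g.2 _).1 t.2)) t.2⟩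
    have hd : Function.Injective d := by
      intro a b hab
      have hab' : ((g : H) * a * (g : H)⁻¹)⁻¹ * a = ((g : H) * b * (g : H)⁻¹)⁻¹ * b :=
        congrArg Subtype.val hab
      have hfix : (g : H) * ((b : H) * (a : H)⁻¹) * (g : H)⁻¹ = (b : H) * (a : H)⁻¹ := by
        calc (g : H) * ((b : H) * (a : H)⁻¹) * (g : H)⁻¹
            = (g : H) * b * (g : H)⁻¹ * (((g : H) * a * (g : H)⁻¹)⁻¹ * a) * (a : H)⁻¹ := by group
          _ = (g : H) * b * (g : H)⁻¹ * (((g : H) * b * (g : H)⁻¹)⁻¹ * b) * (a : H)⁻¹ := by rw [hab']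
          _ = (b : H) * (a : H)⁻¹ := by group
      have := hfpf _ (mul_mem b.2 (inv_mem a.2)) hfix
      exact (Subtype.ext (mul_inv_eq_one.1 this)).symm
    obtain ⟨t, ht⟩ := Finite.injective_iff_surjective.1 hd ⟨u0, hu0⟩
    refine ⟨t, t.2, ?_⟩
    rw [hCmem]
    have ht' : ((g : H) * t * (g : H)⁻¹)⁻¹ * t = u0 := congrArg Subtype.val ht
    calc ρ (g : H) (ρ (t : H) w) = ρ ((g : H) * t * (g : H)⁻¹) (ρ (g : H) w) := by
          rw [← Module.End.mul_apply, ← map_mul, ← Module.End.mul_apply, ← map_mul,
            inv_mul_cancel_right]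
      _ = ρ ((g : H) * t * (g : H)⁻¹) (ρ u0 w) := by rw [e0]
      _ = ρ (t : H) w := by rw [← Module.End.mul_apply, ← map_mul, ← ht', mul_inv_cancel_left]
  have hbij : Nat.card {w : V // w ≠ 0} =
      Nat.card (↥(P : Subgroup H) × {w : C // w ≠ 0}) := by
    symm
    refine Nat.card_congr (Equiv.ofBijective
      (fun x => ⟨ρ (x.1 : H) (x.2.1 : V), fun h0 => x.2.2 (Subtype.ext (by
        simpa [← Module.End.mul_apply, ← map_mul] using congrArg (ρ (x.1 : H)⁻¹) h0))⟩) ⟨?_, ?_⟩)
    · rintro ⟨t, c, hc⟩ ⟨t', c', hc'⟩ heq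
      have heq' : ρ (t : H) (c : V) = ρ (t' : H) (c' : V) := congrArg Subtype.val heq
      have hc0 : (c : V) ≠ 0 := fun h => hc (Subtype.ext h)
      set s := ((t' : H))⁻¹ * t with hs
      have hs' : ρ s (c : V) = (c' : V) := by
        rw [hs, map_mul, Module.End.mul_apply, heq', ← Module.End.mul_apply, ← map_mul,
          inv_mul_cancel, map_one, Module.End.one_apply]
      have hsP : s ∈ (P : Subgroup H) := mul_mem (inv_mem t'.2) t.2
      have h1 : ρ ((g : H) * s * (g : H)⁻¹) (c : V) = ρ s (c : V) := by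
        have hc1 := (hCmem _).1 c.2
        have hc1' := (hCmem _).1 c'.2
        have hginv : ρ (g : H)⁻¹ (c : V) = c := by
          conv_lhs => rw [← hc1]
          rw [← Module.End.mul_apply, ← map_mul, inv_mul_cancel, map_one, Module.End.one_apply]
        rw [map_mul, map_mul, Module.End.mul_apply, Module.End.mul_apply, hginv, hs', hc1']
      have h2 := hreg _ (mul_mem (inv_mem hsP) ((mem_normalizer_iff.1 g.2 _).1 hsP)) _ hc0 (by
        rw [map_mul, Module.End.mul_apply, h1, ← Module.End.mul_apply, ← map_mul, inv_mul_cancel,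
          map_one, Module.End.one_apply])
      have hs1 : s = 1 := hfpf s hsP (inv_mul_eq_one.1 h2).symm
      have htt : t = t' := Subtype.ext (inv_mul_eq_one.1 hs1).symm
      subst htt
      rw [hs1, map_one, Module.End.one_apply] at hs'
      obtain rfl : c = c' := Subtype.ext hs'
      rfl
    · rintro ⟨w, hw⟩
      obtain ⟨t, ht, htC⟩ := hexu w hw
      refine ⟨(⟨t⁻¹, inv_mem ht⟩, ⟨⟨ρ t w, htC⟩, fun h => hw ?_⟩), Subtype.ext ?_⟩
      · simpa [← Module.End.mul_apply, ← map_mul] using
          congrArg (ρ t⁻¹) (congrArg Subtype.val h)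
      · show ρ t⁻¹ (ρ t w) = w
        rw [← Module.End.mul_apply, ← map_mul, inv_mul_cancel, map_one, Module.End.one_apply]
  have hV1 : 1 < Nat.card V := by
    by_contra hh
    have : Subsingleton V := Finite.card_le_one_iff_subsingleton.1 (by omega)
    exact hu1 (eq_one_of_apply_eq hinj fun w => Subsingleton.elim _ _)
  obtain ⟨n, hn⟩ : ∃ n, Nat.card (P : Subgroup H) = n := ⟨_, rfl⟩
  obtain ⟨c, hc⟩ : ∃ c, Nat.card C = c := ⟨_, rfl⟩
  have hcount : Nat.card V = n * (c - 1) + 1 := by
    have := Fintype.ofFinite V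
    have := Fintype.ofFinite C
    rw [Nat.card_prod, hn] at hbij
    have h1 : Nat.card {w : V // w ≠ 0} = Nat.card V - 1 := by
      rw [Nat.card_eq_fintype_card, Fintype.card_subtype_compl, Fintype.card_subtype_eq,
        Nat.card_eq_fintype_card]
    have h2 : Nat.card {w : C // w ≠ 0} = c - 1 := by
      rw [Nat.card_eq_fintype_card, Fintype.card_subtype_compl, Fintype.card_subtype_eq,
        ← Nat.card_eq_fintype_card, hc]
    rw [h1, h2] at hbij
    omega
  have hc2 : 2 ≤ c := by
    by_contra hh
    have : c - 1 = 0 := by omega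
    rw [this, mul_zero] at hcount
    omega
  have := Fintype.ofFinite V
  have := Fintype.ofFinite C
  have hfinrank := Module.card_eq_pow_finrank (K := ZMod q) (V := V)
  have hfinrankC := Module.card_eq_pow_finrank (K := ZMod q) (V := C)
  rw [ZMod.card, ← Nat.card_eq_fintype_card] at hfinrank hfinrankC
  have hcq : q ≤ c := by
    rw [← hc, hfinrankC]
    refine Nat.le_self_pow (fun h0 => ?_) q
    rw [hc, h0, pow_zero] at hfinrankC
    omega
  -- the inequality `c ^ e ≤ |V|`
  have hpow : c ^ e ≤ Nat.card V := by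
    obtain ⟨⟨x, hxP⟩, hx⟩ := IsCyclic.exists_generator (α := (P : Subgroup H))
    set X : Module.End (ZMod q) V := ρ x with hX
    have hxn : ∀ u ∈ (P : Subgroup H), ∃ i : ℕ, x ^ i = u := fun u hu => by
      obtain ⟨i, hi⟩ := mem_powers_iff_mem_zpowers.2 (hx ⟨u, hu⟩)
      exact ⟨i, congrArg Subtype.val hi⟩
    let R := (Polynomial.aeval (R := ZMod q) X).range
    have hRc : ∀ a b : R, a * b = b * a := by
      rintro ⟨_, f, rfl⟩ ⟨_, f', rfl⟩
      apply Subtype.ext
      show Polynomial.aeval X f * Polynomial.aeval X f' = Polynomial.aeval X f' * Polynomial.aeval X f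
      rw [← map_mul, ← map_mul, mul_comm]
    let _ : CommRing R := { (inferInstance : Ring R) with mul_comm := hRc }
    have hRinj : ∀ T : R, T ≠ 0 → Function.Injective (T : Module.End (ZMod q) V) := by
      rintro ⟨_, f, rfl⟩ hT
      rw [← LinearMap.ker_eq_bot]
      refine (eq_bot_or_top_of_sylow horb hirr P _ fun u hu w hw => ?_).resolve_right fun htop => hT ?_
      · rw [LinearMap.mem_ker] at hw ⊢
        obtain ⟨i, rfl⟩ := hxn u hu
        rw [map_pow, ← hX, ← Polynomial.aeval_X_pow (R := ZMod q) X]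
        show (Polynomial.aeval X f * Polynomial.aeval X (Polynomial.X ^ i)) w = 0
        rw [← map_mul, mul_comm, map_mul, Module.End.mul_apply]
        show (Polynomial.aeval X (Polynomial.X ^ i)) (Polynomial.aeval X f w) = 0
        have hw' : Polynomial.aeval X f w = 0 := hw
        rw [hw', map_zero]
      · exact Subtype.ext (LinearMap.ker_eq_top.1 htop)
    have : NoZeroDivisors R := ⟨fun {a b} hab => or_iff_not_imp_left.2 fun ha => by
      apply Subtype.ext
      refine LinearMap.ext fun w => hRinj a ha ?_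
      have := congrArg (fun T : R => (T : Module.End (ZMod q) V) w) hab
      simpa using this⟩
    have : Nontrivial R := ⟨⟨0, 1, fun h01 => by
      have h2 : (0 : Module.End (ZMod q) V) = 1 := congrArg Subtype.val h01
      apply hu1
      refine eq_one_of_apply_eq hinj fun w => ?_
      have : w = 0 := by simpa using (congrArg (fun T : Module.End (ZMod q) V => T w) h2).symm
      rw [this, map_zero]⟩⟩
    have : IsDomain R := NoZeroDivisors.to_isDomain R
    let Xj : Fin e → R := fun j => ⟨ρ ((g : H) ^ (j : ℕ) * x * ((g : H) ^ (j : ℕ))⁻¹), by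
      obtain ⟨i, hi⟩ := hxn _ ((mem_normalizer_iff.1 (pow_mem g.2 (j : ℕ)) x).1 hxP)
      exact ⟨Polynomial.X ^ i, by
        show Polynomial.aeval X (Polynomial.X ^ i) = _
        rw [Polynomial.aeval_X_pow, hX, ← map_pow, hi]⟩⟩
    have hXinj : Function.Injective Xj := by
      intro j k hjk
      have h1 : (g : H) ^ (j : ℕ) * x * ((g : H) ^ (j : ℕ))⁻¹ =
          (g : H) ^ (k : ℕ) * x * ((g : H) ^ (k : ℕ))⁻¹ := hinj (congrArg Subtype.val hjk)
      have hpow : ∀ i : ℕ, F g ^ i = F (g ^ i) := fun i => (map_pow F g i).symm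
      have h2 : F g ^ (j : ℕ) = F g ^ (k : ℕ) := by
        ext ⟨u, hu⟩
        obtain ⟨i, rfl⟩ := hxn u hu
        rw [hpow, hpow]
        show ((g : H) ^ (j : ℕ)) * x ^ i * ((g : H) ^ (j : ℕ))⁻¹ =
          ((g : H) ^ (k : ℕ)) * x ^ i * ((g : H) ^ (k : ℕ))⁻¹
        rw [← conj_pow, ← conj_pow, h1]
      exact Fin.ext (pow_injOn_Iio_orderOf (by rw [hgord]; exact j.2) (by rw [hgord]; exact k.2) h2)
    let M : Matrix (Fin e) (Fin e) R := Matrix.vandermonde Xj
    have hdet : M.det ≠ 0 := Matrix.det_vandermonde_ne_zero_iff.2 hXinj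
    let Φ : (Fin e → C) → V := fun cs => ∑ i : Fin e, ρ (x ^ (i : ℕ)) (cs i : V)
    have hΦ : Function.Injective Φ := by
      intro cs cs' hcs
      have hzero : ∀ j : Fin e, ∑ i, ((M j i : R) : Module.End (ZMod q) V) ((cs i : V) - cs' i) = 0 := by
        intro j
        have h0 : ∑ i : Fin e, ρ (x ^ (i : ℕ)) ((cs i : V) - cs' i) = 0 := by
          simp only [map_sub, Finset.sum_sub_distrib]
          exact sub_eq_zero.2 hcs
        have h1 := congrArg (ρ ((g : H) ^ (j : ℕ))) h0
        rw [map_zero, map_sum] at h1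
        rw [← h1]
        refine Finset.sum_congr rfl fun i _ => ?_
        have hfix : ρ (((g : H) ^ (j : ℕ))⁻¹) ((cs i : V) - cs' i) = (cs i : V) - cs' i := by
          have h3 : ∀ t ∈ zpowers (g : H), ρ t ((cs i : V) - cs' i) = (cs i : V) - cs' i := by
            intro t ht
            exact (zpowers_le.2 (show (g : H) ∈ fixer ρ ((cs i : V) - cs' i) from by
              rw [mem_fixer, map_sub, (hCmem _).1 (cs i).2, (hCmem _).1 (cs' i).2])) ht
          exact h3 _ (inv_mem (pow_mem (mem_zpowers _) _))
        have hM : ((M j i : R) : Module.End (ZMod q) V) =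
            ρ ((g : H) ^ (j : ℕ) * x ^ (i : ℕ) * ((g : H) ^ (j : ℕ))⁻¹) := by
          show ((Matrix.vandermonde Xj j i : R) : Module.End (ZMod q) V) = _
          rw [Matrix.vandermonde_apply, SubmonoidClass.coe_pow, ← conj_pow, map_pow]
        rw [hM, map_mul, map_mul, Module.End.mul_apply, Module.End.mul_apply, hfix]
      funext k
      have h4 : (M.det : Module.End (ZMod q) V) ((cs k : V) - cs' k) = 0 := by
        have h5 : ∑ j, ((M.adjugate k j : R) : Module.End (ZMod q) V)
            (∑ i, ((M j i : R) : Module.End (ZMod q) V) ((cs i : V) - cs' i)) = 0 :=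
          Finset.sum_eq_zero fun j _ => by rw [hzero j, map_zero]
        simp only [map_sum, ← Module.End.mul_apply] at h5
        rw [Finset.sum_comm] at h5
        simp only [← LinearMap.sum_apply] at h5
        have h6 : ∀ i, ∑ j, ((M.adjugate k j : R) : Module.End (ZMod q) V) * (M j i : R) =
            ((if k = i then M.det else 0 : R) : Module.End (ZMod q) V) := by
          intro i
          have h7 := congrFun (congrFun (Matrix.adjugate_mul M) k) i
          rw [Matrix.mul_apply, Matrix.smul_apply, Matrix.one_apply, smul_eq_mul, mul_ite, mul_one,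
            mul_zero] at h7
          rw [← h7]
          simp
        simp only [h6] at h5
        rw [Finset.sum_eq_single k (fun i _ hi => by rw [if_neg (Ne.symm hi)]; simp) (by simp),
          if_pos rfl] at h5
        exact h5
      have h8 : ((cs k : V) - cs' k) = 0 := hRinj M.det hdet (by rw [h4, map_zero])
      exact Subtype.ext (sub_eq_zero.1 h8)
    have := Nat.card_le_card_of_injective Φ hΦ
    rwa [Nat.card_fun, Nat.card_eq_fintype_card (α := Fin e), Fintype.card_fin, hc] at this
  have hnodd : Odd n := by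
    obtain ⟨i, hi⟩ := P.2.exists_card_eq
    rw [← hn, hi]
    exact (hp.odd_of_ne_two hp2).pow
  have hn3 : 3 ≤ n := by
    have : 1 < n := hn ▸ (one_lt_card_iff_ne_bot _).2 hPne
    obtain ⟨j, hj⟩ := hnodd
    omega
  have hedvd : e ∣ Nat.card H := by
    rw [← hedef]
    exact (dvd_of_eq (show (P : Subgroup H).relIndex N = ((P : Subgroup H).subgroupOf N).index from rfl)).trans
      (((P : Subgroup H).subgroupOf N).index_dvd_card.trans N.card_subgroup_dvd_card)
  have hq2odd : q = 2 → Odd e := by
    intro h2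
    by_contra hodd
    exact hq (h2 ▸ (even_iff_two_dvd.1 (Nat.not_odd_iff_even.1 hodd)).trans hedvd)
  -- a group of odd order in dimension three over two elements is solvable
  have hnot8 : q = 2 → Nat.card V ≠ 8 := by
    intro h2 h8
    apply hns
    refine CfsgLib.StructB.Kazarin.isSolvable_of_forall_prime_dvd Nat.prime_three
      (by norm_num : Nat.Prime 7) fun r hr hd => ?_
    have : Fact r.Prime := ⟨hr⟩
    obtain ⟨t, ht⟩ := exists_prime_orderOf_dvd_card' r hd
    have hne2 : r ≠ 2 := fun e' => hq (h2 ▸ e' ▸ hd)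
    have h8' : r ∣ 8 - Nat.card (fixedSub ρ ({t} : Set H)) := by
      let f : V ≃ V :=
        { toFun := ρ t
          invFun := ρ t⁻¹
          left_inv := fun w => by
            rw [← Module.End.mul_apply, ← map_mul, inv_mul_cancel, map_one, Module.End.one_apply]
          right_inv := fun w => by
            rw [← Module.End.mul_apply, ← map_mul, mul_inv_cancel, map_one, Module.End.one_apply] }
      have hfp : ∀ (i : ℕ) (w : V), (f ^ i) w = ρ (t ^ i) w := by
        intro i
        induction i with
        | zero => simp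
        | succ i ih =>
          intro w
          rw [pow_succ', Equiv.Perm.mul_apply, ih, pow_succ', map_mul, Module.End.mul_apply]
          rfl
      have hf : IsPGroup r (zpowers f) := by
        refine IsPGroup.of_card (n := (orderOf f).factorization r) ?_
        rw [Nat.card_zpowers]
        have hd' : orderOf f ∣ r := orderOf_dvd_of_pow_eq_one (by
          ext w
          rw [hfp, ← ht, pow_orderOf_eq_one, map_one]; rfl)
        rcases (Nat.dvd_prime hr).1 hd' with h | h <;> rw [h] <;> simp [hr.factorization_self]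
      have hmod := hf.card_modEq_card_fixedPoints V
      rw [h8] at hmod
      have e1 : Nat.card (MulAction.fixedPoints (zpowers f) V) =
          Nat.card (fixedSub ρ ({t} : Set H)) := by
        refine Nat.card_congr (Equiv.subtypeEquivRight fun w => ?_)
        constructor
        · intro hw a ha
          rw [Set.mem_singleton_iff.1 ha]
          exact hw ⟨f, mem_zpowers f⟩
        · intro hw ⟨a, ha⟩
          obtain ⟨i, rfl⟩ := mem_powers_iff_mem_zpowers.2 ha
          show (f ^ i) w = w
          rw [hfp]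
          exact (zpowers_le.2 (show t ∈ fixer ρ w from hw t rfl)) (pow_mem (mem_zpowers t) i)
      rw [e1] at hmod
      exact (Nat.modEq_iff_dvd' (by rw [← h8]; exact Finite.card_subtype_le _)).1 hmod.symm
    have hlt : Nat.card (fixedSub ρ ({t} : Set H)) < 8 := by
      rw [← h8]
      by_contra hle
      push Not at hle
      have htop : fixedSub ρ ({t} : Set H) = ⊤ := by
        rw [eq_top_iff]
        intro w _
        have hsurj : Function.Surjective (Subtype.val : fixedSub ρ ({t} : Set H) → V) :=
          (Subtype.val_injective.bijective_of_nat_card_le hle).2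
        obtain ⟨w', rfl⟩ := hsurj w
        exact w'.2
      have : t = 1 := eq_one_of_apply_eq hinj fun w => (htop ▸ Submodule.mem_top :
        w ∈ fixedSub ρ ({t} : Set H)) t rfl
      rw [this, orderOf_one] at ht
      exact hr.ne_one ht.symm
    have hpos : 0 < Nat.card (fixedSub ρ ({t} : Set H)) := Nat.card_pos
    have hpw : Nat.card (fixedSub ρ ({t} : Set H)) ∣ 8 := by
      rw [← h8]
      exact (fixedSub ρ ({t} : Set H)).toAddSubgroup.card_addSubgroup_dvd_card
    generalize Nat.card (fixedSub ρ ({t} : Set H)) = m at h8' hlt hpos hpw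
    have hr' := Nat.le_of_dvd (by omega) h8'
    have hr2 := hr.two_le
    have hr7 : r ≤ 7 := by omega
    interval_cases r
    all_goals first
      | omega
      | (norm_num at hr; done)
      | (interval_cases m <;> omega)
  have hee : e * e ≤ n :=
    sq_le_of_count hc2 he2 hnodd hcq hq2odd hqp.two_le hcount hpow hnot8 ⟨_, hfinrank⟩
  -- a point stabiliser is a complement
  obtain ⟨v0, hv0⟩ : ∃ v : V, v ≠ 0 := by
    have : Nontrivial V := Finite.one_lt_card_iff_nontrivial.1 hV1
    exact exists_ne 0
  set S := fixer ρ v0 with hS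
  have hSi : S.index = Nat.card (P : Subgroup H) := by
    rw [hS, ← relIndex_sylow horb P v0, relIndex, subgroupOf_eq_bot.2, index_bot]
    rw [disjoint_iff, eq_bot_iff]
    intro w hw
    rw [mem_bot]
    exact hreg w hw.2 v0 hv0 hw.1
  have hSu : ∀ u ∈ (P : Subgroup H), u ≠ 1 → ∀ w : H, w⁻¹ * u * w ∉ S := by
    intro u hu hu1 w hw
    apply hu1
    refine hreg u hu (ρ w v0) (fun h0 => hv0 ?_) ?_
    · simpa [← Module.End.mul_apply, ← map_mul] using congrArg (ρ w⁻¹) h0
    · have h1 : ρ (w⁻¹ * u * w) v0 = v0 := hw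
      conv_rhs => rw [← h1]
      rw [← Module.End.mul_apply, ← Module.End.mul_apply, ← map_mul, ← map_mul]
      congr 2
      group
  have : Fintype H := Fintype.ofFinite H
  have htwo := CfsgLib.StructB.PPowerChar.exists_mem_smul_eq (P : Subgroup H) hC
    (by rw [← hN, hedef]; exact he2) (by rw [← hN, hedef, hn]; exact hee) S hSi hSu
  -- relations between the points of the orbit
  have := Fintype.ofFinite (P : Subgroup H)
  have := Fintype.ofFinite S
  have hsum0 : ∑ u : (P : Subgroup H), ρ (u : H) v0 = 0 := by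
    have hmem : ∑ u : (P : Subgroup H), ρ (u : H) v0 ∈ fixedSub ρ ((P : Subgroup H) : Set H) := by
      intro a ha
      rw [map_sum]
      refine Fintype.sum_equiv (Equiv.mulLeft (⟨a, ha⟩ : (P : Subgroup H))) _ _ fun b => ?_
      rw [Equiv.coe_mulLeft, Subgroup.coe_mul, map_mul, Module.End.mul_apply]
    rwa [fixedSub_eq_bot hinj horb hirr P _ hPne le_normalizer, Submodule.mem_bot] at hmem
  let φ : (↥(P : Subgroup H) → ZMod q) →+ V :=
    AddMonoidHom.mk' (fun f => ∑ u : (P : Subgroup H), f u • ρ (u : H) v0) (fun a b => by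
      simp [add_smul, Finset.sum_add_distrib])
  have hkerS : ∀ f, φ f = 0 → ∑ u, f u = (n : ZMod q) * f 1 := by
    intro f hf
    have hf' : ∑ u : (P : Subgroup H), (f u - f 1) • ρ (u : H) v0 = 0 := by
      simp only [sub_smul, Finset.sum_sub_distrib, ← Finset.smul_sum, hsum0, smul_zero, sub_zero]
      exact hf
    obtain ⟨T, hT⟩ : ∃ T : V, ∀ u : (P : Subgroup H), u ≠ 1 →
        ∑ s : S, ρ (s : H) (ρ (u : H) v0) = T := by
      refine ⟨∑ s : S, ρ (s : H) (ρ u1 v0), fun u hu => ?_⟩
      obtain ⟨s0, hs0, hs0'⟩ := htwo u1 (u : H)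
        (fun h => hu1 (hreg u1 hu1P v0 hv0 h))
        (fun h => hu (Subtype.ext (hreg (u : H) u.2 v0 hv0 h)))
      have hmove : ρ (u : H) v0 = ρ s0 (ρ u1 v0) := by
        have h1 : ρ ((u : H)⁻¹ * s0 * u1) v0 = v0 := hs0'
        conv_lhs => rw [← h1]
        rw [← Module.End.mul_apply, ← map_mul, ← Module.End.mul_apply, ← map_mul]
        congr 2
        group
      rw [hmove]
      refine Fintype.sum_equiv (Equiv.mulRight (⟨s0, hs0⟩ : S)) _ _ fun s => ?_
      rw [Equiv.coe_mulRight, Subgroup.coe_mul, map_mul, Module.End.mul_apply]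
    have hTne : T ≠ 0 := by
      intro hT0
      have h1 : ∑ s : S, ρ (s : H) (∑ u : (P : Subgroup H), ρ (u : H) v0) = 0 := by
        simp [hsum0]
      simp only [map_sum] at h1
      rw [Finset.sum_comm, Finset.sum_eq_single (1 : (P : Subgroup H))
        (fun u _ hu => by rw [hT u hu, hT0]) (by simp)] at h1
      simp only [OneMemClass.coe_one, map_one, Module.End.one_apply] at h1
      rw [Finset.sum_congr rfl fun (s : S) _ => (show ρ (s : H) v0 = v0 from s.2), Finset.sum_const,
        Finset.card_univ, ← Nat.card_eq_fintype_card, ← Nat.cast_smul_eq_nsmul (ZMod q),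
        smul_eq_zero] at h1
      rcases h1 with h | h
      · exact natCast_ne_zero (not_dvd_card_subgroup hq S) h
      · exact hv0 h
    have h2 : ∑ s : S, ρ (s : H) (∑ u : (P : Subgroup H), (f u - f 1) • ρ (u : H) v0) = 0 := by
      simp [hf']
    simp only [map_sum, map_smul] at h2
    rw [Finset.sum_comm] at h2
    simp only [← Finset.smul_sum] at h2
    have h3 : ∀ u : (P : Subgroup H), (f u - f 1) • ∑ s : S, ρ (s : H) (ρ (u : H) v0) =
        (f u - f 1) • T := by
      intro u
      rcases eq_or_ne u 1 with rfl | hu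
      · simp
      · rw [hT u hu]
    rw [Finset.sum_congr rfl fun u _ => h3 u, ← Finset.sum_smul, smul_eq_zero] at h2
    have h4 := h2.resolve_right hTne
    rw [Finset.sum_sub_distrib, sub_eq_zero, Finset.sum_const, Finset.card_univ,
      ← Nat.card_eq_fintype_card, hn, nsmul_eq_mul] at h4
    exact h4
  have hconst : ∀ f, φ f = 0 → ∀ w, f w = f 1 := by
    intro f hf w
    have hfw : φ (fun u => f (w * u)) = 0 := by
      have h1 := congrArg (ρ (w : H)⁻¹) hf
      rw [map_zero] at h1
      rw [← h1]
      show ∑ u : (P : Subgroup H), f (w * u) • ρ (u : H) v0 =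
        ρ (w : H)⁻¹ (∑ u : (P : Subgroup H), f u • ρ (u : H) v0)
      rw [map_sum]
      refine Fintype.sum_equiv (Equiv.mulLeft w) _ _ fun u => ?_
      rw [Equiv.coe_mulLeft, map_smul, Subgroup.coe_mul, ← Module.End.mul_apply, ← map_mul,
        inv_mul_cancel_left]
    have h2 := hkerS _ hfw
    rw [Equiv.sum_comp (Equiv.mulLeft w) f |> fun e => (show ∑ u, f (w * u) = ∑ u, f u from e),
      hkerS f hf, mul_one] at h2
    exact (mul_left_cancel₀ (natCast_ne_zero (hn ▸ not_dvd_card_subgroup hq _)) h2).symm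
  have hdim : q ^ (n - 1) ≤ Nat.card V := by
    have h1 := φ.ker.card_mul_index
    rw [AddSubgroup.index_ker] at h1
    have hk : Nat.card φ.ker ≤ q := by
      refine (Nat.card_le_card_of_injective (fun f : φ.ker => (f : ↥(P : Subgroup H) → ZMod q) 1)
        fun a b hab => Subtype.ext (funext fun w => ?_)).trans (Nat.card_zmod q).le
      rw [hconst _ a.2 w, hconst _ b.2 w]
      exact hab
    have hr : Nat.card φ.range ≤ Nat.card V := Finite.card_subtype_le _
    rw [Nat.card_fun, Nat.card_zmod, hn] at h1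
    refine Nat.le_of_mul_le_mul_left ?_ hqp.pos
    rw [← pow_succ', Nat.sub_add_cancel (by omega), ← h1]
    exact Nat.mul_le_mul hk hr
  -- final arithmetic
  have hcc : c * c ≤ Nat.card V := by
    rw [← sq]
    exact (Nat.pow_le_pow_right (by omega) he2).trans hpow
  obtain ⟨c1, rfl⟩ : ∃ c1, c = c1 + 1 := ⟨c - 1, by omega⟩
  rw [hcount, Nat.add_sub_cancel] at hcc hdim
  have hcn : c1 + 2 ≤ n := by nlinarith
  obtain ⟨m, rfl⟩ : ∃ m, n = m + 1 := ⟨n - 1, by omega⟩
  rw [Nat.add_sub_cancel] at hdim
  have hsq : (m + 1) * c1 + 1 ≤ m * m := by nlinarith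
  rcases Nat.lt_or_ge q 3 with hq3 | hq3
  · have hq2 : q = 2 := by have := hqp.two_le; omega
    subst hq2
    have hm : m ≤ 4 := by
      by_contra hm
      have : ∀ k : ℕ, 5 ≤ k → k * k + 1 ≤ 2 ^ k := by
        intro k hk
        induction k, hk using Nat.le_induction with
        | base => norm_num
        | succ k hk ih => rw [pow_succ]; nlinarith
      have := this m (by omega)
      omega
    obtain ⟨j, hj⟩ := hq2odd rfl
    have he3 : 3 ≤ e := by omega
    have := Nat.mul_le_mul he3 he3
    omega
  · have hkey : ∀ k : ℕ, k * k + 1 ≤ 3 ^ k := by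
      intro k
      induction k with
      | zero => norm_num
      | succ k ih =>
        rw [pow_succ]
        rcases Nat.lt_or_ge k 1 with h | h
        · obtain rfl : k = 0 := by omega
          norm_num
        · nlinarith
    have := hkey m
    have : 3 ^ m ≤ q ^ m := Nat.pow_le_pow_left hq3 m
    omega

end CfsgLib.StructB.PPowerOrbit
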