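import Cfsg.Agent.Lib.StructB.PPowerE
import Cfsg.Agent.Lib.ClassK.CyclicNormal
import Cfsg.Agent.Lib.Invol.CyclicSylow
import Mathlib.FieldTheory.Finite.Basic
import Mathlib.FieldTheory.Finiteness
import Mathlib.LinearAlgebra.Determinant
import Mathlib.LinearAlgebra.Matrix.Determinant.Basic

/-!
Minimal coprime linear groups with orbits of `2`-power size: the Sylow subgroup has a cyclic
subgroup of index two which is irreducible, and this bounds its order too sharply.
-/

set_option autoImplicit false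

namespace CfsgLib.StructB.PPowerOrbit

open Subgroup

universe u v

variable {H : Type u} [Group H] [Finite H] {q : ℕ} [Fact q.Prime]
variable {V : Type v} [AddCommGroup V] [Module (ZMod q) V]
variable {ρ : Representation (ZMod q) H V}

/-- In a 2-group whose normal abelian subgroups are cyclic, a cyclic self-centralising normal
subgroup has index at most two and the other elements act as `3` modulo `4`. -/
theorem conj_cases {P : Type*} [Group P] [Finite P] (hP : IsPGroup 2 P)
    (hn : ∀ A : Subgroup P, A.Normal → IsMulCommutative A → IsCyclic A) {a : P}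
    (hAn : (zpowers a).Normal) (hself : centralizer (zpowers a : Set P) = zpowers a)
    {m : ℕ} (hm1 : 1 ≤ m) (hm : orderOf a = 2 ^ m) :
    (∀ h k : P, h ∉ zpowers a → k ∉ zpowers a → h * k ∈ zpowers a) ∧
      ∀ h : P, ∀ u : ℤ, h * a * h⁻¹ = a ^ u → h ∉ zpowers a → (4 : ℤ) ∣ u - 3 := by
  classical
  have : Fact (Nat.Prime 2) := ⟨Nat.prime_two⟩
  open CfsgLib.ClassK in
  have hact : ∀ g : P, ∃ k : ℤ, g * a * g⁻¹ = a ^ k := fun g => by
    obtain ⟨k, hk⟩ := mem_zpowers_iff.1 (hAn.conj_mem a (mem_zpowers a) g)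
    exact ⟨k, hk.symm⟩
  have hcases : ∀ h : P, ∀ u : ℤ, h * a * h⁻¹ = a ^ u → (4 : ℤ) ∣ u - 1 → h ∈ zpowers a := by
    intro h u hu h4
    by_contra hh
    have hex : ∃ l : ℕ, h ^ 2 ^ l ∈ zpowers a := by
      obtain ⟨l, hl⟩ := hP h
      exact ⟨l, hl ▸ one_mem _⟩
    have hl0 : Nat.find hex ≠ 0 := fun e => hh (by
      have := Nat.find_spec hex
      rwa [e, pow_zero, pow_one] at this)
    set g := h ^ 2 ^ (Nat.find hex - 1) with hg
    have hgA : g ∉ zpowers a := Nat.find_min hex (by omega)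
    have hg2 : g ^ 2 ∈ zpowers a := by
      rw [hg, ← pow_mul, ← pow_succ, Nat.sub_add_cancel (by omega)]
      exact Nat.find_spec hex
    have hgu : g * a * g⁻¹ = a ^ (u ^ 2 ^ (Nat.find hex - 1)) :=
      CfsgLib.ClassK.conj_pow_of_conj hu _
    obtain ⟨v, hv⟩ : ∃ v, u ^ 2 ^ (Nat.find hex - 1) = v := ⟨_, rfl⟩
    rw [hv] at hgu
    have hv4 : (4 : ℤ) ∣ v - 1 := by
      rw [← hv]
      exact dvd_trans h4 (by simpa using sub_dvd_pow_sub_pow u 1 (2 ^ (Nat.find hex - 1)))
    obtain ⟨j, hj⟩ := mem_zpowers_iff.1 hg2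
    obtain ⟨c, hc⟩ := hv4
    rcases Int.even_or_odd j with ⟨j', hj'⟩ | hjo
    · have hcop : IsCoprime (1 + 2 * c) ((2 : ℤ) ^ m) :=
        IsCoprime.pow_right ⟨1, -c, by ring⟩
      obtain ⟨r, s, hrs⟩ := hcop
      have hinv : (a ^ (-(j' * r)) * g) ^ 2 = 1 := by
        rw [CfsgLib.ClassK.zpow_mul_pow_of_conj hgu, ← hj, ← zpow_add,
          ← orderOf_dvd_iff_zpow_eq_one, hm]
        refine ⟨2 * j' * s, ?_⟩
        push_cast
        simp [Finset.sum_range_succ, show v = 1 + 4 * c by linarith, hj']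
        linear_combination (-2 * j') * hrs
      refine CfsgLib.ClassK.false_of_conj_congr_one hn hAn hself hm1 hm
        (y := a ^ (-(j' * r)) * g) (k := v)
        (orderOf_eq_prime hinv fun e => hgA ?_) (fun e => hgA ?_) ?_
        ⟨2 * c, by push_cast; linarith⟩ fun _ => ⟨c, hc⟩
      · rw [eq_inv_of_mul_eq_one_right e]
        exact inv_mem (zpow_mem (mem_zpowers a) _)
      · exact (Subgroup.mul_mem_cancel_left _ (zpow_mem (mem_zpowers a) _)).1 e
      · calc a ^ (-(j' * r)) * g * a * (a ^ (-(j' * r)) * g)⁻¹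
            = a ^ (-(j' * r)) * (g * a * g⁻¹) * (a ^ (-(j' * r)))⁻¹ := by group
          _ = a ^ v := by rw [hgu, ← zpow_neg, ← zpow_add, ← zpow_add]; ring_nf
    · refine hgA (hself.le ?_)
      rw [zpowers_eq_closure, centralizer_closure, mem_centralizer_singleton_iff]
      have hcop : IsCoprime j ((2 : ℤ) ^ m) := by
        obtain ⟨j', hj'⟩ := hjo
        exact IsCoprime.pow_right ⟨1, -j', by rw [hj']; ring⟩
      obtain ⟨r, s, hrs⟩ := hcop
      have ha' : a = (g ^ 2) ^ r := by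
        rw [← hj, ← zpow_mul]
        conv_lhs => rw [← zpow_one a]
        rw [zpow_eq_zpow_iff_modEq, hm, Int.modEq_iff_dvd]
        refine ⟨-s, ?_⟩
        push_cast
        linear_combination hrs
      rw [ha']
      exact (((Commute.self_pow g 2).zpow_right r)).eq
  have hodd : ∀ (h : P) (u : ℤ), h * a * h⁻¹ = a ^ u → ∃ t : ℤ, u = 2 * t + 1 := by
    intro h u hu
    rcases Int.even_or_odd u with ⟨t, ht⟩ | ho
    · exfalso
      have h1 : orderOf (h * a * h⁻¹) = orderOf a := by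
        rw [← MulAut.conj_apply]; exact MulEquiv.orderOf_eq _ a
      rw [hu] at h1
      have h2 : (a ^ u) ^ (2 ^ (m - 1)) = 1 := by
        rw [← zpow_natCast (a ^ u), ← zpow_mul, ← orderOf_dvd_iff_zpow_eq_one, hm, ht]
        refine ⟨t, ?_⟩
        obtain ⟨m', rfl⟩ : ∃ m', m = m' + 1 := ⟨m - 1, by omega⟩
        rw [Nat.add_sub_cancel]
        push_cast
        ring
      have h3 := Nat.le_of_dvd (pow_pos two_pos _) (orderOf_dvd_of_pow_eq_one h2)
      rw [h1, hm] at h3
      have := (Nat.pow_le_pow_iff_right (by norm_num : 1 < 2)).1 h3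
      omega
    · exact ho
  refine ⟨fun h k hh hk => ?_, fun h u hu hh => ?_⟩
  · obtain ⟨u, hu⟩ := hact h
    obtain ⟨w, hw⟩ := hact k
    refine hcases (h * k) (w * u) ?_ ?_
    · rw [show h * k * a * (h * k)⁻¹ = h * (k * a * k⁻¹) * h⁻¹ by group, hw, ← conj_zpow, hu,
        ← zpow_mul, mul_comm u w]
    · obtain ⟨u', rfl⟩ := hodd h u hu
      obtain ⟨w', rfl⟩ := hodd k w hw
      obtain ⟨u'', rfl⟩ : Odd u' := Int.not_even_iff_odd.1 fun ⟨t, ht⟩ =>
        hh (hcases h _ hu ⟨t, by rw [ht]; ring⟩)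
      obtain ⟨w'', rfl⟩ : Odd w' := Int.not_even_iff_odd.1 fun ⟨t, ht⟩ =>
        hk (hcases k _ hw ⟨t, by rw [ht]; ring⟩)
      exact ⟨4 * u'' * w'' + 3 * u'' + 3 * w'' + 2, by ring⟩
  · obtain ⟨u', rfl⟩ := hodd h u hu
    obtain ⟨u'', rfl⟩ : Odd u' := Int.not_even_iff_odd.1 fun ⟨t, ht⟩ =>
      hh (hcases h _ hu ⟨t, by rw [ht]; ring⟩)
    exact ⟨u'', by ring⟩

/-- The bound from the irreducible cyclic subgroup. -/
theorem frobenius_arith {q D m v : ℕ} (hq : Odd q) (hm : 2 ≤ m) (hv : (4 : ℤ) ∣ (v : ℤ) - 3)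
    (h1 : ∃ i, i < D ∧ (2 : ℤ) ^ m ∣ (q : ℤ) ^ i - v ∧ D ∣ 2 * i)
    (h2 : (2 : ℤ) ^ m ∣ (q : ℤ) ^ D - 1) :
    2 ^ (m - 1) ∣ q + 1 ∧ ∃ i, D = 2 * i ∧ Odd i := by
  obtain ⟨i, hiD, hdv, hD⟩ := h1
  have h4 : (4 : ℤ) ∣ (q : ℤ) ^ i - 3 := by
    have h := (pow_dvd_pow (2 : ℤ) hm).trans hdv
    norm_num at h
    omega
  have hi0 : i ≠ 0 := by
    rintro rfl
    norm_num at h4
  have hDi : D = 2 * i := by
    obtain ⟨c, hc⟩ := hD
    rcases Nat.lt_or_ge c 2 with h | h
    · interval_cases c <;> omega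
    · have : D * 2 ≤ D * c := Nat.mul_le_mul le_rfl h
      omega
  have hio : Odd i := by
    by_contra he
    obtain ⟨j, hj⟩ := Nat.not_odd_iff_even.1 he
    obtain ⟨t, ht⟩ := hq
    rw [hj, ht] at h4
    have hsq : ((2 * t + 1 : ℕ) : ℤ) ^ (j + j) = (((2 * t + 1 : ℕ) : ℤ) ^ 2) ^ j := by
      rw [← pow_mul]
      congr 1
      omega
    have hone : (4 : ℤ) ∣ (((2 * t + 1 : ℕ) : ℤ) ^ 2) ^ j - 1 := by
      refine dvd_trans ?_ (by simpa using sub_dvd_pow_sub_pow (((2 * t + 1 : ℕ) : ℤ) ^ 2) 1 j)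
      exact ⟨(t : ℤ) * t + t, by push_cast; ring⟩
    rw [hsq] at h4
    omega
  refine ⟨?_, i, hDi, hio⟩
  rw [hDi, two_mul, pow_add] at h2
  obtain ⟨d, hd⟩ := h4
  obtain ⟨w, hw⟩ : ∃ w : ℤ, (q : ℤ) ^ i - 1 = 2 * w ∧ IsCoprime (2 : ℤ) w :=
    ⟨2 * d + 1, by linarith, ⟨-d, 1, by ring⟩⟩
  have h5 : (2 : ℤ) ^ (m - 1) ∣ (q : ℤ) ^ i + 1 := by
    rw [show (q : ℤ) ^ i * (q : ℤ) ^ i - 1 = (2 * w) * ((q : ℤ) ^ i + 1) by rw [← hw.1]; ring,
      ← Nat.sub_add_cancel (show 1 ≤ m by omega), pow_succ', mul_assoc] at h2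
    exact (hw.2.pow_left).dvd_of_dvd_mul_left (Int.dvd_of_mul_dvd_mul_left (by norm_num) h2)
  obtain ⟨g, hg1, hg2⟩ : ∃ g : ℤ, ((q : ℤ) ^ i + 1) = ((q : ℤ) + 1) * g ∧ IsCoprime (2 : ℤ) g := by
    refine ⟨∑ j ∈ Finset.range i, (-(q : ℤ)) ^ j, ?_, ?_⟩
    · have h := geom_sum_mul (-(q : ℤ)) i
      rw [hio.neg_pow] at h
      linarith
    · rw [Int.prime_two.coprime_iff_not_dvd]
      intro hdvd
      have h := (ZMod.intCast_zmod_eq_zero_iff_dvd _ 2).2 hdvd
      push_cast at h
      have hq1 : (q : ZMod 2) = 1 := ZMod.natCast_eq_one_iff_odd.2 hq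
      have hi1 : (i : ZMod 2) = 1 := ZMod.natCast_eq_one_iff_odd.2 hio
      rw [hq1] at h
      simp only [show (-1 : ZMod 2) = 1 from by decide, one_pow, Finset.sum_const,
        Finset.card_range, nsmul_eq_mul, mul_one, hi1] at h
      exact one_ne_zero h
  rw [hg1] at h5
  have h6 : ((2 ^ (m - 1) : ℕ) : ℤ) ∣ ((q + 1 : ℕ) : ℤ) := by
    push_cast
    exact (hg2.pow_left).dvd_of_dvd_mul_right h5
  exact Int.natCast_dvd_natCast.1 h6

set_option maxHeartbeats 800000 in
theorem false_of_two [Finite V] (hq : ¬ q ∣ Nat.card H) (hinj : Function.Injective ρ)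
    (horb : ∀ w, ∃ a, (fixer ρ w).index = 2 ^ a)
    (hirr : ∀ W : Submodule (ZMod q) V, (∀ h : H, ∀ w ∈ W, ρ h w ∈ W) → W = ⊥ ∨ W = ⊤)
    (hnormal : ∀ N : Subgroup H, N.Normal → N ≠ ⊤ → Group.IsSolvable N)
    (hns : ¬ Group.IsSolvable H) : False := by
  classical
  have : Fact (Nat.Prime 2) := ⟨Nat.prime_two⟩
  have hqp : q.Prime := Fact.out
  obtain ⟨P⟩ := (inferInstance : Nonempty (Sylow 2 H))
  have hPne : (P : Subgroup H) ≠ ⊥ := by
    intro e
    refine hns (Group.isSolvable_of_comm fun a b => ?_)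
    have : ∀ h : H, h = 1 := fun h => eq_one_of_apply_eq hinj fun w => by
      obtain ⟨u, hu, e'⟩ := exists_sylow_apply horb P w h
      rw [e', (mem_bot.1 (e ▸ hu : u ∈ (⊥ : Subgroup H))), map_one, Module.End.one_apply]
    rw [this a, this b]
  have hqodd : Odd q := by
    rcases hqp.eq_two_or_odd' with rfl | h
    · exfalso
      obtain ⟨i, hi⟩ := P.2.exists_card_eq
      have h1 : 1 < Nat.card (P : Subgroup H) := (one_lt_card_iff_ne_bot _).2 hPne
      have hi0 : i ≠ 0 := fun e => by rw [hi, e, pow_zero] at h1; omega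
      exact hq ((dvd_pow_self 2 hi0).trans (hi ▸ (P : Subgroup H).card_subgroup_dvd_card))
    · exact h
  have hq3 : 3 ≤ q := by
    have := hqp.two_le
    obtain ⟨t, ht⟩ := hqodd
    omega
  have hnotcompl : ¬ Cfsg.HasNormalPComplement 2 H := by
    intro h
    obtain ⟨N, hN, hNc, hNq⟩ := CfsgLib.Transfer.hasNormalPComplement_iff_exists.1 h
    by_cases hNt : N = ⊤
    · have h2 : 2 ∣ Nat.card H := by
        obtain ⟨i, hi⟩ := P.2.exists_card_eq
        have h1 : 1 < Nat.card (P : Subgroup H) := (one_lt_card_iff_ne_bot _).2 hPne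
        have hi0 : i ≠ 0 := fun e => by rw [hi, e, pow_zero] at h1; omega
        exact (dvd_pow_self 2 hi0).trans (hi ▸ (P : Subgroup H).card_subgroup_dvd_card)
      rw [hNt, card_top] at hNc
      exact Nat.prime_two.not_dvd_one (hNc ▸ Nat.dvd_gcd h2 dvd_rfl)
    have := hnormal N hN hNt
    have := hNq.isNilpotent
    exact hns (Group.isSolvable_of_ker_le_range N.subtype (QuotientGroup.mk' N) (by simp))
  -- normal abelian subgroups of the Sylow subgroup are cyclic
  have hn : ∀ A : Subgroup (P : Subgroup H), A.Normal → IsMulCommutative A → IsCyclic A := by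
    intro A hA hAc
    by_contra hnc
    let _ : CommGroup A := { (inferInstance : Group A) with mul_comm := hAc.is_comm.comm }
    obtain ⟨r, hr, hcard⟩ : ∃ r : ℕ, r.Prime ∧ r < Nat.card (powMonoidHom r : A →* A).ker := by
      by_contra hc
      push Not at hc
      exact hnc (CfsgLib.Coprime.isCyclic_of_card_prime_roots hc)
    have hr2 : r = 2 := by
      obtain ⟨i, hi⟩ := ((P.2.to_subgroup A).to_subgroup (powMonoidHom r : A →* A).ker).exists_card_eq
      have hi0 : i ≠ 0 := fun e => by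
        rw [hi, e, pow_zero] at hcard; have := hr.one_lt; omega
      obtain ⟨y, hy⟩ := exists_prime_orderOf_dvd_card' 2 (hi ▸ dvd_pow_self 2 hi0 :
        2 ∣ Nat.card (powMonoidHom r : A →* A).ker)
      have h1 : y ^ r = 1 := Subtype.ext (MonoidHom.mem_ker.1 y.2)
      exact ((Nat.prime_dvd_prime_iff_eq Nat.prime_two hr).1 (hy ▸ orderOf_dvd_of_pow_eq_one h1)).symm
    subst hr2
    set K := ((powMonoidHom 2 : A →* A).ker).map A.subtype with hK
    have hKn : K.Normal := ⟨by
      rintro _ ⟨a, ha, rfl⟩ g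
      refine ⟨⟨g * a * g⁻¹, hA.conj_mem a a.2 g⟩, ?_, rfl⟩
      rw [SetLike.mem_coe, MonoidHom.mem_ker, powMonoidHom_apply] at ha
      rw [SetLike.mem_coe, MonoidHom.mem_ker, powMonoidHom_apply]
      apply Subtype.ext
      rw [Subgroup.coe_pow, conj_pow]
      show g * ((a ^ 2 : A) : (P : Subgroup H)) * g⁻¹ = 1
      rw [ha]; simp⟩
    obtain ⟨i, hi⟩ := (P.2.to_subgroup K).exists_card_eq
    have hi2 : 2 ≤ i := by
      rw [hK, card_map_of_injective A.subtype_injective] at hi
      rw [hi] at hcard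
      by_contra hh
      have := Nat.pow_le_pow_right two_pos (show i ≤ 1 by omega)
      omega
    obtain ⟨E, hEn, hEK, hEc⟩ :=
      CfsgLib.Transfer.exists_normal_le_card P.2 K (k := 2) (hi ▸ pow_dvd_pow 2 hi2)
    have hKA : K ≤ A := map_subtype_le _
    refine not_elementary_sq hq hinj horb hirr hnormal hns P E
      (fun a ha b hb => congrArg Subtype.val (hAc.is_comm.comm ⟨a, hKA (hEK ha)⟩ ⟨b, hKA (hEK hb)⟩))
      (fun a ha => ?_) hEc
    obtain ⟨b, hb, rfl⟩ := hEK ha
    rw [← map_pow]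
    rw [SetLike.mem_coe, MonoidHom.mem_ker, powMonoidHom_apply] at hb
    rw [hb, map_one]
  obtain ⟨A, -, hAn, hAc, hself⟩ :=
    CfsgLib.OddLocal.exists_normal_self_centralizing P.2 (⊥ : Subgroup (P : Subgroup H)) inferInstance
  have hAcyc := hn A hAn hAc
  obtain ⟨⟨a, haA⟩, hgen⟩ := IsCyclic.exists_generator (α := A)
  have hAa : A = zpowers a := le_antisymm (fun w hw => by
    obtain ⟨i, hi⟩ := mem_zpowers_iff.1 (hgen ⟨w, hw⟩)
    exact mem_zpowers_iff.2 ⟨i, congrArg Subtype.val hi⟩) (zpowers_le.2 haA)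
  subst hAa
  obtain ⟨m, hm⟩ := IsPGroup.iff_orderOf.1 P.2 a
  -- if the Sylow subgroup is cyclic there is a complement
  obtain ⟨y, hy⟩ : ∃ y : (P : Subgroup H), y ∉ zpowers a := by
    by_contra hall
    push Not at hall
    have hPcyc : IsCyclic (P : Subgroup H) := isCyclic_iff_exists_zpowers_eq_top.2
      ⟨a, eq_top_iff.2 fun w _ => hall w⟩
    apply hnotcompl
    rw [CfsgLib.Transfer.hasNormalPComplement_iff_frobenius]
    intro D hD g hg hgp
    rcases eq_or_ne D ⊥ with rfl | hDne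
    · rw [mem_centralizer_iff]
      intro d hd
      rw [mem_bot.1 hd, mul_one, one_mul]
    have hDc := CfsgLib.Invol.isCyclic_pGroup hPcyc hD
    obtain ⟨i, hi⟩ := hD.exists_card_eq
    have hi0 : i ≠ 0 := fun e => hDne (card_eq_one.1 (by rw [hi, e, pow_zero]))
    obtain ⟨t, ht⟩ := exists_prime_orderOf_dvd_card' 2 (hi ▸ dvd_pow_self 2 hi0 : 2 ∣ Nat.card D)
    refine CfsgLib.Invol.mem_centralizer_of_cyclic hD hDc hg hgp t.2 (fun e => ?_) ?_
    · rw [show t = 1 from Subtype.ext e, orderOf_one] at ht; omega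
    -- the involution is unique
    obtain ⟨d, hd⟩ := hDc.exists_generator
    haveI := Fintype.ofFinite D
    have huniq : ∀ w : D, w ^ 2 = 1 → w = 1 ∨ w = t := by
      intro w hw
      by_contra hc
      push Not at hc
      have := IsCyclic.card_pow_eq_one_le (α := D) two_pos
      have h3 : ({1, t, w} : Finset D) ⊆ Finset.univ.filter fun z : D => z ^ 2 = 1 := by
        intro z hz
        simp only [Finset.mem_insert, Finset.mem_singleton] at hz
        simp only [Finset.mem_filter, Finset.mem_univ, true_and]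
        rcases hz with rfl | rfl | rfl
        · exact one_pow 2
        · rw [← ht]; exact pow_orderOf_eq_one _
        · exact hw
      have h4 : ({1, t, w} : Finset D).card = 3 := by
        have ht1 : t ≠ 1 := fun e => by rw [e, orderOf_one] at ht; omega
        rw [Finset.card_insert_of_notMem (by simp [Ne.symm ht1, Ne.symm hc.1]),
          Finset.card_pair (Ne.symm hc.2)]
      have := Finset.card_le_card h3
      omega
    have hconj : g * t * g⁻¹ ∈ D := (mem_normalizer_iff.1 hg _).1 t.2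
    rcases huniq ⟨_, hconj⟩ (Subtype.ext (by
      rw [Subgroup.coe_pow, conj_pow, ← Subgroup.coe_pow, ← ht, pow_orderOf_eq_one,
        Subgroup.coe_one, mul_one, mul_inv_cancel])) with h | h
    · exfalso
      have h' : g * t * g⁻¹ = 1 := congrArg Subtype.val h
      have ht1 : (t : H) = 1 := by
        calc (t : H) = g⁻¹ * (g * t * g⁻¹) * g := by group
          _ = 1 := by rw [h']; group
      rw [show t = 1 from Subtype.ext ht1, orderOf_one] at ht; omega
    · exact mul_inv_eq_iff_eq_mul.1 (congrArg Subtype.val h)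
  have hm1 : 1 ≤ m := by
    by_contra h
    rw [show m = 0 by omega, pow_zero, orderOf_eq_one_iff] at hm
    subst hm
    refine hy (hself.le ?_)
    simp [mem_centralizer_singleton_iff]
  obtain ⟨hidx, hcong⟩ := conj_cases P.2 hn hAn hself hm1 hm
  obtain ⟨u, hu⟩ := mem_zpowers_iff.1 (hAn.conj_mem a (mem_zpowers a) y)
  have hu3 := hcong y u hu.symm hy
  have hm2 : 2 ≤ m := by
    by_contra hlt
    obtain rfl : m = 1 := by omega
    apply hy
    refine hself.le ?_
    rw [zpowers_eq_closure, centralizer_closure, mem_centralizer_singleton_iff]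
    have h1 : a ^ u = a := by
      have hu4 : (2 : ℤ) ∣ u - 1 := by omega
      have h2 : a ^ (u - 1) = 1 := orderOf_dvd_iff_zpow_eq_one.1 (by rw [hm]; exact_mod_cast hu4)
      rw [← sub_add_cancel u 1, zpow_add, h2, one_mul, zpow_one]
    rw [h1] at hu
    exact mul_inv_eq_iff_eq_mul.1 hu.symm
  -- the element `x` and its conjugate
  set x : H := (a : H) with hx
  have hxP : x ∈ (P : Subgroup H) := a.2
  have hxo : orderOf x = 2 ^ m := by rw [hx, Subgroup.orderOf_coe, hm]
  obtain ⟨vn, hvn⟩ : ∃ vn : ℕ, (vn : ℤ) = u % (2 ^ m : ℕ) :=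
    ⟨(u % (2 ^ m : ℕ)).toNat, Int.toNat_of_nonneg (Int.emod_nonneg _ (by positivity))⟩
  have hxy : (y : H) * x * (y : H)⁻¹ = x ^ vn := by
    have h1 : ((a ^ u : (P : Subgroup H)) : H) = (y : H) * x * (y : H)⁻¹ := by rw [hu]; rfl
    rw [← h1, Subgroup.coe_zpow, ← zpow_natCast, hvn, ← hxo, zpow_mod_orderOf]
  have hvn3 : (4 : ℤ) ∣ (vn : ℤ) - 3 := by
    rw [hvn]
    obtain ⟨m', rfl⟩ : ∃ m', m = m' + 2 := ⟨m - 2, by omega⟩
    have h4 : (4 : ℤ) ∣ ((2 ^ (m' + 2) : ℕ) : ℤ) := ⟨2 ^ m', by push_cast; ring⟩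
    have h6 : ((2 ^ (m' + 2) : ℕ) : ℤ) ∣ u - u % ((2 ^ (m' + 2) : ℕ) : ℤ) :=
      ⟨u / ((2 ^ (m' + 2) : ℕ) : ℤ), by rw [Int.emod_def]; ring⟩
    have h5 := dvd_trans h4 h6
    omega
  have hPcase : ∀ w ∈ (P : Subgroup H), (∃ i : ℕ, x ^ i = w) ∨ ∃ i : ℕ, (y : H) * x ^ i = w := by
    intro w hw
    by_cases hwA : (⟨w, hw⟩ : (P : Subgroup H)) ∈ zpowers a
    · obtain ⟨i, hi⟩ := mem_powers_iff_mem_zpowers.2 hwA
      exact Or.inl ⟨i, congrArg Subtype.val hi⟩
    · have hyi : y⁻¹ ∉ zpowers a := fun e => hy ((zpowers a).inv_mem_iff.1 e)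
      obtain ⟨i, hi⟩ := mem_powers_iff_mem_zpowers.2 (hidx y⁻¹ ⟨w, hw⟩ hyi hwA)
      refine Or.inr ⟨i, ?_⟩
      have h1 : a ^ i = y⁻¹ * ⟨w, hw⟩ := hi
      calc (y : H) * x ^ i = (y : H) * ((a ^ i : (P : Subgroup H)) : H) := rfl
        _ = w := by rw [h1]; simp
  -- `x` is irreducible
  set X : Module.End (ZMod q) V := ρ x with hX
  have hXirr : ∀ W : Submodule (ZMod q) V, (∀ w ∈ W, X w ∈ W) → W = ⊥ ∨ W = ⊤ := by
    by_contra hcon
    push Not at hcon
    have hex : ∃ n, ∃ W : Submodule (ZMod q) V, (∀ w ∈ W, X w ∈ W) ∧ W ≠ ⊥ ∧ W ≠ ⊤ ∧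
        Nat.card W = n := by
      obtain ⟨W, h1, h2, h3⟩ := hcon
      exact ⟨_, W, h1, h2, h3, rfl⟩
    obtain ⟨W, hWX, hWb, hWt, hWc⟩ := Nat.find_spec hex
    have hpow : ∀ U : Submodule (ZMod q) V, (∀ w ∈ U, X w ∈ U) → ∀ i : ℕ, ∀ w ∈ U, ρ (x ^ i) w ∈ U := by
      intro U hU i
      induction i with
      | zero => intro w hw; simpa
      | succ i ih =>
        intro w hw
        rw [pow_succ', map_mul, Module.End.mul_apply]
        exact hU _ (ih w hw)
    set W' := W.map (ρ (y : H)) with hW'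
    have hyy : (y : H) * (y : H) ∈ zpowers x := by
      obtain ⟨i, hi⟩ := mem_powers_iff_mem_zpowers.2 (hidx y y hy hy)
      have hi' : a ^ i = y * y := hi
      exact mem_powers_iff_mem_zpowers.1 ⟨i, congrArg Subtype.val hi'⟩
    have hW'X : ∀ w ∈ W', X w ∈ W' := by
      rintro _ ⟨w, hw, rfl⟩
      -- `x y = y x^i`
      have hmem : (y : H)⁻¹ * x * y ∈ zpowers x := by
        have h0 := hAn.conj_mem a (mem_zpowers a) y⁻¹
        rw [inv_inv] at h0
        obtain ⟨i, hi⟩ := mem_zpowers_iff.1 h0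
        exact mem_zpowers_iff.2 ⟨i, congrArg Subtype.val hi⟩
      obtain ⟨i, hi⟩ := mem_powers_iff_mem_zpowers.2 hmem
      have hi' : x ^ i = (y : H)⁻¹ * x * y := hi
      refine ⟨ρ (x ^ i) w, hpow W hWX i w hw, ?_⟩
      rw [hX, ← Module.End.mul_apply, ← map_mul, ← Module.End.mul_apply, ← map_mul, hi']
      congr 2
      group
    have hW'b : W' ≠ ⊥ := by
      intro e
      apply hWb
      rw [eq_bot_iff]
      intro w hw
      have h1 : ρ (y : H) w ∈ (⊥ : Submodule (ZMod q) V) := e ▸ Submodule.mem_map_of_mem hw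
      rw [Submodule.mem_bot] at h1 ⊢
      simpa [← Module.End.mul_apply, ← map_mul] using congrArg (ρ (y : H)⁻¹) h1
    have hswap : ∀ w ∈ W', ρ (y : H) w ∈ W := by
      rintro _ ⟨w, hw, rfl⟩
      obtain ⟨i, hi⟩ := mem_powers_iff_mem_zpowers.2 hyy
      have hi' : x ^ i = (y : H) * y := hi
      rw [← Module.End.mul_apply, ← map_mul, ← hi']
      exact hpow W hWX i w hw
    have hd : W ⊓ W' = ⊥ := by
      by_contra hne
      have hle : W ≤ W' := by
        by_contra hnle
        have hlt : W ⊓ W' < W := lt_of_le_of_ne inf_le_left fun e => hnle (e ▸ inf_le_right)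
        have hcard : Nat.card ↥(W ⊓ W') < Nat.card W :=
          Set.ncard_lt_ncard (SetLike.coe_ssubset_coe.2 hlt)
        refine Nat.find_min hex (hWc ▸ hcard) ⟨W ⊓ W', fun w hw =>
          ⟨hWX w hw.1, hW'X w hw.2⟩, hne, fun e => hWt (top_le_iff.1 (e.ge.trans inf_le_left)), rfl⟩
      refine (eq_bot_or_top_of_sylow horb hirr P W ?_).elim hWb hWt
      intro w hw v hv
      rcases hPcase w hw with ⟨i, rfl⟩ | ⟨i, rfl⟩
      · exact hpow W hWX i v hv
      · rw [map_mul, Module.End.mul_apply]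
        exact hswap _ (hle (hpow W hWX i v hv))
    refine false_of_pair hirr hnormal hns W W' hWb hW'b hd fun h w hw => ?_
    refine inv_of_sylow horb P (X := {w | w ∈ W ∨ w ∈ W'}) ?_ h hw
    intro t ht v hv
    rcases hPcase t ht with ⟨i, rfl⟩ | ⟨i, rfl⟩
    · exact hv.imp (hpow W hWX i v) (hpow W' hW'X i v)
    · show ρ _ v ∈ W ∨ ρ _ v ∈ W'
      rw [map_mul, Module.End.mul_apply]
      rcases hv with hv | hv
      · exact Or.inr (Submodule.mem_map_of_mem (hpow W hWX i v hv))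
      · exact Or.inl (hswap _ (hpow W' hW'X i v hv))
  -- the field
  let R := (Polynomial.aeval (R := ZMod q) X).range
  have hcommR : ∀ T : R, (T : Module.End (ZMod q) V) * X = X * T := by
    rintro ⟨_, f, rfl⟩
    show Polynomial.aeval X f * X = X * Polynomial.aeval X f
    conv_lhs => arg 2; rw [← Polynomial.aeval_X (R := ZMod q) X]
    conv_rhs => arg 1; rw [← Polynomial.aeval_X (R := ZMod q) X]
    rw [← map_mul, ← map_mul, mul_comm]
  have hRc : ∀ a b : R, a * b = b * a := by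
    rintro ⟨_, f, rfl⟩ ⟨_, f', rfl⟩
    apply Subtype.ext
    show Polynomial.aeval X f * Polynomial.aeval X f' = Polynomial.aeval X f' * Polynomial.aeval X f
    rw [← map_mul, ← map_mul, mul_comm]
  let _ : CommRing R := { (inferInstance : Ring R) with mul_comm := hRc }
  have hRinj : ∀ T : R, T ≠ 0 → Function.Injective (T : Module.End (ZMod q) V) := by
    intro T hT
    rw [← LinearMap.ker_eq_bot]
    refine (hXirr _ fun w hw => ?_).resolve_right fun htop => hT (Subtype.ext (LinearMap.ker_eq_top.1 htop))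
    rw [LinearMap.mem_ker] at hw ⊢
    rw [← Module.End.mul_apply, hcommR, Module.End.mul_apply, hw, map_zero]
  have : NoZeroDivisors R := ⟨fun {a b} hab => or_iff_not_imp_left.2 fun ha => by
    apply Subtype.ext
    refine LinearMap.ext fun w => hRinj a ha ?_
    have := congrArg (fun T : R => (T : Module.End (ZMod q) V) w) hab
    simpa using this⟩
  obtain ⟨v0, hv0⟩ : ∃ v : V, v ≠ 0 := by
    by_contra hh
    push Not at hh
    have h1 : x = 1 := eq_one_of_apply_eq hinj fun w => by rw [hh w, map_zero]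
    rw [h1, orderOf_one] at hxo
    have : 2 ^ 1 ≤ 2 ^ m := Nat.pow_le_pow_right two_pos hm1
    omega
  have : Nontrivial R := ⟨⟨0, 1, fun h01 => hv0 (by
    have h2 : (0 : Module.End (ZMod q) V) = 1 := congrArg Subtype.val h01
    simpa using (congrArg (fun T : Module.End (ZMod q) V => T v0) h2).symm)⟩⟩
  have : IsDomain R := NoZeroDivisors.to_isDomain R
  have hfinR : Finite R := by
    have : Finite (Module.End (ZMod q) V) := Finite.of_injective _ DFunLike.coe_injective
    exact Finite.of_injective _ Subtype.val_injective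
  have := Fintype.ofFinite R
  let _ : Field R := (Finite.isField_of_domain R).toField
  have hcardR : Nat.card R = Nat.card V := by
    let ev : R → V := fun T => (T : Module.End (ZMod q) V) v0
    refine Nat.card_congr (Equiv.ofBijective ev ⟨fun S T h => ?_, ?_⟩)
    · by_contra hne
      apply hv0
      refine hRinj (S - T) (sub_ne_zero.2 hne) ?_
      rw [map_zero]
      show ((S : Module.End (ZMod q) V) - T) v0 = 0
      rw [LinearMap.sub_apply, sub_eq_zero]
      exact h
    · let W : Submodule (ZMod q) V :=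
        LinearMap.range ((LinearMap.applyₗ v0).comp R.val.toLinearMap)
      have hW : W = ⊤ := by
        refine (hXirr W ?_).resolve_left fun e => hv0 ?_
        · rintro _ ⟨T, rfl⟩
          refine ⟨⟨X, ⟨Polynomial.X, Polynomial.aeval_X X⟩⟩ * T, rfl⟩
        · have h1 : v0 ∈ W := ⟨1, rfl⟩
          rwa [e, Submodule.mem_bot] at h1
      intro w
      obtain ⟨T, hT⟩ : w ∈ W := hW ▸ Submodule.mem_top
      exact ⟨T, hT⟩
  -- conjugation by `y` is a power of Frobenius
  let Xr : R := ⟨X, ⟨Polynomial.X, Polynomial.aeval_X X⟩⟩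
  let c : Module.End (ZMod q) V →ₐ[ZMod q] Module.End (ZMod q) V :=
    { toFun := fun T => ρ (y : H) * T * ρ (y : H)⁻¹
      map_one' := by rw [mul_one, ← map_mul, mul_inv_cancel, map_one]
      map_mul' := fun S T => by
        have h1 : ρ (y : H)⁻¹ * ρ (y : H) = 1 := by rw [← map_mul, inv_mul_cancel, map_one]
        calc ρ (y : H) * (S * T) * ρ (y : H)⁻¹
            = ρ (y : H) * S * (1 : Module.End (ZMod q) V) * T * ρ (y : H)⁻¹ := by
              simp only [mul_assoc, one_mul]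
          _ = ρ (y : H) * S * ρ (y : H)⁻¹ * (ρ (y : H) * T * ρ (y : H)⁻¹) := by
              rw [← h1]; simp only [mul_assoc]
      map_zero' := by simp
      map_add' := fun S T => by simp [mul_add, add_mul]
      commutes' := fun k => by
        show ρ (y : H) * algebraMap (ZMod q) _ k * ρ (y : H)⁻¹ = algebraMap (ZMod q) _ k
        rw [← Algebra.commutes k (ρ (y : H)), mul_assoc, ← map_mul, mul_inv_cancel, map_one, mul_one] }
  have hcX : c X = X ^ vn := by
    show ρ (y : H) * ρ x * ρ (y : H)⁻¹ = ρ x ^ vn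
    rw [← map_mul, ← map_mul, hxy, map_pow]
  have hcR : ∀ T : R, c T ∈ R := by
    rintro ⟨_, f, rfl⟩
    refine ⟨f.comp (Polynomial.X ^ vn), ?_⟩
    show Polynomial.aeval X (f.comp (Polynomial.X ^ vn)) = c (Polynomial.aeval X f)
    rw [Polynomial.aeval_comp, Polynomial.aeval_X_pow, ← hcX, Polynomial.aeval_algHom_apply]
  let σ0 : R →ₐ[ZMod q] R := (c.comp R.val).codRestrict R hcR
  have hσinj : Function.Injective σ0 := σ0.toRingHom.injective
  let σ : R ≃ₐ[ZMod q] R := AlgEquiv.ofBijective σ0 (Finite.injective_iff_bijective.1 hσinj)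
  obtain ⟨⟨i, hiD⟩, hi⟩ :=
    (FiniteField.bijective_frobeniusAlgEquivOfAlgebraic_pow (ZMod q) R).2 σ
  obtain ⟨D, hD⟩ : ∃ D, Module.finrank (ZMod q) R = D := ⟨_, rfl⟩
  rw [hD] at hiD
  have hcardD : Nat.card V = q ^ D := by
    rw [← hcardR, ← hD, Nat.card_eq_fintype_card, Module.card_eq_pow_finrank (K := ZMod q) (V := R),
      ZMod.card]
  have hXord : orderOf Xr = 2 ^ m := by
    rw [← hxo]
    refine (orderOf_injective (R.val.toMonoidHom) Subtype.val_injective Xr).symm.trans ?_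
    exact orderOf_injective ρ hinj x
  have hfrob : ∀ (j : ℕ) (T : R),
      (FiniteField.frobeniusAlgEquivOfAlgebraic (ZMod q) R ^ j) T = T ^ q ^ j := by
    intro j T
    rw [AlgEquiv.coe_pow, FiniteField.coe_frobeniusAlgEquivOfAlgebraic_iterate, ZMod.card]
  have hσX : Xr ^ vn = Xr ^ q ^ i := by
    have h1 : σ Xr = Xr ^ vn := Subtype.ext hcX
    rw [← h1, ← hi]
    exact hfrob i Xr
  have hmod : (2 : ℤ) ^ m ∣ (q : ℤ) ^ i - vn := by
    have hpos : 0 < orderOf Xr := by rw [hXord]; positivity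
    have h : vn ≡ q ^ i [MOD orderOf Xr] :=
      pow_injOn_Iio_orderOf (Nat.mod_lt _ hpos) (Nat.mod_lt _ hpos)
        (by simp only [pow_mod_orderOf]; exact hσX)
    rw [hXord] at h
    have h2 := Int.natCast_modEq_iff.2 h
    rw [Int.modEq_iff_dvd] at h2
    push_cast at h2
    exact h2
  have hD2 : D ∣ 2 * i := by
    rw [← hD, ← FiniteField.orderOf_frobeniusAlgEquivOfAlgebraic (ZMod q) R, two_mul]
    apply orderOf_dvd_of_pow_eq_one
    have hsq : ∀ T : R, σ (σ T) = T := by
      intro T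
      apply Subtype.ext
      show ρ (y : H) * (ρ (y : H) * (T : Module.End (ZMod q) V) * ρ (y : H)⁻¹) * ρ (y : H)⁻¹ = T
      obtain ⟨k, hk⟩ := mem_powers_iff_mem_zpowers.2 (hidx y y hy hy)
      have hk' : x ^ k = (y : H) * y := congrArg Subtype.val hk
      have hcomm : ρ ((y : H) * y) * (T : Module.End (ZMod q) V) =
          (T : Module.End (ZMod q) V) * ρ ((y : H) * y) := by
        rw [← hk', map_pow, ← hX]
        exact ((show Commute (T : Module.End (ZMod q) V) X from hcommR T).pow_right k).symm.eq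
      calc ρ (y : H) * (ρ (y : H) * (T : Module.End (ZMod q) V) * ρ (y : H)⁻¹) * ρ (y : H)⁻¹
          = ρ ((y : H) * y) * (T : Module.End (ZMod q) V) * ρ (((y : H) * y)⁻¹) := by
            simp only [map_mul, mul_inv_rev, mul_assoc]
        _ = (T : Module.End (ZMod q) V) := by
            rw [hcomm, mul_assoc, ← map_mul, mul_inv_cancel, map_one, mul_one]
    refine AlgEquiv.ext fun T => ?_
    rw [pow_add]
    show (FiniteField.frobeniusAlgEquivOfAlgebraic (ZMod q) R ^ i)
      ((FiniteField.frobeniusAlgEquivOfAlgebraic (ZMod q) R ^ i) T) = T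
    have hi' : FiniteField.frobeniusAlgEquivOfAlgebraic (ZMod q) R ^ i = σ := hi
    rw [hi', hsq]
  have hxD : (2 : ℤ) ^ m ∣ (q : ℤ) ^ D - 1 := by
    have h1 : Xr ^ (q ^ D - 1) = 1 := by
      have hX0 : Xr ≠ 0 := fun e => by rw [e, orderOf_zero] at hXord; exact (pow_pos two_pos m).ne hXord
      have := FiniteField.pow_card_sub_one_eq_one Xr hX0
      rwa [← Nat.card_eq_fintype_card, hcardR, hcardD] at this
    have h2 := orderOf_dvd_of_pow_eq_one h1
    rw [hXord] at h2
    have h3 := Int.natCast_dvd_natCast.2 h2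
    rw [Nat.cast_sub (Nat.one_le_pow _ _ hqp.pos)] at h3
    push_cast at h3
    exact h3
  obtain ⟨hmq, j, hDj, hjodd⟩ := frobenius_arith hqodd hm2 hvn3 ⟨i, hiD, hmod, hD2⟩ hxD
  have hPle : Nat.card (P : Subgroup H) ≤ 4 * (q + 1) := by
    have h1 := (zpowers a).card_mul_index
    have h2 : (zpowers a).index = 2 := by
      refine index_eq_two_iff.2 ⟨y, fun b => ?_⟩
      by_cases hb : b ∈ zpowers a
      · exact Or.inr ⟨hb, fun e => hy ((Subgroup.mul_mem_cancel_left _ hb).1 e)⟩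
      · exact Or.inl ⟨hidx b y hb hy, hb⟩
    rw [h2, Nat.card_zpowers, hm] at h1
    rw [← h1, ← Nat.sub_add_cancel hm1, pow_succ, mul_assoc]
    have := Nat.le_of_dvd (by omega) hmq
    omega
  -- dimension two
  rcases (show j = 1 ∨ 3 ≤ j by obtain ⟨t, ht⟩ := hjodd; omega) with rfl | hj3
  · rw [hDj, mul_one] at hcardD
    have := Fintype.ofFinite V
    have hfr : Module.finrank (ZMod q) V = 2 := by
      have h := Module.card_eq_pow_finrank (K := ZMod q) (V := V)
      rw [ZMod.card, ← Nat.card_eq_fintype_card, hcardD] at h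
      exact (Nat.pow_right_injective hqp.two_le h).symm
    have hdet : ∀ h : H, LinearMap.det (ρ h) = 1 := by
      intro h
      have : Group.IsSolvable (ZMod q)ˣ := Group.isSolvable_of_comm fun a b => mul_comm a b
      let f : H →* (ZMod q)ˣ :=
        ((LinearMap.det : Module.End (ZMod q) V →* ZMod q).comp ρ).toHomUnits
      exact congrArg Units.val (hom_eq_one hnormal hns f h)
    set S := fixer ρ v0 with hS
    have hStriv : S = ⊥ := by
      rw [eq_bot_iff]
      intro h hh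
      rw [mem_bot]
      obtain ⟨w, hw⟩ : ∃ w, LinearIndependent (ZMod q) ![v0, w] :=
        exists_linearIndependent_pair_of_one_lt_finrank (by omega) hv0
      have hspan : ⊤ ≤ Submodule.span (ZMod q) (Set.range ![v0, w]) :=
        (hw.span_eq_top_of_card_eq_finrank (by simp [hfr])).ge
      let b : Module.Basis (Fin 2) (ZMod q) V := Module.Basis.mk hw hspan
      have hb0 : b 0 = v0 := by simp [b]
      have hb1 : b 1 = w := by simp [b]
      have hmat := hdet h
      rw [← LinearMap.det_toMatrix b, Matrix.det_fin_two] at hmat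
      have hA : ρ h v0 = v0 := hh
      have h00 : LinearMap.toMatrix b b (ρ h) 0 0 = 1 := by
        rw [LinearMap.toMatrix_apply, hb0, hA, ← hb0, Module.Basis.repr_self]; simp
      have h10 : LinearMap.toMatrix b b (ρ h) 1 0 = 0 := by
        rw [LinearMap.toMatrix_apply, hb0, hA, ← hb0, Module.Basis.repr_self]; simp
      rw [h00, h10, mul_zero, sub_zero, one_mul, LinearMap.toMatrix_apply, hb1] at hmat
      set cc := b.repr (ρ h w) 0 with hcc
      have hdec : ρ h w = cc • v0 + w := by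
        conv_lhs => rw [← b.sum_repr (ρ h w)]
        rw [Fin.sum_univ_two, hb0, hb1, hmat, one_smul]
      have hit : ∀ k : ℕ, ρ (h ^ k) w = (k : ZMod q) • cc • v0 + w := by
        intro k
        induction k with
        | zero => simp
        | succ k ih =>
          rw [pow_succ', map_mul, Module.End.mul_apply, ih, map_add, map_smul, map_smul, hA, hdec]
          push_cast
          rw [add_smul, one_smul, add_assoc]
      have h1 := hit (orderOf h)
      rw [pow_orderOf_eq_one, map_one, Module.End.one_apply, right_eq_add, smul_eq_zero] at h1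
      have hcc0 : cc • v0 = 0 := h1.resolve_left
        (natCast_ne_zero fun hd => hq (hd.trans (_root_.orderOf_dvd_natCard h)))
      refine eq_one_of_apply_eq hinj fun z => ?_
      rw [← b.sum_repr z, Fin.sum_univ_two, map_add, map_smul, map_smul, hb0, hb1, hA, hdec, hcc0,
        zero_add]
    obtain ⟨k, hk⟩ := horb v0
    rw [← hS, hStriv, index_bot] at hk
    exact hns (CfsgLib.StructB.Kazarin.isSolvable_of_forall_prime_dvd Nat.prime_two Nat.prime_two
      fun r hr hd => Or.inl ((Nat.prime_dvd_prime_iff_eq hr Nat.prime_two).1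
        (hr.dvd_of_dvd_pow (hk ▸ hd))))
  -- a pair of odd elements without common fixed vectors
  set z := x ^ 2 ^ (m - 1) with hz
  have hzo : orderOf z = 2 := by
    rw [hz, orderOf_pow' _ (pow_pos two_pos _).ne', hxo,
      Nat.gcd_eq_right (pow_dvd_pow 2 (Nat.sub_le m 1)), Nat.pow_div (Nat.sub_le m 1) two_pos,
      show m - (m - 1) = 1 by omega, pow_one]
  have hzfix : fixedSub ρ (zpowers z : Set H) = ⊥ := by
    rw [eq_bot_iff]
    intro w hw
    rw [Submodule.mem_bot]
    by_contra hw0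
    have h1 : ρ z w = w := hw z (mem_zpowers z)
    have hz1 : z = 1 := by
      have hRz : (Xr ^ 2 ^ (m - 1) - 1 : R) = 0 := by
        by_contra hne
        apply hw0
        refine hRinj _ hne ?_
        rw [map_zero]
        show ((X ^ 2 ^ (m - 1) - 1 : Module.End (ZMod q) V)) w = 0
        rw [LinearMap.sub_apply, Module.End.one_apply, hX, ← map_pow, ← hz, h1, sub_self]
      have h2 := congrArg Subtype.val (sub_eq_zero.1 hRz)
      exact hinj (by rw [map_one, hz, map_pow]; exact h2)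
    rw [hz1, orderOf_one] at hzo
    omega
  obtain ⟨D0, hD0, g0, hg0, hg0p, hg0c⟩ : ∃ D : Subgroup H, IsPGroup 2 D ∧ ∃ g ∈ normalizer (D : Set H),
      (orderOf g).Coprime 2 ∧ g ∉ centralizer (D : Set H) := by
    by_contra hc
    push Not at hc
    exact hnotcompl (CfsgLib.Transfer.hasNormalPComplement_iff_frobenius.2 hc)
  obtain ⟨g1, r, k, hg1z, hr, hg1o, hg1c⟩ : ∃ (g : H) (r k : ℕ), g ∈ zpowers g0 ∧ r.Prime ∧
      orderOf g = r ^ k ∧ g ∉ centralizer (D0 : Set H) := by
    by_contra hc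
    push Not at hc
    exact hg0c (CfsgLib.StructB.Kazarin.mem_of_prime_pow_powers g0 fun z q' m' h1 h2 h3 =>
      hc z q' m' h1 h2 h3)
  have hr2 : r ≠ 2 := by
    intro e
    subst e
    apply hg1c
    have hd : orderOf g1 ∣ orderOf g0 := by
      obtain ⟨i, rfl⟩ := mem_powers_iff_mem_zpowers.2 hg1z
      exact orderOf_pow_dvd i
    rcases Nat.eq_zero_or_pos k with rfl | hk
    · rw [pow_zero, orderOf_eq_one_iff] at hg1o
      rw [hg1o]; exact one_mem _
    · exfalso
      rw [hg1o] at hd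
      have := Nat.prime_two.not_dvd_one
      exact this (hg0p ▸ Nat.dvd_gcd ((dvd_pow_self 2 hk.ne').trans hd) dvd_rfl)
  -- conjugate into the Sylow subgroup
  obtain ⟨Q, hQ⟩ := hD0.exists_le_sylow
  obtain ⟨t, ht⟩ := MulAction.exists_smul_eq H Q P
  set g := t * g1 * t⁻¹ with hg
  obtain ⟨d, hdD, hdg⟩ : ∃ d ∈ (D0 : Set H), ¬ d * g1 = g1 * d := by
    by_contra hc
    push Not at hc
    exact hg1c (mem_centralizer_iff.2 hc)
  have hgn0 : g1 ∈ normalizer (D0 : Set H) := (zpowers_le.2 hg0) hg1z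
  have hmapP : ∀ w ∈ D0, t * w * t⁻¹ ∈ (P : Subgroup H) := by
    intro w hw
    rw [← ht, Sylow.coe_subgroup_smul, mem_pointwise_smul_iff_inv_smul_mem]
    simpa [MulAut.smul_def, mul_assoc] using hQ hw
  set u1 := t * d * t⁻¹ with hu1
  set f := u1 * g * u1⁻¹ * g⁻¹ with hf
  have hf0 : f = t * (d * g1 * d⁻¹ * g1⁻¹) * t⁻¹ := by rw [hf, hu1, hg]; group
  have hfD : d * g1 * d⁻¹ * g1⁻¹ ∈ D0 := by
    have e : d * g1 * d⁻¹ * g1⁻¹ = d * (g1 * d⁻¹ * g1⁻¹) := by group
    rw [e]
    exact mul_mem hdD ((mem_normalizer_iff.1 hgn0 _).1 (inv_mem hdD))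
  have hfP : f ∈ (P : Subgroup H) := by rw [hf0]; exact hmapP _ hfD
  have hfP' : g * f * g⁻¹ ∈ (P : Subgroup H) := by
    have e : g * f * g⁻¹ = t * (g1 * (d * g1 * d⁻¹ * g1⁻¹) * g1⁻¹) * t⁻¹ := by rw [hf0, hg]; group
    rw [e]
    exact hmapP _ ((mem_normalizer_iff.1 hgn0 _).1 hfD)
  have hf1 : f ≠ 1 := by
    intro e
    apply hdg
    have h1 : d * g1 * d⁻¹ * g1⁻¹ = 1 := by
      calc d * g1 * d⁻¹ * g1⁻¹ = t⁻¹ * f * t := by rw [hf0]; group
        _ = 1 := by rw [e]; group
    calc d * g1 = (d * g1 * d⁻¹ * g1⁻¹) * g1 * d := by group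
      _ = g1 * d := by rw [h1, one_mul]
  have hgo : orderOf g = r ^ k := by
    rw [hg, ← MulAut.conj_apply, MulEquiv.orderOf_eq, hg1o]
  have hcommfix : ∀ w : V, ρ g w = w → ρ (u1 * g * u1⁻¹) w = w →
      ∀ b ∈ Subgroup.closure ({f, g} : Set H), ρ b w = w := by
    intro w h1 h2 b hb
    refine (closure_le (K := fixer ρ w)).2 ?_ hb
    have hgf : g ∈ fixer ρ w := h1
    rintro _ (rfl | rfl)
    · exact mul_mem (show u1 * g * u1⁻¹ ∈ fixer ρ w from h2) (inv_mem hgf)
    · exact hgf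
  have hzmem : z ∈ Subgroup.closure ({f, g} : Set H) := by
    -- a nontrivial element of `⟨x⟩` inside
    have key : ∀ w ∈ Subgroup.closure ({f, g} : Set H), w ∈ zpowers x → w ≠ 1 →
        z ∈ Subgroup.closure ({f, g} : Set H) := by
      intro w hwL hwx hw1
      obtain ⟨l, hl⟩ := (Nat.dvd_prime_pow Nat.prime_two).1 (hxo ▸ (by
        obtain ⟨i, rfl⟩ := mem_powers_iff_mem_zpowers.2 hwx
        exact orderOf_pow_dvd i : orderOf w ∣ orderOf x))
      have hl0 : l ≠ 0 := fun e => hw1 (orderOf_eq_one_iff.1 (by rw [hl.2, e, pow_zero]))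
      obtain ⟨i, rfl⟩ := mem_powers_iff_mem_zpowers.2 hwx
      have hz2 : ((x ^ i) ^ 2 ^ (l - 1)) = z := by
        have ho : orderOf ((x ^ i) ^ 2 ^ (l - 1)) = 2 := by
          rw [orderOf_pow' _ (pow_pos two_pos _).ne', hl.2,
            Nat.gcd_eq_right (pow_dvd_pow 2 (Nat.sub_le l 1)), Nat.pow_div (Nat.sub_le l 1) two_pos,
            show l - (l - 1) = 1 by omega, pow_one]
        have hmem : (x ^ i) ^ 2 ^ (l - 1) ∈ zpowers x := pow_mem (pow_mem (mem_zpowers x) i) _
        obtain ⟨jj, hjj⟩ := mem_powers_iff_mem_zpowers.2 hmem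
        have hjj' : x ^ jj = (x ^ i) ^ 2 ^ (l - 1) := hjj
        rw [← hjj'] at ho ⊢
        have h2 : 2 ^ m ∣ jj * 2 := by
          rw [← hxo, orderOf_dvd_iff_pow_eq_one, pow_mul, ← ho, pow_orderOf_eq_one]
        obtain ⟨cj, hcj⟩ : 2 ^ (m - 1) ∣ jj := by
          refine Nat.dvd_of_mul_dvd_mul_right two_pos ?_
          rwa [← pow_succ, Nat.sub_add_cancel hm1]
        rcases Nat.even_or_odd cj with ⟨c', hc'⟩ | ⟨c', hc'⟩
        · exfalso
          have : x ^ jj = 1 := by
            rw [← orderOf_dvd_iff_pow_eq_one, hxo, hcj, hc', ← Nat.sub_add_cancel hm1, pow_succ,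
              Nat.add_sub_cancel, ← two_mul, ← mul_assoc]
            exact dvd_mul_right _ _
          rw [this, orderOf_one] at ho
          omega
        · rw [hcj, hc', mul_add, mul_one, pow_add, ← mul_assoc, ← pow_succ,
            Nat.sub_add_cancel hm1, ← hxo, pow_mul, pow_orderOf_eq_one, one_pow, one_mul]
      rw [← hz2]
      exact pow_mem hwL _
    have hfL : f ∈ Subgroup.closure ({f, g} : Set H) := subset_closure (by simp)
    have hgL : g ∈ Subgroup.closure ({f, g} : Set H) := subset_closure (by simp)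
    have hmemA : ∀ w (hw : w ∈ (P : Subgroup H)), (⟨w, hw⟩ : (P : Subgroup H)) ∈ zpowers a →
        w ∈ zpowers x := by
      intro w hw h
      obtain ⟨i, hi⟩ := mem_zpowers_iff.1 h
      exact mem_zpowers_iff.2 ⟨i, congrArg Subtype.val hi⟩
    by_cases h1 : (⟨f, hfP⟩ : (P : Subgroup H)) ∈ zpowers a
    · exact key f hfL (hmemA f hfP h1) hf1
    have hfL' : g * f * g⁻¹ ∈ Subgroup.closure ({f, g} : Set H) :=
      mul_mem (mul_mem hgL hfL) (inv_mem hgL)
    have hne' : g * f * g⁻¹ ≠ 1 := fun e => hf1 (by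
      calc f = g⁻¹ * (g * f * g⁻¹) * g := by group
        _ = 1 := by rw [e]; group)
    by_cases h2 : (⟨_, hfP'⟩ : (P : Subgroup H)) ∈ zpowers a
    · exact key _ hfL' (hmemA _ hfP' h2) hne'
    refine key (g * f * g⁻¹ * f⁻¹) (mul_mem hfL' (inv_mem hfL))
      (hmemA _ (mul_mem hfP' (inv_mem hfP))
        (hidx _ _ h2 fun e => h1 ((zpowers a).inv_mem_iff.1 e))) ?_
    intro e
    -- `g` would commute with `f`
    have hgf : Commute g f := mul_inv_eq_iff_eq_mul.1 (mul_inv_eq_one.1 e)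
    obtain ⟨l, hl⟩ := IsPGroup.iff_orderOf.1 P.2 ⟨f, hfP⟩
    rw [Subgroup.orderOf_mk] at hl
    have h3 : orderOf (f * g) = orderOf f * orderOf g := by
      refine hgf.symm.orderOf_mul_eq_mul_orderOf_of_coprime ?_
      rw [hl, hgo]
      exact Nat.Coprime.pow _ _ ((Nat.coprime_primes Nat.prime_two hr).2 (Ne.symm hr2))
    have h4 : orderOf (f * g) = orderOf g := by
      rw [show f * g = u1 * g * u1⁻¹ by rw [hf]; group, ← MulAut.conj_apply, MulEquiv.orderOf_eq]
    rw [h4, hl] at h3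
    rcases Nat.eq_zero_or_pos l with rfl | hlpos
    · exact hf1 (orderOf_eq_one_iff.1 (by rw [hl, pow_zero]))
    · have h5 : 2 ≤ 2 ^ l := Nat.le_self_pow hlpos.ne' 2
      nlinarith [orderOf_pos g]
  -- counting
  set C := fixedSub ρ ({g} : Set H) with hC
  have hCmem : ∀ w, w ∈ C ↔ ρ g w = w := fun w => by simp [hC, mem_fixedSub]
  have hcc : Nat.card C * Nat.card C ≤ Nat.card V := by
    let Φ : C × C → V := fun p => (p.1 : V) + ρ u1 (p.2 : V)
    have hΦ : Function.Injective Φ := by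
      rintro ⟨c1, c2⟩ ⟨d1, d2⟩ h
      have h' : (c1 : V) - d1 = ρ u1 ((d2 : V) - c2) := by
        rw [map_sub, sub_eq_sub_iff_add_eq_add, add_comm ((c1 : V)), ← sub_eq_zero]
        have h0 : (c1 : V) + ρ u1 (c2 : V) = (d1 : V) + ρ u1 (d2 : V) := h
        rw [add_comm (ρ u1 (c2 : V)), h0, add_comm, sub_self]
      have hfix : (c1 : V) - d1 ∈ fixedSub ρ (zpowers z : Set H) := by
        intro b hb
        refine hcommfix _ ?_ ?_ b ((zpowers_le.2 hzmem) hb)
        · exact (hCmem _).1 (sub_mem c1.2 d1.2)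
        · rw [h', ← Module.End.mul_apply, ← map_mul, inv_mul_cancel_right, map_mul,
            Module.End.mul_apply, (hCmem _).1 (sub_mem d2.2 c2.2)]
      rw [hzfix, Submodule.mem_bot] at hfix
      rw [hfix] at h'
      have h2 : (d2 : V) - c2 = 0 := by
        simpa [← Module.End.mul_apply, ← map_mul] using (congrArg (ρ u1⁻¹) h').symm
      exact Prod.ext (Subtype.ext (sub_eq_zero.1 hfix)) (Subtype.ext (sub_eq_zero.1 h2).symm)
    have := Nat.card_le_card_of_injective Φ hΦ
    rwa [Nat.card_prod] at this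
  have hcount : Nat.card V - 1 ≤ Nat.card (P : Subgroup H) * (Nat.card C - 1) := by
    have := Fintype.ofFinite V
    have := Fintype.ofFinite C
    have hsurj : ∀ w : {w : V // w ≠ 0}, ∃ p : ↥(P : Subgroup H) × {c : C // c ≠ 0},
        ρ (p.1 : H) (p.2.1 : V) = w := by
      rintro ⟨w, hw⟩
      have : Fact r.Prime := ⟨hr⟩
      obtain ⟨e, he⟩ := horb w
      set S := fixer ρ w
      have hgp : IsPGroup r (zpowers g) := IsPGroup.of_card (n := k) (by rw [Nat.card_zpowers, hgo])
      have hnd : ¬ r ∣ Nat.card (H ⧸ S) := by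
        rw [← index_eq_card, he]
        exact fun hd => hr2 ((Nat.prime_dvd_prime_iff_eq hr Nat.prime_two).1 (hr.dvd_of_dvd_pow hd))
      obtain ⟨cs, hcs⟩ := hgp.nonempty_fixed_point_of_prime_not_dvd_card (H ⧸ S) hnd
      induction cs using QuotientGroup.induction_on with
      | H b =>
        have h1 : ((g * b : H) : H ⧸ S) = ((b : H) : H ⧸ S) := hcs ⟨g, mem_zpowers g⟩
        rw [eq_comm, QuotientGroup.eq] at h1
        have hb : ρ g (ρ b w) = ρ b w := by
          have h2 : ρ (b⁻¹ * (g * b)) w = w := h1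
          conv_rhs => rw [← h2]
          rw [← Module.End.mul_apply, ← map_mul, ← Module.End.mul_apply, ← map_mul,
            mul_inv_cancel_left]
        have hne : ρ b w ≠ 0 := fun e0 => hw (by
          simpa [← Module.End.mul_apply, ← map_mul] using congrArg (ρ b⁻¹) e0)
        obtain ⟨s, hs, hse⟩ := exists_sylow_apply horb P (ρ b w) b⁻¹
        refine ⟨(⟨s, hs⟩, ⟨⟨ρ b w, (hCmem _).2 hb⟩, fun e0 => hne (congrArg Subtype.val e0)⟩), ?_⟩
        show ρ s (ρ b w) = w
        rw [← hse, ← Module.End.mul_apply, ← map_mul, inv_mul_cancel, map_one, Module.End.one_apply]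
    choose F hF using hsurj
    have hle := Nat.card_le_card_of_injective F fun a b hab => Subtype.ext (by
      rw [← hF a, ← hF b, hab])
    rw [Nat.card_prod] at hle
    have h1 : Nat.card {w : V // w ≠ 0} = Nat.card V - 1 := by
      rw [Nat.card_eq_fintype_card, Fintype.card_subtype_compl, Fintype.card_subtype_eq,
        Nat.card_eq_fintype_card]
    have h2 : Nat.card {w : C // w ≠ 0} = Nat.card C - 1 := by
      rw [Nat.card_eq_fintype_card, Fintype.card_subtype_compl, Fintype.card_subtype_eq,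
        ← Nat.card_eq_fintype_card]
    rwa [h1, h2] at hle
  -- final arithmetic
  rw [hcardD] at hcc hcount
  obtain ⟨n, hn⟩ : ∃ n, Nat.card (P : Subgroup H) = n := ⟨_, rfl⟩
  obtain ⟨c', hc'⟩ : ∃ c', Nat.card C = c' + 1 := ⟨Nat.card C - 1, by
    have := Nat.card_pos (α := C); omega⟩
  rw [hn, hc', Nat.add_sub_cancel] at hcount
  rw [hc'] at hcc
  rw [hn] at hPle
  have hN3 : q * q * (q * q) * (q * q) ≤ q ^ D := by
    rw [show q * q * (q * q) * (q * q) = q ^ 6 by ring]
    exact Nat.pow_le_pow_right hqp.pos (by omega)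
  generalize q ^ D = N at hcc hcount hN3
  have hq9 : 9 ≤ q * q := Nat.mul_le_mul hq3 hq3
  have hqq : q ≤ q * q := Nat.le_mul_self q
  have hN1 : 1 ≤ N := le_trans (by nlinarith) hN3
  have hc1 : 0 < c' := by
    by_contra hc0
    rw [show c' = 0 by omega, mul_zero] at hcount
    have : 2 ≤ N := le_trans (by nlinarith) hN3
    omega
  have hn2 : c' + 2 ≤ n := by
    have h1 : (c' + 1) * (c' + 1) ≤ n * c' + 1 := by omega
    nlinarith
  have hn3 : N + n ≤ n * n := by
    have h1 : N ≤ n * c' + 1 := by omega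
    nlinarith
  nlinarith

end CfsgLib.StructB.PPowerOrbit
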