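import Cfsg.Agent.Lib.StructB.PPowerOdd
import Cfsg.Agent.Lib.StructB.PPowerTwo

/-!
A coprime linear group all of whose orbits have size a power of one prime is solvable.
-/

set_option autoImplicit false

namespace CfsgLib.StructB.PPowerOrbit

open Subgroup

universe u v

variable {H : Type u} [Group H] {q : ℕ} {V : Type v} [AddCommGroup V] [Module (ZMod q) V]

/-- The restriction to an invariant subspace. -/
noncomputable def subRep (ρ : Representation (ZMod q) H V) (W : Submodule (ZMod q) V)
    (hW : ∀ h : H, ∀ w ∈ W, ρ h w ∈ W) : Representation (ZMod q) H W where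
  toFun h := (ρ h).restrict (hW h)
  map_one' := by
    ext w
    simp
  map_mul' a b := by
    ext w
    simp

theorem coe_subRep_apply (ρ : Representation (ZMod q) H V) (W : Submodule (ZMod q) V)
    (hW : ∀ h : H, ∀ w ∈ W, ρ h w ∈ W) (h : H) (w : W) :
    ((subRep ρ W hW h w : W) : V) = ρ h w := rfl

/-- Divisibility of the index of an intersection with a normal subgroup. -/
theorem relIndex_dvd_index [Finite H] (S N : Subgroup H) [N.Normal] : S.relIndex N ∣ S.index := by
  have h1 := relIndex_mul_index (inf_le_right : S ⊓ N ≤ N)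
  have h2 := relIndex_mul_index (inf_le_left : S ⊓ N ≤ S)
  rw [inf_relIndex_right] at h1
  rw [inf_relIndex_left] at h2
  obtain ⟨k, hk⟩ := relIndex_dvd_index_of_normal N S
  have hz : N.relIndex S ≠ 0 := fun e =>
    index_ne_zero_of_finite (H := N) (by rw [hk, e, zero_mul])
  refine Dvd.intro k (Nat.eq_of_mul_eq_mul_left (Nat.pos_of_ne_zero hz) ?_)
  rw [h2, ← h1, hk]
  ring

variable [Fact q.Prime] {p : ℕ} [Fact p.Prime]

theorem isSolvable_aux (n : ℕ) : ∀ (H : Type u) [Group H] [Finite H] (V : Type v) [AddCommGroup V]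
    [Module (ZMod q) V] [Finite V] (ρ : Representation (ZMod q) H V),
    Nat.card H + Nat.card V ≤ n → ¬ q ∣ Nat.card H → Function.Injective ρ →
    (∀ w, ∃ a, (fixer ρ w).index = p ^ a) → Group.IsSolvable H := by
  induction n using Nat.strong_induction_on with
  | _ n ih =>
  intro H _ _ V _ _ _ ρ hn hq hinj horb
  by_contra hns
  have hp : p.Prime := Fact.out
  -- proper normal subgroups
  have hnormal : ∀ N : Subgroup H, N.Normal → N ≠ ⊤ → Group.IsSolvable N := by
    intro N hN hNt
    have hlt : Nat.card N < Nat.card H := by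
      refine lt_of_le_of_ne (Nat.le_of_dvd Nat.card_pos N.card_subgroup_dvd_card) fun e => ?_
      exact hNt (Subgroup.eq_top_of_card_eq N e)
    refine ih (Nat.card N + Nat.card V) (by omega) N V (ρ.comp N.subtype) le_rfl
      (not_dvd_card_subgroup hq N) (hinj.comp Subtype.val_injective) fun w => ?_
    obtain ⟨a, ha⟩ := horb w
    have h1 : (fixer (ρ.comp N.subtype) w).index ∣ p ^ a := by
      have h2 : fixer (ρ.comp N.subtype) w = (fixer ρ w).subgroupOf N := rfl
      rw [h2, ← ha]
      exact relIndex_dvd_index _ N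
    obtain ⟨b, -, hb⟩ := (Nat.dvd_prime_pow hp).1 h1
    exact ⟨b, hb⟩
  -- proper invariant subspaces with a nontrivial action
  have hstep : ∀ (W : Submodule (ZMod q) V) (hW : ∀ h : H, ∀ w ∈ W, ρ h w ∈ W), W ≠ ⊤ →
      ∀ h : H, ∀ w ∈ W, ρ h w = w := by
    intro W hW hWt h w hw
    by_contra hne
    obtain ⟨σ, hσ⟩ : ∃ σ : Representation (ZMod q) H W, ∀ g (x : W), ((σ g x : W) : V) = ρ g x :=
      ⟨subRep ρ W hW, fun g x => coe_subRep_apply ρ W hW g x⟩
    have hK : σ.ker ≠ ⊤ := by
      intro e
      apply hne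
      have h1 : σ h = 1 := MonoidHom.mem_ker.1 (e ▸ mem_top h)
      have h2 : σ h ⟨w, hw⟩ = ⟨w, hw⟩ := by rw [h1]; rfl
      rw [← hσ h ⟨w, hw⟩, h2]
    have := hnormal σ.ker inferInstance hK
    have hlt : Nat.card W < Nat.card V := by
      refine lt_of_le_of_ne (Nat.card_le_card_of_injective _ Subtype.val_injective) fun e => ?_
      have hb : Function.Bijective (fun x : W => (x : V)) :=
        Subtype.val_injective.bijective_of_nat_card_le e.ge
      exact hWt (Submodule.eq_top_iff'.2 fun x => by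
        obtain ⟨y, rfl⟩ := hb.2 x
        exact y.2)
    have hle : Nat.card (H ⧸ σ.ker) ≤ Nat.card H :=
      Nat.card_le_card_of_surjective _ QuotientGroup.mk_surjective
    have hq' : ¬ q ∣ Nat.card (H ⧸ σ.ker) := fun hd =>
      hq (hd.trans (Subgroup.card_quotient_dvd_card _))
    obtain ⟨τ, hτ⟩ : ∃ τ : Representation (ZMod q) (H ⧸ σ.ker) W,
        ∀ g : H, τ (g : H ⧸ σ.ker) = σ g :=
      ⟨QuotientGroup.lift σ.ker σ le_rfl, fun g => rfl⟩
    have hτinj : Function.Injective τ := by
      rw [injective_iff_map_eq_one]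
      intro a ha
      induction a using QuotientGroup.induction_on with
      | H g => exact (QuotientGroup.eq_one_iff g).2 (MonoidHom.mem_ker.2 (by rw [← hτ, ha]))
    have hτorb : ∀ x : W, ∃ a, (fixer τ x).index = p ^ a := by
      intro x
      obtain ⟨a, ha⟩ := horb (x : V)
      refine ⟨a, ?_⟩
      rw [← ha, ← index_comap_of_surjective (fixer τ x) (QuotientGroup.mk'_surjective σ.ker)]
      congr 1
      ext g
      rw [mem_comap, mem_fixer, mem_fixer, QuotientGroup.mk'_apply, hτ, ← hσ, Subtype.ext_iff]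
    have : Group.IsSolvable (H ⧸ σ.ker) :=
      ih (Nat.card (H ⧸ σ.ker) + Nat.card W) (by omega) (H ⧸ σ.ker) W τ le_rfl hq' hτinj hτorb
    exact hns (Group.isSolvable_of_ker_le_range σ.ker.subtype (QuotientGroup.mk' σ.ker) (by simp))
  -- reducible actions
  have hirr : ∀ W : Submodule (ZMod q) V, (∀ h : H, ∀ w ∈ W, ρ h w ∈ W) → W = ⊥ ∨ W = ⊤ := by
    intro W hW
    by_contra hc
    push Not at hc
    have hfix := hstep W hW hc.2
    let F := LinearMap.ker (avg ρ (⊤ : Subgroup H))
    have hF : ∀ h : H, ∀ w ∈ F, ρ h w ∈ F := by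
      intro h w hw
      rw [LinearMap.mem_ker] at hw ⊢
      rw [avg_comm ρ ⊤ (le_normalizer (mem_top h)), hw, map_zero]
    have hqt : ¬ q ∣ Nat.card (⊤ : Subgroup H) := not_dvd_card_subgroup hq ⊤
    have hFt : F ≠ ⊤ := by
      intro e
      obtain ⟨w, hw, hw0⟩ := Submodule.exists_mem_ne_zero_of_ne_bot hc.1
      have h1 : avg ρ (⊤ : Subgroup H) w = 0 := LinearMap.mem_ker.1 (e ▸ Submodule.mem_top : w ∈ F)
      exact hw0 ((avg_eq_self ρ ⊤ hqt (fun a _ => hfix a w hw)).symm.trans h1)
    have hFfix := hstep F hF hFt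
    refine hns (Group.isSolvable_of_comm fun a b => ?_)
    have : ∀ h : H, h = 1 := fun h => eq_one_of_apply_eq hinj fun w => by
      have h1 : w - avg ρ (⊤ : Subgroup H) w ∈ F := by
        rw [LinearMap.mem_ker, map_sub, avg_eq_self ρ ⊤ hqt (avg_mem ρ ⊤ w), sub_self]
      have h2 := hFfix h _ h1
      rw [map_sub, apply_avg ρ ⊤ (mem_top h)] at h2
      exact sub_left_inj.1 h2
    rw [this a, this b]
  -- irreducible actions
  by_cases hp2 : p = 2
  · subst hp2
    exact false_of_two hq hinj horb hirr hnormal hns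
  · exact false_of_odd hp2 hq hinj horb hirr hnormal hns

/-- A group acting faithfully and coprimely on a vector space of characteristic `q` is solvable if
all its orbits have size a power of the prime `p`. -/
theorem isSolvable [Finite H] [Finite V] (ρ : Representation (ZMod q) H V) (hq : ¬ q ∣ Nat.card H)
    (hinj : Function.Injective ρ) (horb : ∀ w, ∃ a, (fixer ρ w).index = p ^ a) :
    Group.IsSolvable H :=
  isSolvable_aux _ H V ρ le_rfl hq hinj horb

end CfsgLib.StructB.PPowerOrbit
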