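import Cfsg.Agent.S4072
import Cfsg.Agent.Lib.Invol.CAInvol
import Cfsg.Agent.Lib.Invol.Basic
import Cfsg.Agent.Lib.Char.CASimple
import Cfsg.Agent.Lib.Char.Column

/-!
# Simple groups all of whose non-abelian subgroups are self-normalizing

Such a group has abelian centralizers, and its involution centralizers are elementary abelian.
-/

set_option autoImplicit false

namespace CfsgLib.StructB.SelfNorm

open Subgroup
open Cfsg.Agent.S4072 (Good good_subgroup normal_comm perfect_normal_central center_eq_bot commute_of)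

universe u

variable {G : Type u} [Group G] [Finite G]

theorem commutator_eq_top [IsSimpleGroup G] (hna : ¬ IsMulCommutative G) : commutator G = ⊤ :=
  (IsSimpleGroup.eq_bot_or_eq_top_of_normal (commutator G) inferInstance).resolve_left fun e =>
    hna ⟨⟨fun a b => by
      have h := Subgroup.commutator_mem_commutator (Subgroup.mem_top a) (Subgroup.mem_top b)
      rw [← _root_.commutator_def, e, mem_bot] at h
      exact commutatorElement_eq_one_iff_mul_comm.1 h⟩⟩

/-- A counterexample to Frobenius' criterion forces an abelian Sylow subgroup. -/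
theorem isMulCommutative_sylow [IsSimpleGroup G] (hG : Good G) (hna : ¬ IsMulCommutative G) {p : ℕ}
    [hp : Fact p.Prime] (P : Sylow p G) : IsMulCommutative (P : Subgroup G) := by
  classical
  by_contra hP
  have hperf := commutator_eq_top hna
  have hpd : p ∣ Nat.card G := by
    by_contra hd
    apply hP
    have : (P : Subgroup G) = ⊥ := by
      rw [← card_eq_one]
      obtain ⟨k, hk⟩ := IsPGroup.iff_card.1 P.2
      rcases Nat.eq_zero_or_pos k with rfl | hk0
      · simpa using hk
      · exact absurd ((dvd_pow_self p hk0.ne').trans (hk ▸ card_subgroup_dvd_card _)) hd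
    rw [this]; infer_instance
  refine CfsgLib.Transfer.not_hasNormalPComplement_of_simple hna hpd ?_
  rw [CfsgLib.Transfer.hasNormalPComplement_iff_frobenius]
  by_contra hbad
  push Not at hbad
  obtain ⟨D, ⟨hDp, g, hgN, hgp, hgC⟩, hmax⟩ := Set.Finite.exists_maximalFor id
    {D : Subgroup G | IsPGroup p D ∧ ∃ g ∈ normalizer (D : Set G), (orderOf g).Coprime p ∧
      g ∉ centralizer (D : Set G)} (Set.toFinite _) hbad
  have hDab : IsMulCommutative D := by
    by_contra h
    rw [hG D h] at hgN
    obtain ⟨k, hk⟩ := IsPGroup.iff_orderOf.1 hDp ⟨g, hgN⟩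
    rw [Subgroup.orderOf_mk] at hk
    rw [hk] at hgp
    rcases Nat.eq_zero_or_pos k with rfl | hk0
    · rw [pow_zero, orderOf_eq_one_iff] at hk
      exact hgC (by rw [hk]; exact one_mem _)
    · exact hp.out.ne_one ((Nat.coprime_self p).1 ((Nat.coprime_pow_left_iff hk0 p p).1 hgp))
  set M := normalizer (D : Set G) with hM
  have hDM : D ≤ M := le_normalizer
  have hgnc : ¬ D.subgroupOf M ≤ center M := fun h => hgC (mem_centralizer_iff.2 fun d hd => by
    have := mem_center_iff.1 (h (show (⟨d, hDM hd⟩ : M) ∈ D.subgroupOf M from hd)) ⟨g, hgN⟩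
    exact (congrArg Subtype.val this).symm)
  have hDne : D.subgroupOf M ≠ ⊤ := fun h => by
    have hgD : (⟨g, hgN⟩ : M) ∈ D.subgroupOf M := h ▸ mem_top _
    exact hgC (mem_centralizer_iff.2 fun d hd => commute_of D hDab hd hgD)
  have := normal_in_normalizer (H := D)
  have hMperf : commutator M ≠ ⊤ := fun h => hgnc (perfect_normal_central (good_subgroup hG M) h _ hDne)
  obtain ⟨A, hA, hcA⟩ := (eq_top_or_exists_le_coatom (commutator M)).resolve_left hMperf
  have hAn : A.Normal := ⟨fun a ha m => by
    have h1 := hcA (commutator_mem_commutator (mem_top m) (mem_top a))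
    have h2 := mul_mem h1 ha
    rwa [commutatorElement_def, inv_mul_cancel_right] at h2⟩
  have hAab := normal_comm (good_subgroup hG M) A hA.1
  set g' : M := ⟨g, hgN⟩
  by_cases hgA : g' ∈ A
  · apply hgC
    rw [mem_centralizer_iff]
    intro d hd
    set d' : M := ⟨d, hDM hd⟩
    set c := g' * d' * g'⁻¹ * d'⁻¹ with hc
    have hcA' : c ∈ A := by
      rw [hc, mul_assoc (g' * d'), mul_assoc g']
      have : d' * (g'⁻¹ * d'⁻¹) ∈ A := by
        rw [← mul_assoc]; exact hAn.conj_mem _ (inv_mem hgA) d'
      exact mul_mem hgA this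
    have hcD : (c : G) ∈ D :=
      mul_mem ((mem_normalizer_iff.1 hgN d).1 hd) (inv_mem hd)
    have hgc : Commute g' c := commute_of A hAab hgA hcA'
    have hpow : ∀ k : ℕ, g' ^ k * d' * (g' ^ k)⁻¹ = c ^ k * d' := by
      intro k
      induction k with
      | zero => simp
      | succ k ih =>
        calc g' ^ (k + 1) * d' * (g' ^ (k + 1))⁻¹ = g' * (g' ^ k * d' * (g' ^ k)⁻¹) * g'⁻¹ := by
              rw [pow_succ']; group
          _ = (g' * c ^ k) * d' * g'⁻¹ := by rw [ih]; group
          _ = c ^ k * (g' * d' * g'⁻¹ * d'⁻¹) * d' := by rw [(hgc.pow_right k).eq]; group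
          _ = c ^ (k + 1) * d' := by rw [pow_succ, hc]
    have hc1 : c ^ orderOf g = 1 := by
      have h := hpow (orderOf g)
      have hg1 : g' ^ orderOf g = 1 := Subtype.ext (by simp [g', pow_orderOf_eq_one])
      rw [hg1, one_mul, inv_one, mul_one] at h
      exact mul_eq_right.1 h.symm
    obtain ⟨i, hi⟩ := IsPGroup.iff_orderOf.1 hDp ⟨(c : G), hcD⟩
    rw [Subgroup.orderOf_mk] at hi
    have h1 : orderOf (c : G) = 1 := Nat.eq_one_of_dvd_coprimes (hgp.pow_right i)
      (orderOf_dvd_of_pow_eq_one (by rw [← Subgroup.coe_pow, hc1]; rfl)) (dvd_of_eq hi)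
    rw [orderOf_eq_one_iff] at h1
    have h2 : g * d * g⁻¹ * d⁻¹ = 1 := h1
    exact (mul_inv_eq_iff_eq_mul.1 (mul_inv_eq_one.1 h2)).symm
  · -- the index is prime to `p`, so the `p`-elements of `M` lie in `A`
    have hpA : ∀ m : M, (∃ i, orderOf m = p ^ i) → m ∈ A := by
      rintro m ⟨i, hi⟩
      by_contra hm
      have htop : A ⊔ zpowers m = ⊤ := hA.lt_iff.1 (lt_of_le_of_ne le_sup_left fun e =>
        hm (e.symm ▸ mem_sup_right (mem_zpowers m)))
      have hgm : g' ∈ A ⊔ zpowers m := htop ▸ mem_top _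
      obtain ⟨a, ha, z, hz, haz⟩ := mem_sup_of_normal_left.1 hgm
      obtain ⟨j, hj⟩ := mem_zpowers_iff.1 hz
      have h1 : orderOf (g' : M ⧸ A) = 1 := by
        refine Nat.eq_one_of_dvd_coprimes (hgp.pow_right i)
          ((orderOf_map_dvd (QuotientGroup.mk' A) g').trans (by rw [Subgroup.orderOf_mk])) ?_
        have e : (g' : M ⧸ A) = (m : M ⧸ A) ^ j := by
          rw [← haz, ← hj, QuotientGroup.mk_mul, (QuotientGroup.eq_one_iff a).2 ha, one_mul,
            QuotientGroup.mk_zpow]
        rw [e]
        exact (orderOf_dvd_of_mem_zpowers (zpow_mem_zpowers _ j)).trans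
          ((orderOf_map_dvd (QuotientGroup.mk' A) m).trans (dvd_of_eq hi))
      rw [orderOf_eq_one_iff, QuotientGroup.eq_one_iff] at h1
      exact hgA h1
    let S : Subgroup M :=
      { carrier := {m | m ∈ A ∧ ∃ i, orderOf m = p ^ i}
        one_mem' := ⟨one_mem _, 0, by simp⟩
        mul_mem' := by
          rintro a b ⟨ha, i, hi⟩ ⟨hb, j, hj⟩
          refine ⟨mul_mem ha hb, ?_⟩
          have hdvd : orderOf (a * b) ∣ p ^ (i + j) := by
            rw [pow_add]
            exact (Commute.orderOf_mul_dvd_mul_orderOf (commute_of A hAab ha hb)).trans (by rw [hi, hj])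
          obtain ⟨k, -, hk⟩ := (Nat.dvd_prime_pow hp.out).1 hdvd
          exact ⟨k, hk⟩
        inv_mem' := by
          rintro a ⟨ha, i, hi⟩
          exact ⟨inv_mem ha, i, by rw [orderOf_inv, hi]⟩ }
    have hSn : S.Normal := ⟨by
      rintro a ⟨ha, i, hi⟩ m
      exact ⟨hAn.conj_mem a ha m, i, ((MulAut.conj m).orderOf_eq a).trans hi⟩⟩
    have hSp : IsPGroup p (S.map M.subtype) := by
      refine IsPGroup.map (IsPGroup.iff_orderOf.2 ?_) _
      rintro ⟨a, ha, i, hi⟩
      exact ⟨i, (Subgroup.orderOf_mk a _).trans hi⟩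
    have hmemS : ∀ x : G, x ∈ M → (∃ i, orderOf x = p ^ i) → x ∈ S.map M.subtype := by
      rintro x hx ⟨i, hi⟩
      have : orderOf (⟨x, hx⟩ : M) = p ^ i := by rw [Subgroup.orderOf_mk, hi]
      exact ⟨⟨x, hx⟩, ⟨hpA _ ⟨i, this⟩, i, this⟩, rfl⟩
    have hDS : D ≤ S.map M.subtype := fun d hd => by
      obtain ⟨i, hi⟩ := IsPGroup.iff_orderOf.1 hDp ⟨d, hd⟩
      rw [Subgroup.orderOf_mk] at hi
      exact hmemS d (hDM hd) ⟨i, hi⟩
    have hSD : S.map M.subtype ≤ D := by
      refine hmax ⟨hSp, g, ?_, hgp, fun h => hgC (centralizer_le hDS h)⟩ hDS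
      have : g' ∈ normalizer (S : Set M) := by rw [normalizer_eq_top]; exact mem_top _
      exact le_normalizer_map M.subtype ⟨g', this, rfl⟩
    obtain ⟨Q, hQ⟩ := hDp.exists_le_sylow
    have hQD : (Q : Subgroup G) = D := by
      by_contra hne
      have hlt : D < (Q : Subgroup G) := lt_of_le_of_ne hQ (Ne.symm hne)
      obtain ⟨x, hxQ, hxM, hxD⟩ := CfsgLib.Transfer.exists_mem_normalizer_not_mem Q.2 hlt
      obtain ⟨i, hi⟩ := IsPGroup.iff_orderOf.1 Q.2 ⟨x, hxQ⟩
      rw [Subgroup.orderOf_mk] at hi
      exact hxD (hSD (hmemS x hxM ⟨i, hi⟩))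
    apply hP
    have hQab : IsMulCommutative (Q : Subgroup G) := hQD ▸ hDab
    have e : (Q : Subgroup G) ≃* (P : Subgroup G) := Q.equiv P
    exact ⟨⟨fun a b => e.symm.injective (by rw [map_mul, map_mul]; exact hQab.is_comm.comm _ _)⟩⟩

/-- The centralizer of a nontrivial element is abelian. -/
theorem centralizer_comm [IsSimpleGroup G] (hG : Good G) (hna : ¬ IsMulCommutative G) (x : G) (hx : x ≠ 1) :
    ∀ a ∈ centralizer ({x} : Set G), ∀ b ∈ centralizer ({x} : Set G), a * b = b * a := by
  classical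
  have hperf := commutator_eq_top hna
  have hZ := center_eq_bot hG hperf
  -- it is enough to treat elements of prime order
  suffices key : ∀ y : G, (orderOf y).Prime → IsMulCommutative (centralizer ({y} : Set G)) by
    obtain ⟨p, hp, hpd⟩ := Nat.exists_prime_and_dvd (fun h => hx (orderOf_eq_one_iff.1 h) : orderOf x ≠ 1)
    set y := x ^ (orderOf x / p)
    have hy : orderOf y = p := orderOf_pow_orderOf_div (orderOf_pos x).ne' hpd
    intro a ha b hb
    have hsub : ∀ c ∈ centralizer ({x} : Set G), c ∈ centralizer ({y} : Set G) := fun c hc => by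
      rw [mem_centralizer_singleton_iff] at hc ⊢
      exact (Commute.pow_right hc _)
    exact commute_of _ (key y (hy.symm ▸ hp)) (hsub a ha) (hsub b hb)
  intro x hxp
  set p := orderOf x with hpdef
  have := Fact.mk hxp
  by_contra hM
  set M := centralizer ({x} : Set G) with hMdef
  have hMtop : M ≠ ⊤ := fun h => by
    have : x ∈ center G := mem_center_iff.2 fun g => mem_centralizer_singleton_iff.1 (h.ge (mem_top g))
    rw [hZ, mem_bot] at this
    rw [hpdef, this, orderOf_one] at hxp
    exact hxp.ne_one rfl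
  have hxM : x ∈ M := mem_centralizer_singleton_iff.2 rfl
  set x' : M := ⟨x, hxM⟩
  have hx'c : x' ∈ center M := mem_center_iff.2 fun m => Subtype.ext (mem_centralizer_singleton_iff.1 m.2)
  -- a Sylow subgroup of `M` through `x`
  have hxpg : IsPGroup p (zpowers x') := IsPGroup.of_card (n := 1) (by
    rw [Nat.card_zpowers, pow_one, Subgroup.orderOf_mk])
  obtain ⟨P, hP⟩ := hxpg.exists_le_sylow
  have hxP : x' ∈ (P : Subgroup M) := hP (mem_zpowers _)
  obtain ⟨R, hR⟩ := (P.2.map M.subtype).exists_le_sylow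
  have hRab := isMulCommutative_sylow hG hna R
  have hPab : IsMulCommutative (P : Subgroup M) := ⟨⟨fun a b => Subtype.ext (Subtype.ext
    (commute_of _ hRab (hR (mem_map_of_mem M.subtype a.2)) (hR (mem_map_of_mem M.subtype b.2))))⟩⟩
  have htr := CfsgLib.Transfer.inf_commutator_inf_center_eq_bot (P : Subgroup M) P.card_coprime_index
  have hxc : x' ∉ commutator M := fun h => by
    have : x' ∈ ((P : Subgroup M) ⊓ commutator M ⊓ center M : Subgroup M) := ⟨⟨hxP, h⟩, hx'c⟩
    rw [htr, mem_bot] at this
    rw [hpdef, show x = (x' : G) from rfl, this, Subgroup.coe_one, orderOf_one] at hxp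
    exact hxp.ne_one rfl
  -- all Sylow subgroups of `M` are abelian, hence `M'` is not central
  have hMc : ¬ commutator M ≤ center M := by
    intro hc
    apply hM
    have hbot : commutator M = ⊥ := by
      rw [← card_eq_one]
      by_contra hne
      obtain ⟨q, hq, hqd⟩ := Nat.exists_prime_and_dvd hne
      have := Fact.mk hq
      obtain ⟨⟨z, hzc⟩, hz⟩ := exists_prime_orderOf_dvd_card' q hqd
      rw [Subgroup.orderOf_mk] at hz
      have hzq : IsPGroup q (zpowers z) := IsPGroup.of_card (n := 1) (by rw [Nat.card_zpowers, hz, pow_one])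
      obtain ⟨Q, hQ⟩ := hzq.exists_le_sylow
      obtain ⟨R', hR'⟩ := (Q.2.map M.subtype).exists_le_sylow
      have hR'ab := isMulCommutative_sylow hG hna R'
      have : IsMulCommutative (Q : Subgroup M) := ⟨⟨fun a b => Subtype.ext (Subtype.ext
        (commute_of _ hR'ab (hR' (mem_map_of_mem M.subtype a.2)) (hR' (mem_map_of_mem M.subtype b.2))))⟩⟩
      have hmem : z ∈ ((Q : Subgroup M) ⊓ commutator M ⊓ center M : Subgroup M) :=
        ⟨⟨hQ (mem_zpowers _), hzc⟩, hc hzc⟩
      rw [CfsgLib.Transfer.inf_commutator_inf_center_eq_bot (Q : Subgroup M) Q.card_coprime_index, mem_bot] at hmem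
      rw [hmem, orderOf_one] at hz
      exact hq.ne_one hz.symm
    exact ⟨⟨fun a b => commutatorElement_eq_one_iff_mul_comm.1 (by
      have h := Subgroup.commutator_mem_commutator (mem_top a) (mem_top b)
      rw [← _root_.commutator_def, hbot, mem_bot] at h
      exact h)⟩⟩
  have hMne : commutator M ≠ ⊤ := fun h => hxc (h.ge (mem_top _))
  -- every subgroup strictly between is abelian, so a unique maximal subgroup contains `M'`
  obtain ⟨A, hA, hcA⟩ := (eq_top_or_exists_le_coatom (commutator M)).resolve_left hMne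
  have hnorm : ∀ B : Subgroup M, commutator M ≤ B → B.Normal := fun B hB => ⟨fun a ha m => by
    have h1 := hB (Subgroup.commutator_mem_commutator (mem_top m) (mem_top a))
    have h2 := mul_mem h1 ha
    rwa [commutatorElement_def, inv_mul_cancel_right] at h2⟩
  have := hnorm A hcA
  have hAab := normal_comm (good_subgroup hG M) A hA.1
  have hgen : ∀ g : M, g ∉ A → commutator M ⊔ zpowers g = ⊤ := by
    intro g hg
    by_contra hne
    have := hnorm (commutator M ⊔ zpowers g) le_sup_left
    have hBab := normal_comm (good_subgroup hG M) _ hne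
    apply hMc
    intro c hc
    rw [mem_center_iff]
    intro m
    have htop : A ⊔ zpowers g = ⊤ := hA.lt_iff.1 (lt_of_le_of_ne le_sup_left fun e =>
      hg (e.symm ▸ mem_sup_right (mem_zpowers g)))
    obtain ⟨a, ha, z, hz, rfl⟩ := mem_sup_of_normal_left.1 (htop ▸ mem_top m : m ∈ A ⊔ zpowers g)
    have h1 : a * c = c * a := commute_of A hAab ha (hcA hc)
    have h2 : z * c = c * z := commute_of _ hBab (mem_sup_right hz) (mem_sup_left hc)
    calc a * z * c = a * (c * z) := by rw [mul_assoc, h2]
      _ = c * (a * z) := by rw [← mul_assoc, h1, mul_assoc]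
  -- `P` does not lie in `A`
  have hPA : ¬ (P : Subgroup M) ≤ A := by
    intro hPA
    obtain ⟨g, hg⟩ : ∃ g, g ∉ A := by
      by_contra! h
      exact hA.1 (eq_top_iff' A |>.2 h)
    -- replace `g` by its `p'`-part
    set n := orderOf g
    set k := p ^ n.factorization p
    set g0 := g ^ k
    have hg0 : g0 ∉ A := by
      intro h0
      apply hg
      have hk : (g : M) ^ (n / k) ∈ A := by
        have hpw : IsPGroup p (zpowers (g ^ (n / k))) := by
          refine IsPGroup.of_card (n := n.factorization p) ?_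
          rw [Nat.card_zpowers, orderOf_pow]
          have hkd : k ∣ n := Nat.ordProj_dvd n p
          rw [Nat.gcd_eq_right (Nat.div_dvd_of_dvd hkd), Nat.div_div_self hkd (orderOf_pos g).ne']
        obtain ⟨Q, hQ⟩ := hpw.exists_le_sylow
        obtain ⟨m, hm⟩ := MulAction.exists_smul_eq M P Q
        have hmem : g ^ (n / k) ∈ ((m • P : Sylow p M) : Subgroup M) := by
          rw [hm]; exact hQ (mem_zpowers _)
        obtain ⟨y, hy, hye⟩ := hmem
        rw [← hye]
        exact (inferInstance : A.Normal).conj_mem y (hPA hy) m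
      have hco : Nat.Coprime k (n / k) := (Nat.coprime_ordCompl hxp (orderOf_pos g).ne').pow_left _
      obtain ⟨s, t, hst⟩ := Nat.isCoprime_iff_coprime.2 hco
      have : g = (g ^ k) ^ s * (g ^ (n / k)) ^ t := by
        rw [← zpow_natCast, ← zpow_natCast, ← zpow_mul, ← zpow_mul, ← zpow_add, mul_comm (k : ℤ) s,
          mul_comm ((n / k : ℕ) : ℤ) t, hst, zpow_one]
      rw [this]
      exact mul_mem (zpow_mem h0 _) (zpow_mem hk _)
    apply hxc
    have hcop : (orderOf g0).Coprime p := by
      have hkd : k ∣ n := Nat.ordProj_dvd n p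
      have : orderOf g0 = n / k := by
        rw [orderOf_pow, Nat.gcd_eq_right hkd]
      rw [this]
      exact (Nat.coprime_ordCompl hxp (orderOf_pos g).ne').symm
    have hin : x' ∈ commutator M ⊔ zpowers g0 := hgen g0 hg0 ▸ mem_top _
    obtain ⟨c, hc, z, hz, hcz⟩ := mem_sup_of_normal_left.1 hin
    obtain ⟨j, rfl⟩ := mem_zpowers_iff.1 hz
    have h1 : orderOf (x' : M ⧸ commutator M) = 1 := by
      refine Nat.eq_one_of_dvd_coprimes hcop ?_ ?_
      · rw [← hcz, QuotientGroup.mk_mul, (QuotientGroup.eq_one_iff c).2 hc, one_mul, QuotientGroup.mk_zpow]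
        exact (orderOf_dvd_of_mem_zpowers (zpow_mem_zpowers _ j)).trans
          (orderOf_map_dvd (QuotientGroup.mk' (commutator M)) g0)
      · exact (orderOf_map_dvd (QuotientGroup.mk' (commutator M)) x').trans (by rw [Subgroup.orderOf_mk])
    rwa [orderOf_eq_one_iff, QuotientGroup.eq_one_iff] at h1
  obtain ⟨g, hgP, hgA⟩ := SetLike.not_le_iff_exists.1 hPA
  have hPc : (P : Subgroup M) ⊓ commutator M = ⊥ := by
    rw [eq_bot_iff, ← htr]
    intro c hc
    obtain ⟨hcP, hcc⟩ := mem_inf.1 hc
    refine mem_inf.2 ⟨hc, mem_center_iff.2 fun m => ?_⟩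
    have htop : A ⊔ zpowers g = ⊤ := hA.lt_iff.1 (lt_of_le_of_ne le_sup_left fun e =>
      hgA (e.symm ▸ mem_sup_right (mem_zpowers g)))
    obtain ⟨a, ha, z, hz, rfl⟩ := mem_sup_of_normal_left.1 (htop ▸ mem_top m : m ∈ A ⊔ zpowers g)
    have h1 : a * c = c * a := commute_of A hAab ha (hcA hcc)
    have h2 : z * c = c * z := commute_of _ hPab (zpowers_le.2 hgP hz) hcP
    calc a * z * c = a * (c * z) := by rw [mul_assoc, h2]
      _ = c * (a * z) := by rw [← mul_assoc, h1, mul_assoc]
  have hPcyc : (P : Subgroup M) = zpowers g := by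
    refine le_antisymm (fun y hy => ?_) (zpowers_le.2 hgP)
    obtain ⟨c, hc, z, hz, rfl⟩ := mem_sup_of_normal_left.1
      (hgen g hgA ▸ mem_top y : y ∈ commutator M ⊔ zpowers g)
    have : c ∈ (P : Subgroup M) ⊓ commutator M := by
      refine mem_inf.2 ⟨?_, hc⟩
      have := mul_mem hy (inv_mem (zpowers_le.2 hgP hz))
      rwa [mul_inv_cancel_right] at this
    rw [hPc, mem_bot] at this
    rwa [this, one_mul]
  -- `P` is a Sylow subgroup of `G`
  have hRP : (R : Subgroup G) = (P : Subgroup M).map M.subtype := by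
    refine le_antisymm (fun y hy => ?_) hR
    have hxR : x ∈ (R : Subgroup G) := hR ⟨x', hxP, rfl⟩
    have hyM : y ∈ M := mem_centralizer_singleton_iff.2 (commute_of _ hRab hy hxR)
    have hp' : IsPGroup p ((R : Subgroup G).subgroupOf M) := R.2.comap_subtype
    have := P.3 hp' (fun z hz => hR ⟨z, hz, rfl⟩)
    exact ⟨⟨y, hyM⟩, this.le hy, rfl⟩
  have hRcyc : (R : Subgroup G) = zpowers (g : G) := by
    rw [hRP, hPcyc, MonoidHom.map_zpowers]; rfl
  have hNM : normalizer ((R : Subgroup G) : Set G) ≤ M := by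
    intro n hn
    have hxn : n * x * n⁻¹ ∈ zpowers x := by
      have hmem : n * x * n⁻¹ ∈ (R : Subgroup G) := (mem_normalizer_iff.1 hn x).1 (hR ⟨x', hxP, rfl⟩)
      have : IsCyclic (R : Subgroup G) := by rw [hRcyc]; infer_instance
      have : Fintype (R : Subgroup G) := Fintype.ofFinite _
      have hcard := IsCyclic.card_pow_eq_one_le (α := (R : Subgroup G)) hxp.pos
      by_contra hnot
      have hxR : x ∈ (R : Subgroup G) := hR ⟨x', hxP, rfl⟩
      let T : Finset (R : Subgroup G) := insert ⟨n * x * n⁻¹, hmem⟩ ((Finset.range p).image fun i => (⟨x, hxR⟩ : (R : Subgroup G)) ^ i)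
      have hT : T ⊆ Finset.univ.filter fun a => a ^ p = 1 := by
        intro a ha
        rw [Finset.mem_filter]
        refine ⟨Finset.mem_univ _, Subtype.ext ?_⟩
        rcases Finset.mem_insert.1 ha with rfl | ha
        · show (n * x * n⁻¹) ^ p = 1
          rw [conj_pow, hpdef, pow_orderOf_eq_one, mul_one, mul_inv_cancel]
        · obtain ⟨i, -, rfl⟩ := Finset.mem_image.1 ha
          show ((x : G) ^ i) ^ p = 1
          rw [← pow_mul, mul_comm, pow_mul, hpdef, pow_orderOf_eq_one, one_pow]
      have hTc : T.card = p + 1 := by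
        rw [Finset.card_insert_of_notMem, Finset.card_image_of_injOn, Finset.card_range]
        · intro i hi j hj hij
          have h := congrArg Subtype.val hij
          exact pow_injOn_Iio_orderOf (Finset.mem_range.1 hi) (Finset.mem_range.1 hj) h
        · intro h
          obtain ⟨i, -, hi⟩ := Finset.mem_image.1 h
          exact hnot (mem_zpowers_iff.2 ⟨i, by rw [zpow_natCast]; exact congrArg Subtype.val hi⟩)
      have := (Finset.card_le_card hT).trans hcard
      omega
    -- `n` normalizes `M`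
    have hnM : n ∈ normalizer (M : Set G) := by
      have key : ∀ w : G, w * x * w⁻¹ ∈ zpowers x → ∀ m ∈ M, w⁻¹ * m * w ∈ M := by
        intro w hw m hm
        obtain ⟨j, hj⟩ := mem_zpowers_iff.1 hw
        have hmx : Commute m (w * x * w⁻¹) := by
          rw [← hj]; exact (show Commute m x from mem_centralizer_singleton_iff.1 hm).zpow_right j
        refine mem_centralizer_singleton_iff.2 ?_
        calc w⁻¹ * m * w * x = w⁻¹ * (m * (w * x * w⁻¹)) * w := by group
          _ = w⁻¹ * ((w * x * w⁻¹) * m) * w := by rw [hmx.eq]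
          _ = x * (w⁻¹ * m * w) := by group
      refine (mem_normalizer_iff''.2 fun m => ⟨key n hxn m, fun h => ?_⟩)
      have hinj : Function.Injective fun z : M => (⟨n⁻¹ * z * n, key n hxn z z.2⟩ : M) := fun a b e => by
        have := congrArg Subtype.val e
        exact Subtype.ext (mul_left_cancel (mul_right_cancel this))
      obtain ⟨z, hz⟩ := (Finite.injective_iff_surjective.1 hinj) ⟨_, h⟩
      have := congrArg Subtype.val hz
      rw [← mul_left_cancel (mul_right_cancel this)]
      exact z.2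
    rwa [hG M hM] at hnM
  have hNC : normalizer ((R : Subgroup G) : Set G) ≤ centralizer ((R : Subgroup G) : Set G) := by
    intro n hn
    have hnM := hNM hn
    rw [mem_centralizer_iff]
    intro y hy
    obtain ⟨y', hy', rfl⟩ := hRP.le hy
    set n' : M := ⟨n, hnM⟩
    have hc : n' * y' * n'⁻¹ * y'⁻¹ ∈ (P : Subgroup M) ⊓ commutator M := by
      refine mem_inf.2 ⟨mul_mem ?_ (inv_mem hy'), ?_⟩
      · obtain ⟨z, hz, hze⟩ := hRP.le ((mem_normalizer_iff.1 hn _).1 hy)
        have : n' * y' * n'⁻¹ = z := Subtype.ext hze.symm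
        rw [this]; exact hz
      · exact Subgroup.commutator_mem_commutator (mem_top n') (mem_top y')
    rw [hPc, mem_bot] at hc
    have h2 := congrArg Subtype.val hc
    exact (mul_inv_eq_iff_eq_mul.1 (mul_inv_eq_one.1 h2)).symm
  refine CfsgLib.Transfer.not_hasNormalPComplement_of_simple hna ?_
    (CfsgLib.Transfer.hasNormalPComplement_of_normalizer_le_centralizer R hNC)
  rw [hpdef]; exact orderOf_dvd_natCard x

end CfsgLib.StructB.SelfNorm
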