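import Cfsg.Agent.Lib.StructB.SelfNormNonabelian

/-!
# Simple groups all of whose non-abelian subgroups are self-normalizing: identification
-/

set_option autoImplicit false

namespace CfsgLib.StructB.SelfNorm

open Subgroup
open Cfsg.Agent.S4072 (Good good_subgroup normal_comm commute_of)

universe u

variable {G : Type u} [Group G] [Finite G]

/-- The centralizer of an element, as a shorthand. -/
abbrev C (x : G) : Subgroup G := centralizer ({x} : Set G)

theorem self_mem_C (x : G) : x ∈ C x := mem_centralizer_singleton_iff.2 rfl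

omit [Finite G] in
theorem orderOf_conj' (c a : G) : orderOf (c * a * c⁻¹) = orderOf a := by
  rw [← MulAut.conj_apply]; exact MulEquiv.orderOf_eq _ a

omit [Finite G] in
theorem orderOf_conj_inv (c a : G) : orderOf (c⁻¹ * a * c) = orderOf a := by
  simpa using orderOf_conj' c⁻¹ a

omit [Finite G] in
theorem C_conj (g x : G) {y : G} : y ∈ C (g * x * g⁻¹) ↔ g⁻¹ * y * g ∈ C x := by
  rw [mem_centralizer_singleton_iff, mem_centralizer_singleton_iff]
  constructor
  · intro h
    calc g⁻¹ * y * g * x = g⁻¹ * (y * (g * x * g⁻¹)) * g := by group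
      _ = g⁻¹ * (g * x * g⁻¹ * y) * g := by rw [h]
      _ = x * (g⁻¹ * y * g) := by group
  · intro h
    calc y * (g * x * g⁻¹) = g * (g⁻¹ * y * g * x) * g⁻¹ := by group
      _ = g * (x * (g⁻¹ * y * g)) * g⁻¹ := by rw [h]
      _ = g * x * g⁻¹ * y := by group

/-- The hypotheses used in the counting. -/
structure CA (G : Type u) [Group G] : Prop where
  good : Good G
  simple : IsSimpleGroup G
  noncomm : ¬ IsMulCommutative G
  comm : ∀ x : G, x ≠ 1 → ∀ a ∈ C x, ∀ b ∈ C x, a * b = b * a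

namespace CA

variable (h : CA G)
include h

theorem C_ne_top {x : G} (hx : x ≠ 1) : C x ≠ ⊤ := fun e =>
  h.noncomm ⟨⟨fun a b => h.comm x hx a (e.ge (mem_top a)) b (e.ge (mem_top b))⟩⟩

omit [Finite G] in
theorem C_eq {x y : G} (hx : x ≠ 1) (hy : y ≠ 1) (hm : y ∈ C x) : C y = C x := by
  have hm' : x ∈ C y := mem_centralizer_singleton_iff.2 (mem_centralizer_singleton_iff.1 hm).symm
  refine le_antisymm (fun z hz => ?_) fun z hz => ?_
  · exact mem_centralizer_singleton_iff.2 (h.comm y hy z hz x hm')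
  · exact mem_centralizer_singleton_iff.2 (h.comm x hx z hz y hm)

omit [Finite G] in
/-- The conjugating element lies in the normalizer as soon as one nontrivial element stays. -/
theorem mem_normalizer_of {x z g : G} (hx : x ≠ 1) (hz : z ≠ 1) (hzx : z ∈ C x) (hgz : g * z * g⁻¹ ∈ C x) :
    g ∈ normalizer ((C x : Subgroup G) : Set G) := by
  have h1 : C z = C x := h.C_eq hx hz hzx
  have h2 : C (g * z * g⁻¹) = C x := h.C_eq hx (fun e => hz (conj_eq_one_iff.1 e)) hgz
  rw [mem_normalizer_iff]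
  intro y
  have h3 := C_conj g z (y := g * y * g⁻¹)
  rw [h1, h2, show g⁻¹ * (g * y * g⁻¹) * g = y by group] at h3
  exact h3.symm

/-- The normalizer of a centralizer either equals it or contains it with prime index, all elements
outside having that prime order and acting fixed-point-freely. -/
theorem normalizer_step {x : G} (hx : x ≠ 1) (hne : normalizer ((C x : Subgroup G) : Set G) ≠ C x) :
    ∃ r : ℕ, r.Prime ∧ Nat.card (normalizer ((C x : Subgroup G) : Set G)) = r * Nat.card (C x) ∧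
      ¬ r ∣ Nat.card (C x) ∧ ∀ y ∈ normalizer ((C x : Subgroup G) : Set G), y ∉ C x →
        y ^ r = 1 ∧ ∀ z ∈ C x, z * y = y * z → z = 1 := by
  classical
  set B := C x with hB
  set L := normalizer (B : Set G)
  have hBL : B ≤ L := le_normalizer
  have hfix : ∀ y ∈ L, y ∉ B → ∀ z ∈ B, z * y = y * z → z = 1 := by
    intro y _ hy z hz hzy
    by_contra hz1
    exact hy (by rw [hB, ← h.C_eq hx hz1 hz]; exact mem_centralizer_singleton_iff.2 hzy.symm)
  have hLtop : L ≠ ⊤ := fun e => by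
    have hn : B.Normal := normalizer_eq_top_iff.1 e
    rcases h.simple.eq_bot_or_eq_top_of_normal B hn with e' | e'
    · exact hx (mem_bot.1 (e' ▸ (self_mem_C x : x ∈ B)))
    · exact h.C_ne_top hx e'
  have hLna : ¬ IsMulCommutative L := fun hc => hne (le_antisymm (fun y hy =>
    mem_centralizer_singleton_iff.2 (commute_of L hc hy (hBL (self_mem_C x)))) hBL)
  -- the commutator subgroup of `L` is proper
  have hcL : commutator L ≠ ⊤ := by
    intro e
    have hBne : B.subgroupOf L ≠ ⊤ := fun e' => hne (le_antisymm (subgroupOf_eq_top.1 e') hBL)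
    have := normal_in_normalizer (H := B)
    have hc := Cfsg.Agent.S4072.perfect_normal_central (good_subgroup h.good L) e _ hBne
    apply hne
    refine le_antisymm (fun y hy => ?_) hBL
    exact mem_centralizer_singleton_iff.2 (congrArg Subtype.val
      (mem_center_iff.1 (hc (show (⟨x, hBL (self_mem_C x)⟩ : L) ∈ B.subgroupOf L from self_mem_C x)) ⟨y, hy⟩))
  obtain ⟨A, hA, hcA⟩ := (eq_top_or_exists_le_coatom (commutator L)).resolve_left hcL
  have hAn : A.Normal := ⟨fun a ha m => by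
    have h1 := hcA (Subgroup.commutator_mem_commutator (mem_top m) (mem_top a))
    have h2 := mul_mem h1 ha
    rwa [commutatorElement_def, inv_mul_cancel_right] at h2⟩
  have hAab := normal_comm (good_subgroup h.good L) A hA.1
  set B' := B.subgroupOf L with hB'
  have := normal_in_normalizer (H := B)
  have hB'ab : ∀ a ∈ B', ∀ b ∈ B', a * b = b * a := fun a ha b hb => Subtype.ext (h.comm x hx a ha b hb)
  have hBA : B' ≤ A := by
    by_contra hBA
    have htop : A ⊔ B' = ⊤ := hA.lt_iff.1 (lt_of_le_of_ne le_sup_left fun e => hBA (sup_eq_left.1 e.symm))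
    have hinf : Disjoint A B' := by
      rw [disjoint_iff, eq_bot_iff]
      intro z hz
      obtain ⟨hzA, hzB⟩ := mem_inf.1 hz
      by_contra hz1
      obtain ⟨y, hy, hyB⟩ := SetLike.exists_of_lt (lt_of_le_of_ne hBL (Ne.symm hne))
      refine hz1 (Subtype.ext (hfix y hy hyB z hzB ?_))
      obtain ⟨a, ha, b, hb, hab⟩ := mem_sup_of_normal_left.1 (htop ▸ mem_top _ : (⟨y, hy⟩ : L) ∈ A ⊔ B')
      have h1 : z * a = a * z := commute_of A hAab hzA ha
      have h2 : z * b = b * z := hB'ab z hzB b hb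
      have : z * (a * b) = (a * b) * z := by
        rw [← mul_assoc, h1, mul_assoc, h2, mul_assoc]
      rw [hab] at this
      exact congrArg Subtype.val this
    apply hLna
    refine ⟨⟨fun u v => ?_⟩⟩
    obtain ⟨a, ha, b, hb, rfl⟩ := mem_sup_of_normal_left.1 (htop ▸ mem_top u : u ∈ A ⊔ B')
    obtain ⟨c, hc, d, hd, rfl⟩ := mem_sup_of_normal_left.1 (htop ▸ mem_top v : v ∈ A ⊔ B')
    have k1 : b * c = c * b := (Subgroup.commute_of_normal_of_disjoint A B' hAn ‹_› hinf c b hc hb).eq.symm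
    have k2 : a * d = d * a := (Subgroup.commute_of_normal_of_disjoint A B' hAn ‹_› hinf a d ha hd).eq
    have k3 : a * c = c * a := commute_of A hAab ha hc
    have k4 : b * d = d * b := hB'ab b hb d hd
    calc a * b * (c * d) = a * (b * c) * d := by group
      _ = a * (c * b) * d := by rw [k1]
      _ = (a * c) * (b * d) := by group
      _ = (c * a) * (d * b) := by rw [k3, k4]
      _ = c * (a * d) * b := by group
      _ = c * (d * a) * b := by rw [k2]
      _ = _ := by group
  have hAB : A = B' := le_antisymm (fun a ha => mem_subgroupOf.2 (mem_centralizer_singleton_iff.2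
    (congrArg Subtype.val (commute_of A hAab ha
      (hBA (show (⟨x, hBL (self_mem_C x)⟩ : L) ∈ B' from self_mem_C x)))))) hBA
  have hsimp : IsSimpleGroup (L ⧸ A) := by
    have : Nontrivial (L ⧸ A) := by
      rw [← not_subsingleton_iff_nontrivial]
      exact fun hs => hA.1 (QuotientGroup.subgroup_eq_top_of_subsingleton A hs)
    refine ⟨fun D _ => ?_⟩
    rcases hA.le_iff.mp (show A ≤ D.comap (QuotientGroup.mk' A) from fun a ha => by
        rw [mem_comap, QuotientGroup.mk'_apply, (QuotientGroup.eq_one_iff a).2 ha]; exact one_mem D) with e | e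
    · right; exact comap_injective (QuotientGroup.mk'_surjective A) (e.trans (comap_top _).symm)
    · left
      refine comap_injective (QuotientGroup.mk'_surjective A) ?_
      rw [e, MonoidHom.comap_bot, QuotientGroup.ker_mk']
  letI : CommGroup (L ⧸ A) :=
    { (inferInstance : Group (L ⧸ A)) with
      mul_comm := ((Normal.quotient_commutative_iff_commutator_le (N := A)).2 hcA).is_comm.comm }
  have hr : (Nat.card (L ⧸ A)).Prime := IsSimpleGroup.prime_card
  set r := Nat.card (L ⧸ A)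
  have := Fact.mk hr
  have hord : ∀ y ∈ L, y ∉ B → y ^ r = 1 := by
    intro y hy hyB
    have h1 : (⟨y, hy⟩ : L) ^ r ∈ A := by
      rw [← QuotientGroup.eq_one_iff, QuotientGroup.mk_pow]
      exact pow_card_eq_one'
    refine hfix y hy hyB _ ?_ ((Commute.pow_self y r).eq)
    exact mem_subgroupOf.1 (hAB ▸ h1)
  have hcard : Nat.card L = r * Nat.card B := by
    rw [card_eq_card_quotient_mul_card_subgroup A]
    congr 1
    rw [hAB]
    exact Nat.card_congr (subgroupOfEquivOfLe hBL).toEquiv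
  refine ⟨r, hr, hcard, ?_, fun y hy hyB => ⟨hord y hy hyB, hfix y hy hyB⟩⟩
  intro hd
  obtain ⟨y, hy, hyB⟩ := SetLike.exists_of_lt (lt_of_le_of_ne hBL (Ne.symm hne))
  let σ : Equiv.Perm B :=
    { toFun := fun z => ⟨y * z * y⁻¹, (mem_normalizer_iff.1 hy z).1 z.2⟩
      invFun := fun z => ⟨y⁻¹ * z * y, (mem_normalizer_iff''.1 hy z).1 z.2⟩
      left_inv := fun z => Subtype.ext (by simp [mul_assoc])
      right_inv := fun z => Subtype.ext (by simp [mul_assoc]) }
  have hpow : ∀ (k : ℕ) (z : B), ((σ ^ k) z : G) = y ^ k * z * (y ^ k)⁻¹ := by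
    intro k
    induction k with
    | zero => simp
    | succ k ih =>
      intro z
      rw [pow_succ', Equiv.Perm.mul_apply]
      show y * ((σ ^ k) z : G) * y⁻¹ = _
      rw [ih z]; group
  have hσ : σ ^ r ^ 1 = 1 := by
    refine Equiv.ext fun z => Subtype.ext ?_
    rw [pow_one, hpow, hord y hy hyB]; simp
  have := Fintype.ofFinite B
  obtain ⟨z, hz, hz1⟩ := Equiv.Perm.exists_fixed_point_of_prime' (p := r) (n := 1)
    (by rwa [← Nat.card_eq_fintype_card]) hσ (a := (1 : B)) (Subtype.ext (by simp [σ]))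
  have hzy : (z : G) * y = y * z := by
    have := congrArg Subtype.val hz
    exact (mul_inv_eq_iff_eq_mul.1 this).symm
  exact hz1 (Subtype.ext (hfix y hy hyB z z.2 hzy))

theorem one_sylow_comm (T : Sylow 2 G) : IsMulCommutative (T : Subgroup G) :=
  have := h.simple
  isMulCommutative_sylow h.good h.noncomm T

theorem even_card : Even (Nat.card G) := by
  have := h.simple
  have := Fintype.ofFinite G
  by_contra hodd
  exact CfsgLib.Char.not_ca_odd_simple (Nat.not_even_iff_odd.1 hodd) h.noncomm h.comm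

theorem sylow_le_C {T : Sylow 2 G} {t : G} (ht : t ∈ (T : Subgroup G)) : (T : Subgroup G) ≤ C t :=
  fun _ ha => mem_centralizer_singleton_iff.2 (commute_of _ (h.one_sylow_comm T) ha ht)

/-- All involutions are conjugate. -/
theorem isConj_invol {s t : G} (hs : orderOf s = 2) (ht : orderOf t = 2) : IsConj s t := by
  have hsimp := h.simple
  by_contra hst
  have hs1 := CfsgLib.Invol.invol_ne_one hs
  have ht1 := CfsgLib.Invol.invol_ne_one ht
  have key : ∀ w : G, orderOf w = 2 → ¬ IsConj w t → w ∈ C t := by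
    intro w hw hwt
    have he := CfsgLib.Invol.even_of_not_isConj hw ht hwt
    set v := (w * t) ^ (orderOf (w * t) / 2)
    have hv1 : v ≠ 1 := CfsgLib.Invol.invol_ne_one (CfsgLib.Invol.orderOf_pow_half he)
    have hvw : Commute v w := CfsgLib.Invol.commute_pow_half_left hw ht he
    have hvt : Commute v t := by
      have h1 : Commute v (w * t) := Commute.pow_self _ _
      have h2 : t = w⁻¹ * (w * t) := by group
      rw [h2]
      exact hvw.inv_right.mul_right h1
    rw [h.C_eq hv1 ht1 (mem_centralizer_singleton_iff.2 hvt.eq.symm)]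
    exact mem_centralizer_singleton_iff.2 hvw.eq.symm
  have hle : normalClosure ({s} : Set G) ≤ C t := by
    refine (closure_le _).2 ?_
    intro w hw
    obtain ⟨a, ha, hc⟩ := Group.mem_conjugatesOfSet_iff.1 hw
    rw [Set.mem_singleton_iff] at ha
    subst ha
    refine key w ?_ fun hwt => hst (hc.trans hwt)
    obtain ⟨g, rfl⟩ := isConj_iff.1 hc
    rw [← hs]
    exact (MulAut.conj g).orderOf_eq a
  rcases hsimp.eq_bot_or_eq_top_of_normal _ (normalClosure_normal (s := ({s} : Set G))) with e | e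
  · exact hs1 (by simpa [e] using (subset_normalClosure (Set.mem_singleton s) : s ∈ normalClosure ({s} : Set G)))
  · exact h.C_ne_top ht1 (top_le_iff.1 (e ▸ hle))

theorem sylow_not_cyclic (T : Sylow 2 G) : ¬ IsCyclic (T : Subgroup G) := by
  intro hc
  have := h.simple
  have : Fact (Nat.Prime 2) := ⟨Nat.prime_two⟩
  have hd : 2 ∣ Nat.card G := even_iff_two_dvd.1 h.even_card
  have hmin : (Nat.card G).minFac = 2 := by
    rw [Nat.minFac_eq_two_iff]; exact hd
  exact CfsgLib.Transfer.not_hasNormalPComplement_of_simple h.noncomm hd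
    (CfsgLib.Transfer.hasNormalPComplement_of_normalizer_le_centralizer T
      (IsCyclic.normalizer_le_centralizer (P := T) (hP := hc) hmin))

/-- Involutions inverting a centralizer of odd order. -/
theorem inverted {z u : G} (hz : z ≠ 1) (hodd : Odd (Nat.card (C z))) (hu : orderOf u = 2)
    (huz : u * z * u = z⁻¹) :
    Nat.card (normalizer ((C z : Subgroup G) : Set G)) = 2 * Nat.card (C z) ∧
      (∀ c ∈ C z, u * c * u = c⁻¹) ∧ ∀ c ∈ C z, orderOf (u * c) = 2 := by
  classical
  have huu : u * u = 1 := by rw [← pow_two, ← hu, pow_orderOf_eq_one]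
  have hu' : u⁻¹ = u := inv_eq_of_mul_eq_one_right huu
  have huC : u ∉ C z := by
    intro hm
    have h2 : 2 ∣ Nat.card (C z) := hu ▸ Subgroup.orderOf_dvd_natCard _ hm
    exact (Nat.not_even_iff_odd.2 hodd) (even_iff_two_dvd.2 h2)
  have huN : u ∈ normalizer ((C z : Subgroup G) : Set G) := by
    refine h.mem_normalizer_of hz hz (self_mem_C z) ?_
    rw [hu', huz]
    exact inv_mem (self_mem_C z)
  obtain ⟨r, hr, hcard, -, hout⟩ := h.normalizer_step hz (fun e => huC (e.le huN))
  obtain ⟨hur, hfix⟩ := hout u huN huC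
  have hr2 : r = 2 := by
    have := orderOf_dvd_of_pow_eq_one hur
    rw [hu] at this
    exact ((Nat.prime_dvd_prime_iff_eq Nat.prime_two hr).1 this).symm
  subst hr2
  have hinv : ∀ c ∈ C z, u * c * u = c⁻¹ := by
    intro c hc
    have hm : u * c * u ∈ C z := by
      have := (mem_normalizer_iff.1 huN c).1 hc
      rwa [hu'] at this
    have hfixed : c * (u * c * u) * u = u * (c * (u * c * u)) := by
      calc c * (u * c * u) * u = c * u * c * (u * u) := by group
        _ = c * u * c := by rw [huu, mul_one]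
        _ = (c * (u * c * u)) * u := by rw [show c * (u * c * u) * u = c * u * c * (u * u) by group, huu, mul_one]
        _ = ((u * c * u) * c) * u := by rw [h.comm z hz c hc _ hm]
        _ = u * c * u * c * u := rfl
        _ = u * (c * (u * c * u)) := by group
    exact eq_inv_of_mul_eq_one_right (hfix _ (mul_mem hc hm) hfixed)
  refine ⟨hcard, hinv, fun c hc => CfsgLib.Invol.invol_of_mul_self ?_ fun e => huC ?_⟩
  · calc u * c * (u * c) = (u * c * u) * c := by group
      _ = 1 := by rw [hinv c hc, inv_mul_cancel]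
  · rw [← hu', inv_eq_of_mul_eq_one_right e]; exact hc

/-- The number of elements with centralizer conjugate to a given one. -/
theorem card_conj_type {x : G} (hx : x ≠ 1) :
    Nat.card {z : G // z ≠ 1 ∧ ∃ g : G, g * z * g⁻¹ ∈ C x} =
      (normalizer ((C x : Subgroup G) : Set G)).index * (Nat.card (C x) - 1) := by
  classical
  set N := normalizer ((C x : Subgroup G) : Set G)
  have e : Nat.card {z : G // z ≠ 1 ∧ ∃ g : G, g * z * g⁻¹ ∈ C x} =
      Nat.card ((G ⧸ N) × {c : C x // c ≠ 1}) := by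
    refine (Nat.card_congr (Equiv.ofBijective (fun p : (G ⧸ N) × {c : C x // c ≠ 1} =>
      (⟨p.1.out * (p.2.1 : G) * p.1.out⁻¹, fun e => p.2.2 (Subtype.ext (conj_eq_one_iff.1 e)),
        p.1.out⁻¹, by simp [mul_assoc]⟩ :
        {z : G // z ≠ 1 ∧ ∃ g : G, g * z * g⁻¹ ∈ C x})) ⟨?_, ?_⟩)).symm
    · rintro ⟨q, c, hc⟩ ⟨q', c', hc'⟩ heq
      have heq' : q.out * (c : G) * q.out⁻¹ = q'.out * (c' : G) * q'.out⁻¹ := congrArg Subtype.val heq
      have hm : q'.out⁻¹ * q.out ∈ N := by
        refine h.mem_normalizer_of hx (fun e => hc (Subtype.ext e)) c.2 ?_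
        have : q'.out⁻¹ * q.out * (c : G) * (q'.out⁻¹ * q.out)⁻¹ = c' := by
          calc _ = q'.out⁻¹ * (q.out * (c : G) * q.out⁻¹) * q'.out := by group
            _ = _ := by rw [heq']; group
        rw [this]; exact c'.2
      have hq : q' = q := by
        rw [← QuotientGroup.out_eq' q, ← QuotientGroup.out_eq' q']
        exact QuotientGroup.eq.2 hm
      subst hq
      have : c = c' := Subtype.ext (mul_left_cancel (mul_right_cancel heq'))
      subst this
      rfl
    · rintro ⟨z, hz, g, hg⟩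
      obtain ⟨n, hn⟩ := QuotientGroup.mk_out_eq_mul N g⁻¹
      have hm : ((g⁻¹ : G) : G ⧸ N).out⁻¹ * z * ((g⁻¹ : G) : G ⧸ N).out ∈ C x := by
        rw [hn]
        have h2 := (mem_normalizer_iff''.1 n.2 (g * z * g⁻¹)).1 hg
        have e : (g⁻¹ * (n : G))⁻¹ * z * (g⁻¹ * (n : G)) = (n : G)⁻¹ * (g * z * g⁻¹) * n := by group
        rw [e]; exact h2
      refine ⟨⟨((g⁻¹ : G) : G ⧸ N), ⟨_, hm⟩, ?_⟩, Subtype.ext ?_⟩
      · intro e
        have := congrArg Subtype.val e
        apply hz
        have h3 := congrArg (fun w => ((g⁻¹ : G) : G ⧸ N).out * w * ((g⁻¹ : G) : G ⧸ N).out⁻¹) this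
        simpa [mul_assoc] using h3
      · simp [mul_assoc]
  rw [e, Nat.card_prod, ← Subgroup.index_eq_card]
  congr 1
  have := Fintype.ofFinite (C x)
  rw [Nat.card_eq_fintype_card, Nat.card_eq_fintype_card, Fintype.card_subtype_compl, Fintype.card_subtype_eq]

/-- The involution centralizers are elementary abelian, and the Sylow 2-subgroup has `r + 1` elements. -/
theorem caHyp (T : Sylow 2 G) :
    CfsgLib.Invol.CAHyp T ∧ (Nat.card T - 1).Prime := by
  classical
  have hsimp := h.simple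
  have := Fintype.ofFinite G
  have : Fact (Nat.Prime 2) := ⟨Nat.prime_two⟩
  obtain ⟨t, htT, ht⟩ : ∃ t ∈ (T : Subgroup G), orderOf t = 2 := by
    obtain ⟨⟨t, htT⟩, ht⟩ := exists_prime_orderOf_dvd_card' (G := (T : Subgroup G)) 2
      (T.dvd_card_of_dvd_card (even_iff_two_dvd.1 h.even_card))
    exact ⟨t, htT, by rwa [Subgroup.orderOf_mk] at ht⟩
  have ht1 : t ≠ 1 := CfsgLib.Invol.invol_ne_one ht
  set B := C t with hB
  set L := normalizer (B : Set G) with hL
  have hTB : (T : Subgroup G) ≤ B := h.sylow_le_C htT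
  have hLB : L ≠ B := by
    intro e
    have hd : 2 ∣ Nat.card G := even_iff_two_dvd.1 h.even_card
    refine CfsgLib.Transfer.not_hasNormalPComplement_of_simple h.noncomm hd
      (CfsgLib.Transfer.hasNormalPComplement_of_normalizer_le_centralizer T ?_)
    intro n hn
    have hnB : n ∈ B := e ▸ h.mem_normalizer_of ht1 ht1 (self_mem_C t) (hTB ((mem_normalizer_iff.1 hn t).1 htT))
    exact mem_centralizer_iff.2 fun a ha => h.comm t ht1 a (hTB ha) n hnB
  obtain ⟨r, hr, hLcard, hrB, hout⟩ := h.normalizer_step ht1 hLB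
  have := Fact.mk hr
  set b := Nat.card B with hb
  have hBL : B ≤ L := le_normalizer
  have hBn : (B.subgroupOf L).Normal := normal_in_normalizer
  have hB2 : 2 ∣ b := ht ▸ Subgroup.orderOf_dvd_natCard _ (self_mem_C t)
  have hr2 : r ≠ 2 := fun e => hrB (e ▸ hB2)
  have hb0 : 0 < b := Nat.card_pos
  -- involutions
  let I := {u : G // orderOf u = 2}
  have hconjB : ∀ u : G, orderOf u = 2 → ∃ g : G, g * u * g⁻¹ = t := fun u hu =>
    isConj_iff.1 (h.isConj_invol hu ht)
  have hIcard : Nat.card I * b = Nat.card G := by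
    have e : Nat.card I = Nat.card (ConjClasses.mk t).carrier := Nat.card_congr
      (Equiv.subtypeEquivRight fun u => by
        rw [ConjClasses.mem_carrier_iff_mk_eq, ConjClasses.mk_eq_mk_iff_isConj]
        refine ⟨fun hu => h.isConj_invol hu ht, fun hc => ?_⟩
        obtain ⟨g, hg⟩ := isConj_iff.1 hc
        rw [← ht, ← hg]
        exact (orderOf_conj' g u).symm)
    rw [e]
    exact CfsgLib.Char.natCard_carrier_mul_centralizer t
  have hBcop : ∀ z ∈ L, orderOf z ∣ b → z ∈ B := by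
    intro z hz hd
    by_contra hzB
    obtain ⟨hzr, -⟩ := hout z hz hzB
    rcases (Nat.dvd_prime hr).1 (orderOf_dvd_of_pow_eq_one hzr) with e | e
    · exact hzB (by rw [orderOf_eq_one_iff.1 e]; exact one_mem _)
    · exact hrB (e ▸ hd)
  have hinL : ∀ u : G, orderOf u = 2 → u ∈ L → u ∈ B := fun u hu hm => hBcop u hm (hu.symm ▸ hB2)
  -- the involutions of `B`
  have hBquot : Nat.card (L ⧸ B.subgroupOf L) = r := by
    have h1 := card_eq_card_quotient_mul_card_subgroup (B.subgroupOf L)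
    rw [Nat.card_congr (subgroupOfEquivOfLe hBL).toEquiv, hLcard, ← hb] at h1
    exact (Nat.eq_of_mul_eq_mul_right hb0 h1).symm
  have hIB : Nat.card {u : G // orderOf u = 2 ∧ u ∈ B} = r := by
    rw [← hBquot]
    refine (Nat.card_congr (Equiv.ofBijective (fun q : L ⧸ B.subgroupOf L =>
      (⟨(q.out : G) * t * (q.out : G)⁻¹, (orderOf_conj' (q.out : G) t).trans ht,
        (mem_normalizer_iff.1 q.out.2 t).1 (self_mem_C t)⟩ : {u : G // orderOf u = 2 ∧ u ∈ B})) ⟨?_, ?_⟩)).symm
    · intro q q' e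
      have e' : (q.out : G) * t * (q.out : G)⁻¹ = (q'.out : G) * t * (q'.out : G)⁻¹ := congrArg Subtype.val e
      rw [← QuotientGroup.out_eq' q, ← QuotientGroup.out_eq' q']
      refine QuotientGroup.eq.2 (mem_subgroupOf.2 (mem_centralizer_singleton_iff.2 ?_))
      simp only [Subgroup.coe_mul, Subgroup.coe_inv]
      calc (q.out : G)⁻¹ * q'.out * t = (q.out : G)⁻¹ * ((q'.out : G) * t * (q'.out : G)⁻¹) * q'.out := by group
        _ = (q.out : G)⁻¹ * ((q.out : G) * t * (q.out : G)⁻¹) * q'.out := by rw [e']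
        _ = t * ((q.out : G)⁻¹ * q'.out) := by group
    · rintro ⟨u, hu, huB⟩
      obtain ⟨g, hg⟩ := isConj_iff.1 (h.isConj_invol ht hu)
      have hgL : g ∈ L := h.mem_normalizer_of ht1 ht1 (self_mem_C t) (by rw [hg]; exact huB)
      obtain ⟨m, hm⟩ := QuotientGroup.mk_out_eq_mul (B.subgroupOf L) (⟨g, hgL⟩ : L)
      refine ⟨((⟨g, hgL⟩ : L) : L ⧸ B.subgroupOf L), Subtype.ext ?_⟩
      have hmc : ((m : L) : G) * t = t * ((m : L) : G) := mem_centralizer_singleton_iff.1 (mem_subgroupOf.1 m.2)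
      show (((⟨g, hgL⟩ : L) : L ⧸ B.subgroupOf L).out : G) * t *
        (((⟨g, hgL⟩ : L) : L ⧸ B.subgroupOf L).out : G)⁻¹ = u
      rw [hm]
      simp only [Subgroup.coe_mul]
      rw [show g * ((m : L) : G) * t * (g * ((m : L) : G))⁻¹ = g * (((m : L) : G) * t) * ((m : L) : G)⁻¹ * g⁻¹ by group,
        hmc, show g * (t * ((m : L) : G)) * ((m : L) : G)⁻¹ * g⁻¹ = g * t * g⁻¹ by group, hg]
  -- involutions in a coset of `L` outside `L`
  have hsq : ∀ u : G, orderOf u = 2 → u * u = 1 := fun u hu => by rw [← pow_two, ← hu, pow_orderOf_eq_one]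
  let π : I → G ⧸ L := fun u => (u.1 : G ⧸ L)
  have hout_eq : ∀ (a : G) (u v : I), u.1 ∉ L → (u.1 : G ⧸ L) = a → (v.1 : G ⧸ L) = a →
      u.1 * v.1 ∈ B → u = v := by
    intro a u v hu hua hva hB'
    by_contra hne
    set d := u.1 * v.1 with hd
    have hd1 : d ≠ 1 := fun e => hne (Subtype.ext (by
      rw [← one_mul v.1, ← hsq u.1 u.2, mul_assoc, ← hd, e, mul_one]))
    refine hu (h.mem_normalizer_of ht1 hd1 hB' ?_)
    rw [hd, CfsgLib.Invol.invol_inv u.2, show u.1 * (u.1 * v.1) * u.1 = (u.1 * u.1) * (v.1 * u.1) by group,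
      hsq u.1 u.2, one_mul]
    have : v.1 * u.1 = (u.1 * v.1)⁻¹ := by
      rw [mul_inv_rev, CfsgLib.Invol.invol_inv u.2, CfsgLib.Invol.invol_inv v.2]
    rw [this]
    exact inv_mem hB'
  have hmulL : ∀ (u v : I), (u.1 : G ⧸ L) = v.1 → u.1 * v.1 ∈ L := by
    intro u v e
    have := QuotientGroup.eq.1 e
    rwa [CfsgLib.Invol.invol_inv u.2] at this
  -- fibres
  have hfibBase : Nat.card {u : I // π u = (1 : G)} = r := by
    rw [← hIB]
    refine Nat.card_congr
      { toFun := fun u => ⟨u.1.1, u.1.2, hinL _ u.1.2 (by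
          have := QuotientGroup.eq.1 u.2.symm
          simpa using this)⟩
        invFun := fun v => ⟨⟨v.1, v.2.1⟩, (QuotientGroup.eq.2 (by simpa using hBL v.2.2)).symm⟩
        left_inv := fun u => rfl
        right_inv := fun v => rfl }
  have hfibinj : ∀ (q : G ⧸ L) (u : I), q ≠ (1 : G) → ∀ hu : π u = q,
      Function.Injective (fun v : {v : I // π v = q} =>
        ((⟨u.1 * v.1.1, hmulL u v.1 (hu.trans v.2.symm)⟩ : L) :
          L ⧸ B.subgroupOf L)) := by
    intro q u hq hu v w e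
    have h1 := mem_subgroupOf.1 (QuotientGroup.eq.1 e)
    simp only [Subgroup.coe_mul, Subgroup.coe_inv] at h1
    rw [mul_inv_rev, show v.1.1⁻¹ * u.1⁻¹ * (u.1 * w.1.1) = v.1.1⁻¹ * w.1.1 by group,
      CfsgLib.Invol.invol_inv v.1.2] at h1
    refine Subtype.ext (hout_eq v.1.1 v.1 w.1 (fun hm => hq ?_) rfl (w.2.trans v.2.symm) h1)
    rw [← show (v.1.1 : G ⧸ L) = q from v.2]
    exact (QuotientGroup.eq.2 (by simpa using hm)).symm
  have hfible : ∀ q : G ⧸ L, Nat.card {u : I // π u = q} ≤ r := by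
    intro q
    by_cases hq : q = ((1 : G) : G ⧸ L)
    · subst hq; exact hfibBase.le
    rcases isEmpty_or_nonempty {u : I // π u = q} with he | ⟨⟨u, hu⟩⟩
    · rw [Nat.card_of_isEmpty]; exact Nat.zero_le _
    · exact hBquot ▸ Nat.card_le_card_of_injective _ (hfibinj q u hq hu)
  have hGL : Nat.card G = L.index * (r * b) := by
    rw [← hLcard, mul_comm, Subgroup.card_mul_index]
  have hIval : Nat.card I = r * L.index := by
    refine Nat.eq_of_mul_eq_mul_right hb0 ?_
    rw [hIcard, hGL]; ring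
  have hfib : ∀ q : G ⧸ L, Nat.card {u : I // π u = q} = r := by
    have := Fintype.ofFinite (G ⧸ L)
    have hs : ∑ q : G ⧸ L, Nat.card {u : I // π u = q} = ∑ _q : G ⧸ L, r := by
      rw [← Nat.card_sigma, Nat.card_congr (Equiv.sigmaFiberEquiv π), hIval, Finset.sum_const,
        Finset.card_univ, smul_eq_mul, ← Nat.card_eq_fintype_card, ← Subgroup.index_eq_card, mul_comm]
    exact fun q => (Finset.sum_eq_sum_iff_of_le fun q _ => hfible q).1 hs q (Finset.mem_univ _)
  have hsurj : ∀ (q : G ⧸ L) (u : I), q ≠ (1 : G) → π u = q → ∀ l : L,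
      ∃ v : I, π v = q ∧ ∃ hm : u.1 * v.1 ∈ L, ((⟨u.1 * v.1, hm⟩ : L) : L ⧸ B.subgroupOf L) = l := by
    intro q u hq hu l
    have hbij := (Nat.bijective_iff_injective_and_card _).2 ⟨hfibinj q u hq hu, (hfib q).trans hBquot.symm⟩
    obtain ⟨v, hv⟩ := hbij.2 l
    exact ⟨v.1, v.2, _, hv⟩
  -- a coset outside `L`
  have hLtop : L ≠ ⊤ := fun e => by
    rcases hsimp.eq_bot_or_eq_top_of_normal B (normalizer_eq_top_iff.1 e) with e' | e'
    · exact ht1 (mem_bot.1 (e' ▸ (self_mem_C t : t ∈ B)))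
    · exact h.C_ne_top ht1 e'
  obtain ⟨a0, ha0⟩ : ∃ a, a ∉ L := by
    by_contra! e
    exact hLtop ((eq_top_iff' L).2 e)
  have hnonbase : ∀ a : G, a ∉ L → (a : G ⧸ L) ≠ ((1 : G) : G ⧸ L) := fun a ha e => ha (by
    simpa using QuotientGroup.eq.1 e.symm)
  have hexI : ∀ q : G ⧸ L, ∃ u : I, π u = q := fun q => by
    have : Nonempty {u : I // π u = q} := (Nat.card_pos_iff.1 (by rw [hfib q]; exact hr.pos)).1
    exact ⟨this.some.1, this.some.2⟩
  obtain ⟨l0, hl0L, hl0B⟩ := SetLike.exists_of_lt (lt_of_le_of_ne hBL (Ne.symm hLB))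
  obtain ⟨u0, hu0⟩ := hexI a0
  -- an element of order `r` inverted by an involution
  obtain ⟨v0, hv0, hm0, hv0l⟩ := hsurj a0 u0 (hnonbase a0 ha0) hu0 ⟨l0, hl0L⟩
  set g := u0.1 * v0.1 with hg
  have hgL : g ∈ L := hm0
  have hgB : g ∉ B := fun hgB => by
    have h1 := mem_subgroupOf.1 (QuotientGroup.eq.1 hv0l)
    simp only [Subgroup.coe_mul, Subgroup.coe_inv] at h1
    have := mul_mem hgB h1
    rw [mul_inv_cancel_left] at this
    exact hl0B this
  have hginv : u0.1 * g * u0.1 = g⁻¹ := by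
    rw [hg, mul_inv_rev, CfsgLib.Invol.invol_inv u0.2, CfsgLib.Invol.invol_inv v0.2]
    rw [show u0.1 * (u0.1 * v0.1) * u0.1 = (u0.1 * u0.1) * (v0.1 * u0.1) by group, hsq _ u0.2, one_mul]
  have hg1 : g ≠ 1 := fun e => hgB (e ▸ one_mem _)
  have hgr : orderOf g = r := by
    rcases (Nat.dvd_prime hr).1 (orderOf_dvd_of_pow_eq_one (hout g hgL hgB).1) with e | e
    · exact absurd (orderOf_eq_one_iff.1 e) hg1
    · exact e
  set D := C g with hD
  have hDodd : Odd (Nat.card D) := by
    rw [← Nat.not_even_iff_odd]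
    intro hev
    obtain ⟨⟨v, hvD⟩, hv⟩ := exists_prime_orderOf_dvd_card' 2 (even_iff_two_dvd.1 hev)
    rw [Subgroup.orderOf_mk] at hv
    obtain ⟨c, hc⟩ := hconjB v hv
    have hCv : C v = D := h.C_eq hg1 (CfsgLib.Invol.invol_ne_one hv) hvD
    have hgB' : c * g * c⁻¹ ∈ B := by
      have h1 : g ∈ C v := hCv ▸ self_mem_C g
      rw [hB, ← hc, C_conj]
      simpa [mul_assoc] using h1
    apply hrB
    rw [← hgr, ← orderOf_conj' c g]
    exact Subgroup.orderOf_dvd_natCard _ hgB'
  obtain ⟨hND, hDinv, -⟩ := h.inverted hg1 hDodd u0.2 hginv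
  set N := normalizer (D : Set G) with hN
  -- `D ∩ L = ⟨g⟩`
  have hquot : ∀ y ∈ L, ∃ i : ℤ, (g ^ i)⁻¹ * y ∈ B := by
    intro y hy
    have hgen : ((⟨g, hgL⟩ : L) : L ⧸ B.subgroupOf L) ≠ 1 := fun e =>
      hgB (mem_subgroupOf.1 ((QuotientGroup.eq_one_iff (⟨g, hgL⟩ : L)).1 e))
    have := zpowers_eq_top_of_prime_card hBquot hgen
    obtain ⟨i, hi⟩ := mem_zpowers_iff.1 (this ▸ mem_top ((⟨y, hy⟩ : L) : L ⧸ B.subgroupOf L))
    refine ⟨i, ?_⟩
    rw [← QuotientGroup.mk_zpow] at hi
    have := mem_subgroupOf.1 (QuotientGroup.eq.1 hi)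
    simpa using this
  have hgfix := (hout g hgL hgB).2
  have hDL : ∀ y ∈ L, y ∈ D → y ∈ zpowers g := by
    intro y hy hyD
    obtain ⟨i, hi⟩ := hquot y hy
    have := hgfix _ hi (mem_centralizer_singleton_iff.1
      (mul_mem (inv_mem (zpow_mem (self_mem_C g) i)) hyD))
    rw [← inv_mul_eq_one.1 this]
    exact zpow_mem_zpowers g i
  have hgD : zpowers g ≤ D := zpowers_le.2 (self_mem_C g)
  have hNL : ∀ y ∈ N, y ∈ L → y ∈ zpowers g := by
    intro y hyN hyL
    refine hDL y hyL (mem_centralizer_singleton_iff.2 ?_)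
    have h1 : y * g * y⁻¹ ∈ zpowers g :=
      hDL _ (mul_mem (mul_mem hyL hgL) (inv_mem hyL)) ((mem_normalizer_iff.1 hyN g).1 (self_mem_C g))
    have h2 : y * g * y⁻¹ * g⁻¹ ∈ B := by
      obtain ⟨i, hi⟩ := hquot y hyL
      set z := (g ^ i)⁻¹ * y with hz
      have hy' : y = g ^ i * z := by rw [hz]; group
      have e : y * g * y⁻¹ * g⁻¹ = g ^ i * (z * (g * z⁻¹ * g⁻¹)) * (g ^ i)⁻¹ := by rw [hy']; group
      rw [e]
      exact (mem_normalizer_iff.1 (zpow_mem hgL i) _).1 (mul_mem hi ((mem_normalizer_iff.1 hgL _).1 (inv_mem hi)))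
    have h3 : y * g * y⁻¹ * g⁻¹ = 1 := hgfix _ h2 (mem_centralizer_singleton_iff.1
      (mul_mem (hgD h1) (inv_mem (self_mem_C g))))
    exact mul_inv_eq_iff_eq_mul.1 (mul_inv_eq_one.1 h3)
  have hstab : ∀ (c : G), c ∉ L → ∀ z ∈ B, c⁻¹ * z * c ∈ L → z = 1 := by
    intro c hc z hz hzc
    by_contra hz1
    apply hc
    have hd : orderOf (c⁻¹ * z * c) ∣ b := by
      rw [orderOf_conj_inv]
      exact Subgroup.orderOf_dvd_natCard _ hz
    have : c⁻¹ ∈ L := h.mem_normalizer_of ht1 hz1 hz (by simpa using hBcop _ hzc hd)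
    exact inv_mem_iff.1 this
  -- `D = ⟨g⟩`
  have hDeq : D = zpowers g := by
    refine le_antisymm (fun c hc => ?_) hgD
    by_contra hcg
    have hcL : c ∉ L := fun hm => hcg (hDL c hm hc)
    obtain ⟨w, hw⟩ := hexI c
    obtain ⟨v, hv, hm, hvl⟩ := hsurj c w (hnonbase c hcL) hw ⟨g, hgL⟩
    set d := w.1 * v.1 with hd
    have hwc : c⁻¹ * w.1 ∈ L := QuotientGroup.eq.1 hw.symm
    have hz : g⁻¹ * d ∈ B := by
      have := mem_subgroupOf.1 (QuotientGroup.eq.1 hvl.symm)
      simpa using this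
    have hdg : d = g := by
      refine (inv_mul_eq_one.1 (hstab c hcL _ hz ?_)).symm
      have hgc : c⁻¹ * g * c = g := by
        rw [mul_assoc, ← (mem_centralizer_singleton_iff.1 hc), inv_mul_cancel_left]
      have hdc : c⁻¹ * d * c = (c⁻¹ * w.1) * d⁻¹ * (c⁻¹ * w.1)⁻¹ := by
        rw [hd, mul_inv_rev, mul_inv_rev, inv_inv, CfsgLib.Invol.invol_inv w.2, CfsgLib.Invol.invol_inv v.2,
          show c⁻¹ * w.1 * (v.1 * w.1) * (w.1 * c) = c⁻¹ * w.1 * v.1 * (w.1 * w.1) * c by group, hsq _ w.2]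
        group
      rw [show c⁻¹ * (g⁻¹ * d) * c = (c⁻¹ * g * c)⁻¹ * (c⁻¹ * d * c) by group, hgc, hdc]
      exact mul_mem (inv_mem hgL) (mul_mem (mul_mem hwc (inv_mem hm)) (inv_mem hwc))
    have hwN : w.1 ∈ N := by
      refine h.mem_normalizer_of hg1 hg1 (self_mem_C g) ?_
      have e : w.1 * g * w.1⁻¹ = g⁻¹ := by
        rw [← hdg, hd, CfsgLib.Invol.invol_inv w.2, mul_inv_rev, CfsgLib.Invol.invol_inv w.2,
          CfsgLib.Invol.invol_inv v.2, show w.1 * (w.1 * v.1) * w.1 = (w.1 * w.1) * (v.1 * w.1) by group,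
          hsq _ w.2, one_mul]
      rw [e]; exact inv_mem (self_mem_C g)
    have h1 : c⁻¹ * w.1 ∈ zpowers g := hNL _ (mul_mem (inv_mem (le_normalizer hc)) hwN) hwc
    have hwD : w.1 ∈ D := by
      have := mul_mem hc (hgD h1)
      rwa [mul_inv_cancel_left] at this
    exact (Nat.not_even_iff_odd.2 hDodd) (even_iff_two_dvd.2 (w.2 ▸ Subgroup.orderOf_dvd_natCard _ hwD))
  have hDcard : Nat.card D = r := by rw [hDeq, Nat.card_zpowers, hgr]
  have hu0D : u0.1 ∉ D := fun hm =>
    (Nat.not_even_iff_odd.2 hDodd) (even_iff_two_dvd.2 (u0.2 ▸ Subgroup.orderOf_dvd_natCard _ hm))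
  have hu0N : u0.1 ∈ N := by
    refine h.mem_normalizer_of hg1 hg1 (self_mem_C g) ?_
    rw [CfsgLib.Invol.invol_inv u0.2, hginv]
    exact inv_mem (self_mem_C g)
  have hNcases : ∀ y ∈ N, y ∈ D ∨ u0.1 * y ∈ D := by
    intro y hy
    have hi : (D.subgroupOf N).index = 2 := by
      have h1 := card_mul_index (D.subgroupOf N)
      rw [Nat.card_congr (subgroupOfEquivOfLe (le_normalizer : D ≤ N)).toEquiv, hND, mul_comm 2] at h1
      exact Nat.eq_of_mul_eq_mul_left Nat.card_pos h1
    rcases em (y ∈ D) with hy' | hy'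
    · exact Or.inl hy'
    · right
      have := (Subgroup.mul_mem_iff_of_index_two hi (a := ⟨u0.1, hu0N⟩) (b := ⟨y, hy⟩)).2
        (iff_of_false (fun e => hu0D e) (fun e => hy' e))
      exact this
  -- the number of points
  have hu0L : u0.1 ∉ L := fun hm => ha0 (by
    have h1 : u0.1⁻¹ * a0 ∈ L := QuotientGroup.eq.1 hu0
    simpa using mul_mem hm h1)
  have hindex : L.index = b + 1 := by
    rw [Subgroup.index_eq_card, ← Finite.card_option]
    refine (Nat.card_congr (Equiv.ofBijective (fun o : Option B =>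
      o.elim ((1 : G) : G ⧸ L) fun z => (((z : G) * u0.1 : G) : G ⧸ L)) ⟨?_, ?_⟩)).symm
    · have hne : ∀ z : B, (((1 : G) : G ⧸ L)) ≠ (((z : G) * u0.1 : G) : G ⧸ L) := fun z e => hu0L (by
        have h1 : (z : G) * u0.1 ∈ L := by simpa using QuotientGroup.eq.1 e
        simpa using mul_mem (inv_mem (hBL z.2)) h1)
      rintro (_ | z) (_ | z') e
      · rfl
      · exact absurd e (hne z')
      · exact absurd e.symm (hne z)
      · have h1 : ((z : G) * u0.1)⁻¹ * ((z' : G) * u0.1) ∈ L := QuotientGroup.eq.1 e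
        have := hstab u0.1 hu0L _ (mul_mem (inv_mem z.2) z'.2) (by
          rwa [show u0.1⁻¹ * ((z : G)⁻¹ * z') * u0.1 = ((z : G) * u0.1)⁻¹ * ((z' : G) * u0.1) by group])
        exact congrArg some (Subtype.ext (inv_mul_eq_one.1 this))
    · intro q
      obtain ⟨x, rfl⟩ := QuotientGroup.mk_surjective q
      by_cases hx : x ∈ L
      · exact ⟨none, QuotientGroup.eq.2 (by simpa using hx)⟩
      obtain ⟨w, hw⟩ := hexI x
      obtain ⟨v, hv, hm, hvl⟩ := hsurj x w (hnonbase x hx) hw ⟨l0, hl0L⟩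
      set d := w.1 * v.1 with hd
      have hdB : d ∉ B := fun hdB => by
        have h1 := mem_subgroupOf.1 (QuotientGroup.eq.1 hvl)
        simp only [Subgroup.coe_mul, Subgroup.coe_inv] at h1
        have := mul_mem hdB h1
        rw [mul_inv_cancel_left] at this
        exact hl0B this
      have hdr : orderOf d = r := by
        rcases (Nat.dvd_prime hr).1 (orderOf_dvd_of_pow_eq_one (hout d hm hdB).1) with e | e
        · exact absurd (orderOf_eq_one_iff.1 e) (fun e' => hdB (e' ▸ one_mem _))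
        · exact e
      -- `d` is conjugate under `B` to a power of `g`
      obtain ⟨i, hi⟩ := hquot d hm
      have hgi1 : g ^ i ≠ 1 := fun e => hdB (by rwa [e, inv_one, one_mul] at hi)
      have hgiB : g ^ i ∉ B := fun hmem => hdB (by
        have := mul_mem hmem hi
        rwa [mul_inv_cancel_left] at this)
      have hfixi := (hout _ (zpow_mem hgL i) hgiB).2
      have hbij : Function.Bijective fun z : B => (⟨(g ^ i)⁻¹ * ((z : G) * g ^ i * (z : G)⁻¹),
          by
            have := mul_mem ((mem_normalizer_iff''.1 (zpow_mem hgL i) z).1 z.2) (inv_mem z.2)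
            rwa [show (g ^ i)⁻¹ * (z : G) * g ^ i * (z : G)⁻¹ = (g ^ i)⁻¹ * ((z : G) * g ^ i * (z : G)⁻¹) by group] at this⟩ : B) := by
        refine Finite.injective_iff_bijective.1 fun z z' e => Subtype.ext ?_
        have e' : (z : G) * g ^ i * (z : G)⁻¹ = (z' : G) * g ^ i * (z' : G)⁻¹ :=
          mul_left_cancel (congrArg Subtype.val e)
        refine (inv_mul_eq_one.1 (hfixi _ (mul_mem (inv_mem z.2) z'.2) ?_))
        calc (z : G)⁻¹ * z' * g ^ i = (z : G)⁻¹ * ((z' : G) * g ^ i * (z' : G)⁻¹) * z' := by group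
          _ = (z : G)⁻¹ * ((z : G) * g ^ i * (z : G)⁻¹) * z' := by rw [e']
          _ = g ^ i * ((z : G)⁻¹ * z') := by group
      obtain ⟨z, hzeq⟩ := hbij.2 ⟨_, hi⟩
      have hzd : (z : G) * g ^ i * (z : G)⁻¹ = d := mul_left_cancel (congrArg Subtype.val hzeq)
      refine ⟨some z, QuotientGroup.eq.2 ?_⟩
      -- the point `z⁻¹ x` is fixed by `g ^ i`
      set y := (z : G)⁻¹ * x with hy
      have hwx : x⁻¹ * w.1 ∈ L := QuotientGroup.eq.1 hw.symm
      have hdx : x⁻¹ * d * x ∈ L := by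
        have e : x⁻¹ * d * x = (x⁻¹ * w.1) * d⁻¹ * (x⁻¹ * w.1)⁻¹ := by
          rw [hd, mul_inv_rev, mul_inv_rev, inv_inv, CfsgLib.Invol.invol_inv w.2, CfsgLib.Invol.invol_inv v.2,
            show x⁻¹ * w.1 * (v.1 * w.1) * (w.1 * x) = x⁻¹ * w.1 * v.1 * (w.1 * w.1) * x by group, hsq _ w.2]
          group
        rw [e]
        exact mul_mem (mul_mem hwx (inv_mem hm)) (inv_mem hwx)
      have hgy : y⁻¹ * g ^ i * y ∈ L := by
        rw [hy, show ((z : G)⁻¹ * x)⁻¹ * g ^ i * ((z : G)⁻¹ * x) = x⁻¹ * ((z : G) * g ^ i * (z : G)⁻¹) * x by group, hzd]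
        exact hdx
      set e1 := y⁻¹ * g ^ i * y with he1
      have hgio : orderOf (g ^ i) = r := by
        rw [← hdr, ← hzd]; exact (orderOf_conj' (z : G) _).symm
      have he1o : orderOf e1 = r := by
        rw [← hgio, he1, orderOf_conj_inv]
      have he1B : e1 ∉ B := fun he => hrB (he1o ▸ Subgroup.orderOf_dvd_natCard _ he)
      obtain ⟨j, hj⟩ := hquot e1 hgy
      have hgjB : g ^ j ∉ B := fun hmem => he1B (by
        have := mul_mem hmem hj
        rwa [mul_inv_cancel_left] at this)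
      have hfixj := (hout _ (zpow_mem hgL j) hgjB).2
      have hbij' : Function.Bijective fun z : B => (⟨(g ^ j)⁻¹ * ((z : G) * g ^ j * (z : G)⁻¹),
          by
            have := mul_mem ((mem_normalizer_iff''.1 (zpow_mem hgL j) z).1 z.2) (inv_mem z.2)
            rwa [show (g ^ j)⁻¹ * (z : G) * g ^ j * (z : G)⁻¹ = (g ^ j)⁻¹ * ((z : G) * g ^ j * (z : G)⁻¹) by group] at this⟩ : B) := by
        refine Finite.injective_iff_bijective.1 fun z z' e => Subtype.ext ?_
        have e' : (z : G) * g ^ j * (z : G)⁻¹ = (z' : G) * g ^ j * (z' : G)⁻¹ :=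
          mul_left_cancel (congrArg Subtype.val e)
        refine (inv_mul_eq_one.1 (hfixj _ (mul_mem (inv_mem z.2) z'.2) ?_))
        calc (z : G)⁻¹ * z' * g ^ j = (z : G)⁻¹ * ((z' : G) * g ^ j * (z' : G)⁻¹) * z' := by group
          _ = (z : G)⁻¹ * ((z : G) * g ^ j * (z : G)⁻¹) * z' := by rw [e']
          _ = g ^ j * ((z : G)⁻¹ * z') := by group
      obtain ⟨z', hz'eq⟩ := hbij'.2 ⟨_, hj⟩
      have hz'e : (z' : G) * g ^ j * (z' : G)⁻¹ = e1 := mul_left_cancel (congrArg Subtype.val hz'eq)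
      have hyN : y * z' ∈ N := by
        refine h.mem_normalizer_of hg1 (z := g ^ j) (fun e => hgjB (e ▸ one_mem _))
          (zpow_mem (self_mem_C g) j) ?_
        rw [show y * (z' : G) * g ^ j * (y * z')⁻¹ = y * ((z' : G) * g ^ j * (z' : G)⁻¹) * y⁻¹ by group, hz'e, he1,
          show y * (y⁻¹ * g ^ i * y) * y⁻¹ = g ^ i by group]
        exact zpow_mem (self_mem_C g) i
      have hz'L : (z' : G) ∈ L := hBL z'.2
      have hyL : y ∉ L := fun hy' => hx (by
        have := mul_mem (hBL z.2) hy'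
        rwa [hy, mul_inv_cancel_left] at this)
      rcases hNcases _ hyN with hc | hc
      · refine absurd ?_ hyL
        have := mul_mem (hDeq.le.trans (zpowers_le.2 hgL) hc) (inv_mem hz'L)
        rwa [mul_inv_cancel_right] at this
      · have := mul_mem (hDeq.le.trans (zpowers_le.2 hgL) hc) (inv_mem hz'L)
        rw [hy] at this
        rw [mul_inv_rev, CfsgLib.Invol.invol_inv u0.2]
        rwa [show u0.1 * ((z : G)⁻¹ * x * (z' : G)) * (z' : G)⁻¹ = u0.1 * (z : G)⁻¹ * x by group] at this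
  -- counting pairs of involutions
  set n := Nat.card I with hn
  have hn' : n = r * (b + 1) := by rw [hIval, hindex]
  let f : G → ℕ := fun z => Nat.card {u : I // orderOf (u.1 * z) = 2}
  have hsum : ∑ z : G, f z = n * n := by
    rw [← Nat.card_sigma, hn, ← Nat.card_prod]
    refine Nat.card_congr (Equiv.ofBijective
      (fun p : (Σ z : G, {u : I // orderOf (u.1 * z) = 2}) => ((p.2.1, ⟨p.2.1.1 * p.1, p.2.2⟩) : I × I)) ⟨?_, ?_⟩)
    · rintro ⟨z, u, hu⟩ ⟨z', u', hu'⟩ e
      obtain ⟨e1, e2⟩ := Prod.mk.injEq _ _ _ _ ▸ e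
      have e1' : u = u' := e1
      subst e1'
      have e2' : u.1 * z = u.1 * z' := congrArg Subtype.val e2
      obtain rfl : z = z' := mul_left_cancel e2'
      rfl
    · rintro ⟨u, v⟩
      exact ⟨⟨u.1 * v.1, u, by rw [← mul_assoc, hsq _ u.2, one_mul]; exact v.2⟩,
        Prod.ext rfl (Subtype.ext (by
          show u.1 * (u.1 * v.1) = v.1
          rw [← mul_assoc, hsq _ u.2, one_mul]))⟩
  have hinverts : ∀ (z : G) (u : I), orderOf (u.1 * z) = 2 → u.1 * z * u.1 = z⁻¹ := fun z u hu =>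
    (inv_eq_of_mul_eq_one_left (by rw [mul_assoc (u.1 * z)]; exact hsq _ hu)).symm
  have hIC : ∀ v : G, orderOf v = 2 → Nat.card {u : I // u.1 ∈ C v} = r := by
    intro v hv
    obtain ⟨c, hc⟩ := hconjB v hv
    rw [← hIB]
    refine Nat.card_congr
      { toFun := fun u => ⟨c * u.1.1 * c⁻¹, (orderOf_conj' c _).trans u.1.2, by
          rw [hB, ← hc, C_conj]; simpa [mul_assoc] using u.2⟩
        invFun := fun w => ⟨⟨c⁻¹ * w.1 * c, (orderOf_conj_inv c _).trans w.2.1⟩,
          (C_conj c v).1 (by rw [hc]; exact w.2.2)⟩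
        left_inv := fun u => Subtype.ext (Subtype.ext (by simp [mul_assoc]))
        right_inv := fun w => Subtype.ext (by simp [mul_assoc]) }
  have hfodd : ∀ z : G, z ≠ 1 → Odd (Nat.card (C z)) → (∃ u : I, orderOf (u.1 * z) = 2) →
      f z = Nat.card (C z) := by
    intro z hz hodd ⟨u, hu⟩
    obtain ⟨-, hinvC, hordC⟩ := h.inverted hz hodd u.2 (hinverts z u hu)
    refine Nat.card_congr
      { toFun := fun v => ⟨u.1 * v.1.1, ?_⟩
        invFun := fun c => ⟨⟨u.1 * c.1, hordC c c.2⟩, ?_⟩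
        left_inv := fun v => Subtype.ext (Subtype.ext (by simp only; rw [← mul_assoc, hsq _ u.2, one_mul]))
        right_inv := fun c => Subtype.ext (by simp only; rw [← mul_assoc, hsq _ u.2, one_mul]) }
    · rw [mem_centralizer_singleton_iff]
      have h1 := hinverts z v.1 v.2
      have h2 := hinverts z u hu
      calc u.1 * v.1.1 * z = u.1 * (v.1.1 * z * v.1.1) * v.1.1 := by
            rw [show u.1 * (v.1.1 * z * v.1.1) * v.1.1 = u.1 * v.1.1 * z * (v.1.1 * v.1.1) by group,
              hsq _ v.1.2, mul_one]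
        _ = u.1 * z⁻¹ * v.1.1 := by rw [h1]
        _ = u.1 * (u.1 * z * u.1) * v.1.1 := by rw [h2]
        _ = z * (u.1 * v.1.1) := by rw [show u.1 * (u.1 * z * u.1) = (u.1 * u.1) * z * u.1 by group,
              hsq _ u.2, one_mul, mul_assoc]
    · rw [mul_assoc]
      exact hordC _ (mul_mem c.2 (self_mem_C z))
  let SB : Finset G := Finset.univ.filter fun z => z ≠ 1 ∧ ∃ c : G, c * z * c⁻¹ ∈ B
  let SD : Finset G := Finset.univ.filter fun z => z ≠ 1 ∧ ∃ c : G, c * z * c⁻¹ ∈ D
  let R : Finset G := Finset.univ.filter fun z => z ≠ 1 ∧ z ∉ SB ∧ z ∉ SD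
  have hSBc : SB.card = (b + 1) * (b - 1) := by
    rw [← hindex, hb, ← h.card_conj_type ht1, Nat.card_eq_fintype_card, Fintype.card_subtype]
  have hNindex : 2 * r * N.index = Nat.card G := by
    rw [← hDcard, ← hND, card_mul_index]
  have hSDc : SD.card = N.index * (r - 1) := by
    rw [← hDcard, hN, ← h.card_conj_type hg1, Nat.card_eq_fintype_card, Fintype.card_subtype]
  have hdis : Disjoint SB SD := by
    rw [Finset.disjoint_left]
    intro z hzB hzD
    obtain ⟨hz, c, hc⟩ := (Finset.mem_filter.1 hzB).2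
    obtain ⟨-, c', hc'⟩ := (Finset.mem_filter.1 hzD).2
    have h1 : orderOf z ∣ b := by
      rw [← orderOf_conj' c z]
      exact Subgroup.orderOf_dvd_natCard _ hc
    have h2 : orderOf z ∣ r := by
      rw [← orderOf_conj' c' z, ← hDcard]
      exact Subgroup.orderOf_dvd_natCard _ hc'
    rcases (Nat.dvd_prime hr).1 h2 with e | e
    · exact hz (orderOf_eq_one_iff.1 e)
    · exact hrB (e ▸ h1)
  have huniv : (Finset.univ : Finset G) = insert 1 (SB ∪ SD ∪ R) := by
    ext z
    simp only [Finset.mem_univ, true_iff, Finset.mem_insert, Finset.mem_union]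
    by_cases hz : z = 1
    · exact Or.inl hz
    · by_cases hzB : z ∈ SB
      · exact Or.inr (Or.inl (Or.inl hzB))
      · by_cases hzD : z ∈ SD
        · exact Or.inr (Or.inl (Or.inr hzD))
        · exact Or.inr (Or.inr (Finset.mem_filter.2 ⟨Finset.mem_univ _, hz, hzB, hzD⟩))
  have h1not : (1 : G) ∉ SB ∪ SD ∪ R := by simp [SB, SD, R]
  have hdisR : Disjoint (SB ∪ SD) R := by
    rw [Finset.disjoint_left]
    intro z hz hzR
    obtain ⟨-, -, hzB, hzD⟩ := Finset.mem_filter.1 hzR
    rcases Finset.mem_union.1 hz with e | e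
    · exact hzB e
    · exact hzD e
  have hcardG : Nat.card G = 1 + SB.card + SD.card + R.card := by
    rw [Nat.card_eq_fintype_card, ← Finset.card_univ, huniv, Finset.card_insert_of_notMem h1not,
      Finset.card_union_of_disjoint hdisR, Finset.card_union_of_disjoint hdis]
    omega
  have hf1 : f 1 = n := Nat.card_congr (Equiv.subtypeUnivEquiv fun u : I => by rw [mul_one]; exact u.2)
  have hfB : ∀ z ∈ SB, f z = if orderOf z = 2 then r - 1 else 0 := by
    intro z hz
    obtain ⟨hz1, c, hc⟩ := (Finset.mem_filter.1 hz).2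
    have hCz : ∀ y, y ∈ C z ↔ c * y * c⁻¹ ∈ B := by
      intro y
      have hcz1 : c * z * c⁻¹ ≠ 1 := fun e => hz1 (conj_eq_one_iff.1 e)
      rw [hB, ← h.C_eq ht1 hcz1 hc, C_conj]
      simp [mul_assoc]
    -- an inverting involution lies in the centralizer
    have hin : ∀ u : I, orderOf (u.1 * z) = 2 → u.1 ∈ C z := by
      intro u hu
      rw [hCz]
      refine hinL _ ((orderOf_conj' c _).trans u.2) (h.mem_normalizer_of ht1
        (z := c * z * c⁻¹) (fun e => hz1 (conj_eq_one_iff.1 e)) hc ?_)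
      have e : c * u.1 * c⁻¹ * (c * z * c⁻¹) * (c * u.1 * c⁻¹)⁻¹ = (c * z * c⁻¹)⁻¹ := by
        rw [show c * u.1 * c⁻¹ * (c * z * c⁻¹) * (c * u.1 * c⁻¹)⁻¹ = c * (u.1 * z * u.1⁻¹) * c⁻¹ by group,
          CfsgLib.Invol.invol_inv u.2, hinverts z u hu]
        group
      rw [e]; exact inv_mem hc
    by_cases hz2 : orderOf z = 2
    · rw [if_pos hz2]
      have hzz : z * z = 1 := hsq z hz2
      have e : {u : I // orderOf (u.1 * z) = 2} ≃ {u : {u : I // u.1 ∈ C z} // u ≠ ⟨⟨z, hz2⟩, self_mem_C z⟩} :=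
        { toFun := fun u => ⟨⟨u.1, hin u.1 u.2⟩, fun e => by
            have h' : u.1.1 = z := congrArg (fun w : {u : I // u.1 ∈ C z} => w.1.1) e
            have := u.2
            rw [h', hzz, orderOf_one] at this
            omega⟩
          invFun := fun u => ⟨u.1.1, CfsgLib.Invol.invol_of_mul_self (by
              rw [show u.1.1.1 * z * (u.1.1.1 * z) = u.1.1.1 * (z * u.1.1.1) * z by group,
                ← mem_centralizer_singleton_iff.1 u.1.2,
                show u.1.1.1 * (u.1.1.1 * z) * z = u.1.1.1 * u.1.1.1 * (z * z) by group, hsq _ u.1.1.2, hzz,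
                one_mul])
            (fun e => u.2 (Subtype.ext (Subtype.ext (by
              rw [← inv_eq_of_mul_eq_one_left e]; exact inv_eq_of_mul_eq_one_right hzz))))⟩
          left_inv := fun u => rfl
          right_inv := fun u => rfl }
      show Nat.card {u : I // orderOf (u.1 * z) = 2} = r - 1
      have := Fintype.ofFinite {u : I // u.1 ∈ C z}
      rw [Nat.card_congr e, Nat.card_eq_fintype_card, Fintype.card_subtype_compl, Fintype.card_subtype_eq,
        ← Nat.card_eq_fintype_card, hIC z hz2]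
    · rw [if_neg hz2]
      have : IsEmpty {u : I // orderOf (u.1 * z) = 2} := ⟨fun u => by
        have hm := hin u.1 u.2
        have h1 := hinverts z u.1 u.2
        rw [mem_centralizer_singleton_iff.1 hm, mul_assoc, hsq _ u.1.2, mul_one] at h1
        apply hz2
        exact CfsgLib.Invol.invol_of_mul_self (by nth_rewrite 1 [h1]; exact inv_mul_cancel _) hz1⟩
      exact Nat.card_of_isEmpty
  have hsumB : ∑ z ∈ SB, f z = n * (r - 1) := by
    rw [Finset.sum_congr rfl hfB, ← Finset.sum_filter, Finset.sum_const, smul_eq_mul]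
    congr 1
    rw [hn, Nat.card_eq_fintype_card, Fintype.card_subtype]
    congr 1
    ext z
    simp only [Finset.mem_filter, Finset.mem_univ, true_and, SB]
    refine ⟨fun h' => h'.2, fun hz2 => ⟨⟨CfsgLib.Invol.invol_ne_one hz2, ?_⟩, hz2⟩⟩
    obtain ⟨c, hc⟩ := hconjB z hz2
    exact ⟨c, hc ▸ self_mem_C t⟩
  have hfD : ∀ z ∈ SD, f z = r := by
    intro z hz
    obtain ⟨hz1, c, hc⟩ := (Finset.mem_filter.1 hz).2
    have hcz1 : c * z * c⁻¹ ≠ 1 := fun e => hz1 (conj_eq_one_iff.1 e)
    have hCcard : Nat.card (C z) = r := by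
      rw [← hDcard, hD, ← h.C_eq hg1 hcz1 hc]
      exact Nat.card_congr
        { toFun := fun y => ⟨c * y.1 * c⁻¹, by rw [C_conj]; simpa [mul_assoc] using y.2⟩
          invFun := fun y => ⟨c⁻¹ * y.1 * c, (C_conj c z).1 y.2⟩
          left_inv := fun y => Subtype.ext (by simp [mul_assoc])
          right_inv := fun y => Subtype.ext (by simp [mul_assoc]) }
    rw [← hCcard]
    refine hfodd z hz1 (by rw [hCcard]; exact hr.odd_of_ne_two hr2) ?_
    have hi1 : orderOf (c⁻¹ * u0.1 * c) = 2 := (orderOf_conj_inv c _).trans u0.2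
    refine ⟨⟨c⁻¹ * u0.1 * c, hi1⟩, ?_⟩
    show orderOf (c⁻¹ * u0.1 * c * z) = 2
    rw [show c⁻¹ * u0.1 * c * z = c⁻¹ * (u0.1 * (c * z * c⁻¹)) * c by group, orderOf_conj_inv]
    exact (h.inverted hg1 hDodd u0.2 hginv).2.2 _ hc
  have hsumD : ∑ z ∈ SD, f z = SD.card * r := by
    rw [Finset.sum_congr rfl hfD, Finset.sum_const, smul_eq_mul]
  have hsumR : n * n = n + n * (r - 1) + SD.card * r + ∑ z ∈ R, f z := by
    rw [← hsum, ← hsumB, ← hsumD, ← hf1, huniv, Finset.sum_insert h1not, Finset.sum_union hdisR,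
      Finset.sum_union hdis]
    ring
  have hG : Nat.card G = (b + 1) * (r * b) := by rw [hGL, hindex]
  have hb1 : 1 ≤ b := hb0
  have hr1 : 1 ≤ r := hr.one_le
  have h2R : 2 * R.card + 2 = (b + 1) * b * (r - 1) + 2 * b + 2 := by
    have h3 : 2 * SD.card = (b + 1) * b * (r - 1) := by
      refine Nat.eq_of_mul_eq_mul_left hr.pos ?_
      rw [hSDc, show r * (2 * (N.index * (r - 1))) = 2 * r * N.index * (r - 1) by ring, hNindex, hG]
      ring
    obtain ⟨b', hb'⟩ : ∃ b', b = b' + 1 := ⟨b - 1, by omega⟩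
    rw [show b - 1 = b' by omega] at hSBc
    rw [hb'] at h3 hG hSBc ⊢
    obtain ⟨r', rfl⟩ : ∃ r', r = r' + 1 := ⟨r - 1, by omega⟩
    simp only [Nat.add_sub_cancel] at h3 hSBc ⊢
    linarith
  have h2S : 2 * ∑ z ∈ R, f z = (b + 1) * r * b * (r + 1) := by
    have h3 : 2 * SD.card = (b + 1) * b * (r - 1) := by
      refine Nat.eq_of_mul_eq_mul_left hr.pos ?_
      rw [hSDc, show r * (2 * (N.index * (r - 1))) = 2 * r * N.index * (r - 1) by ring, hNindex, hG]
      ring
    obtain ⟨r', rfl⟩ : ∃ r', r = r' + 1 := ⟨r - 1, by omega⟩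
    simp only [Nat.add_sub_cancel] at h3 hsumR ⊢
    rw [hn'] at hsumR
    have h3' := congrArg ((r' + 1) * ·) h3
    linarith
  have hfR : ∀ z ∈ R, f z ≤ r + 2 := by
    intro z hz
    obtain ⟨-, hz1, hzB, hzD⟩ := Finset.mem_filter.1 hz
    rcases Nat.eq_zero_or_pos (f z) with e | hpos
    · omega
    obtain ⟨⟨u⟩⟩ := Nat.card_pos_iff.1 hpos
    have hodd : Odd (Nat.card (C z)) := by
      rw [← Nat.not_even_iff_odd]
      intro hev
      obtain ⟨⟨v, hvC⟩, hv⟩ := exists_prime_orderOf_dvd_card' 2 (even_iff_two_dvd.1 hev)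
      rw [Subgroup.orderOf_mk] at hv
      obtain ⟨c, hc⟩ := hconjB v hv
      refine hzB (Finset.mem_filter.2 ⟨Finset.mem_univ _, hz1, c, ?_⟩)
      rw [hB, ← hc, C_conj]
      simp only [mul_assoc, inv_mul_cancel_left, inv_mul_cancel, mul_one]
      exact mem_centralizer_singleton_iff.2 (mem_centralizer_singleton_iff.1 hvC).symm
    set c := Nat.card (C z) with hc
    obtain ⟨hNz, hinvz, hordz⟩ := h.inverted hz1 hodd u.1.2 (hinverts z u.1 u.2)
    rw [hfodd z hz1 hodd ⟨u.1, u.2⟩, ← hc]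
    let S : Finset G := Finset.univ.filter fun w => w ≠ 1 ∧ ∃ d : G, d * w * d⁻¹ ∈ C z
    have hSR : S ⊆ R := by
      intro w hw
      obtain ⟨hw1, d, hd⟩ := (Finset.mem_filter.1 hw).2
      have hdw1 : d * w * d⁻¹ ≠ 1 := fun e => hw1 (conj_eq_one_iff.1 e)
      have hback : ∀ {K : G} (hK : K ≠ 1) (e : G), e * w * e⁻¹ ∈ C K → e * d⁻¹ * z * (e * d⁻¹)⁻¹ ∈ C K := by
        intro K hK e he
        have hew1 : e * w * e⁻¹ ≠ 1 := fun e' => hw1 (conj_eq_one_iff.1 e')
        rw [← h.C_eq hK hew1 he, C_conj,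
          show e⁻¹ * (e * d⁻¹ * z * (e * d⁻¹)⁻¹) * e = d⁻¹ * z * d by group, ← C_conj d w,
          h.C_eq hz1 hdw1 hd]
        exact self_mem_C z
      refine Finset.mem_filter.2 ⟨Finset.mem_univ _, hw1, fun hm => ?_, fun hm => ?_⟩
      · obtain ⟨-, e, he⟩ := (Finset.mem_filter.1 hm).2
        exact hzB (Finset.mem_filter.2 ⟨Finset.mem_univ _, hz1, e * d⁻¹, hback ht1 e he⟩)
      · obtain ⟨-, e, he⟩ := (Finset.mem_filter.1 hm).2
        exact hzD (Finset.mem_filter.2 ⟨Finset.mem_univ _, hz1, e * d⁻¹, hback hg1 e he⟩)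
    have hfS : ∀ w ∈ S, f w = c := by
      intro w hw
      obtain ⟨hw1, d, hd⟩ := (Finset.mem_filter.1 hw).2
      have hdw1 : d * w * d⁻¹ ≠ 1 := fun e => hw1 (conj_eq_one_iff.1 e)
      have hCw : Nat.card (C w) = c := by
        rw [hc, ← h.C_eq hz1 hdw1 hd]
        exact Nat.card_congr
          { toFun := fun y => ⟨d * y.1 * d⁻¹, by rw [C_conj]; simpa [mul_assoc] using y.2⟩
            invFun := fun y => ⟨d⁻¹ * y.1 * d, (C_conj d w).1 y.2⟩
            left_inv := fun y => Subtype.ext (by simp [mul_assoc])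
            right_inv := fun y => Subtype.ext (by simp [mul_assoc]) }
      have hi1 : orderOf (d⁻¹ * u.1.1 * d) = 2 := (orderOf_conj_inv d _).trans u.1.2
      rw [← hCw]
      refine hfodd w hw1 (by rw [hCw]; exact hodd) ⟨⟨d⁻¹ * u.1.1 * d, hi1⟩, ?_⟩
      show orderOf (d⁻¹ * u.1.1 * d * w) = 2
      rw [show d⁻¹ * u.1.1 * d * w = d⁻¹ * (u.1.1 * (d * w * d⁻¹)) * d by group, orderOf_conj_inv]
      exact hordz _ hd
    have hScard : S.card = (normalizer ((C z : Subgroup G) : Set G)).index * (c - 1) := by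
      rw [hc, ← h.card_conj_type hz1, Nat.card_eq_fintype_card, Fintype.card_subtype]
    have hle : S.card * c ≤ ∑ w ∈ R, f w := by
      calc S.card * c = ∑ w ∈ S, f w := by rw [Finset.sum_congr rfl hfS, Finset.sum_const, smul_eq_mul]
        _ ≤ _ := Finset.sum_le_sum_of_subset hSR
    have hidx : 2 * c * (normalizer ((C z : Subgroup G) : Set G)).index = Nat.card G := by
      rw [hc, ← hNz, card_mul_index]
    have hle' : Nat.card G * (c - 1) ≤ Nat.card G * (r + 1) := by
      calc Nat.card G * (c - 1) = 2 * (S.card * c) := by rw [hScard, ← hidx]; ring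
        _ ≤ 2 * ∑ w ∈ R, f w := Nat.mul_le_mul_left 2 hle
        _ = _ := by rw [h2S, hG]; ring
    have := Nat.le_of_mul_le_mul_left hle' Nat.card_pos
    omega
  have hsle : ∑ z ∈ R, f z ≤ (r + 2) * R.card := by
    rw [mul_comm]
    simpa using Finset.sum_le_card_nsmul R f (r + 2) hfR
  have hbr : b ≤ r + 1 := by
    obtain ⟨r', rfl⟩ : ∃ r', r = r' + 1 := ⟨r - 1, by omega⟩
    simp only [Nat.add_sub_cancel] at h2R
    have hR' := congrArg ((r' + 3) * ·) h2R
    have key : b * (b + 1) ≤ b * (r' + 3) := by linarith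
    have := Nat.le_of_mul_le_mul_left key hb0
    omega
  -- hence `B` is elementary abelian
  have hBsq : ∀ z ∈ B, z ^ 2 = 1 := by
    intro z hz
    by_contra hz2
    have hz1 : z ≠ 1 := fun e => hz2 (by rw [e, one_pow])
    have hinj : Function.Injective (fun o : Option (Option {u : G // orderOf u = 2 ∧ u ∈ B}) =>
        (o.elim ⟨z, hz⟩ (fun o' => o'.elim 1 fun u => ⟨u.1, u.2.2⟩) : B)) := by
      have hzne : ∀ u : {u : G // orderOf u = 2 ∧ u ∈ B}, z ≠ u.1 := fun u e => hz2 (by
        rw [e, pow_two]; exact hsq _ u.2.1)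
      rintro (_ | _ | u) (_ | _ | v) e
      all_goals first
        | rfl
        | exact absurd (congrArg Subtype.val e) hz1
        | exact absurd (congrArg Subtype.val e).symm hz1
        | exact absurd (congrArg Subtype.val e) (hzne _)
        | exact absurd (congrArg Subtype.val e).symm (hzne _)
        | exact absurd (congrArg Subtype.val e).symm (CfsgLib.Invol.invol_ne_one u.2.1)
        | exact absurd (congrArg Subtype.val e) (CfsgLib.Invol.invol_ne_one u.2.1)
        | exact absurd (congrArg Subtype.val e).symm (CfsgLib.Invol.invol_ne_one v.2.1)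
        | exact absurd (congrArg Subtype.val e) (CfsgLib.Invol.invol_ne_one v.2.1)
        | (have e' := congrArg Subtype.val e; exact congrArg (fun w => some (some w)) (Subtype.ext e'))
    have h1 := Nat.card_le_card_of_injective _ hinj
    rw [Finite.card_option, Finite.card_option, hIB] at h1
    omega
  have hBcard : b = r + 1 := by
    have hinj : Function.Injective (fun o : Option {u : G // orderOf u = 2 ∧ u ∈ B} =>
        (o.elim 1 fun u => ⟨u.1, u.2.2⟩ : B)) := by
      rintro (_ | u) (_ | v) e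
      · rfl
      · exact absurd (congrArg Subtype.val e).symm (CfsgLib.Invol.invol_ne_one v.2.1)
      · exact absurd (congrArg Subtype.val e) (CfsgLib.Invol.invol_ne_one u.2.1)
      · have e' := congrArg Subtype.val e; exact congrArg some (Subtype.ext e')
    have h1 := Nat.card_le_card_of_injective _ hinj
    rw [Finite.card_option, hIB] at h1
    omega
  have hBT : B = (T : Subgroup G) := T.3 (fun z => ⟨1, Subtype.ext (hBsq z.1 z.2)⟩) hTB
  constructor
  · refine ⟨h.sylow_not_cyclic T, ?_, fun u hu => ⟨⟨⟨fun a c =>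
      Subtype.ext (h.comm u (CfsgLib.Invol.invol_ne_one hu) a a.2 c c.2)⟩⟩, fun y hy => ?_⟩⟩
    · intro hn
      rcases hsimp.eq_bot_or_eq_top_of_normal (T : Subgroup G) hn with e | e
      · exact h.sylow_not_cyclic T (by rw [e]; infer_instance)
      · exact h.C_ne_top ht1 (top_le_iff.1 (e ▸ hTB))
    · obtain ⟨c, hc⟩ := hconjB u hu
      have : c * y * c⁻¹ ∈ B := by rw [hB, ← hc, C_conj]; simpa [mul_assoc] using hy
      have h2 := hBsq _ this
      rwa [conj_pow, conj_eq_one_iff] at h2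
  · show (Nat.card (T : Subgroup G) - 1).Prime
    rw [← hBT, ← hb, hBcard, Nat.add_sub_cancel]
    exact hr

end CA

end CfsgLib.StructB.SelfNorm
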