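import Mathlib
import Cfsg.Agent.Lib.Perm.DerivedLength
import Cfsg.Agent.Lib.Perm.DerivedLengthLinear
import Cfsg.Agent.Lib.KnownB.SpElem

/-!
Derived length of a Sylow `2`-subgroup of a symplectic group in odd characteristic: a quaternion
subgroup of `Sp_2` wreathed repeatedly with a group of order two attains the linear bound.
-/

set_option autoImplicit false
set_option linter.unusedSectionVars false
set_option linter.style.haveILetI false

namespace CfsgLib.StructB.SpDerived

open Matrix
open scoped RegularWreathProduct commutatorElement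

variable {F : Type*} [Field F]

/-! ### Wreath product -/

section Wreath

variable {l : Type*} [Fintype l] [DecidableEq l] {Q : Type*} [Group Q] [Fintype Q] [DecidableEq Q]
variable {D : Type*} [Group D]

/-- The coordinates of `l × Q`. -/
def coord : (l ⊕ l) × Q ≃ (l × Q) ⊕ (l × Q) := Equiv.sumProdDistrib l l Q

/-- Block monomial matrix of a wreath element. -/
def wmat (f : D →* symplecticGroup l F) (w : D ≀ᵣ Q) :
    Matrix ((l ⊕ l) × Q) ((l ⊕ l) × Q) F :=
  Matrix.of fun r c => if c.2 = w.right⁻¹ * r.2 then (f (w.left r.2)).1 r.1 c.1 else 0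

theorem wmat_mul (f : D →* symplecticGroup l F) (v w : D ≀ᵣ Q) :
    wmat f (v * w) = wmat f v * wmat f w := by
  ext r c
  rw [Matrix.mul_apply, Fintype.sum_prod_type, Finset.sum_comm,
    Finset.sum_eq_single (v.right⁻¹ * r.2)]
  · simp only [wmat, Matrix.of_apply, if_true, RegularWreathProduct.mul_left,
      RegularWreathProduct.mul_right, _root_.mul_inv_rev, Pi.mul_apply, map_mul, mul_assoc, mul_ite,
      mul_zero]
    split_ifs with h
    · rw [Submonoid.coe_mul, Matrix.mul_apply]
    · simp
  · intro y _ hy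
    exact Finset.sum_eq_zero fun x _ => by simp [wmat, hy]
  · simp

theorem wmat_one (f : D →* symplecticGroup l F) : wmat f (1 : D ≀ᵣ Q) = 1 := by
  ext r c
  simp only [wmat, Matrix.of_apply, RegularWreathProduct.one_left, RegularWreathProduct.one_right,
    inv_one, one_mul, Pi.one_apply, map_one, OneMemClass.coe_one, Matrix.one_apply, Prod.ext_iff]
  by_cases h1 : r.2 = c.2 <;> by_cases h2 : r.1 = c.1 <;> simp [h1, h2, eq_comm]

/-- The form in product coordinates. -/
def jmat : Matrix ((l ⊕ l) × Q) ((l ⊕ l) × Q) F :=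
  Matrix.of fun r c => if r.2 = c.2 then Matrix.J l F r.1 c.1 else 0

theorem reindex_jmat : Matrix.reindex coord coord (jmat : Matrix ((l ⊕ l) × Q) _ F) =
    Matrix.J (l × Q) F := by
  ext r c
  obtain ⟨r, rfl⟩ := coord.surjective r
  obtain ⟨c, rfl⟩ := coord.surjective c
  obtain ⟨r1, r2⟩ := r
  obtain ⟨c1, c2⟩ := c
  rcases r1 with a | a <;> rcases c1 with b | b <;>
    by_cases h : a = b <;> by_cases h' : r2 = c2 <;>
    simp [jmat, coord, Matrix.J, Matrix.one_apply, h, h']

theorem wmat_isom (f : D →* symplecticGroup l F) (w : D ≀ᵣ Q) :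
    wmat f w * jmat * (wmat f w)ᵀ = (jmat : Matrix ((l ⊕ l) × Q) _ F) := by
  ext r c
  have hJ := SymplecticGroup.mem_iff.1 (f (w.left r.2)).2
  rw [Matrix.mul_apply, Fintype.sum_prod_type]
  simp only [Matrix.mul_apply, Fintype.sum_prod_type, wmat, jmat, Matrix.of_apply,
    Matrix.transpose_apply, ite_mul, zero_mul, mul_ite, mul_zero, Finset.sum_ite_eq',
    Finset.sum_ite_eq, Finset.mem_univ, if_true]
  by_cases h : r.2 = c.2
  · simp only [← h, if_true]
    conv_rhs => rw [← hJ]
    simp only [Matrix.mul_apply, Matrix.transpose_apply]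
  · rw [if_neg h]
    exact Finset.sum_eq_zero fun x _ => by
      rw [Finset.sum_eq_zero (fun y _ => if_neg fun e => h (mul_left_cancel e).symm), zero_mul]

/-- The wreath product in the larger symplectic group. -/
def wreathHom (f : D →* symplecticGroup l F) : D ≀ᵣ Q →* symplecticGroup (l × Q) F where
  toFun w := ⟨Matrix.reindex coord coord (wmat f w), by
    rw [SymplecticGroup.mem_iff, ← reindex_jmat]
    simp only [Matrix.reindex_apply, Matrix.transpose_submatrix, Matrix.submatrix_mul_equiv,
      wmat_isom]⟩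
  map_one' := Subtype.ext (by simp [wmat_one])
  map_mul' v w := Subtype.ext (by simp [wmat_mul, Matrix.submatrix_mul_equiv])

theorem wreathHom_injective [Nonempty l] {f : D →* symplecticGroup l F}
    (hf : Function.Injective f) :
    Function.Injective (wreathHom f : D ≀ᵣ Q →* symplecticGroup (l × Q) F) := by
  rw [injective_iff_map_eq_one]
  intro w hw
  have h : wmat f w = 1 := (Matrix.reindex (coord (l := l) (Q := Q)) coord).injective (by
    rw [show Matrix.reindex coord coord (wmat f w) = (1 : Matrix ((l × Q) ⊕ (l × Q)) _ F) from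
      congrArg Subtype.val hw]
    simp)
  have hr : w.right = 1 := by
    by_contra hne
    obtain ⟨a⟩ := ‹Nonempty l›
    have := congrFun (congrFun h (Sum.inl a, 1)) (Sum.inl a, 1)
    rw [wmat, Matrix.of_apply, if_neg (by simpa [eq_comm] using hne), Matrix.one_apply_eq] at this
    exact zero_ne_one this
  refine RegularWreathProduct.ext (funext fun q => hf (Subtype.ext (Matrix.ext fun x y => ?_))) hr
  have := congrFun (congrFun h (x, q)) (y, q)
  rw [wmat, Matrix.of_apply, hr, inv_one, one_mul, if_pos rfl] at this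
  rw [this, RegularWreathProduct.one_left, Pi.one_apply, map_one]
  simp [Matrix.one_apply, Prod.ext_iff]

end Wreath

/-- Symplectic groups on index types in bijection. -/
def spReindex {l l' : Type*} [Fintype l] [DecidableEq l] [Fintype l'] [DecidableEq l']
    (e : l ≃ l') : symplecticGroup l F →* symplecticGroup l' F where
  toFun A := ⟨Matrix.reindex (e.sumCongr e) (e.sumCongr e) A.1, by
    have hJ : Matrix.reindex (e.sumCongr e) (e.sumCongr e) (Matrix.J l F) = Matrix.J l' F := by
      ext r c
      rcases r with a | a <;> rcases c with b | b <;>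
        simp [Matrix.J, Matrix.one_apply]
    rw [SymplecticGroup.mem_iff, ← hJ]
    simp only [Matrix.reindex_apply, Matrix.transpose_submatrix, Matrix.submatrix_mul_equiv,
      SymplecticGroup.mem_iff.1 A.2]⟩
  map_one' := Subtype.ext (by simp)
  map_mul' A B := Subtype.ext (by simp [Matrix.submatrix_mul_equiv])

theorem spReindex_injective {l l' : Type*} [Fintype l] [DecidableEq l] [Fintype l'] [DecidableEq l']
    (e : l ≃ l') : Function.Injective (spReindex e : symplecticGroup l F →* symplecticGroup l' F) :=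
  fun _ _ h => Subtype.ext ((Matrix.reindex (e.sumCongr e) (e.sumCongr e)).injective
    (congrArg Subtype.val h))

/-- A smaller symplectic group inside a larger one. -/
theorem exists_embed {a : ℕ} : ∀ n : ℕ, a ≤ n →
    ∃ f : symplecticGroup (Fin a) F →* symplecticGroup (Fin n) F, Function.Injective f := by
  intro n hn
  induction n, hn using Nat.le_induction with
  | base => exact ⟨MonoidHom.id _, Function.injective_id⟩
  | succ n _ ih =>
    obtain ⟨f, hf⟩ := ih
    refine ⟨(CfsgLib.KnownB.SpElem.spSum n).comp ((MonoidHom.inl _ _).comp f), ?_⟩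
    intro A B h
    have h' := (Matrix.reindex _ _).injective (congrArg Subtype.val h)
    exact hf (Subtype.ext (Matrix.fromBlocks_inj.1 h').1)

/-- A quaternion group in `Sp_2`. -/
theorem exists_base (h2 : (2 : F) ≠ 0) [Finite F] :
    ∃ P : Subgroup (symplecticGroup (Fin 1) F), IsPGroup 2 P ∧ derivedSeries P 1 ≠ ⊥ := by
  classical
  haveI := Fact.mk Nat.prime_two
  haveI : Fact (ringChar F).Prime := ⟨CharP.char_is_prime F _⟩
  obtain ⟨a, b, hab⟩ := CharP.sq_add_sq F (ringChar F) (-1)
  rw [Int.cast_neg, Int.cast_one] at hab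
  let X : symplecticGroup (Fin 1) F := ⟨fromBlocks ((a : F) • 1) ((b : F) • 1) ((b : F) • 1) (-((a : F) • 1)), by
    rw [SymplecticGroup.mem_iff, Matrix.J, fromBlocks_transpose, fromBlocks_multiply,
      fromBlocks_multiply]
    ext r c
    rcases r with i | i <;> rcases c with j | j <;> fin_cases i <;> fin_cases j <;>
      simp [Matrix.mul_apply] <;> first
      | linear_combination hab
      | linear_combination -hab
      | linear_combination 2 * hab
      | linear_combination -2 * hab
      | ring1⟩
  let W : symplecticGroup (Fin 1) F := ⟨Matrix.J (Fin 1) F, SymplecticGroup.J_mem _ _⟩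
  have hW2 : (W ^ 2).1 = -1 := by
    rw [sq]
    exact Matrix.J_squared _ _
  have hX2 : (X ^ 2).1 = -1 := by
    rw [sq]
    show fromBlocks _ _ _ _ * fromBlocks _ _ _ _ = -1
    rw [fromBlocks_multiply, ← fromBlocks_one, fromBlocks_neg]
    congr 1 <;> ext i j <;> fin_cases i <;> fin_cases j <;>
      simp [Matrix.mul_apply] <;> first
      | linear_combination hab
      | linear_combination -hab
      | linear_combination 2 * hab
      | linear_combination -2 * hab
      | ring1
  have hXW : (X * W).1 =
      (W ^ 2 * W * X).1 := by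
    rw [Submonoid.coe_mul, Submonoid.coe_mul, Submonoid.coe_mul, hW2]
    show fromBlocks _ _ _ _ * Matrix.J _ _ = -1 * Matrix.J _ _ * fromBlocks _ _ _ _
    rw [neg_mul, one_mul, Matrix.J, fromBlocks_neg, fromBlocks_multiply, fromBlocks_multiply]
    congr 1 <;> ext i j <;> fin_cases i <;> fin_cases j <;> simp [Matrix.mul_apply]
  have e : X * W = W ^ 2 * W * X := Subtype.ext hXW
  have h4 : ∀ V : symplecticGroup (Fin 1) F,
      (V ^ 2).1 = -1 → V ^ 4 = 1 := by
    intro V hV
    rw [show V ^ 4 = V ^ 2 * V ^ 2 by rw [← pow_add]]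
    exact Subtype.ext (by rw [Submonoid.coe_mul, hV]; simp)
  have hp : ∀ V : symplecticGroup (Fin 1) F, V ^ 4 = 1 → IsPGroup 2 (Subgroup.zpowers V) := by
    intro V hV
    obtain ⟨k, -, hk⟩ := (Nat.dvd_prime_pow Nat.prime_two).1
      (orderOf_dvd_of_pow_eq_one (show V ^ 2 ^ 2 = 1 from hV))
    exact IsPGroup.of_card (n := k) (by rw [Nat.card_zpowers, hk])
  have hnorm : Subgroup.zpowers X ≤ Subgroup.normalizer (Subgroup.zpowers W) := by
    rw [Subgroup.zpowers_le, Subgroup.mem_normalizer_iff_map_conj_eq, MonoidHom.map_zpowers]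
    have hc : MulAut.conj X W = W⁻¹ := by
      rw [MulAut.conj_apply, e, mul_inv_cancel_right]
      refine eq_inv_of_mul_eq_one_left ?_
      rw [← h4 W hW2]
      group
    show Subgroup.zpowers ((MulAut.conj X : _ →* symplecticGroup (Fin 1) F) W) = _
    rw [show (MulAut.conj X : _ →* symplecticGroup (Fin 1) F) W = W⁻¹ from hc,
      Subgroup.zpowers_inv]
  set T := Subgroup.zpowers W ⊔ Subgroup.zpowers X with hT
  refine ⟨T, (hp W (h4 W hW2)).to_sup_of_normal_left' (hp X (h4 X hX2)) hnorm, fun hbot => ?_⟩
  let XS : T := ⟨X, Subgroup.mem_sup_right (Subgroup.mem_zpowers X)⟩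
  let WS : T := ⟨W, Subgroup.mem_sup_left (Subgroup.mem_zpowers W)⟩
  have hc : ⁅XS, WS⁆ ∈ derivedSeries T 1 := by
    rw [derivedSeries_succ, derivedSeries_zero]
    exact Subgroup.commutator_mem_commutator (Subgroup.mem_top _) (Subgroup.mem_top _)
  rw [hbot, Subgroup.mem_bot, commutatorElement_eq_one_iff_mul_comm] at hc
  have hc' : X * W = W * X := congrArg Subtype.val hc
  rw [e] at hc'
  have h1 : W ^ 2 = 1 := mul_right_cancel (mul_right_cancel (hc'.trans (by rw [one_mul])))
  have := congrFun (congrFun (hW2.symm.trans (congrArg Subtype.val h1)) (Sum.inl 0)) (Sum.inl 0)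
  simp at this
  exact h2 (by linear_combination -this)

/-- Two-subgroups of derived length `i + 2`. -/
theorem exists_two_group (h2 : (2 : F) ≠ 0) [Finite F] : ∀ i : ℕ,
    ∃ P : Subgroup (symplecticGroup (Fin (2 ^ i)) F), IsPGroup 2 P ∧
      derivedSeries P (i + 1) ≠ ⊥ := by
  classical
  haveI := Fact.mk Nat.prime_two
  intro i
  induction i with
  | zero => exact exists_base h2
  | succ i ih =>
    obtain ⟨P, hP, hd⟩ := ih
    let e : Fin (2 ^ i) × Multiplicative (ZMod 2) ≃ Fin (2 ^ (i + 1)) :=
      Fintype.equivFinOfCardEq (by simp [pow_succ])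
    let f : P ≀ᵣ Multiplicative (ZMod 2) →* symplecticGroup (Fin (2 ^ (i + 1))) F :=
      (spReindex e).comp (wreathHom P.subtype)
    have hf : Function.Injective f :=
      (spReindex_injective e).comp (wreathHom_injective P.subtype_injective)
    obtain ⟨k, hk⟩ := IsPGroup.iff_card.1 hP
    have hW : IsPGroup 2 (P ≀ᵣ Multiplicative (ZMod 2)) := IsPGroup.of_card (n := k * 2 + 1) (by
      rw [RegularWreathProduct.card, hk,
        show Nat.card (Multiplicative (ZMod 2)) = 2 from Nat.card_zmod 2, ← pow_mul, pow_succ])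
    refine ⟨f.range, IsPGroup.of_equiv hW (MonoidHom.ofInjective hf), fun hbot => ?_⟩
    obtain ⟨d, hdm, hd1⟩ :=
      CfsgLib.Perm.DerivedLength.derivedSeries_iterated_ne_bot.exists_ne_of_ne_bot hd
    obtain ⟨w, hw, -, hl⟩ := CfsgLib.Perm.DerivedLength.exists_derived_left
      (c := Multiplicative.ofAdd (1 : ZMod 2))
      (fun h => one_ne_zero (Multiplicative.ofAdd.injective h : (1 : ZMod 2) = 0)) (i + 1) d hdm
    have h1 := map_derivedSeries_le_derivedSeries f.rangeRestrict (i + 1 + 1) ⟨w, hw, rfl⟩
    rw [hbot, Subgroup.mem_bot] at h1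
    have hw1 : w = 1 := hf ((congrArg Subtype.val h1).trans (map_one f).symm)
    exact hd1 (by rw [← hl, hw1]; rfl)

/-- The derived length of a Sylow `2`-subgroup. -/
theorem sylow_derived [Fintype F] (hq : Odd (Fintype.card F)) (n : ℕ) (hn : 1 ≤ n)
    (R : Sylow 2 (symplecticGroup (Fin n) F)) :
    derivedSeries (R : Subgroup (symplecticGroup (Fin n) F)) (Nat.log 2 (2 * n) + 1) = ⊥ ∧
      derivedSeries (R : Subgroup (symplecticGroup (Fin n) F)) (Nat.log 2 (2 * n)) ≠ ⊥ := by
  classical
  haveI := Fact.mk Nat.prime_two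
  refine ⟨?_, ?_⟩
  · let toGL : symplecticGroup (Fin n) F →* GL (Fin (2 * n)) F :=
      MonoidHom.toHomUnits ((Matrix.reindexAlgEquiv F F
        ((finSumFinEquiv).trans (finCongr (by ring)))).toMonoidHom.comp
          (symplecticGroup (Fin n) F).subtype)
    have htoGL : Function.Injective toGL := fun A B h => Subtype.ext
      ((Matrix.reindexAlgEquiv F F _).injective (congrArg Units.val h))
    exact CfsgLib.Perm.DerivedLengthLinear.derivedSeries_gl_eq_bot R.isPGroup'
      (toGL.comp (R : Subgroup (symplecticGroup (Fin n) F)).subtype)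
      (htoGL.comp Subtype.val_injective)
  · have h2 : (2 : F) ≠ 0 := Ring.two_ne_zero (fun hc => by
      have := (FiniteField.even_card_iff_char_two (F := F)).1 hc
      rw [Nat.odd_iff] at hq
      omega)
    obtain ⟨j, hj⟩ : ∃ j, Nat.log 2 (2 * n) = j + 1 :=
      ⟨Nat.log 2 n, by rw [mul_comm, Nat.log_mul_base one_lt_two (by omega)]⟩
    have hle : 2 ^ j ≤ n := by
      have := Nat.pow_log_le_self 2 (x := 2 * n) (by omega)
      rw [hj, pow_succ] at this
      omega
    obtain ⟨P, hP, hd⟩ := exists_two_group h2 j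
    obtain ⟨g, hg⟩ := exists_embed (F := F) n hle
    obtain ⟨S, hS⟩ := (hP.map g).exists_le_sylow
    let φ : P →* (R : Subgroup (symplecticGroup (Fin n) F)) :=
      (S.equiv R).toMonoidHom.comp ((g.comp P.subtype).codRestrict _
        fun x => hS ⟨(x : symplecticGroup (Fin (2 ^ j)) F), x.2, rfl⟩)
    have hφ : Function.Injective φ :=
      (S.equiv R).injective.comp fun a b h => Subtype.ext (hg (congrArg Subtype.val h))
    intro hbot
    refine hd (eq_bot_iff.2 fun x hx => Subgroup.mem_bot.2 ?_)
    have hx' := map_derivedSeries_le_derivedSeries φ (j + 1) ⟨x, hx, rfl⟩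
    rw [← hj, hbot, Subgroup.mem_bot] at hx'
    exact hφ (hx'.trans (map_one φ).symm)

end CfsgLib.StructB.SpDerived
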