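import Cfsg.Agent.Lib.Comp.Subnormal
import Cfsg.Agent.Lib.Solvable.Nilpotent
import Cfsg.Agent.Lib.Coprime.Complements
import Cfsg.Agent.Lib.Solvable.PCore

/-!
# Counting the elements `g` with `H` subnormal in `⟨H, g⟩`

For a `p`-group `H` the count is multiplicative along normal series with `p` and `p'` factors.
-/

set_option autoImplicit false

namespace CfsgLib.StructB.SnCount

open Subgroup

universe u

variable {A : Type u} [Group A] {B : Type*} [Group B]

/-- The elements `g` with `H` subnormal in `⟨H, g⟩`. -/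
def Valid (H : Subgroup A) (g : A) : Prop := ((H).subgroupOf (H ⊔ Subgroup.zpowers g)).IsSubnormal

/-- The subgroup generated by the conjugates of `H` under `⟨g⟩`. -/
def hull (H : Subgroup A) (g : A) : Subgroup A :=
  ⨆ i : ℤ, H.map (MulAut.conj (g ^ i)).toMonoidHom

theorem le_hull (H : Subgroup A) (g : A) : H ≤ hull H g :=
  le_iSup_of_le 0 (fun h hh => ⟨h, hh, by simp⟩)

theorem map_conj_hull (H : Subgroup A) (g : A) :
    (hull H g).map (MulAut.conj g).toMonoidHom = hull H g := by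
  rw [hull, Subgroup.map_iSup]
  refine ((Equiv.addLeft (1 : ℤ)).iSup_congr fun i => ?_)
  rw [map_map]
  congr 1
  exact MonoidHom.ext fun z => by simp [zpow_add, mul_assoc]

theorem hull_le {H Q : Subgroup A} {g : A} (hH : H ≤ Q)
    (hg : g ∈ normalizer (Q : Set A)) : hull H g ≤ Q := by
  refine iSup_le fun i => ?_
  rintro _ ⟨h, hh, rfl⟩
  exact (mem_normalizer_iff.1 (zpow_mem hg i) h).1 (hH hh)

theorem mem_normalizer_hull (H : Subgroup A) (g : A) : g ∈ normalizer (hull H g : Set A) :=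
  mem_normalizer_iff_map_conj_eq.2 (map_conj_hull H g)

theorem map_hull (f : A →* B) (H : Subgroup A) (g : A) :
    (hull H g).map f = hull (H.map f) (f g) := by
  rw [hull, Subgroup.map_iSup, hull]
  refine iSup_congr fun i => ?_
  rw [map_map, map_map]
  congr 1
  exact MonoidHom.ext fun z => by
    show f (g ^ i * z * (g ^ i)⁻¹) = f g ^ i * f z * (f g ^ i)⁻¹
    rw [map_mul, map_mul, map_inv, map_zpow]

theorem valid_iff [Finite A] {p : ℕ} [Fact p.Prime] {H : Subgroup A} (hH : IsPGroup p H) (g : A) :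
    Valid H g ↔ IsPGroup p (hull H g) := by
  set L := H ⊔ zpowers g with hL
  constructor
  · intro h
    have h1 := CfsgLib.Comp.le_pCore_of_isSubnormal h
      (hH.of_equiv (subgroupOfEquivOfLe (le_sup_left : H ≤ L)).symm)
    have hpc := CfsgLib.Comp.isPGroup_pCore p L
    have hn : (Cfsg.pCore p L).Normal := CfsgLib.Solvable.pCore_normal p L
    refine (hpc.map L.subtype).to_le (hull_le (Q := (Cfsg.pCore p L).map L.subtype)
      (fun x hx => ⟨⟨x, mem_sup_left hx⟩, h1 hx, rfl⟩) ?_)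
    refine mem_normalizer_fintype ?_
    rintro _ ⟨y, hy, rfl⟩
    exact ⟨_, hn.conj_mem y hy ⟨g, mem_sup_right (mem_zpowers g)⟩, rfl⟩
  · intro h
    set Q := hull H g with hQ
    have hLQ : L ≤ normalizer (Q : Set A) := sup_le ((le_hull H g).trans le_normalizer)
      (zpowers_le.2 (mem_normalizer_hull H g))
    set D := Q ⊓ L with hD
    have hHD : H ≤ D := le_inf (le_hull H g) le_sup_left
    have hDL : L ≤ normalizer (D : Set A) := fun x hx => mem_normalizer_fintype fun y hy =>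
      ⟨(mem_normalizer_iff.1 (hLQ hx) y).1 hy.1, L.mul_mem (L.mul_mem hx hy.2) (L.inv_mem hx)⟩
    have := (h.to_le (inf_le_left : D ≤ Q)).isNilpotent
    have h1 : (H.subgroupOf D).IsSubnormal := CfsgLib.Solvable.isSubnormal_of_isNilpotent _
    have h2 : (D.subgroupOf L).IsSubnormal :=
      CfsgLib.Comp.subgroupOf_isSubnormal_of_le_normalizer hDL
    refine IsSubnormal.trans (K := D.subgroupOf L) (comap_mono hHD) ?_ h2
    have e : (H.subgroupOf L).subgroupOf (D.subgroupOf L) =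
        (H.subgroupOf D).comap (subgroupOfEquivOfLe (inf_le_right : D ≤ L)).toMonoidHom := by
      ext x; rfl
    rw [e]
    exact h1.comap _

/-- Fibres of a homomorphism. -/
noncomputable def fibreEquiv (f : A →* B) (g₀ : A) : {g : A // f g = f g₀} ≃ f.ker where
  toFun g := ⟨g₀⁻¹ * g.1, by rw [MonoidHom.mem_ker, map_mul, map_inv, g.2, inv_mul_cancel]⟩
  invFun k := ⟨g₀ * k.1, by rw [map_mul, MonoidHom.mem_ker.1 k.2, mul_one]⟩
  left_inv g := Subtype.ext (mul_inv_cancel_left g₀ g.1)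
  right_inv k := Subtype.ext (inv_mul_cancel_left g₀ k.1)

/-- Counting through a homomorphism with constant fibre count. -/
theorem card_eq_mul_of_fibres [Finite A] [Finite B] (f : A →* B) (V : A → Prop) (W : B → Prop)
    (hVW : ∀ g, V g → W (f g)) (c : ℕ)
    (hc : ∀ b, W b → Nat.card {g : A // V g ∧ f g = b} = c) :
    Nat.card {g : A // V g} = c * Nat.card {b : B // W b} := by
  classical
  let := Fintype.ofFinite A
  let := Fintype.ofFinite B
  rw [Nat.card_congr (Equiv.sigmaFiberEquiv (fun g : {g : A // V g} =>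
      (⟨f g.1, hVW g.1 g.2⟩ : {b : B // W b}))).symm, Nat.card_sigma]
  rw [Finset.sum_congr rfl (fun b _ => ?_), Finset.sum_const, smul_eq_mul, Finset.card_univ,
    ← Nat.card_eq_fintype_card, mul_comm]
  rw [← hc b.1 b.2]
  exact Nat.card_congr ⟨fun g => ⟨g.1.1, g.1.2, congrArg Subtype.val g.2⟩,
    fun g => ⟨⟨g.1, g.2.1⟩, Subtype.ext g.2.2⟩, fun _ => rfl, fun _ => rfl⟩

variable [Finite A] [Finite B]

/-- A `p`-group kernel multiplies the count by its order. -/
theorem card_valid_of_pgroup {p : ℕ} [Fact p.Prime] (f : A →* B) (hf : Function.Surjective f)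
    (hker : IsPGroup p f.ker) {H : Subgroup A} (hH : IsPGroup p H) :
    Nat.card {g : A // Valid H g} = Nat.card f.ker * Nat.card {b : B // Valid (H.map f) b} := by
  have key : ∀ g, Valid H g ↔ Valid (H.map f) (f g) := fun g => by
    rw [valid_iff hH, valid_iff (hH.map f), ← map_hull]
    refine ⟨fun h => h.map f, fun h => ?_⟩
    exact (IsPGroup.comap_of_ker_isPGroup h f hker).to_le (le_comap_map f _)
  refine card_eq_mul_of_fibres f _ _ (fun g hg => (key g).1 hg) _ fun b hb => ?_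
  obtain ⟨g₀, rfl⟩ := hf b
  rw [← Nat.card_congr (fibreEquiv f g₀)]
  exact Nat.card_congr (Equiv.subtypeEquivRight fun g =>
    ⟨fun h => h.2, fun h => ⟨(key g).2 (by rw [h]; exact hb), h⟩⟩)

/-- A `p'`-kernel multiplies the count by the centralizer of `H` in it. -/
theorem card_valid_of_coprime {p : ℕ} [Fact p.Prime] (f : A →* B) (hf : Function.Surjective f)
    (hker : (Nat.card f.ker).Coprime p) {H : Subgroup A} (hH : IsPGroup p H) :
    Nat.card {g : A // Valid H g} =
      Nat.card ↥(f.ker ⊓ centralizer (H : Set A)) * Nat.card {b : B // Valid (H.map f) b} := by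
  classical
  set N := f.ker with hN
  refine card_eq_mul_of_fibres f _ _ (fun g hg => ?_) _ fun b hb => ?_
  · rw [valid_iff hH] at hg
    rw [valid_iff (hH.map f), ← map_hull]
    exact hg.map f
  rw [valid_iff (hH.map f)] at hb
  set X := hull (H.map f) b with hX
  set J := X.comap f with hJ
  have hdisj : ∀ Q : Subgroup A, IsPGroup p Q → N ⊓ Q = ⊥ := fun Q hQ => by
    obtain ⟨k, hk⟩ := hQ.exists_card_eq
    exact (disjoint_of_coprime_natCard (hk ▸ Nat.Coprime.pow_right k hker)).eq_bot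
  -- a complement containing `H`
  obtain ⟨Q₀, hQ₀, hQ₀X, hHQ₀⟩ : ∃ Q₀ : Subgroup A, IsPGroup p Q₀ ∧ Q₀.map f = X ∧ H ≤ Q₀ := by
    have hHJ : H ≤ J := fun x hx => le_hull _ _ (mem_map_of_mem f hx)
    obtain ⟨P, hP⟩ := (hH.of_equiv (subgroupOfEquivOfLe hHJ).symm).exists_le_sylow
    refine ⟨(P : Subgroup J).map J.subtype, P.2.map _, ?_, fun x hx => ⟨⟨x, hHJ hx⟩, hP hx, rfl⟩⟩
    have hsurj : Function.Surjective (f.subgroupComap X) :=
      MonoidHom.subgroupComap_surjective_of_surjective _ _ hf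
    have h1 : (P : Subgroup J).map (f.subgroupComap X) = ⊤ :=
      ((P.mapSurjective hsurj).3 (hb.to_subgroup ⊤) le_top).symm
    rw [map_map]
    have h2 := congrArg (Subgroup.map X.subtype) h1
    rw [map_map, ← MonoidHom.range_eq_map, range_subtype] at h2
    exact h2
  have hsupQ : ∀ Q : Subgroup A, Q.map f = X → N ⊔ Q = N ⊔ Q₀ := fun Q hQ => by
    have h1 := congrArg (Subgroup.comap f) (hQ.trans hQ₀X.symm)
    rwa [comap_map_eq, comap_map_eq, ← hN, sup_comm Q, sup_comm Q₀] at h1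
  -- complements are conjugate under the kernel
  have hconj : ∀ Q : Subgroup A, IsPGroup p Q → Q.map f = X →
      ∃ n ∈ N, Q = Q₀.map (MulAut.conj n).toMonoidHom := fun Q hQ hQX => by
    obtain ⟨k, hk⟩ := hQ₀.exists_card_eq
    obtain ⟨l, hl⟩ := hQ.exists_card_eq
    have := hQ₀.isNilpotent
    exact CfsgLib.Coprime.exists_conj_eq_of_coprime (N := N) (A := Q₀) (B := Q)
      (by rw [normalizer_eq_top N]; exact le_top) (by rw [normalizer_eq_top N]; exact le_top)
      (hsupQ Q hQX).symm (hk ▸ (Nat.Coprime.pow_left k hker.symm))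
      (hl ▸ (Nat.Coprime.pow_left l hker.symm)) (Or.inl inferInstance)
  set D := N ⊓ normalizer (Q₀ : Set A) with hD
  set C := N ⊓ centralizer (H : Set A) with hC
  have hDC : ∀ d ∈ D, d ∈ C := fun d hd => by
    refine ⟨hd.1, mem_centralizer_iff.2 fun h hh => ?_⟩
    have h1 : d * h * d⁻¹ * h⁻¹ ∈ N ⊓ Q₀ := by
      refine ⟨?_, Q₀.mul_mem ((mem_normalizer_iff.1 hd.2 h).1 (hHQ₀ hh)) (Q₀.inv_mem (hHQ₀ hh))⟩
      rw [show d * h * d⁻¹ * h⁻¹ = d * (h * d⁻¹ * h⁻¹) by group]
      exact N.mul_mem hd.1 ((inferInstance : N.Normal).conj_mem _ (N.inv_mem hd.1) h)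
    rw [hdisj Q₀ hQ₀, mem_bot] at h1
    exact (mul_inv_eq_iff_eq_mul.1 (mul_inv_eq_one.1 h1)).symm
  -- a valid element over `b` normalising `Q₀`
  obtain ⟨g₀, hg₀b, hg₀n⟩ : ∃ g₀, f g₀ = b ∧ g₀ ∈ normalizer (Q₀ : Set A) := by
    obtain ⟨g, rfl⟩ := hf b
    obtain ⟨n, hn, hne⟩ := hconj (Q₀.map (MulAut.conj g).toMonoidHom) (hQ₀.map _) (by
      rw [map_map, show f.comp (MulAut.conj g).toMonoidHom = (MulAut.conj (f g)).toMonoidHom.comp f
        from MonoidHom.ext fun z => by simp, ← map_map, hQ₀X, hX, map_conj_hull])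
    refine ⟨n⁻¹ * g, by rw [map_mul, map_inv, MonoidHom.mem_ker.1 hn, inv_one, one_mul],
      mem_normalizer_iff_map_conj_eq.2 ?_⟩
    have h1 := congrArg (Subgroup.map (MulAut.conj n⁻¹).toMonoidHom) hne
    rw [map_map, map_map, show (MulAut.conj n⁻¹).toMonoidHom.comp (MulAut.conj n).toMonoidHom =
      MonoidHom.id A from MonoidHom.ext fun z => by simp [mul_assoc], map_id,
      show (MulAut.conj n⁻¹).toMonoidHom.comp (MulAut.conj g).toMonoidHom =
      (MulAut.conj (n⁻¹ * g)).toMonoidHom from MonoidHom.ext fun z => by simp [mul_assoc]] at h1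
    exact h1
  have hull0 : ∀ d ∈ D, hull H (g₀ * d) = Q₀ := fun d hd => by
    have hle : hull H (g₀ * d) ≤ Q₀ := hull_le hHQ₀ (mul_mem hg₀n hd.2)
    refine le_antisymm hle fun q hq => ?_
    have hmap : (hull H (g₀ * d)).map f = X := by
      rw [map_hull, map_mul, MonoidHom.mem_ker.1 hd.1, mul_one, hg₀b]
    obtain ⟨x, hx, hxq⟩ : f q ∈ (hull H (g₀ * d)).map f := by
      rw [hmap, ← hQ₀X]; exact mem_map_of_mem f hq
    have h1 : x⁻¹ * q ∈ N ⊓ Q₀ :=
      ⟨MonoidHom.mem_ker.2 (by rw [map_mul, map_inv, hxq, inv_mul_cancel]),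
        Q₀.mul_mem (Q₀.inv_mem (hle hx)) hq⟩
    rw [hdisj Q₀ hQ₀, mem_bot, inv_mul_eq_one] at h1
    rwa [← h1]
  have hdn : ∀ c ∈ C, H ≤ Q₀.map (MulAut.conj c).toMonoidHom := fun c hc h hh =>
    ⟨h, hHQ₀ hh, by
      show c * h * c⁻¹ = h
      rw [← mem_centralizer_iff.1 hc.2 h hh, mul_inv_cancel_right]⟩
  let Φ : C × D → {g : A // Valid H g ∧ f g = b} := fun x =>
    ⟨(x.1 : A) * (g₀ * x.2) * (x.1 : A)⁻¹, by
      refine ⟨(valid_iff hH _).2 (((hQ₀.map (MulAut.conj (x.1 : A)).toMonoidHom)).to_le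
        (hull_le (hdn _ x.1.2) ?_)), ?_⟩
      · rw [mem_normalizer_iff_map_conj_eq]
        show Subgroup.map (MulAut.conj _).toMonoidHom _ = _
        rw [map_map,
          show (MulAut.conj ((x.1 : A) * (g₀ * x.2) * (x.1 : A)⁻¹)).toMonoidHom.comp
            (MulAut.conj (x.1 : A)).toMonoidHom = (MulAut.conj (x.1 : A)).toMonoidHom.comp
            (MulAut.conj (g₀ * x.2)).toMonoidHom from MonoidHom.ext fun z => by simp [mul_assoc],
          ← map_map]
        exact congrArg _ (mem_normalizer_iff_map_conj_eq.1 (mul_mem hg₀n x.2.2.2))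
      · rw [map_mul, map_mul, map_mul, map_inv, MonoidHom.mem_ker.1 x.1.2.1,
          MonoidHom.mem_ker.1 x.2.2.1, one_mul, mul_one, inv_one, mul_one, hg₀b]⟩
  have hΦ : Function.Surjective Φ := by
    rintro ⟨g, hgv, hgb⟩
    rw [valid_iff hH] at hgv
    obtain ⟨n, hn, hne⟩ := hconj _ hgv (by rw [map_hull, hgb])
    have hnC : n ∈ C := by
      refine ⟨hn, mem_centralizer_iff.2 fun h hh => ?_⟩
      obtain ⟨q, hq, hqh⟩ : h ∈ Q₀.map (MulAut.conj n).toMonoidHom := hne ▸ le_hull H g hh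
      have hqh' : n * q * n⁻¹ = h := hqh
      have h1 : q * h⁻¹ ∈ N ⊓ Q₀ := by
        refine ⟨?_, Q₀.mul_mem hq (Q₀.inv_mem (hHQ₀ hh))⟩
        refine MonoidHom.mem_ker.2 ?_
        rw [map_mul, map_inv, ← hqh', map_mul, map_mul, map_inv,
          MonoidHom.mem_ker.1 hn, inv_one, mul_one, one_mul, mul_inv_cancel]
      rw [hdisj Q₀ hQ₀, mem_bot, mul_inv_eq_one] at h1
      rw [h1] at hqh'
      exact (mul_inv_eq_iff_eq_mul.1 hqh').symm
    have hg' : n⁻¹ * g * n ∈ normalizer (Q₀ : Set A) := by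
      rw [mem_normalizer_iff_map_conj_eq]
      have h1 := map_conj_hull H g
      rw [hne, map_map] at h1
      have h2 := congrArg (Subgroup.map (MulAut.conj n⁻¹).toMonoidHom) h1
      rw [map_map, map_map, show (MulAut.conj n⁻¹).toMonoidHom.comp (MulAut.conj n).toMonoidHom =
        MonoidHom.id A from MonoidHom.ext fun z => by simp [mul_assoc], map_id] at h2
      rwa [show (MulAut.conj n⁻¹).toMonoidHom.comp ((MulAut.conj g).toMonoidHom.comp
        (MulAut.conj n).toMonoidHom) = (MulAut.conj (n⁻¹ * g * n)).toMonoidHom from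
          MonoidHom.ext fun z => by simp [mul_assoc]] at h2
    refine ⟨(⟨n, hnC⟩, ⟨g₀⁻¹ * (n⁻¹ * g * n), ?_,
      (normalizer (Q₀ : Set A)).mul_mem ((normalizer (Q₀ : Set A)).inv_mem hg₀n) hg'⟩), Subtype.ext ?_⟩
    · refine MonoidHom.mem_ker.2 ?_
      rw [map_mul, map_mul, map_mul, map_inv, map_inv,
        MonoidHom.mem_ker.1 hn, inv_one, one_mul, mul_one, hgb, hg₀b, inv_mul_cancel]
    · show n * (g₀ * (g₀⁻¹ * (n⁻¹ * g * n))) * n⁻¹ = g
      group
  have hfib : ∀ v, Nat.card {x : C × D // Φ x = v} = Nat.card D := fun v => by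
    obtain ⟨⟨c, d⟩, rfl⟩ := hΦ v
    refine Nat.card_congr (Equiv.ofBijective (fun x => (⟨(c : A)⁻¹ * (x.1.1 : A), ?_⟩ : D)) ⟨?_, ?_⟩)
    · obtain ⟨⟨c', d'⟩, hx⟩ := x
      have hval : (c' : A) * (g₀ * d') * (c' : A)⁻¹ = c * (g₀ * d) * (c : A)⁻¹ :=
        congrArg Subtype.val hx
      refine ⟨N.mul_mem (N.inv_mem c.2.1) c'.2.1, ?_⟩
      show (c : A)⁻¹ * (c' : A) ∈ normalizer (Q₀ : Set A)
      rw [mem_normalizer_iff_map_conj_eq]
      have e : g₀ * (d : A) = ((c : A)⁻¹ * c') * (g₀ * d') * ((c : A)⁻¹ * c')⁻¹ := by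
        calc g₀ * (d : A) = (c : A)⁻¹ * ((c : A) * (g₀ * d) * (c : A)⁻¹) * c := by group
          _ = _ := by rw [← hval]; group
      set e' := (c : A)⁻¹ * (c' : A) with he'
      have he'C : e' ∈ C := C.mul_mem (C.inv_mem c.2) c'.2
      have h1 : hull H (g₀ * d) ≤ Q₀.map (MulAut.conj e').toMonoidHom := hull_le (hdn _ he'C) (by
        rw [e, mem_normalizer_iff_map_conj_eq]
        show Subgroup.map (MulAut.conj _).toMonoidHom _ = _
        rw [map_map,
          show (MulAut.conj (e' * (g₀ * d') * e'⁻¹)).toMonoidHom.comp (MulAut.conj e').toMonoidHom =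
            (MulAut.conj e').toMonoidHom.comp (MulAut.conj (g₀ * d')).toMonoidHom from
              MonoidHom.ext fun z => by simp [mul_assoc],
          ← map_map]
        exact congrArg _ (mem_normalizer_iff_map_conj_eq.1 (mul_mem hg₀n d'.2.2)))
      rw [hull0 d d.2] at h1
      exact (eq_of_le_of_card_ge h1 (card_map_of_injective (MulAut.conj e').injective).le).symm
    · rintro ⟨⟨c₁, d₁⟩, h₁⟩ ⟨⟨c₂, d₂⟩, h₂⟩ he
      have hc12 : (c₁ : A) = c₂ := mul_left_cancel (congrArg Subtype.val he)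
      have hv := congrArg Subtype.val (h₁.trans h₂.symm)
      simp only [Φ, hc12] at hv
      refine Subtype.ext (Prod.ext (Subtype.ext hc12) (Subtype.ext ?_))
      exact mul_left_cancel (mul_left_cancel (mul_right_cancel hv))
    · intro e
      have he'D : g₀⁻¹ * ((e : A)⁻¹ * (g₀ * d) * e) ∈ D := by
        set W := normalizer (Q₀ : Set A)
        refine ⟨?_, W.mul_mem (W.inv_mem hg₀n)
          (W.mul_mem (W.mul_mem (W.inv_mem e.2.2) (W.mul_mem hg₀n d.2.2)) e.2.2)⟩
        refine MonoidHom.mem_ker.2 ?_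
        rw [map_mul, map_mul, map_mul, map_mul, map_inv,
          map_inv, MonoidHom.mem_ker.1 e.2.1, MonoidHom.mem_ker.1 d.2.1]
        group
      refine ⟨⟨(⟨(c : A) * e, C.mul_mem c.2 (hDC e e.2)⟩, ⟨_, he'D⟩), Subtype.ext ?_⟩, Subtype.ext ?_⟩
      · show (c : A) * e * (g₀ * (g₀⁻¹ * ((e : A)⁻¹ * (g₀ * d) * e))) * ((c : A) * e)⁻¹ =
          (c : A) * (g₀ * d) * (c : A)⁻¹
        group
      · show (c : A)⁻¹ * ((c : A) * e) = e
        group
  have htot : Nat.card (C × D) = Nat.card D * Nat.card {g : A // Valid H g ∧ f g = b} := by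
    let := Fintype.ofFinite {g : A // Valid H g ∧ f g = b}
    rw [Nat.card_congr (Equiv.sigmaFiberEquiv Φ).symm, Nat.card_sigma,
      Finset.sum_congr rfl (fun v _ => hfib v), Finset.sum_const, smul_eq_mul, Finset.card_univ,
      ← Nat.card_eq_fintype_card, mul_comm]
  rw [Nat.card_prod, mul_comm] at htot
  exact (Nat.eq_of_mul_eq_mul_left Nat.card_pos htot).symm

end CfsgLib.StructB.SnCount
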