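import Mathlib
import Cfsg.Prelude.Def_Transfer

/-!
# A prime-order automorphism of an elementary abelian group
Transitivity of the twisted normaliser against the degree of the minimal polynomial.
-/

set_option autoImplicit false

namespace CfsgLib.StructB

open Polynomial

variable {p q : ℕ} [Fact p.Prime] [Fact q.Prime]

theorem orderOf_unit_eq (hpq : p.Coprime q) :
    orderOf (ZMod.unitOfCoprime _ (hpq.pow_left 1)) = orderOf (p : ZMod q) := by
  rw [← orderOf_units, ZMod.coe_unitOfCoprime, pow_one]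

/-- If the maps twisted-commuting with `T` are transitive and all twists occur, then `p` is a primitive root. -/
theorem orderOf_eq_of_transitive {V : Type*} [AddCommGroup V] [Module (ZMod p) V] [Finite V] [Nontrivial V]
    (hpq : p ≠ q) (T : Module.End (ZMod p) V) (hTq : T ^ q = 1) (hT : T ≠ 1)
    (hk : ∀ k : ℕ, ¬ q ∣ k → ∃ f : V ≃ₗ[ZMod p] V, ∀ v, f (T v) = (T ^ k) (f v))
    (htr : ∀ v w : V, v ≠ 0 → w ≠ 0 →
      ∃ (f : V ≃ₗ[ZMod p] V) (k : ℕ), (∀ z, f (T z) = (T ^ k) (f z)) ∧ f v = w) :
    orderOf (p : ZMod q) = q - 1 := by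
  classical
  have hp : p.Prime := Fact.out
  have hq : q.Prime := Fact.out
  have key : ∀ (f : V ≃ₗ[ZMod p] V) (k : ℕ), (∀ z, f (T z) = (T ^ k) (f z)) →
      ∀ (g : (ZMod p)[X]) (z : V), f (aeval T g z) = aeval (T ^ k) g (f z) := by
    intro f k hf g
    induction g using Polynomial.induction_on' with
    | add a b ha hb => intro z; simp [map_add, ha, hb]
    | monomial n c =>
      intro z
      have hn : ∀ m : ℕ, ∀ y, f ((T ^ m) y) = ((T ^ k) ^ m) (f y) := by
        intro m
        induction m with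
        | zero => intro y; simp
        | succ m ih => intro y; rw [pow_succ, Module.End.mul_apply, ih, hf, pow_succ, Module.End.mul_apply]
      simp only [aeval_monomial, Module.End.mul_apply, Module.algebraMap_end_apply, map_smul, hn]
  -- cyclic submodules
  let C : V → Set V := fun v => Set.range fun g : (ZMod p)[X] => aeval T g v
  have hCmem : ∀ v, v ∈ C v := fun v => ⟨1, by simp⟩
  have hCsub : ∀ u v, u ∈ C v → C u ⊆ C v := by
    rintro u v ⟨g, rfl⟩ _ ⟨g', rfl⟩
    exact ⟨g' * g, by simp [Module.End.mul_apply]⟩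
  have hCle : ∀ v w, v ≠ 0 → w ≠ 0 → (C v).ncard ≤ (C w).ncard := by
    intro v w hv hw
    obtain ⟨f, k, hf, hfv⟩ := htr v w hv hw
    refine Set.ncard_le_ncard_of_injOn f ?_ f.injective.injOn (Set.toFinite _)
    rintro _ ⟨g, rfl⟩
    refine ⟨aeval (X ^ k : (ZMod p)[X]) g, ?_⟩
    show aeval T (aeval (X ^ k : (ZMod p)[X]) g) w = f (aeval T g v)
    rw [key f k hf, hfv, ← Polynomial.aeval_algHom_apply, map_pow, aeval_X]
  have hCeq : ∀ u v, u ≠ 0 → v ≠ 0 → u ∈ C v → C u = C v := fun u v hu hv h =>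
    Set.eq_of_subset_of_ncard_le (hCsub u v h) (hCle v u hv hu) (Set.toFinite _)
  have hkill : ∀ (a : (ZMod p)[X]) (v w : V), v ≠ 0 → aeval T a v = 0 → aeval T a w = 0 := by
    intro a v w hv hav
    by_contra haw
    have hw : w ≠ 0 := fun h => haw (by rw [h, map_zero])
    have hu : v + w ≠ 0 := fun h => haw (by
      rw [(neg_eq_of_add_eq_zero_right h).symm, map_neg, hav, neg_zero])
    have hz1 : aeval T a w ∈ C (v + w) := ⟨a, by simp [map_add, hav]⟩
    have hz2 : aeval T a w ∈ C w := ⟨a, rfl⟩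
    have h12 : C (v + w) = C w := (hCeq _ _ haw hu hz1).symm.trans (hCeq _ _ haw hw hz2)
    obtain ⟨g1, hg1 : aeval T g1 w = v + w⟩ : v + w ∈ C w := h12 ▸ hCmem (v + w)
    have hvC : v ∈ C w := ⟨g1 - 1, by simp [map_sub, hg1]⟩
    obtain ⟨g2, hg2 : aeval T g2 v = w⟩ : w ∈ C v := hCeq v w hv hw hvC ▸ hCmem w
    apply haw
    rw [← hg2, ← Module.End.mul_apply, ← map_mul, mul_comm, map_mul, Module.End.mul_apply, hav, map_zero]
  have hint : IsIntegral (ZMod p) T := IsIntegral.of_finite (ZMod p) T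
  set h := minpoly (ZMod p) T with hh
  have hprime : Prime h := by
    refine ⟨minpoly.ne_zero hint, fun hu => ?_, fun a b hab => ?_⟩
    · exact minpoly.not_isUnit (ZMod p) T hu
    · rw [hh, minpoly.dvd_iff] at hab
      rw [hh, minpoly.dvd_iff, minpoly.dvd_iff]
      by_contra hc
      push Not at hc
      obtain ⟨v, hv⟩ : ∃ v, aeval T b v ≠ 0 := by
        by_contra hc'; push Not at hc'; exact hc.2 (LinearMap.ext hc')
      refine hc.1 (LinearMap.ext fun w => hkill a (aeval T b v) w hv ?_)
      rw [← Module.End.mul_apply, ← map_mul, hab, LinearMap.zero_apply]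
  haveI : Fact (Irreducible h) := ⟨hprime.irreducible⟩
  have hXq : h ∣ X ^ q - 1 := minpoly.dvd _ _ (by simp [hTq])
  have hX1 : ¬ h ∣ X - 1 := fun hd => hT (by
    have := (minpoly.dvd_iff (A := ZMod p) (x := T)).1 hd
    simpa [sub_eq_zero] using this)
  have hcyc : h ∣ cyclotomic q (ZMod p) := by
    rw [← cyclotomic_prime_mul_X_sub_one (ZMod p) q] at hXq
    exact (hprime.dvd_or_dvd hXq).resolve_right hX1
  have hcop : p.Coprime q := (Nat.coprime_primes hp hq).2 hpq
  have hdeg : h.natDegree = orderOf (p : ZMod q) := by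
    rw [natDegree_of_dvd_cyclotomic_of_irreducible (f := 1) (by rw [ZMod.card, pow_one]) hcop hcyc
      hprime.irreducible, orderOf_unit_eq hcop]
  -- all powers of a root are roots
  set z := AdjoinRoot.root h
  have hzq : z ^ q = 1 := by
    have := AdjoinRoot.mk_eq_zero.2 hXq
    simpa [sub_eq_zero] using this
  have hz1 : z ≠ 1 := fun e => hX1 (AdjoinRoot.mk_eq_zero.1 (by simpa [z, sub_eq_zero] using e))
  have hzo : orderOf z = q := orderOf_eq_prime hzq hz1
  have hroot : ∀ k : ℕ, ¬ q ∣ k → z ^ k ∈ h.rootSet (AdjoinRoot h) := by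
    intro k hkq
    rw [mem_rootSet_of_ne hprime.ne_zero]
    obtain ⟨f, hf⟩ := hk k hkq
    have h0 : aeval (T ^ k) h = 0 := LinearMap.ext fun v => by
      obtain ⟨y, rfl⟩ := f.surjective v
      rw [← key f k hf, hh, minpoly.aeval, LinearMap.zero_apply, LinearMap.zero_apply, map_zero]
    have h1 : h ∣ aeval (X ^ k : (ZMod p)[X]) h := minpoly.dvd _ _ (by
      rw [← Polynomial.aeval_algHom_apply, map_pow, aeval_X, h0])
    obtain ⟨c, hc⟩ := h1
    have := congrArg (aeval z) hc
    rwa [← Polynomial.aeval_algHom_apply, map_pow, aeval_X, map_mul, AdjoinRoot.aeval_eq h,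
      AdjoinRoot.mk_self, zero_mul] at this
  have hle : q - 1 ≤ h.natDegree := by
    have h1 : ((fun k => z ^ k) '' (Finset.Ioo 0 q : Set ℕ)).ncard = q - 1 := by
      rw [Set.InjOn.ncard_image, Set.ncard_coe_finset, Nat.card_Ioo]
      · omega
      · intro a ha b hb hab
        simp only [Finset.coe_Ioo, Set.mem_Ioo] at ha hb
        exact pow_injOn_Iio_orderOf (by simpa [hzo] using ha.2) (by simpa [hzo] using hb.2) hab
    rw [← h1]
    refine (Set.ncard_le_ncard (t := h.rootSet (AdjoinRoot h)) ?_ (Set.toFinite _)).trans ?_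
    · rintro _ ⟨k, hk', rfl⟩
      simp only [Finset.coe_Ioo, Set.mem_Ioo] at hk'
      exact hroot k fun hd => absurd (Nat.le_of_dvd hk'.1 hd) (not_le.2 hk'.2)
    · rw [rootSet_def, Set.ncard_coe_finset]
      exact (Multiset.toFinset_card_le _).trans ((card_roots' _).trans natDegree_map_le)
  refine le_antisymm ?_ (hdeg ▸ hle)
  refine Nat.le_of_dvd (Nat.sub_pos_of_lt hq.one_lt) (ZMod.orderOf_dvd_card_sub_one ?_)
  rw [Ne, ZMod.natCast_eq_zero_iff]
  exact fun hd => hpq ((Nat.prime_dvd_prime_iff_eq hq hp).1 hd).symm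

/-- If `p` is a primitive root, the twisted centraliser is transitive and every twist occurs. -/
theorem exists_twisted_map {V : Type*} [AddCommGroup V] [Module (ZMod p) V] [Finite V]
    (hpq : p ≠ q) (hord : orderOf (p : ZMod q) = q - 1)
    (T : Module.End (ZMod p) V) (hTq : T ^ q = 1) (hT : ∀ v, T v = v → v = 0)
    (v w : V) (hv : v ≠ 0) (hw : w ≠ 0) (k : ℕ) (hk : ¬ q ∣ k) :
    ∃ f : V →ₗ[ZMod p] V, Function.Bijective f ∧ (∀ z, f (T z) = (T ^ k) (f z)) ∧ f v = w := by
  classical
  have hp : p.Prime := Fact.out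
  have hq : q.Prime := Fact.out
  have hcop : p.Coprime q := (Nat.coprime_primes hp hq).2 hpq
  set h := cyclotomic q (ZMod p) with hh
  have hirr : Irreducible h := by
    refine irreducible_of_dvd_cyclotomic_of_natDegree (f := 1) (by rw [ZMod.card, pow_one]) hcop dvd_rfl ?_
    rw [hh, natDegree_cyclotomic, Nat.totient_prime hq, orderOf_unit_eq hcop, hord]
  haveI : Fact (Irreducible h) := ⟨hirr⟩
  have hT0 : aeval T h = 0 := by
    refine LinearMap.ext fun v => hT _ ?_
    have := congrArg (fun g : (ZMod p)[X] => aeval T g v) ((mul_comm _ _).trans (cyclotomic_prime_mul_X_sub_one (ZMod p) q))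
    simp only [map_mul, map_sub, map_pow, aeval_X, map_one, Module.End.mul_apply, LinearMap.sub_apply,
      Module.End.one_apply, hTq, sub_self, LinearMap.zero_apply] at this
    exact sub_eq_zero.1 this
  haveI : Finite (AdjoinRoot h) := by
    haveI := (cyclotomic.monic q (ZMod p)).finite_adjoinRoot
    exact Module.finite_of_finite (ZMod p)
  let φ : AdjoinRoot h →+* Module.End (ZMod p) V :=
    Ideal.Quotient.lift (Ideal.span {h}) (aeval T).toRingHom fun a ha => by
      obtain ⟨c, rfl⟩ := Ideal.mem_span_singleton.1 ha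
      show aeval T (h * c) = 0
      rw [map_mul, hT0, zero_mul]
  letI : Module (AdjoinRoot h) V := Module.compHom V φ
  set z := AdjoinRoot.root h
  have hzs : ∀ v, z • v = T v := fun v => by
    show φ z v = T v
    have : φ z = T := (Ideal.Quotient.lift_mk _ _ _).trans (by simp)
    rw [this]
  have hzq : z ^ q = 1 := by
    have := AdjoinRoot.mk_eq_zero.2 (Dvd.intro (X - 1) (cyclotomic_prime_mul_X_sub_one (ZMod p) q) : h ∣ X ^ q - 1)
    simpa [sub_eq_zero] using this
  have hzk : aeval (z ^ k) h = 0 := by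
    have hne : z ^ k ≠ 1 := by
      intro e
      have hz1 : z = 1 := by
        have hd : orderOf z ∣ Nat.gcd k q := Nat.dvd_gcd (orderOf_dvd_of_pow_eq_one e) (orderOf_dvd_of_pow_eq_one hzq)
        rw [Nat.Coprime.gcd_eq_one ((hq.coprime_iff_not_dvd.2 hk).symm), Nat.dvd_one, orderOf_eq_one_iff] at hd
        exact hd
      exact hv (hT v (by rw [← hzs, hz1, one_smul]))
    have h2 := congrArg (aeval (z ^ k)) (cyclotomic_prime_mul_X_sub_one (ZMod p) q)
    simp only [map_mul, map_sub, map_pow, aeval_X, map_one, ← pow_mul, mul_comm k q, pow_mul, hzq, one_pow,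
      sub_self, mul_eq_zero] at h2
    rw [← pow_mul z, Nat.mul_comm k q, pow_mul, hzq, one_pow, sub_self] at h2
    exact (mul_eq_zero.1 h2).resolve_right (sub_ne_zero.2 hne)
  let σ : AdjoinRoot h →ₐ[ZMod p] AdjoinRoot h :=
    AdjoinRoot.liftAlgHom h (Algebra.ofId (ZMod p) (AdjoinRoot h)) (z ^ k) hzk
  have hσz : σ z = z ^ k := AdjoinRoot.liftAlgHom_root ..
  have hσinj : Function.Injective σ := (σ : AdjoinRoot h →+* AdjoinRoot h).injective
  have hσsur : Function.Surjective σ := Finite.surjective_of_injective hσinj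
  let b1 := Module.Basis.extend (LinearIndepOn.singleton (R := AdjoinRoot h) (v := id) (i := v) hv)
  let b2 := Module.Basis.extend (LinearIndepOn.singleton (R := AdjoinRoot h) (v := id) (i := w) hw)
  let i0 : (LinearIndepOn.singleton (R := AdjoinRoot h) (v := id) (i := v) hv).extend (Set.subset_univ _) :=
    ⟨v, (LinearIndepOn.singleton (R := AdjoinRoot h) (v := id) (i := v) hv).subset_extend _ rfl⟩
  let j0 : (LinearIndepOn.singleton (R := AdjoinRoot h) (v := id) (i := w) hw).extend (Set.subset_univ _) :=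
    ⟨w, (LinearIndepOn.singleton (R := AdjoinRoot h) (v := id) (i := w) hw).subset_extend _ rfl⟩
  have hb1 : b1 i0 = v := Module.Basis.extend_apply_self _ _
  have hb2 : b2 j0 = w := Module.Basis.extend_apply_self _ _
  let e0 := b1.indexEquiv b2
  let e := e0.trans (Equiv.swap (e0 i0) j0)
  let L : V ≃ₗ[AdjoinRoot h] V := b1.equiv b2 e
  have hL : L v = w := by
    show L v = w
    rw [← hb1, Module.Basis.equiv_apply]
    simp [e, hb2]
  let ψ : V → V := fun x => b1.repr.symm (Finsupp.mapRange σ (map_zero σ) (b1.repr x))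
  have hψadd : ∀ x y, ψ (x + y) = ψ x + ψ y := fun x y => by
    simp only [ψ, map_add, Finsupp.mapRange_add (map_add σ)]
  have hψsmul : ∀ (a : AdjoinRoot h) x, ψ (a • x) = σ a • ψ x := fun a x => by
    show b1.repr.symm (Finsupp.mapRange σ (map_zero σ) (b1.repr (a • x))) =
      σ a • b1.repr.symm (Finsupp.mapRange σ (map_zero σ) (b1.repr x))
    rw [LinearEquiv.map_smul, ← LinearEquiv.map_smul b1.repr.symm]
    congr 1
    refine Finsupp.ext fun i => ?_
    rw [Finsupp.mapRange_apply, Finsupp.smul_apply, Finsupp.smul_apply, Finsupp.mapRange_apply,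
      smul_eq_mul, smul_eq_mul, map_mul]
  have hrv : b1.repr v = Finsupp.single i0 1 := (congrArg b1.repr hb1.symm).trans (b1.repr_self i0)
  have hψv : ψ v = v := by
    show b1.repr.symm (Finsupp.mapRange σ (map_zero σ) (b1.repr v)) = v
    rw [hrv, Finsupp.mapRange_single, map_one, b1.repr_symm_single, one_smul, hb1]
  have hψsur : Function.Surjective ψ := fun y => by
    obtain ⟨g, hg⟩ := Finsupp.mapRange_surjective σ (map_zero σ) hσsur (b1.repr y)
    exact ⟨b1.repr.symm g, by simp [ψ, hg]⟩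
  let F : V →+ V := AddMonoidHom.mk' (fun x => L (ψ x)) fun x y => by rw [hψadd, map_add]
  refine ⟨F.toZModLinearMap p, ?_, fun x => ?_, ?_⟩
  · exact Finite.surjective_iff_bijective.1 fun y => by
      obtain ⟨x, hx⟩ := hψsur (L.symm y)
      exact ⟨x, by show L (ψ x) = y; rw [hx, L.apply_symm_apply]⟩
  · show L (ψ (T x)) = (T ^ k) (L (ψ x))
    rw [← hzs, hψsmul, hσz, map_smul]
    have : ∀ (n : ℕ) (y : V), (z ^ n) • y = (T ^ n) y := by
      intro n
      induction n with
      | zero => intro y; simp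
      | succ n ih => intro y; rw [pow_succ, mul_smul, hzs, ih, pow_succ, Module.End.mul_apply]
    rw [this]
  · show L (ψ v) = w
    rw [hψv, hL]

end CfsgLib.StructB
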