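import Cfsg.Agent.Lib.StructB.TwoLinearGen
import Cfsg.Agent.Lib.Solvable.BurnsideBasis
import Cfsg.Agent.Lib.OddLocal.PGroup
import Mathlib

/-!
Number of generators of a 2-group of automorphisms of an abelian group of odd order:
if `X` is such a group on `V`, then `X` is generated by `d` elements with `d = 0`,
`2 ^ (d + 1) ≤ |V|`, or `|V| = 3` and `d ≤ 1`.
-/

set_option autoImplicit false
set_option linter.style.haveILetI false

namespace CfsgLib.TwoLinear

open Subgroup

section
variable {V : Type*} [CommGroup V]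

/-- Restriction of automorphisms to an invariant subgroup. -/
def res (X : Subgroup (MulAut V)) (A : Subgroup V) (h : ∀ x ∈ X, ∀ a ∈ A, x a ∈ A) :
    X →* MulAut A where
  toFun x :=
    { toFun := fun a => ⟨x.1 a, h x.1 x.2 a a.2⟩
      invFun := fun a => ⟨(x⁻¹).1 a, h _ (x⁻¹).2 a a.2⟩
      left_inv := fun a => Subtype.ext (MulEquiv.symm_apply_apply x.1 a)
      right_inv := fun a => Subtype.ext (MulEquiv.apply_symm_apply x.1 a)
      map_mul' := fun a b => Subtype.ext (map_mul x.1 _ _) }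
  map_one' := rfl
  map_mul' _ _ := rfl

/-- The induced automorphisms of the quotient by an invariant subgroup. -/
def resQuot (X : Subgroup (MulAut V)) (A : Subgroup V) (h : ∀ x ∈ X, ∀ a ∈ A, x a ∈ A) :
    X →* MulAut (V ⧸ A) where
  toFun x := QuotientGroup.congr A A x.1 (by
    refine le_antisymm ?_ ?_
    · rintro _ ⟨a, ha, rfl⟩; exact h x.1 x.2 a ha
    · intro a ha
      exact ⟨(x⁻¹).1 a, h _ (x⁻¹).2 a ha, MulEquiv.apply_symm_apply x.1 a⟩)
  map_one' := by
    refine MulEquiv.ext fun v => ?_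
    induction v using QuotientGroup.induction_on
    rfl
  map_mul' x y := by
    refine MulEquiv.ext fun v => ?_
    induction v using QuotientGroup.induction_on
    rfl

theorem sq_bijective [Finite V] (hV : Odd (Nat.card V)) :
    Function.Bijective (fun v : V => v ^ 2) := by
  refine Finite.injective_iff_bijective.mp fun v w h => ?_
  have h1 : (v * w⁻¹) ^ 2 = 1 := by
    change v ^ 2 = w ^ 2 at h
    rw [mul_pow, h, inv_pow, mul_inv_cancel]
  have h2 : orderOf (v * w⁻¹) = 1 := Nat.eq_one_of_dvd_coprimes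
    (Nat.coprime_two_left.mpr hV) (orderOf_dvd_of_pow_eq_one h1) (orderOf_dvd_natCard _)
  rw [orderOf_eq_one_iff] at h2
  rwa [mul_inv_eq_one] at h2

theorem eq_one_of_apply_eq_inv [Finite V] (hV : Odd (Nat.card V)) {v : V} (h : v = v⁻¹) :
    v = 1 := by
  apply (sq_bijective hV).injective
  show v ^ 2 = 1 ^ 2
  rw [one_pow, pow_two]
  exact inv_eq_iff_mul_eq_one.mp h.symm

end

/-- The bound on the number of generators. -/
def Bound (d n : ℕ) : Prop := d = 0 ∨ 2 ^ (d + 1) ≤ n ∨ (n = 3 ∧ d ≤ 1)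

theorem Bound.mul {a b m n : ℕ} (ha : Bound a m) (hb : Bound b n) (hm : 3 ≤ m) (hn : 3 ≤ n) :
    Bound (a + b) (m * n) := by
  rcases Nat.eq_zero_or_pos (a + b) with h | h
  · exact Or.inl h
  refine Or.inr (Or.inl ?_)
  have key : ∀ {a m}, Bound a m → 3 ≤ m → a = 0 ∨ 2 ^ (a + 1) ≤ m ∨ 2 ^ a ≤ 2 ∧ m = 3 := by
    intro a m ha hm
    rcases ha with h | h | ⟨h, h'⟩
    · exact Or.inl h
    · exact Or.inr (Or.inl h)
    · exact Or.inr (Or.inr ⟨by simpa using Nat.pow_le_pow_right two_pos h', h⟩)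
  have e : 2 ^ (a + b + 1) = 2 ^ a * 2 ^ b * 2 := by rw [pow_succ, pow_add]
  have ea : 2 ^ (a + 1) = 2 ^ a * 2 := pow_succ 2 a
  have eb : 2 ^ (b + 1) = 2 ^ b * 2 := pow_succ 2 b
  have pa : 0 < 2 ^ a := by positivity
  have pb : 0 < 2 ^ b := by positivity
  rcases key ha hm with rfl | h1 | ⟨h1, rfl⟩ <;> rcases key hb hn with rfl | h2 | ⟨h2, rfl⟩ <;>
    first | omega | nlinarith

theorem gen_bound : ∀ (n : ℕ) (V : Type*) [CommGroup V] [Finite V] (X : Subgroup (MulAut V)),
    IsPGroup 2 X → Nat.card V = n → Odd n → ∃ d, Gen X d ∧ Bound d n := by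
  intro n
  induction n using Nat.strong_induction_on with
  | _ n ih =>
  intro V _ _ X hX hn hodd
  classical
  haveI : Fact (Nat.Prime 2) := ⟨Nat.prime_two⟩
  have hVodd : Odd (Nat.card V) := hn ▸ hodd
  rcases subsingleton_or_nontrivial V with hs | hs
  · haveI : Subsingleton (MulAut V) := ⟨fun a b => MulEquiv.ext fun v => Subsingleton.elim _ _⟩
    exact ⟨0, Gen.zero_of_subsingleton, Or.inl rfl⟩
  have hn3 : 3 ≤ n := by
    have h1 : 1 < n := hn ▸ Finite.one_lt_card
    obtain ⟨k, rfl⟩ := hodd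
    omega
  by_cases hinv : ∃ A : Subgroup V, A ≠ ⊥ ∧ A ≠ ⊤ ∧ ∀ x ∈ X, ∀ a ∈ A, x a ∈ A
  · obtain ⟨A, hA1, hA2, hA⟩ := hinv
    have hc := A.card_mul_index
    rw [hn] at hc
    have ho := Nat.odd_mul.mp (hc.symm ▸ hodd)
    have hA3 : 3 ≤ Nat.card A := by
      have h1 := A.one_lt_card_iff_ne_bot.mpr hA1
      obtain ⟨k, hk⟩ := ho.1
      omega
    have hA3' : 3 ≤ A.index := by
      have h1 := A.one_lt_index_of_ne_top hA2
      obtain ⟨k, hk⟩ := ho.2
      omega
    obtain ⟨d₁, hd₁, hb₁⟩ := ih (Nat.card A) (by rw [← hc]; nlinarith) A (res X A hA).range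
      (hX.of_surjective _ (res X A hA).rangeRestrict_surjective) rfl ho.1
    let K := (res X A hA).ker
    let ψ := (resQuot X A hA).comp K.subtype
    obtain ⟨d₂, hd₂, hb₂⟩ := ih A.index (by rw [← hc]; nlinarith) (V ⧸ A) ψ.range
      ((hX.to_subgroup K).of_surjective _ ψ.rangeRestrict_surjective)
      (A.index_eq_card).symm ho.2
    have hinj : Function.Injective ψ := by
      rw [injective_iff_map_eq_one]
      rintro ⟨x, hx⟩ hxψ
      have h1 : ∀ a ∈ A, x.1 a = a := by
        intro a ha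
        show ((res X A hA x) ⟨a, ha⟩).1 = a
        rw [MonoidHom.mem_ker.mp hx]
        rfl
      refine Subtype.ext (Subtype.ext (MulEquiv.ext fun v => ?_))
      have hv : v⁻¹ * x.1 v ∈ A :=
        QuotientGroup.eq.mp (DFunLike.congr_fun hxψ (v : V ⧸ A)).symm
      obtain ⟨a, ha, hxa⟩ : ∃ a ∈ A, x.1 v = v * a := ⟨_, hv, by group⟩
      have hpow : ∀ k : ℕ, (x.1 ^ k) v = v * a ^ k := by
        intro k
        induction k with
        | zero => simp
        | succ k ihk =>
          rw [pow_succ', MulAut.mul_apply, ihk, map_mul, map_pow, h1 a ha, hxa, pow_succ',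
            mul_assoc]
      obtain ⟨l, hl⟩ := hX x
      have ha1 : a ^ 2 ^ l = 1 := by
        have := hpow (2 ^ l)
        rw [show x.1 ^ 2 ^ l = 1 from congrArg Subtype.val hl, MulAut.one_apply] at this
        exact mul_left_cancel (a := v) (by rw [← this, mul_one])
      have : a = 1 := by
        rw [← orderOf_eq_one_iff]
        exact Nat.eq_one_of_dvd_coprimes (Nat.Coprime.pow_left l
          (Nat.coprime_two_left.mpr hVodd)) (orderOf_dvd_of_pow_eq_one ha1)
          (orderOf_dvd_natCard a)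
      show x.1 v = v
      rw [hxa, this, mul_one]
    have hgK : Gen K d₂ :=
      hd₂.of_surjective (MonoidHom.ofInjective hinj).symm.toMonoidHom
        (MonoidHom.ofInjective hinj).symm.surjective
    exact ⟨_, Gen.of_ker_range _ hgK hd₁, hc ▸ add_comm d₁ d₂ ▸ hb₁.mul hb₂ hA3 hA3'⟩
  push Not at hinv
  by_cases hcyc : ∀ A : Subgroup X, A.Normal → IsMulCommutative A → IsCyclic A
  · by_cases hp : n.Prime
    · haveI : Fact n.Prime := ⟨hp⟩
      haveI : IsCyclic V := isCyclic_of_prime_card hn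
      have e := (IsCyclic.mulAutMulEquiv (G := V))
      haveI : Fact (Nat.card V).Prime := ⟨hn ▸ hp⟩
      haveI : IsCyclic (MulAut V) := e.isCyclic.mpr inferInstance
      refine ⟨1, Gen.one_of_isCyclic, ?_⟩
      rcases eq_or_ne n 3 with h | h
      · exact Or.inr (Or.inr ⟨h, le_rfl⟩)
      · exact Or.inr (Or.inl (by obtain ⟨k, rfl⟩ := hodd; omega))
    · refine ⟨2, gen_two_of_cyclic_normal hX hcyc, Or.inr (Or.inl ?_)⟩
      by_contra hlt
      apply hp
      obtain ⟨k, rfl⟩ := hodd
      have : k < 4 := by norm_num at hlt; omega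
      interval_cases k <;> first | omega | norm_num
  push Not at hcyc
  obtain ⟨B, hBn, hBc, hBnc⟩ := hcyc
  haveI := hBn
  haveI := hBc
  -- a non-central involution `e` with `[X, e] ≤ ⟨z⟩`, `z` inverting `V`
  let W : Subgroup X :=
    { carrier := {b | b ∈ B ∧ b ^ 2 = 1}
      one_mem' := ⟨B.one_mem, one_pow 2⟩
      mul_mem' := fun {a b} ha hb => ⟨B.mul_mem ha.1 hb.1, by
        rw [Commute.mul_pow (congrArg Subtype.val
          (mul_comm' (⟨a, ha.1⟩ : B) ⟨b, hb.1⟩) : a * b = b * a), ha.2, hb.2, mul_one]⟩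
      inv_mem' := fun {a} ha => ⟨B.inv_mem ha.1, by rw [inv_pow, ha.2, inv_one]⟩ }
  haveI hWn : W.Normal := ⟨fun b hb g => ⟨hBn.conj_mem b hb.1 g, by rw [conj_pow, hb.2]; group⟩⟩
  have hWne : W ≠ ⊥ := by
    intro hbot
    apply hBnc
    rcases subsingleton_or_nontrivial B with h | h
    · infer_instance
    · obtain ⟨k, hk⟩ := (hX.to_subgroup B).exists_card_eq
      obtain ⟨b, hb⟩ := exists_prime_orderOf_dvd_card' (G := B) 2 (by
        have := Finite.one_lt_card (α := B)
        rcases k with _ | k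
        · omega
        · rw [hk]; exact Dvd.intro_left _ (pow_succ 2 k).symm)
      have h1 : (b : X) ∈ W := ⟨b.2, by
        rw [← hb, ← Subgroup.orderOf_coe, pow_orderOf_eq_one]⟩
      rw [hbot, Subgroup.mem_bot] at h1
      rw [← Subgroup.orderOf_coe, h1, orderOf_one] at hb
      omega
  obtain ⟨z, hzW, hz1, hzc⟩ := CfsgLib.OddLocal.exists_central_mod hX ⊥ W
    (bot_lt_iff_ne_bot.mpr hWne)
  rw [Subgroup.mem_bot] at hz1
  have hzc' : ∀ g : X, g * z = z * g := fun g => by
    have h := Subgroup.mem_bot.mp (hzc g)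
    calc g * z = g * z * g⁻¹ * z⁻¹ * (z * g) := by group
      _ = z * g := by rw [h, one_mul]
  have hz2 : z * z = 1 := by rw [← pow_two]; exact hzW.2
  let C : X → Subgroup V := fun x =>
    { carrier := {v | x.1 v = v}
      one_mem' := map_one _
      mul_mem' := fun {a b} (ha : x.1 a = a) (hb : x.1 b = b) => by
        show x.1 (a * b) = a * b
        rw [map_mul, ha, hb]
      inv_mem' := fun {a} (ha : x.1 a = a) => by
        show x.1 a⁻¹ = a⁻¹
        rw [map_inv, ha] }
  have hCc : ∀ x y : X, y * x = x * y → ∀ v ∈ C x, y.1 v ∈ C x := by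
    intro x y h v hv
    show x.1 (y.1 v) = y.1 v
    have := congrArg (fun u : X => u.1 v) h
    simp only [Subgroup.coe_mul, MulAut.mul_apply] at this
    rw [← this, show x.1 v = v from hv]
  have hinvz : ∀ v : V, z.1 v = v⁻¹ := by
    intro v
    have hbot : C z = ⊥ := by
      by_contra hne
      by_contra
      obtain ⟨x, hx, a, ha, hxa⟩ := hinv (C z) hne (by
        intro htop
        exact hz1 (Subtype.ext (MulEquiv.ext fun w =>
          (show w ∈ C z from htop ▸ Subgroup.mem_top w))))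
      exact hxa (hCc z ⟨x, hx⟩ (hzc' ⟨x, hx⟩) a ha)
    have h1 : v * z.1 v ∈ C z := by
      show z.1 (v * z.1 v) = v * z.1 v
      rw [map_mul, ← MulAut.mul_apply, ← Subgroup.coe_mul, hz2, OneMemClass.coe_one,
        MulAut.one_apply, mul_comm]
    rw [hbot, Subgroup.mem_bot] at h1
    exact eq_inv_of_mul_eq_one_right h1
  have hlt : zpowers z < W := by
    refine lt_of_le_of_ne (zpowers_le.mpr hzW) fun heq => hBnc ?_
    -- a commutative group with a unique involution is cyclic
    refine (topEquiv (G := B)).isCyclic.1 (CfsgLib.StructC.isCyclic_of_comm_of_unique (p := 2)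
      (hX.to_subgroup B) (fun u w hu hw _ => ?_) ⊤ inferInstance)
    have hmem : ∀ t : B, orderOf t = 2 → (t : X) = z := by
      intro t ht
      have h1 : (t : X) ∈ W := ⟨t.2, by rw [← ht, ← Subgroup.orderOf_coe, pow_orderOf_eq_one]⟩
      rw [← heq, Subgroup.mem_zpowers_iff] at h1
      obtain ⟨i, hi⟩ := h1
      have hz2' : z ^ (2 : ℤ) = 1 := by
        rw [show (2 : ℤ) = ((2 : ℕ) : ℤ) from rfl, zpow_natCast, pow_two, hz2]
      rcases Int.even_or_odd i with ⟨j, rfl⟩ | ⟨j, rfl⟩
      · rw [← two_mul, zpow_mul, hz2', one_zpow] at hi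
        rw [← Subgroup.orderOf_coe, ← hi, orderOf_one] at ht
        omega
      · rw [zpow_add_one, zpow_mul, hz2', one_zpow, one_mul] at hi
        exact hi.symm
    rw [show w = u from Subtype.ext ((hmem w hw).trans (hmem u hu).symm)]
    exact mem_zpowers u
  haveI : (zpowers z).Normal := ⟨fun b hb g => by
    obtain ⟨i, rfl⟩ := Subgroup.mem_zpowers_iff.mp hb
    rw [((show Commute g z from hzc' g).zpow_right i).eq, mul_inv_cancel_right]
    exact hb⟩
  obtain ⟨e, heW, hez, hec⟩ := CfsgLib.OddLocal.exists_central_mod hX (zpowers z) W hlt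
  have he2 : e * e = 1 := by rw [← pow_two]; exact heW.2
  have hzp : ∀ b ∈ zpowers z, b = 1 ∨ b = z := by
    intro b hb
    obtain ⟨i, rfl⟩ := Subgroup.mem_zpowers_iff.mp hb
    have hz2' : z ^ (2 : ℤ) = 1 := by
      rw [show (2 : ℤ) = ((2 : ℕ) : ℤ) from rfl, zpow_natCast, pow_two, hz2]
    rcases Int.even_or_odd i with ⟨j, rfl⟩ | ⟨j, rfl⟩
    · left; rw [← two_mul, zpow_mul, hz2', one_zpow]
    · right; rw [zpow_add_one, zpow_mul, hz2', one_zpow, one_mul]
  have he1 : e ≠ 1 := fun h => hez (h ▸ one_mem _)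
  have hCe : C e ≠ ⊥ := by
    intro hbot
    refine hez ?_
    have : e = z := Subtype.ext (MulEquiv.ext fun v => by
      rw [hinvz]
      have h1 : v * e.1 v ∈ C e := by
        show e.1 (v * e.1 v) = v * e.1 v
        rw [map_mul, ← MulAut.mul_apply, ← Subgroup.coe_mul, he2, OneMemClass.coe_one,
          MulAut.one_apply, mul_comm]
      rw [hbot, Subgroup.mem_bot] at h1
      exact eq_inv_of_mul_eq_one_right h1)
    exact this ▸ mem_zpowers z
  obtain ⟨t, ht⟩ : ∃ t : X, t * e * t⁻¹ = z * e := by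
    by_contra hcon
    push Not at hcon
    obtain ⟨x, hx, a, ha, hxa⟩ := hinv (C e) hCe (fun htop => he1 (Subtype.ext
      (MulEquiv.ext fun w => (show w ∈ C e from htop ▸ Subgroup.mem_top w))))
    refine hxa (hCc e ⟨x, hx⟩ ?_ a ha)
    set g : X := ⟨x, hx⟩
    rcases hzp _ (hec g) with h | h
    · calc g * e = g * e * g⁻¹ * e⁻¹ * (e * g) := by group
        _ = e * g := by rw [h, one_mul]
    · exact absurd (by rw [← h]; group) (hcon g)
  let M := Subgroup.centralizer ({e} : Set X)
  have hM : ∀ x : X, x ∈ M ↔ x * e = e * x := fun x => Subgroup.mem_centralizer_singleton_iff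
  have htM : t ∉ M := fun h => by
    rw [hM] at h
    rw [h, mul_inv_cancel_right] at ht
    exact hz1 (by simpa using ht.symm)
  have hindex : ∀ x : X, x ∈ M ∨ t⁻¹ * x ∈ M := by
    intro x
    rcases hzp _ (hec x) with h | h
    · left
      rw [hM]
      calc x * e = x * e * x⁻¹ * e⁻¹ * (e * x) := by group
        _ = e * x := by rw [h, one_mul]
    · right
      rw [hM]
      have h' : x * e = z * e * x := by
        calc x * e = x * e * x⁻¹ * e⁻¹ * (e * x) := by group
          _ = z * e * x := by rw [h]; group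
      calc t⁻¹ * x * e = t⁻¹ * (x * e) := mul_assoc _ _ _
        _ = t⁻¹ * (t * e * t⁻¹) * x := by rw [h', ht]; group
        _ = e * (t⁻¹ * x) := by group
  -- the two eigen-subgroups
  have hze : ∀ v, v ∈ C (z * e) ↔ e.1 v = v⁻¹ := by
    intro v
    show (z * e).1 v = v ↔ _
    rw [Subgroup.coe_mul, MulAut.mul_apply, hinvz, inv_eq_iff_eq_inv]
  let f : C e × C (z * e) →* V :=
    MonoidHom.coprod (C e).subtype (C (z * e)).subtype
  have hf : Function.Bijective f := by
    constructor
    · rw [injective_iff_map_eq_one]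
      rintro ⟨⟨a, ha⟩, ⟨b, hb⟩⟩ hab
      change a * b = 1 at hab
      have ha' : e.1 a = a := ha
      have hb' := (hze b).mp hb
      have h2 : a * b⁻¹ = 1 := by
        have := congrArg e.1 hab
        rwa [map_mul, map_one, ha', hb'] at this
      have hbb : b = b⁻¹ := mul_left_cancel (hab.trans h2.symm)
      have hb1 : b = 1 := eq_one_of_apply_eq_inv hVodd hbb
      have ha1 : a = 1 := by simpa [hb1] using hab
      simp [Prod.ext_iff, Subtype.ext_iff, ha1, hb1]
    · intro v
      obtain ⟨w, hw⟩ := (sq_bijective hVodd).surjective v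
      have hee : e.1 (e.1 w) = w := by
        rw [← MulAut.mul_apply, ← Subgroup.coe_mul, he2, OneMemClass.coe_one, MulAut.one_apply]
      refine ⟨⟨⟨w * e.1 w, ?_⟩, ⟨w * (e.1 w)⁻¹, (hze _).mpr ?_⟩⟩, ?_⟩
      · show e.1 (w * e.1 w) = w * e.1 w
        rw [map_mul, hee, mul_comm]
      · rw [map_mul, map_inv, hee, mul_inv_rev, inv_inv]
      · show w * e.1 w * (w * (e.1 w)⁻¹) = v
        rw [← hw]
        show _ = w ^ 2
        rw [pow_two, mul_mul_mul_comm, mul_inv_cancel, mul_one]
  have hte : ∀ v, v ∈ C e → t.1 v ∈ C (z * e) := by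
    intro v hv
    rw [← ht]
    show (t * e * t⁻¹).1 (t.1 v) = t.1 v
    rw [← MulAut.mul_apply, ← Subgroup.coe_mul, inv_mul_cancel_right, Subgroup.coe_mul,
      MulAut.mul_apply, show e.1 v = v from hv]
  have hcard : Nat.card (C (z * e)) = Nat.card (C e) := by
    symm
    refine Nat.card_congr (Equiv.ofBijective (fun v => ⟨t.1 v, hte v v.2⟩) ⟨fun a b h =>
      Subtype.ext (t.1.injective (congrArg Subtype.val h)), fun b => ?_⟩)
    refine ⟨⟨t.1.symm b, ?_⟩, Subtype.ext (t.1.apply_symm_apply _)⟩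
    have hb : (t * e * t⁻¹).1 (b : V) = b := by rw [ht]; exact b.2
    show e.1 (t.1.symm b) = t.1.symm b
    apply t.1.injective
    rw [t.1.apply_symm_apply]
    exact hb
  have hn' : Nat.card (C e) * Nat.card (C e) = n := by
    rw [← hn, ← Nat.card_congr (Equiv.ofBijective f hf), Nat.card_prod, hcard]
  set q := Nat.card (C e) with hq
  have hq3 : 3 ≤ q := by
    have h1 := (C e).one_lt_card_iff_ne_bot.mpr hCe
    obtain ⟨k, hk⟩ := Nat.odd_mul.mp (hn'.symm ▸ hodd) |>.1
    omega
  have hqn : q < n := by rw [← hn']; nlinarith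
  have hMe : ∀ x ∈ M, ∀ v ∈ C e, x.1 v ∈ C e := fun x hx => hCc e x ((hM x).mp hx)
  have hMze : ∀ x ∈ M, ∀ v ∈ C (z * e), x.1 v ∈ C (z * e) := fun x hx => hCc (z * e) x (by
    rw [← mul_assoc, hzc' x, mul_assoc, (hM x).mp hx, ← mul_assoc])
  let M' : Subgroup (MulAut V) := M.map X.subtype
  have hM'mem : ∀ x ∈ M', ∃ y ∈ M, (y : MulAut V) = x := fun x ⟨y, hy, h⟩ => ⟨y, hy, h⟩
  have hA1 : ∀ x ∈ M', ∀ v ∈ C e, x v ∈ C e := by
    intro x hx; obtain ⟨y, hy, rfl⟩ := hM'mem x hx; exact hMe y hy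
  have hA2 : ∀ x ∈ M', ∀ v ∈ C (z * e), x v ∈ C (z * e) := by
    intro x hx; obtain ⟨y, hy, rfl⟩ := hM'mem x hx; exact hMze y hy
  let r₁ := res M' (C e) hA1
  let r₂ := res M' (C (z * e)) hA2
  have hX' : IsPGroup 2 M' := (hX.to_subgroup M).map X.subtype
  have hinj : Function.Injective (r₁.prod r₂) := by
    rw [injective_iff_map_eq_one]
    intro x hx
    rw [MonoidHom.prod_apply, Prod.mk_eq_one] at hx
    refine Subtype.ext (MulEquiv.ext fun v => ?_)
    obtain ⟨⟨a, b⟩, rfl⟩ := hf.surjective v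
    show x.1 ((a : V) * b) = (a : V) * b
    rw [map_mul]
    congr 1
    · exact congrArg Subtype.val (DFunLike.congr_fun hx.1 a)
    · exact congrArg Subtype.val (DFunLike.congr_fun hx.2 b)
  have hgenX : ∀ {k}, Gen M' k → Gen X (k + 1) := by
    rintro k ⟨T, hT, hT'⟩
    let i : M' →* X := (Subgroup.inclusion (Subgroup.map_subtype_le M))
    refine ⟨insert t (T.image i), (Finset.card_insert_le _ _).trans
      (Nat.add_le_add_right (Finset.card_image_le.trans hT) 1), ?_⟩
    rw [Finset.coe_insert, Finset.coe_image, Set.insert_eq, Subgroup.closure_union, ← MonoidHom.map_closure,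
      hT']
    refine eq_top_iff.mpr fun x _ => ?_
    have hiM : ∀ y ∈ M, y ∈ (⊤ : Subgroup M').map i := fun y hy =>
      ⟨⟨y, ⟨y, hy, rfl⟩⟩, mem_top _, Subtype.ext rfl⟩
    rcases hindex x with h | h
    · exact mem_sup_right (hiM x h)
    · rw [← mul_inv_cancel_left t x]
      exact mul_mem (mem_sup_left (subset_closure rfl)) (mem_sup_right (hiM _ h))
  rcases eq_or_ne q 3 with hq3' | hq5
  · -- `|V| = 9`: `X = ⟨t, e⟩`
    refine ⟨2, ?_, Or.inr (Or.inl (by rw [← hn', hq3']; norm_num))⟩
    have hcard2 : ∀ (W : Subgroup V), Nat.card W = 3 → Nat.card (MulAut W) = 2 := by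
      intro W hW
      haveI : IsCyclic W := isCyclic_of_prime_card (p := 3) hW
      rw [IsCyclic.card_mulAut, hW]
      decide
    have h4 : Nat.card M' ≤ 4 := by
      refine (Nat.card_le_card_of_injective _ hinj).trans ?_
      rw [Nat.card_prod, hcard2 _ hq3', hcard2 _ (hcard.trans hq3')]
    refine ⟨{t, e}, Finset.card_le_two, ?_⟩
    rw [Finset.coe_pair]
    set L := closure ({t, e} : Set X)
    have htL : t ∈ L := subset_closure (Or.inl rfl)
    have heL : e ∈ L := subset_closure (Or.inr rfl)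
    have hzL : z ∈ L := by
      rw [show z = t * e * t⁻¹ * e⁻¹ by rw [ht]; group]
      exact mul_mem (mul_mem (mul_mem htL heL) (inv_mem htL)) (inv_mem heL)
    have heM : e ∈ M := (hM e).mpr rfl
    have hzM : z ∈ M := (hM z).mpr (hzc' e).symm
    have hML : M ≤ L := by
      have hle : closure ({z, e} : Set X) ≤ L ⊓ M := by
        rw [closure_le]
        rintro y (rfl | rfl)
        exacts [⟨hzL, hzM⟩, ⟨heL, heM⟩]
      have h5 : 4 ≤ Nat.card (closure ({z, e} : Set X)) := by
        have hs : ({1, z, e, z * e} : Finset X).card = 4 := by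
          have a1 : z * e ≠ 1 := fun h => hez (by
            rw [show e = z from mul_left_cancel (h.trans hz2.symm)]; exact mem_zpowers z)
          have a2 : z * e ≠ z := fun h => he1 (mul_left_cancel (h.trans (mul_one z).symm))
          have a3 : z * e ≠ e := fun h => hz1 (mul_right_cancel (h.trans (one_mul e).symm))
          have a4 : z ≠ e := fun h => hez (h ▸ mem_zpowers z)
          simp [Finset.card_insert_of_notMem, Ne.symm a1, Ne.symm a2, Ne.symm a3, a4,
            Ne.symm hz1, Ne.symm he1]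
        rw [← hs, ← Nat.card_eq_finsetCard]
        refine Nat.card_mono (Set.toFinite _) fun y hy => ?_
        simp only [Finset.coe_insert, Finset.coe_singleton, Set.mem_insert_iff,
          Set.mem_singleton_iff] at hy
        rcases hy with rfl | rfl | rfl | rfl
        · exact one_mem _
        · exact subset_closure (Or.inl rfl)
        · exact subset_closure (Or.inr rfl)
        · exact mul_mem (subset_closure (Or.inl rfl)) (subset_closure (Or.inr rfl))
      have hMc : Nat.card M ≤ 4 := by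
        rwa [Subgroup.card_map_of_injective X.subtype_injective] at h4
      rw [← eq_of_le_of_card_ge (hle.trans inf_le_right) (hMc.trans h5)]
      exact hle.trans inf_le_left
    refine eq_top_iff.mpr fun x _ => ?_
    rcases hindex x with h | h
    · exact hML h
    · rw [← mul_inv_cancel_left t x]
      exact mul_mem htL (hML h)
  · obtain ⟨d₁, hd₁, hb₁⟩ := ih q hqn (C e) r₁.range
      (hX'.of_surjective _ r₁.rangeRestrict_surjective) rfl
      ((Nat.odd_mul.mp (hn'.symm ▸ hodd)).1)
    let ψ := r₂.comp r₁.ker.subtype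
    obtain ⟨d₂, hd₂, hb₂⟩ := ih q hqn (C (z * e)) ψ.range
      ((hX'.to_subgroup _).of_surjective _ ψ.rangeRestrict_surjective) hcard
      ((Nat.odd_mul.mp (hn'.symm ▸ hodd)).1)
    have hψ : Function.Injective ψ := fun a b h => Subtype.ext (hinj (by
      simp only [MonoidHom.prod_apply, Prod.mk.injEq]
      exact ⟨a.2.trans b.2.symm, h⟩))
    have hgK : Gen r₁.ker d₂ :=
      hd₂.of_surjective (MonoidHom.ofInjective hψ).symm.toMonoidHom
        (MonoidHom.ofInjective hψ).symm.surjective
    refine ⟨_, hgenX (Gen.of_ker_range r₁ hgK hd₁), Or.inr (Or.inl ?_)⟩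
    have key : ∀ {d}, Bound d q → 2 ^ (d + 1) ≤ q := by
      intro d hd
      rcases hd with rfl | h | ⟨h, -⟩
      · simpa using by omega
      · exact h
      · exact absurd h hq5
    rw [← hn', show d₂ + d₁ + 1 + 1 = (d₁ + 1) + (d₂ + 1) by omega, pow_add]
    exact Nat.mul_le_mul (key hb₁) (key hb₂)

end CfsgLib.TwoLinear
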